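import Cfsg.Agent.Lib.JankoFour.Quot

/-!
# Frames of Janko-four type

A frame records an involution `z`, the extraspecial group `E` of order `2¹³` normal in `C(z)`, an element
`π` of order three fixed-point-free on `E/⟨z⟩` and the map of `C(z)` onto a group `A` (the automorphism
group of `M₂₂`) with kernel `E⟨π⟩`; `I` is the subgroup of index two of `A`.
-/

set_option autoImplicit false
set_option linter.style.haveILetI false

namespace Cfsg.Lib.JankoFour

open Cfsg Cfsg.Lib.Extra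

/-- What is used of the group `A = Aut M₂₂` and its subgroup `I = Inn M₂₂`. -/
structure Facts (A : Type) [Group A] (I : Subgroup A) : Prop where
  normal : I.Normal
  card_A : Nat.card A = 887040
  card_I : Nat.card ↥I = 443520
  simple : IsSimpleGroup ↥I
  cent : Subgroup.centralizer (I : Set A) = ⊥
  invol_conj : ∀ a b : A, a ∈ I → b ∈ I → orderOf a = 2 → orderOf b = 2 → ∃ g ∈ I, g * a * g⁻¹ = b
  invol_five : ∀ t : A, t ∈ I → orderOf t = 2 →
    ∃ x ∈ I, ∃ s ∈ I, orderOf x = 5 ∧ s * s = t ∧ s * x * s⁻¹ = x ^ 2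
  invol_three : ∀ t : A, t ∈ I → orderOf t = 2 →
    ∃ x ∈ I, ∃ u ∈ I, orderOf x = 3 ∧ orderOf u = 2 ∧ u * x * u⁻¹ = x⁻¹ ∧ Commute t x ∧ Commute t u
  three_conj : ∀ x y : A, orderOf x = 3 → orderOf y = 3 → ∃ g ∈ I, g * x * g⁻¹ = y
  three_cent : ∀ x : A, orderOf x = 3 → Nat.card ↥(Subgroup.centralizer ({x} : Set A)) = 72 ∧
    Nat.card ↥(I ⊓ Subgroup.centralizer ({x} : Set A)) = 36 ∧
    ∀ T : Subgroup A, T ≤ Subgroup.centralizer ({x} : Set A) → Nat.card ↥T = 8 →
      ∃ a ∈ T, ∃ b ∈ T, ¬ Commute a b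
  sylow_three : ∀ R : Subgroup A, Nat.card ↥R = 9 → (∀ a ∈ R, ∀ b ∈ R, Commute a b) ∧ (∀ r ∈ R, r ^ 3 = 1) ∧
    Nat.card ↥(Subgroup.normalizer (R : Set A)) = 144
  elem : ∀ T : Subgroup A, T ≤ I → (∀ a ∈ T, a * a = 1) → (∀ a ∈ T, ∀ b ∈ T, Commute a b) → Nat.card ↥T ≤ 16

/-- The data of a group of Janko-four type. -/
structure Frame (G : Type*) [Group G] (A : Type) [Group A] (I : Subgroup A) where
  /-- The central involution. -/
  z : G
  /-- The element of order three. -/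
  p : G
  /-- The extraspecial group. -/
  E : Subgroup G
  /-- The map of `C(z)` onto `A`. -/
  img : G → A
  facts : Facts A I
  ctx : Ctx E z
  card_E : Nat.card ↥E = 2 ^ 13
  card_center : Nat.card ↥(Subgroup.center ↥E) = 2
  p_ord : orderOf p = 3
  p_comm : Commute p z
  img_mul : ∀ x y, Commute x z → Commute y z → img (x * y) = img x * img y
  img_surj : ∀ a, ∃ x, Commute x z ∧ img x = a
  img_ker : ∀ x, Commute x z → (img x = 1 ↔ ∃ e ∈ E, ∃ i : ℕ, x = e * p ^ i)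
  fixed : ∀ e ∈ E, Commute e p → e = 1 ∨ e = z
  inverter : ∃ s, Commute s z ∧ s * p * s⁻¹ = p⁻¹
  perfect : p ∈ ⁅Subgroup.centralizer ({z} : Set G) ⊓ Subgroup.centralizer ({p} : Set G),
    Subgroup.centralizer ({z} : Set G) ⊓ Subgroup.centralizer ({p} : Set G)⁆

namespace Frame

variable {G : Type*} [Group G] {A : Type} [Group A] {I : Subgroup A} (F : Frame G A I)

/-- `E` modulo `⟨z⟩`. -/
abbrev V := Bar F.ctx

/-- The class of an element of `E`. -/
noncomputable abbrev cls (a : G) : F.V := JankoFour.cls F.ctx a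

/-- The action of `C(z)`. -/
noncomputable abbrev act (c : G) : F.V →ₗ[ZMod 2] F.V := JankoFour.act F.ctx c

theorem comm_of_mem {e : G} (he : e ∈ F.E) : Commute e F.z := (F.ctx.central e he).symm

theorem p_cube : F.p ^ 3 = 1 := F.p_ord ▸ pow_orderOf_eq_one F.p

theorem p_inv : F.p⁻¹ = F.p ^ 2 := inv_eq_of_mul_eq_one_right (by rw [← pow_succ']; exact F.p_cube)

theorem img_one : F.img 1 = 1 := by
  have h := F.img_mul 1 1 (Commute.one_left _) (Commute.one_left _)
  rw [one_mul] at h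
  exact left_eq_mul.1 h

theorem img_inv {x : G} (hx : Commute x F.z) : F.img x⁻¹ = (F.img x)⁻¹ :=
  eq_inv_of_mul_eq_one_left (by rw [← F.img_mul _ _ hx.inv_left hx, inv_mul_cancel, F.img_one])

theorem img_conj {x y : G} (hx : Commute x F.z) (hy : Commute y F.z) :
    F.img (x * y * x⁻¹) = F.img x * F.img y * (F.img x)⁻¹ := by
  rw [F.img_mul _ _ (hx.mul_left hy) hx.inv_left, F.img_mul _ _ hx hy, F.img_inv hx]

theorem img_mem {e : G} (he : e ∈ F.E) : F.img e = 1 :=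
  (F.img_ker e (F.comm_of_mem he)).2 ⟨e, he, 0, by simp⟩

theorem img_p_pow (i : ℕ) : F.img (F.p ^ i) = 1 :=
  (F.img_ker _ (F.p_comm.pow_left i)).2 ⟨1, one_mem _, i, by simp⟩

theorem img_p : F.img F.p = 1 := by simpa using F.img_p_pow 1

theorem conj_mem {x e : G} (hx : Commute x F.z) (he : e ∈ F.E) : x * e * x⁻¹ ∈ F.E :=
  JankoFour.conj_mem F.ctx hx he

/-- `p` fixes no nonzero class. -/
theorem act_p_eq {v : F.V} (h : F.act F.p v = v) : v = 0 := by
  obtain ⟨e, he, rfl⟩ := cls_surj F.ctx v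
  rw [act_cls F.ctx F.p_comm he, cls_eq_iff F.ctx (F.conj_mem F.p_comm he) he] at h
  rcases h with h | h
  · exact (cls_eq_zero F.ctx he).2 (F.fixed e he (mul_inv_eq_iff_eq_mul.1 h).symm)
  · exfalso
    have hz : F.p * F.z * F.p⁻¹ = F.z := by rw [F.p_comm.eq, mul_inv_cancel_right]
    have e2 : F.p * (F.p * e * F.p⁻¹) * F.p⁻¹ = e := by
      rw [h, show F.p * (F.z * e) * F.p⁻¹ = F.p * F.z * F.p⁻¹ * (F.p * e * F.p⁻¹) by group, hz, h, ← mul_assoc,
        F.ctx.sq_z, one_mul]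
    have e3 : F.p * (F.p * (F.p * e * F.p⁻¹) * F.p⁻¹) * F.p⁻¹ = e := by
      calc F.p * (F.p * (F.p * e * F.p⁻¹) * F.p⁻¹) * F.p⁻¹ = F.p ^ 3 * e * (F.p ^ 3)⁻¹ := by
            rw [pow_succ, pow_two]; simp only [_root_.mul_inv_rev, mul_assoc]
        _ = e := by rw [F.p_cube]; simp
    rw [e2, h] at e3
    exact F.ctx.ne_one (mul_eq_right.1 e3)

theorem act_p_three (v : F.V) : F.act F.p (F.act F.p (F.act F.p v)) = v := by
  rw [← act_mul F.ctx F.p_comm F.p_comm, ← act_mul F.ctx (F.p_comm.mul_left F.p_comm) F.p_comm,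
    show F.p * F.p * F.p = 1 by rw [← pow_two, ← pow_succ]; exact F.p_cube, act_one]

/-- The quadratic relation. -/
theorem act_p_sum (v : F.V) : v + F.act F.p v + F.act F.p (F.act F.p v) = 0 := by
  refine F.act_p_eq ?_
  rw [map_add, map_add, F.act_p_three]
  abel

theorem act_p_sq (v : F.V) : F.act F.p (F.act F.p v) = v + F.act F.p v :=
  ((add_eq_zero_iff_eq' F.ctx).1 (F.act_p_sum v)).symm

theorem act_pow_bij (i : ℕ) (hi : ¬ 3 ∣ i) (w : F.V) : ∃ v, v + F.act (F.p ^ i) v = w := by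
  have hp : ∀ v, F.act (F.p ^ 1) v = F.act F.p v := fun v => by rw [pow_one]
  have hp2 : ∀ v, F.act (F.p ^ 2) v = F.act F.p (F.act F.p v) := fun v => by
    rw [pow_two, act_mul F.ctx F.p_comm F.p_comm]
  have hmod : F.p ^ i = F.p ^ (i % 3) := by rw [← F.p_ord, pow_mod_orderOf]
  rw [hmod]
  rcases (show i % 3 = 1 ∨ i % 3 = 2 by omega) with e | e <;> rw [e]
  · refine ⟨F.act F.p w, ?_⟩
    rw [hp, F.act_p_sq, ← add_assoc, add_comm (F.act F.p w) w, add_assoc, bar_self, add_zero]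
  · refine ⟨w + F.act F.p w, ?_⟩
    rw [hp2, map_add, map_add, F.act_p_three, F.act_p_sq]
    calc w + F.act F.p w + (w + F.act F.p w + w) = w + (w + F.act F.p w + (w + F.act F.p w)) := by abel
      _ = w := by rw [bar_self, add_zero]

/-- The elements of order three in `E p^i` are conjugate to `p^i`. -/
theorem exists_conj_pow {e : G} (he : e ∈ F.E) {i : ℕ} (hi : ¬ 3 ∣ i) (h3 : (e * F.p ^ i) ^ 3 = 1) :
    ∃ d ∈ F.E, d * F.p ^ i * d⁻¹ = e * F.p ^ i := by
  have hpi : Commute (F.p ^ i) F.z := F.p_comm.pow_left i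
  obtain ⟨v, hv⟩ := F.act_pow_bij i hi (F.cls e)
  obtain ⟨d, hd, rfl⟩ := cls_surj F.ctx v
  have h1 : d * (F.p ^ i * d⁻¹ * (F.p ^ i)⁻¹) ∈ F.E := mul_mem hd (F.conj_mem hpi (inv_mem hd))
  have h2 : JankoFour.cls F.ctx (d * (F.p ^ i * d⁻¹ * (F.p ^ i)⁻¹)) = JankoFour.cls F.ctx e := by
    rw [cls_mul F.ctx hd (F.conj_mem hpi (inv_mem hd)), ← act_cls F.ctx hpi (inv_mem hd), cls_inv F.ctx hd, hv]
  refine ⟨d, hd, ?_⟩
  have e0 : d * F.p ^ i * d⁻¹ = d * (F.p ^ i * d⁻¹ * (F.p ^ i)⁻¹) * F.p ^ i := by group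
  rcases (cls_eq_iff F.ctx h1 he).1 h2 with h | h
  · rw [e0, h]
  · exfalso
    have hz : Commute F.z (e * F.p ^ i) := (F.ctx.central e he).mul_right hpi.symm
    have h4 : (d * F.p ^ i * d⁻¹) ^ 3 = 1 := by
      rw [conj_pow, ← pow_mul, mul_comm, pow_mul, F.p_cube, one_pow, mul_one, mul_inv_cancel]
    rw [e0, h, mul_assoc, hz.mul_pow, h3, mul_one, pow_succ, pow_two, F.ctx.sq_z, one_mul] at h4
    exact F.ctx.ne_one h4

theorem not_mem_p : F.p ∉ F.E := by
  intro h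
  rcases F.fixed F.p h (Commute.refl _) with e | e
  · have := F.p_ord
    rw [e, orderOf_one] at this
    omega
  · have h1 := F.p_cube
    rw [e, pow_succ, pow_two, F.ctx.sq_z, one_mul] at h1
    exact F.ctx.ne_one h1

/-- A kernel element of order three. -/
theorem ker_three {x : G} (hx : Commute x F.z) (h1 : F.img x = 1) (h3 : x ^ 3 = 1) (hne : x ≠ 1) :
    ∃ d ∈ F.E, d * F.p * d⁻¹ = x ∨ d * F.p⁻¹ * d⁻¹ = x := by
  obtain ⟨e, he, i, rfl⟩ := (F.img_ker x hx).1 h1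
  have hmod : F.p ^ i = F.p ^ (i % 3) := by rw [← F.p_ord, pow_mod_orderOf]
  rw [hmod] at h3 hne ⊢
  rcases (show i % 3 = 0 ∨ i % 3 = 1 ∨ i % 3 = 2 by omega) with e0 | e0 | e0 <;> rw [e0] at h3 hne ⊢
  · rw [pow_zero, mul_one] at h3 hne
    exfalso
    rcases F.ctx.sq e he with h | h
    · exact hne (by rw [pow_succ, pow_two, h, one_mul] at h3; exact h3)
    · rw [pow_succ, pow_two, h] at h3
      rw [eq_inv_of_mul_eq_one_right h3, F.ctx.inv_z, F.ctx.sq_z] at h
      exact F.ctx.ne_one h.symm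
  · obtain ⟨d, hd, h⟩ := F.exists_conj_pow he (i := 1) (by decide) h3
    exact ⟨d, hd, Or.inl (by rwa [pow_one] at h ⊢)⟩
  · obtain ⟨d, hd, h⟩ := F.exists_conj_pow he (i := 2) (by decide) h3
    exact ⟨d, hd, Or.inr (by rw [F.p_inv]; exact h)⟩

/-- The Frattini argument. -/
theorem exists_normalizing {x : G} (hx : Commute x F.z) :
    ∃ e ∈ F.E, Commute (e * x) F.p ∨ (e * x) * F.p * (e * x)⁻¹ = F.p⁻¹ := by
  obtain ⟨d, hd, h⟩ := F.ker_three ((hx.mul_left F.p_comm).mul_left hx.inv_left)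
    (by rw [F.img_conj hx F.p_comm, F.img_p, mul_one, mul_inv_cancel])
    (by rw [conj_pow, F.p_cube, mul_one, mul_inv_cancel])
    (fun h => F.not_mem_p (by rw [conj_eq_one_iff.1 h]; exact one_mem _))
  refine ⟨d⁻¹, inv_mem hd, h.imp (fun h => ?_) fun h => ?_⟩
  · refine mul_inv_eq_iff_eq_mul.1 ?_
    calc d⁻¹ * x * F.p * (d⁻¹ * x)⁻¹ = d⁻¹ * (x * F.p * x⁻¹) * d := by group
      _ = F.p := by rw [← h]; group
  · calc d⁻¹ * x * F.p * (d⁻¹ * x)⁻¹ = d⁻¹ * (x * F.p * x⁻¹) * d := by group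
      _ = F.p⁻¹ := by rw [← h]; group

/-- Elements normalizing `⟨p⟩` that lie in the kernel centralize it. -/
theorem ker_commute {x : G} (hx : Commute x F.z) (h1 : F.img x = 1)
    (hn : Commute x F.p ∨ x * F.p * x⁻¹ = F.p⁻¹) :
    ∃ i : ℕ, x = F.p ^ i ∨ x = F.z * F.p ^ i := by
  obtain ⟨e, he, i, rfl⟩ := (F.img_ker x hx).1 h1
  refine ⟨i, ?_⟩
  have hc : e * F.p * e⁻¹ = e * F.p ^ i * F.p * (e * F.p ^ i)⁻¹ := by
    calc e * F.p * e⁻¹ = e * (F.p * (F.p ^ i * (F.p ^ i)⁻¹)) * e⁻¹ := by group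
      _ = e * (F.p ^ i * F.p * (F.p ^ i)⁻¹) * e⁻¹ := by
        rw [((Commute.refl F.p).pow_left i).eq, mul_assoc F.p]
      _ = _ := by group
  have hec : Commute e F.p := by
    rcases hn with h | h
    · rw [h.eq, mul_inv_cancel_right] at hc
      exact mul_inv_eq_iff_eq_mul.1 hc
    · rw [h] at hc
      exfalso
      have h2 : e * F.p * e⁻¹ * F.p⁻¹ = F.p := by rw [hc, ← pow_two, inv_pow, ← F.p_inv, inv_inv]
      refine F.not_mem_p (h2 ▸ ?_)
      rw [show e * F.p * e⁻¹ * F.p⁻¹ = e * (F.p * e⁻¹ * F.p⁻¹) by group]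
      exact mul_mem he (F.conj_mem F.p_comm (inv_mem he))
  rcases F.fixed e he hec with rfl | rfl
  · exact Or.inl (one_mul _)
  · exact Or.inr rfl

/-- `C(z) ∩ C(p)`. -/
def C : Subgroup G := Subgroup.centralizer ({F.z} : Set G) ⊓ Subgroup.centralizer ({F.p} : Set G)

theorem mem_C {x : G} : x ∈ F.C ↔ Commute x F.z ∧ Commute x F.p := by
  rw [C, Subgroup.mem_inf, Subgroup.mem_centralizer_singleton_iff, Subgroup.mem_centralizer_singleton_iff]
  rfl

/-- The map of `C` to `A`. -/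
def imgC : ↥F.C →* A where
  toFun x := F.img x
  map_one' := F.img_one
  map_mul' x y := F.img_mul _ _ (F.mem_C.1 x.2).1 (F.mem_C.1 y.2).1

theorem facts_index (F : Frame G A I) : I.index = 2 := by
  have h := I.card_mul_index
  rw [F.facts.card_I, F.facts.card_A] at h
  omega

theorem imgC_range : F.imgC.range = I := by
  haveI : Finite A := Nat.finite_of_card_ne_zero (by rw [F.facts.card_A]; omega)
  haveI := F.facts.normal
  obtain ⟨s, hs, hsp⟩ := F.inverter
  have hnorm : ∀ a : A, ∃ x, Commute x F.z ∧ F.img x = a ∧ (Commute x F.p ∨ x * F.p * x⁻¹ = F.p⁻¹) := by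
    intro a
    obtain ⟨x, hx, rfl⟩ := F.img_surj a
    obtain ⟨e, he, h⟩ := F.exists_normalizing hx
    refine ⟨e * x, (F.comm_of_mem he).mul_left hx, ?_, h⟩
    rw [F.img_mul _ _ (F.comm_of_mem he) hx, F.img_mem he, one_mul]
  have hsplit : ∀ a : A, a ∈ F.imgC.range ∨ (F.img s)⁻¹ * a ∈ F.imgC.range := by
    intro a
    obtain ⟨x, hx, rfl, h⟩ := hnorm a
    rcases h with h | h
    · exact Or.inl ⟨⟨x, F.mem_C.2 ⟨hx, h⟩⟩, rfl⟩
    · refine Or.inr ⟨⟨s⁻¹ * x, F.mem_C.2 ⟨hs.inv_left.mul_left hx, mul_inv_eq_iff_eq_mul.1 ?_⟩⟩, ?_⟩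
      · calc s⁻¹ * x * F.p * (s⁻¹ * x)⁻¹ = s⁻¹ * (x * F.p * x⁻¹) * s := by group
          _ = F.p := by rw [h, ← hsp]; group
      · show F.img (s⁻¹ * x) = _
        rw [F.img_mul _ _ hs.inv_left hx, F.img_inv hs]
  have hs' : F.img s ∉ F.imgC.range := by
    rintro ⟨⟨c, hc⟩, hcs⟩
    have hc' := F.mem_C.1 hc
    have hcs' : F.img c = F.img s := hcs
    obtain ⟨i, hi⟩ := F.ker_commute (x := c⁻¹ * s) (hc'.1.inv_left.mul_left hs)
      (by rw [F.img_mul _ _ hc'.1.inv_left hs, F.img_inv hc'.1, hcs', inv_mul_cancel]) (Or.inr (by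
        calc c⁻¹ * s * F.p * (c⁻¹ * s)⁻¹ = c⁻¹ * (s * F.p * s⁻¹) * c := by group
          _ = F.p⁻¹ := by rw [hsp, (hc'.2.inv_left.inv_right).eq, inv_mul_cancel_right]))
    have hcomm : Commute s F.p := by
      have h : Commute (c⁻¹ * s) F.p := by
        rcases hi with h | h <;> rw [h]
        exacts [Commute.pow_left (Commute.refl _) i, F.p_comm.symm.mul_left (Commute.pow_left (Commute.refl _) i)]
      have := hc'.2.mul_left h
      rwa [mul_inv_cancel_left] at this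
    rw [hcomm.eq, mul_inv_cancel_right] at hsp
    have h3 := F.p_cube
    have h2 : F.p * F.p = 1 := by nth_rewrite 2 [hsp]; exact mul_inv_cancel _
    rw [pow_succ, pow_two, h2, one_mul] at h3
    exact F.not_mem_p (h3 ▸ one_mem _)
  set M := F.imgC.range
  have hMi : M.index = 2 := by
    refine Subgroup.index_eq_two_iff.2 ⟨(F.img s)⁻¹, fun b => ?_⟩
    have hs'' : (F.img s)⁻¹ ∉ M := fun h => hs' (by simpa using inv_mem h)
    rcases hsplit b with h | h
    · exact Or.inr ⟨h, fun h' => hs'' (by simpa using mul_mem (inv_mem h) h')⟩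
    · rcases Classical.em (b ∈ M) with h' | h'
      · exact absurd (by simpa using mul_mem h (inv_mem h')) hs''
      · refine Or.inl ⟨?_, h'⟩
        rcases hsplit (b * (F.img s)⁻¹) with h1 | h1
        · exact h1
        · exfalso
          have h2 : (F.img s)⁻¹ ∈ M := by
            have := mul_mem (inv_mem h) h1
            simpa [mul_assoc] using this
          exact hs'' h2
  haveI := F.facts.simple
  haveI : M.Normal := Subgroup.normal_of_index_eq_two hMi
  have hcardM : Nat.card ↥M = 443520 := by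
    have h := M.card_mul_index
    rw [hMi, F.facts.card_A] at h
    omega
  have hI : I ≤ M := by
    rcases IsSimpleGroup.eq_bot_or_eq_top_of_normal (M.subgroupOf I) inferInstance with h | h
    · exfalso
      rw [Subgroup.subgroupOf_eq_bot] at h
      have h1 : Nat.card ↥I ≤ 2 := by
        rw [← hMi, Subgroup.index]
        refine Nat.card_le_card_of_injective (fun a : ↥I => ((a : A) : A ⧸ M)) fun a b e => ?_
        have hm : (a : A)⁻¹ * b ∈ M ⊓ I := ⟨QuotientGroup.eq.1 e, I.mul_mem (I.inv_mem a.2) b.2⟩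
        rw [disjoint_iff.1 h, Subgroup.mem_bot, inv_mul_eq_one] at hm
        exact Subtype.ext hm
      rw [F.facts.card_I] at h1
      omega
    · exact Subgroup.subgroupOf_eq_top.1 h
  exact (Subgroup.eq_of_le_of_card_ge hI (by rw [hcardM, F.facts.card_I])).symm

end Frame

end Cfsg.Lib.JankoFour
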