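import Cfsg.Agent.Lib.JankoFour.AutM22.Perm
import Cfsg.Agent.Lib.JankoFour.Frame

/-!
# The automorphism group of M22: the facts used for groups of Janko-four type
-/

set_option autoImplicit false
set_option linter.style.haveILetI false

namespace Cfsg.Lib.JankoFour.AutM22

open Cfsg Cfsg.Lib.Concrete

/-- The automorphism group of M22. -/
abbrev A22 : Type := MulAut ↥Cfsg.Spor.M22

/-- The inner automorphisms. -/
def inner : Subgroup A22 := (MulAut.conj : ↥Cfsg.Spor.M22 →* A22).range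

/-- The permutation of an automorphism. -/
noncomputable def perm : A22 →* Equiv.Perm GolayPt := Pair.subtype.comp pairEquiv.symm.toMonoidHom

theorem perm_injective : Function.Injective perm :=
  Subtype.val_injective.comp pairEquiv.symm.injective

theorem perm_mem (a : A22) : perm a ∈ Pair := (pairEquiv.symm a).2

theorem perm_pairEquiv (g : Pair) : perm (pairEquiv g) = g.1 := by simp [perm]

theorem exists_perm {g : Equiv.Perm GolayPt} (hg : g ∈ Pair) : ∃ a : A22, perm a = g :=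
  ⟨pairEquiv ⟨g, hg⟩, perm_pairEquiv _⟩

theorem orderOf_perm (a : A22) : orderOf (perm a) = orderOf a := orderOf_injective perm perm_injective a

theorem mem_inner_iff {a : A22} : a ∈ inner ↔ perm a ∈ Spor.M22 := by
  obtain ⟨g, rfl⟩ := pairEquiv.surjective a
  rw [perm_pairEquiv]
  exact mem_Inn_iff

theorem exists_inner {g : Equiv.Perm GolayPt} (hg : g ∈ Spor.M22) : ∃ a ∈ inner, perm a = g := by
  obtain ⟨a, ha⟩ := exists_perm (sporM22_le_Pair hg)
  exact ⟨a, mem_inner_iff.2 (ha ▸ hg), ha⟩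

theorem inner_normal : inner.Normal := ⟨fun a ha g => mem_inner_iff.2 (by
  rw [map_mul, map_mul, map_inv]
  exact conj_mem_sporM22 (perm_mem g) (mem_inner_iff.1 ha))⟩

theorem card_aut : Nat.card A22 = 887040 := card_mulAut_sporM22

instance : Finite A22 := Nat.finite_of_card_ne_zero (by rw [card_aut]; norm_num)

theorem conj_injective : Function.Injective (MulAut.conj : ↥Cfsg.Spor.M22 →* A22) := fun a b h => by
  have e := congrArg perm h
  rw [← pairEquiv_of_mem (g := ⟨a.1, sporM22_le_Pair a.2⟩) a.2,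
    ← pairEquiv_of_mem (g := ⟨b.1, sporM22_le_Pair b.2⟩) b.2, perm_pairEquiv, perm_pairEquiv] at e
  exact Subtype.ext e

theorem card_inner : Nat.card ↥inner = 443520 :=
  (Nat.card_congr (MonoidHom.ofInjective conj_injective).toEquiv).symm.trans card_sporM22

theorem inner_simple : IsSimpleGroup ↥inner :=
  haveI := isSimple_sporM22
  (MonoidHom.ofInjective conj_injective).isSimpleGroup_congr.1 this

theorem centralizer_inner : Subgroup.centralizer (inner : Set A22) = ⊥ := by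
  rw [Subgroup.eq_bot_iff_forall]
  intro a ha
  refine perm_injective ((eq_one_of_commute (Pair_le (perm_mem a)) fun m hm => ?_).trans (map_one _).symm)
  obtain ⟨b, hb, rfl⟩ := exists_inner hm
  rw [← map_mul, ← map_mul, Subgroup.mem_centralizer_iff.1 ha b hb]

theorem exists_conj_of_perm {a b : A22} {c : Equiv.Perm GolayPt} (hc : c ∈ Spor.M22)
    (h : c * perm a * c⁻¹ = perm b) : ∃ g ∈ inner, g * a * g⁻¹ = b := by
  obtain ⟨g, hg, rfl⟩ := exists_inner hc
  exact ⟨g, hg, perm_injective (by simpa using h)⟩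

theorem invol_conj {a b : A22} (ha : a ∈ inner) (hb : b ∈ inner) (ha2 : orderOf a = 2)
    (hb2 : orderOf b = 2) : ∃ g ∈ inner, g * a * g⁻¹ = b := by
  obtain ⟨c, hc, hce⟩ := invol_conj_rep (mem_inner_iff.1 ha) ((orderOf_perm a).trans ha2)
  obtain ⟨d, hd, hde⟩ := invol_conj_rep (mem_inner_iff.1 hb) ((orderOf_perm b).trans hb2)
  refine exists_conj_of_perm (c := d⁻¹ * c) (mul_mem (inv_mem hd) hc) ?_
  rw [show d⁻¹ * c * perm a * (d⁻¹ * c)⁻¹ = d⁻¹ * (c * perm a * c⁻¹) * d by group, hce, ← hde]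
  group

theorem exists_inner_conj {g : Equiv.Perm GolayPt} {c : Equiv.Perm GolayPt} (hc : c ∈ Spor.M22)
    (hg : g ∈ Spor.M22) : ∃ a ∈ inner, perm a = c⁻¹ * g * c :=
  exists_inner (mul_mem (mul_mem (inv_mem hc) hg) hc)

theorem invol_five {t : A22} (ht : t ∈ inner) (h2 : orderOf t = 2) :
    ∃ x ∈ inner, ∃ s ∈ inner, orderOf x = 5 ∧ s * s = t ∧ s * x * s⁻¹ = x ^ 2 := by
  obtain ⟨c, hc, hce⟩ := invol_conj_rep (mem_inner_iff.1 ht) ((orderOf_perm t).trans h2)
  obtain ⟨x, hx, s, hs, hxo, hss, hsx⟩ := t0_five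
  obtain ⟨a, ha, hpa⟩ := exists_inner_conj hc hx
  obtain ⟨b, hb, hpb⟩ := exists_inner_conj hc hs
  refine ⟨a, ha, b, hb, ?_, perm_injective ?_, perm_injective ?_⟩
  · rw [← orderOf_perm, hpa, ← hxo]
    exact (orderOf_injective (MulAut.conj c).toMonoidHom (MulAut.conj c).injective _).symm.trans
      (by simp [mul_assoc])
  · rw [map_mul, hpb, show c⁻¹ * s * c * (c⁻¹ * s * c) = c⁻¹ * (s * s) * c by group, hss, ← hce]
    group
  · rw [map_mul, map_mul, map_inv, map_pow, hpa, hpb,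
      show c⁻¹ * s * c * (c⁻¹ * x * c) * (c⁻¹ * s * c)⁻¹ = c⁻¹ * (s * x * s⁻¹) * c by group, hsx]
    simp [pow_two, mul_assoc]

theorem invol_three {t : A22} (ht : t ∈ inner) (h2 : orderOf t = 2) :
    ∃ x ∈ inner, ∃ u ∈ inner, orderOf x = 3 ∧ orderOf u = 2 ∧ u * x * u⁻¹ = x⁻¹ ∧ Commute t x ∧
      Commute t u := by
  obtain ⟨c, hc, hce⟩ := invol_conj_rep (mem_inner_iff.1 ht) ((orderOf_perm t).trans h2)
  obtain ⟨x, hx, u, hu, hxo, huo, hux, htx, htu⟩ := t0_three
  obtain ⟨a, ha, hpa⟩ := exists_inner_conj hc hx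
  obtain ⟨b, hb, hpb⟩ := exists_inner_conj hc hu
  have hpt : perm t = c⁻¹ * t0 * c := by rw [← hce]; group
  refine ⟨a, ha, b, hb, ?_, ?_, perm_injective ?_, perm_injective ?_, perm_injective ?_⟩
  · rw [← orderOf_perm, hpa, ← hxo]
    exact (orderOf_injective (MulAut.conj c).toMonoidHom (MulAut.conj c).injective _).symm.trans
      (by simp [mul_assoc])
  · rw [← orderOf_perm, hpb, ← huo]
    exact (orderOf_injective (MulAut.conj c).toMonoidHom (MulAut.conj c).injective _).symm.trans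
      (by simp [mul_assoc])
  · rw [map_mul, map_mul, map_inv, map_inv, hpa, hpb,
      show c⁻¹ * u * c * (c⁻¹ * x * c) * (c⁻¹ * u * c)⁻¹ = c⁻¹ * (u * x * u⁻¹) * c by group, hux]
    group
  · rw [map_mul, map_mul, hpa, hpt, show c⁻¹ * t0 * c * (c⁻¹ * x * c) = c⁻¹ * (t0 * x) * c by group,
      htx.eq]
    group
  · rw [map_mul, map_mul, hpb, hpt, show c⁻¹ * t0 * c * (c⁻¹ * u * c) = c⁻¹ * (t0 * u) * c by group,
      htu.eq]
    group

theorem index_inner : inner.index = 2 := by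
  have h := inner.card_mul_index
  rw [card_inner, card_aut] at h
  omega

theorem mem_inner_of_pow_three {x : A22} {k : ℕ} (h : x ^ (3 ^ k) = 1) : x ∈ inner := by
  haveI := inner_normal
  have h1 : (QuotientGroup.mk' inner x) ^ (3 ^ k) = 1 := by rw [← map_pow, h, map_one]
  have h2 : (QuotientGroup.mk' inner x) ^ 2 = 1 := by
    rw [← map_pow]
    exact (QuotientGroup.eq_one_iff _).2 (index_inner ▸ Subgroup.pow_index_mem inner x)
  refine (QuotientGroup.eq_one_iff x).1 (orderOf_eq_one_iff.1 (Nat.dvd_one.1 ?_))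
  rw [← ((Nat.coprime_primes Nat.prime_three Nat.prime_two).2 (by norm_num)).pow_left k]
  exact Nat.dvd_gcd (orderOf_dvd_of_pow_eq_one h1) (orderOf_dvd_of_pow_eq_one h2)

theorem three_conj_a0 {x : A22} (h3 : orderOf x = 3) : ∃ c ∈ Spor.M22, c * perm x * c⁻¹ = a0 :=
  three_conj_rep (mem_inner_iff.1 (mem_inner_of_pow_three (k := 1) (by
    rw [pow_one, ← h3]; exact pow_orderOf_eq_one x))) ((orderOf_perm x).trans h3)

theorem three_conj {x y : A22} (hx : orderOf x = 3) (hy : orderOf y = 3) :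
    ∃ g ∈ inner, g * x * g⁻¹ = y := by
  obtain ⟨c, hc, hce⟩ := three_conj_a0 hx
  obtain ⟨d, hd, hde⟩ := three_conj_a0 hy
  refine exists_conj_of_perm (c := d⁻¹ * c) (mul_mem (inv_mem hd) hc) ?_
  rw [show d⁻¹ * c * perm x * (d⁻¹ * c)⁻¹ = d⁻¹ * (c * perm x * c⁻¹) * d by group, hce, ← hde]
  group

/-- Counting a set of automorphisms on permutations. -/
theorem card_eq_ncard {P : A22 → Prop} {Q : Equiv.Perm GolayPt → Prop}
    (h : ∀ a, P a ↔ Q (perm a)) : Nat.card {a // P a} = {g | g ∈ Pair ∧ Q g}.ncard := by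
  rw [← Nat.card_coe_set_eq]
  refine Nat.card_congr (Equiv.ofBijective (fun a => (⟨perm a.1, perm_mem _, (h _).1 a.2⟩ :
    {g | g ∈ Pair ∧ Q g})) ⟨fun a b hab => Subtype.ext (perm_injective (by simpa using hab)), ?_⟩)
  rintro ⟨g, hg, hQ⟩
  obtain ⟨a, rfl⟩ := exists_perm hg
  exact ⟨⟨a, (h a).2 hQ⟩, rfl⟩

theorem mem_cent_iff {a x : A22} :
    a ∈ Subgroup.centralizer ({x} : Set A22) ↔ perm a * perm x = perm x * perm a := by
  rw [Subgroup.mem_centralizer_singleton_iff, ← map_mul, ← map_mul, perm_injective.eq_iff]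

theorem card_cent_rep {x : A22} (hx : perm x = a0) :
    Nat.card ↥(Subgroup.centralizer ({x} : Set A22)) = 72 ∧
      Nat.card ↥(inner ⊓ Subgroup.centralizer ({x} : Set A22)) = 36 := by
  refine ⟨(card_eq_ncard (Q := fun g => g * a0 = a0 * g) fun a => ?_).trans ncard_cent_three,
    (card_eq_ncard (Q := fun g => g * a0 = a0 * g ∧ g ∈ Spor.M22) fun a => ?_).trans ncard_cent_three_M22⟩
  · rw [mem_cent_iff, hx]
  · rw [Subgroup.mem_inf, mem_cent_iff, mem_inner_iff, hx]
    exact and_comm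

theorem map_centralizer_conj (g x : A22) :
    (Subgroup.centralizer ({x} : Set A22)).map (MulAut.conj g).toMonoidHom =
      Subgroup.centralizer ({g * x * g⁻¹} : Set A22) := by
  refine le_antisymm ?_ fun a ha => ⟨g⁻¹ * a * g, ?_, by simp [mul_assoc]⟩
  · rintro _ ⟨a, ha, rfl⟩
    rw [Subgroup.mem_centralizer_singleton_iff]
    exact ((show Commute a x from Subgroup.mem_centralizer_singleton_iff.1 ha).map (MulAut.conj g).toMonoidHom).eq
  · rw [SetLike.mem_coe, Subgroup.mem_centralizer_singleton_iff]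
    have h : Commute a (g * x * g⁻¹) := Subgroup.mem_centralizer_singleton_iff.1 ha
    have h' := h.map (MulAut.conj g⁻¹).toMonoidHom
    simpa [mul_assoc] using h'.eq

theorem card_map_conj (g : A22) (H : Subgroup A22) :
    Nat.card ↥(H.map (MulAut.conj g).toMonoidHom) = Nat.card ↥H :=
  (Nat.card_congr (H.equivMapOfInjective _ (MulAut.conj g).injective).toEquiv).symm

theorem three_cent {x : A22} (hx : orderOf x = 3) :
    Nat.card ↥(Subgroup.centralizer ({x} : Set A22)) = 72 ∧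
      Nat.card ↥(inner ⊓ Subgroup.centralizer ({x} : Set A22)) = 36 ∧
      ∀ T : Subgroup A22, T ≤ Subgroup.centralizer ({x} : Set A22) → Nat.card ↥T = 8 →
        ∃ a ∈ T, ∃ b ∈ T, ¬ Commute a b := by
  obtain ⟨c, hc, hce⟩ := three_conj_a0 hx
  obtain ⟨g, hg, rfl⟩ := exists_inner hc
  set φ := (MulAut.conj g).toMonoidHom with hφ
  have hy : perm (g * x * g⁻¹) = a0 := by simpa using hce
  obtain ⟨h72, h36⟩ := card_cent_rep hy
  rw [← map_centralizer_conj] at h72 h36
  have hI : inner.map φ = inner := by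
    refine le_antisymm ?_ fun a ha => ⟨g⁻¹ * a * g, ?_, by simp [φ, mul_assoc]⟩
    · rintro _ ⟨a, ha, rfl⟩
      exact inner_normal.conj_mem a ha g
    · simpa using inner_normal.conj_mem a ha g⁻¹
  refine ⟨(card_map_conj g _).symm.trans h72, ?_, fun T hT hT8 => ?_⟩
  · rw [← card_map_conj g, Subgroup.map_inf _ _ _ (MulAut.conj g).injective]
    rw [hI]
    exact h36
  have hT' : T.map φ ≤ Subgroup.centralizer ({g * x * g⁻¹} : Set A22) := by
    rw [← map_centralizer_conj]; exact Subgroup.map_mono hT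
  set C := Subgroup.centralizer ({g * x * g⁻¹} : Set A22) with hC
  rw [map_centralizer_conj] at h72
  let D : Subgroup A22 := threeD.comap perm
  have hD : D ≤ C := fun a ha => mem_cent_iff.2 (hy.symm ▸ (threeD_le ha).2)
  have hD8 : Nat.card ↥D = 8 := by
    rw [← card_threeD]
    refine Nat.card_congr (Equiv.ofBijective (fun a : D => (⟨perm a.1, a.2⟩ : threeD))
      ⟨fun a b h => Subtype.ext (perm_injective (show perm a.1 = perm b.1 from congrArg (fun z : threeD => z.1) h)), fun q => ?_⟩)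
    obtain ⟨a, ha⟩ := exists_perm (threeD_le q.2).1
    exact ⟨⟨a, show perm a ∈ threeD from ha ▸ q.2⟩, Subtype.ext ha⟩
  haveI : Fact (Nat.Prime 2) := ⟨Nat.prime_two⟩
  have hf : 2 ^ (Nat.card ↥C).factorization 2 = 8 := by
    rw [h72, show (72 : ℕ) = 2 ^ 3 * 9 by norm_num, Nat.factorization_mul (by norm_num) (by norm_num),
      Nat.Prime.factorization_pow Nat.prime_two, Finsupp.add_apply,
      Nat.factorization_eq_zero_of_not_dvd (by norm_num : ¬ 2 ∣ 9)]
    simp
  have hc8 : ∀ K : Subgroup A22, K ≤ C → Nat.card ↥K = 8 →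
      Nat.card ↥(K.subgroupOf C) = 2 ^ (Nat.card ↥C).factorization 2 := fun K hK hK8 => by
    rw [hf, Nat.card_congr (Subgroup.subgroupOfEquivOfLe hK).toEquiv, hK8]
  let P : Sylow 2 C := Sylow.ofCard _ (hc8 (T.map φ) hT' ((card_map_conj g T).trans hT8))
  let P' : Sylow 2 C := Sylow.ofCard _ (hc8 D hD hD8)
  obtain ⟨k, hk⟩ := MulAction.exists_smul_eq C P' P
  have hmem : ∀ a ∈ D, ∃ a' ∈ T, g * a' * g⁻¹ = (k : A22) * a * (k : A22)⁻¹ := by
    intro a ha
    have h1 : k * ⟨a, hD ha⟩ * k⁻¹ ∈ (P : Subgroup C) := by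
      rw [← hk]
      exact ⟨⟨a, hD ha⟩, Subgroup.mem_subgroupOf.2 ha, rfl⟩
    obtain ⟨a', ha', he⟩ := Subgroup.mem_subgroupOf.1 (h1 : _ ∈ (T.map φ).subgroupOf C)
    exact ⟨a', ha', he⟩
  obtain ⟨p, hp, q, hq, hpq⟩ := threeD_not_comm
  obtain ⟨a, rfl⟩ := exists_perm (threeD_le hp).1
  obtain ⟨b, rfl⟩ := exists_perm (threeD_le hq).1
  obtain ⟨a', ha', hae⟩ := hmem a hp
  obtain ⟨b', hb', hbe⟩ := hmem b hq
  refine ⟨a', ha', b', hb', fun hab => hpq ?_⟩
  have h1 := (hab.map φ).map (MulAut.conj (k : A22)⁻¹).toMonoidHom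
  simp only [hφ, MulEquiv.toMonoidHom_eq_coe, MonoidHom.coe_coe, MulAut.conj_apply, hae, hbe] at h1
  have h2 : Commute a b := by simpa [mul_assoc] using h1
  exact h2.map perm

theorem sylow_three {R : Subgroup A22} (hR : Nat.card ↥R = 9) :
    (∀ a ∈ R, ∀ b ∈ R, Commute a b) ∧ (∀ r ∈ R, r ^ 3 = 1) ∧
      Nat.card ↥(Subgroup.normalizer (R : Set A22)) = 144 := by
  haveI : Fact (Nat.Prime 3) := ⟨Nat.prime_three⟩
  have hRI : R ≤ inner := fun r hr => mem_inner_of_pow_three (k := 2) (by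
    have h := congrArg Subtype.val (pow_card_eq_one' (G := R) (x := ⟨r, hr⟩))
    rw [hR] at h
    simpa using h)
  let R' : Subgroup (Equiv.Perm GolayPt) := R.map perm
  have hR' : R' ≤ Spor.M22 := by rintro _ ⟨r, hr, rfl⟩; exact mem_inner_iff.1 (hRI hr)
  have hR'9 : Nat.card ↥R' = 9 :=
    (Nat.card_congr (R.equivMapOfInjective perm perm_injective).toEquiv).symm.trans hR
  obtain ⟨c, hc, hcR⟩ := exists_conj_le (p := 3) (k := 2) threeR_le card_threeR fact_three hR'
    (IsPGroup.of_card (n := 2) hR'9)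
  have hback : ∀ h ∈ threeR, ∃ r ∈ R, c * perm r * c⁻¹ = h := by
    intro h hh
    have hb : Function.Bijective (fun r : R => (⟨c * perm r * c⁻¹, hcR _ ⟨r.1, r.2, rfl⟩⟩ : threeR)) := by
      refine (Nat.bijective_iff_injective_and_card _).2 ⟨fun a b hab => Subtype.ext (perm_injective ?_), ?_⟩
      · exact mul_left_cancel (mul_right_cancel (congrArg Subtype.val hab))
      · rw [hR, card_threeR]
    obtain ⟨r, hr⟩ := hb.2 ⟨h, hh⟩
    exact ⟨r.1, r.2, congrArg Subtype.val hr⟩
  refine ⟨fun a ha b hb => ?_, fun r hr => perm_injective ?_, ?_⟩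
  · have h := threeR_comm (hcR _ ⟨a, ha, rfl⟩) (hcR _ ⟨b, hb, rfl⟩)
    refine perm_injective ?_
    have h' := h.map (MulAut.conj c⁻¹).toMonoidHom
    simpa [mul_assoc] using h'.eq
  · have h := threeR_cube (hcR _ ⟨r, hr, rfl⟩)
    rw [conj_pow, conj_eq_one_iff] at h
    rw [map_pow, map_one, h]
  obtain ⟨g, hg, rfl⟩ := exists_inner hc
  rw [← card_map_conj g]
  have e : (Subgroup.normalizer (R : Set A22)).map (MulAut.conj g).toMonoidHom =
      Subgroup.normalizer ((R.map (MulAut.conj g).toMonoidHom : Subgroup A22) : Set A22) :=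
    Subgroup.map_equiv_normalizer_eq R (MulAut.conj g)
  rw [e, ← ncard_norm_threeR]
  have hmemR : ∀ a : A22, a ∈ R.map (MulAut.conj g).toMonoidHom ↔ perm a ∈ threeR := by
    intro a
    constructor
    · rintro ⟨r, hr, rfl⟩
      simpa using hcR _ ⟨r, hr, rfl⟩
    · intro ha
      obtain ⟨r, hr, hre⟩ := hback _ ha
      exact ⟨r, hr, perm_injective (by simpa using hre)⟩
  refine card_eq_ncard fun a => ?_
  rw [Subgroup.mem_normalizer_iff]
  constructor
  · intro ha h hh
    obtain ⟨b, rfl⟩ := exists_perm (sporM22_le_Pair (threeR_le hh))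
    have := (hmemR _).1 ((ha b).1 ((hmemR b).2 hh))
    simpa using this
  · intro ha b
    refine ⟨fun hb => (hmemR _).2 (by simpa using ha _ ((hmemR b).1 hb)), fun hb => (hmemR b).2 ?_⟩
    have hs : Function.Bijective (fun h : threeR => (⟨perm a * h * (perm a)⁻¹, ha _ h.2⟩ : threeR)) :=
      Finite.injective_iff_bijective.1 fun u v huv =>
        Subtype.ext (mul_left_cancel (mul_right_cancel (congrArg Subtype.val huv)))
    obtain ⟨h, hh⟩ := hs.2 ⟨_, (hmemR _).1 hb⟩
    have hh' := congrArg Subtype.val hh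
    simp only [map_mul, map_inv] at hh'
    exact (mul_left_cancel (mul_right_cancel hh')) ▸ h.2

theorem elem_inner {E : Subgroup A22} (hE : E ≤ inner) (h2 : ∀ a ∈ E, a * a = 1)
    (hc : ∀ a ∈ E, ∀ b ∈ E, Commute a b) : Nat.card ↥E ≤ 16 := by
  rw [Nat.card_congr (E.equivMapOfInjective perm perm_injective).toEquiv]
  refine elem_le_sixteen ?_ ?_ ?_
  · rintro _ ⟨a, ha, rfl⟩; exact mem_inner_iff.1 (hE ha)
  · rintro _ ⟨a, ha, rfl⟩; rw [← map_mul, h2 a ha, map_one]
  · rintro _ ⟨a, ha, rfl⟩ _ ⟨b, hb, rfl⟩; exact (hc a ha b hb).map perm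

/-- The facts about Aut M22. -/
theorem facts : Cfsg.Lib.JankoFour.Facts A22 inner where
  normal := inner_normal
  card_A := card_aut
  card_I := card_inner
  simple := inner_simple
  cent := centralizer_inner
  invol_conj _ _ ha hb ha2 hb2 := invol_conj ha hb ha2 hb2
  invol_five _ ht h2 := invol_five ht h2
  invol_three _ ht h2 := invol_three ht h2
  three_conj _ _ hx hy := three_conj hx hy
  three_cent _ hx := three_cent hx
  sylow_three _ hR := sylow_three hR
  elem _ hT h2 hc := elem_inner hT h2 hc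

end Cfsg.Lib.JankoFour.AutM22
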