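import Cfsg.Agent.Lib.JankoFour.Planes
import Cfsg.Agent.Lib.JankoFour.BitModel.Into
import Cfsg.Agent.Lib.Concrete.ClassFacts

/-!
# Involutions of the normalizer outside the standard group

Together with a member of the second class which it centralizes, such an involution moves into `E`.
-/

set_option autoImplicit false
set_option linter.style.haveILetI false
set_option linter.unusedSectionVars false

namespace Cfsg.Lib.JankoFour

open Cfsg Cfsg.Lib.Extra Module BitModel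

variable {G : Type*} [Group G] [Finite G] {A : Type} [Group A] {I : Subgroup A}

theorem iff_of_neither {a b c : Prop} (h : ¬ (a ↔ b)) (h' : ¬ (a ↔ c)) : c ↔ b := by tauto

namespace Adapted

variable {F : Frame G A I} {D : HexData A I} {S : Std F D} (C : Adapted S)

include C in
theorem eAct_lt (c : ℕ) {v : ℕ} (hv : v < 2048) : eAct c v < 2048 :=
  code_lt (Nat.xor_lt_two_pow (n := 6) (cx_lt v) (app_lt _ _)) (cu_lt hv)

include C in
theorem commute_el_iff {e : G} (he : e ∈ F.E) {v : ℕ} (hv : v < 2048) :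
    Commute e (C.el v) ↔ eAct (C.chi (F.cls e)) v = v := by
  have h := C.el_eAct he hv
  refine ⟨fun hc => (C.el_inj hv (C.eAct_lt _ hv) (by rw [← h, hc.eq, mul_inv_cancel_right])).symm, fun heq => ?_⟩
  rw [heq] at h
  exact mul_inv_eq_iff_eq_mul.1 h

include C in
theorem inD_iff_orb {v : ℕ} (hv : v < 2048) : C.el v ∈ S.orb (C.nz 1) ↔ inD v = true := by
  obtain ⟨-, -, -, -, -, -, h⟩ := C.model
  exact h v hv

include C in
/-- The fixed part of a conjugate of the centre from the model. -/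
theorem mem_of_mask {i : ℕ} (hi : i < 7) {n : G} (hn : n ∈ S.NV) (hne : n * F.z * n⁻¹ = C.el (seven.getD i 0))
    {v : ℕ} (hv : v < 2048) (h : (kMasks.getD i 0).testBit v = true) : n⁻¹ * C.el v * n ∈ F.E := by
  have hgen : ∀ s < 2048, kGenB (seven.getD i 0) s = true → n⁻¹ * C.el s * n ∈ F.E := by
    intro s hs hg
    rw [kGenB, Bool.and_eq_true] at hg
    have hr : seven.getD i 0 < 2048 := by interval_cases i <;> decide +kernel
    obtain ⟨s', hs', hse⟩ := C.exists_el (x := n⁻¹ * C.el s * n) (by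
      have := S.conj_mem_Vb (inv_mem hn) (C.el_mem s)
      rwa [inv_inv] at this)
    have h1 : C.el s' ∈ S.orb (C.nz 1) := by
      rw [hse, ← S.orb_conj hn, show n * (n⁻¹ * C.el s * n) * n⁻¹ = C.el s by group]
      exact (C.inD_iff_orb hs).2 hg.1
    have h2 : C.el (s' ^^^ 1) ∈ S.orb (C.nz 1) := by
      rw [C.el_xor, hse, C.el_one, ← S.orb_conj hn,
        show n * (n⁻¹ * C.el s * n * F.z) * n⁻¹ = C.el s * (n * F.z * n⁻¹) by group, hne, ← C.el_xor]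
      exact (C.inD_iff_orb (Nat.xor_lt_two_pow (n := 11) hs hr)).2 hg.2
    have hk := allLt_spec kOne hs'
    rw [kGenB, (C.inD_iff_orb hs').1 h1,
      (C.inD_iff_orb (Nat.xor_lt_two_pow (n := 11) hs' (by norm_num))).1 h2, Bool.true_and, Bool.not_true,
      Bool.false_or, Nat.blt_eq] at hk
    rw [← hse]
    exact (C.el_mem_K hk).1
  have hm := allLt_spec (allLt_spec kMasks_ok hi) hv
  rw [h, Bool.not_true, Bool.false_or, kMem, Bool.or_eq_true, Bool.or_eq_true] at hm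
  rcases hm with (hm | hm) | hm
  · rw [Nat.eq_of_beq_eq_true hm, C.el_zero]
    simp [one_mem]
  · exact hgen v hv hm
  · obtain ⟨s, hs, hs'⟩ := List.any_eq_true.1 hm
    rw [Bool.and_eq_true] at hs'
    have hs2 : s < 2048 := List.mem_range.1 (List.mem_filter.1 hs).1
    rw [show n⁻¹ * C.el v * n = n⁻¹ * C.el (v ^^^ s) * n * (n⁻¹ * C.el s * n) by
      rw [C.el_xor, show n⁻¹ * (C.el v * C.el s) * n * (n⁻¹ * C.el s * n) = n⁻¹ * (C.el v * (C.el s * C.el s)) * n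
        by group, S.Vb_sq (C.el_mem s), mul_one]]
    exact mul_mem (hgen _ (Nat.xor_lt_two_pow (n := 11) hv hs2) hs'.2) (hgen s hs2 hs'.1)

include C in
/-- The model gives all of the fixed part for two of the seven. -/
theorem mask_of_mem {i : ℕ} (hi : i = 1 ∨ i = 2) {n : G} (hn : n ∈ S.NV)
    (hne : n * F.z * n⁻¹ = C.el (seven.getD i 0)) {v : ℕ} (hv : v < 2048) (h : n⁻¹ * C.el v * n ∈ F.E) :
    (kMasks.getD i 0).testBit v = true := by
  classical
  set M := {x | x ∈ S.Vb ∧ n⁻¹ * x * n ∈ F.E}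
  set P := {x | ∃ w < 2048, (kMasks.getD i 0).testBit w = true ∧ C.el w = x}
  have hPM : P ⊆ M := by
    rintro _ ⟨w, hw, hb, rfl⟩
    exact ⟨C.el_mem w, C.mem_of_mask (by omega) hn hne hw hb⟩
  have hM : M.ncard = 128 := by
    rw [show (128 : ℕ) = 2 ^ 7 by norm_num, ← S.card_K, ← Nat.card_coe_set_eq]
    refine Nat.card_congr
      { toFun := fun x => ⟨n⁻¹ * x.1 * n, by
          rw [← S.Vb_inf_E]
          exact ⟨by simpa using S.conj_mem_Vb (inv_mem hn) x.2.1, x.2.2⟩⟩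
        invFun := fun k => ⟨n * k.1 * n⁻¹, S.conj_mem_Vb hn (S.K_le k.2), by
          rw [show n⁻¹ * (n * k.1 * n⁻¹) * n = k.1 by group]; exact k.2.1⟩
        left_inv := fun x => Subtype.ext (show n * (n⁻¹ * x.1 * n) * n⁻¹ = x.1 by group)
        right_inv := fun k => Subtype.ext (show n⁻¹ * (n * k.1 * n⁻¹) * n = k.1 by group) }
  have hP : P.ncard = 128 := by
    rw [C.ncard_codes (P := (kMasks.getD i 0).testBit) (fun x hx => (hPM hx).1) fun w hw => ?_]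
    · have := List.all_eq_true.1 kMasks_count i (by rcases hi with rfl | rfl <;> simp)
      exact Nat.eq_of_beq_eq_true this
    · exact ⟨fun ⟨u, hu, hb, e⟩ => C.el_inj hu hw e ▸ hb, fun hb => ⟨w, hw, hb, rfl⟩⟩
  obtain ⟨w, hw, hb, e⟩ := (Set.eq_of_subset_of_ncard_le hPM (by rw [hM, hP])).symm.le
    (⟨C.el_mem v, h⟩ : C.el v ∈ M)
  exact C.el_inj hw hv e ▸ hb

include C in
theorem exists_conj_seven {i : ℕ} (hi : i = 1 ∨ i = 2) : ∃ n ∈ S.NV, n * F.z * n⁻¹ = C.el (seven.getD i 0) := by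
  obtain ⟨-, -, -, -, -, hcls, -⟩ := C.model
  have h : seven.getD i 0 < 2048 ∧ seven.getD i 0 ≠ 0 ∧ inD (seven.getD i 0) = false := by
    rcases hi with rfl | rfl <;> decide +kernel
  exact C.mem_orb_z.2 ((hcls _ h.1).2 h.2)

/-- An element of both extraspecial groups has square one. -/
theorem sq_one_both {n a : G} (hne : n * F.z * n⁻¹ ≠ F.z) (ha : a ∈ F.E) (ha' : n⁻¹ * a * n ∈ F.E) : a * a = 1 := by
  refine (F.ctx.sq a ha).resolve_right fun h => ?_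
  have e : n⁻¹ * a * n * (n⁻¹ * a * n) = n⁻¹ * F.z * n := by rw [← h]; group
  rcases F.ctx.sq _ ha' with h' | h' <;> rw [e] at h'
  · refine F.ctx.ne_one ?_
    calc F.z = n * (n⁻¹ * F.z * n) * n⁻¹ := by group
      _ = 1 := by rw [h']; group
  · refine hne ?_
    calc n * F.z * n⁻¹ = n * (n⁻¹ * F.z * n) * n⁻¹ := by rw [h']
      _ = F.z := by group

include C in
/-- An element over the functional in one of the intersections. -/
theorem exists_in_both {i : ℕ} (hi : i = 1 ∨ i = 2) {n : G} (hn : n ∈ S.NV)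
    (hne : n * F.z * n⁻¹ = C.el (seven.getD i 0)) :
    ∃ a ∈ F.E, n⁻¹ * a * n ∈ F.E ∧ C.chi (F.cls a) = 1 := by
  classical
  set r := seven.getD i 0
  have hr : r < 128 ∧ r ≠ 1 := by rcases hi with rfl | rfl <;> decide +kernel
  have hnz : n * F.z * n⁻¹ ≠ F.z := fun e => hr.2 (C.el_inj (by omega) (by norm_num)
    ((hne.symm.trans e).trans C.el_one.symm))
  have hb1 : (kMasks.getD i 0).testBit 1 = true := by rcases hi with rfl | rfl <;> decide +kernel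
  have hz' : n⁻¹ * F.z * n ∈ F.E := by
    rw [← C.el_one]
    exact C.mem_of_mask (by omega) hn hne (by norm_num) hb1
  have hf : Frame.Fused F (F.conj n) :=
    ⟨hnz, by rw [F.conj_z, hne]; exact (C.el_mem_K hr.1).1, F.mem_conj_E.2 hz'⟩
  by_contra hcon
  set J := F.E ⊓ (F.conj n).E
  set L := F.clsSub J inf_le_left
  have hzJ : F.z ∈ J := ⟨F.ctx.mem, F.mem_conj_E.2 hz'⟩
  have hL : Nat.card ↥L = 64 := by
    have h2 : 2 * Nat.card ↥L = Nat.card ↥J := F.card_clsSub inf_le_left hzJ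
    rw [show Nat.card ↥J = 2 ^ 7 from hf.card_K] at h2
    omega
  set A1 := (annih i).toFinset.erase 1
  set A2 := ((List.range 64).filter fun x => (kMasks.getD i 0).testBit (code false x 0)).toFinset
  have hA : A1.card * A2.card = 48 := by
    rcases hi with rfl | rfl <;> decide +kernel
  have hmemL : ∀ {x}, x < 64 → C.cw x ∈ L → n⁻¹ * C.w0 x * n ∈ F.E := fun {x} hx h => by
    rw [← C.cls_w0] at h
    exact F.mem_conj_E.1 ((hf.cls_K_iff (C.w0_mem x).1).1 h).2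
  have hel : ∀ {x}, x < 64 → C.el (code false x 0) = C.w0 x := fun {x} hx => by
    rw [C.el_code false 0 hx, C.cL_zero, pickB_false, one_mul, mul_one]
  have hann : ∀ l ∈ L, C.chi l ∈ A1 := by
    intro l hl
    obtain ⟨a, ha, rfl⟩ := hl
    refine Finset.mem_erase.2 ⟨fun e => hcon ⟨a, ha.1, F.mem_conj_E.1 ha.2, e⟩, ?_⟩
    rw [List.mem_toFinset, annih, List.mem_filter, List.mem_range]
    refine ⟨C.chi_lt _, List.all_eq_true.2 fun v hv => ?_⟩
    rw [List.mem_range] at hv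
    rw [Bool.or_eq_true, Bool.not_eq_true', Bool.not_eq_true']
    by_cases hb : (kMasks.getD i 0).testBit v = true
    · right
      have hK := C.el_mem_K hv
      have hm : C.el v ∈ J := ⟨hK.1, F.mem_conj_E.2 (C.mem_of_mask (by omega) hn hne (by omega) hb)⟩
      have h0 : JankoFour.B F.ctx (JankoFour.cls F.ctx (C.el v)) (JankoFour.cls F.ctx a) = 0 :=
        (B_cls F.ctx hm.1 ha.1).2 (hf.K_comm hm ha)
      have hcls : JankoFour.cls F.ctx (C.el v) = C.cw (cx v) := by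
        rw [el, Nat.div_eq_of_lt hv |> fun (h : v / 128 = 0) => show cu v = 0 from h, C.cL_zero, mul_one]
        cases cb v
        · rw [pickB_false, one_mul]
          exact C.cls_w0 _
        · rw [pickB_true, cls_mul F.ctx F.ctx.mem (C.w0_mem _).1, cls_z, zero_add]
          exact C.cls_w0 _
      rw [hcls, C.B_cw, Nat.and_comm] at h0
      revert h0
      cases par (C.chi (JankoFour.cls F.ctx a) &&& cx v) <;> simp [zb]
    · exact Or.inl (Bool.eq_false_iff.2 hb)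
  have hsel : ∀ c, ∃ l0, l0 ∈ L ∧ ((∃ l ∈ L, C.chi l = c) → C.chi l0 = c) := fun c => by
    by_cases h : ∃ l ∈ L, C.chi l = c
    · obtain ⟨l, hl, hc⟩ := h
      exact ⟨l, hl, fun _ => hc⟩
    · exact ⟨0, zero_mem _, fun h' => absurd h' h⟩
  choose l0 hl0 hl0c using hsel
  have hsplit : ∀ l : ↥L, ∃ x ∈ A2, C.cw x = (l : F.V) + l0 (C.chi l) := by
    intro l
    obtain ⟨x, hx, hxe⟩ := C.exists_cw (C.chi_eq_iff.1 (hl0c _ ⟨l, l.2, rfl⟩).symm)
    refine ⟨x, ?_, hxe⟩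
    rw [List.mem_toFinset, List.mem_filter, List.mem_range]
    refine ⟨hx, C.mask_of_mem hi hn hne (code_lt hx (by norm_num)) ?_⟩
    rw [hel hx]
    exact hmemL hx (hxe ▸ add_mem l.2 (hl0 _))
  choose xc hxc hxe using hsplit
  letI := Fintype.ofFinite ↥L
  have h64 : Fintype.card ↥L ≤ (A1 ×ˢ A2).card := by
    refine Finset.card_le_card_of_injOn (fun l : ↥L => (C.chi (l : F.V), xc l))
      (fun l _ => Finset.mem_product.2 ⟨hann _ l.2, hxc l⟩) fun a _ b _ e => ?_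
    simp only [Prod.mk.injEq] at e
    have h1 := hxe a
    rw [e.2, hxe b, e.1] at h1
    exact Subtype.ext (add_right_cancel h1).symm
  rw [Finset.card_product, ← Nat.card_eq_fintype_card, hL, hA] at h64
  omega

include C in
/-- Two conjugates of the centre in each other's group give a third one. -/
theorem step {nx ny e : G} (hnx : nx ∈ S.NV) (hny : ny ∈ S.NV) (hy : nx⁻¹ * (ny * F.z * ny⁻¹) * nx ∈ F.E)
    (hx : ny⁻¹ * (nx * F.z * nx⁻¹) * ny ∈ F.E) (hne : ny * F.z * ny⁻¹ ≠ nx * F.z * nx⁻¹)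
    (he : nx⁻¹ * e * nx ∈ F.E) (he' : ny⁻¹ * e * ny ∈ F.E) :
    ∃ n ∈ S.NV, n * F.z * n⁻¹ = nx * F.z * nx⁻¹ * (ny * F.z * ny⁻¹) ∧ n⁻¹ * e * n ∈ F.E := by
  set y := nx⁻¹ * (ny * F.z * ny⁻¹) * nx with hy'
  obtain ⟨q, hq, hqe⟩ := C.exists_el (x := y) (by
    simpa using S.conj_mem_Vb (inv_mem hnx) (S.conj_mem_Vb hny S.z_mem))
  have hq128 : q < 128 := (C.el_mem_E_iff hq).1 (hqe ▸ hy)
  have h := allLt_spec flip_all hq128
  rw [Bool.or_eq_true, Nat.ble_eq] at h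
  obtain ⟨c, hc, hce⟩ := List.any_eq_true.1 (h.resolve_left fun h => by
    rcases (show q = 0 ∨ q = 1 by omega) with rfl | rfl
    · rw [C.el_zero] at hqe
      refine F.ctx.ne_one ?_
      calc F.z = ny⁻¹ * (nx * y * nx⁻¹) * ny := by rw [hy']; group
        _ = 1 := by rw [← hqe]; group
    · rw [C.el_one] at hqe
      refine hne ?_
      calc ny * F.z * ny⁻¹ = nx * y * nx⁻¹ := by rw [hy']; group
        _ = _ := by rw [← hqe])
  obtain ⟨f, hf, hfc⟩ := C.exists_e (List.mem_range.1 hc)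
  have hflip : f * y * f⁻¹ = F.z * y := by
    rw [← hqe, C.el_eAct hf hq, hfc, Nat.eq_of_beq_eq_true hce, C.el_xor, C.el_one, (S.Vb_z (C.el_mem q)).eq]
  refine ⟨nx * f * nx⁻¹ * ny, mul_mem (mul_mem (mul_mem hnx (S.E_normalizes hf)) (inv_mem hnx)) hny, ?_, ?_⟩
  · calc nx * f * nx⁻¹ * ny * F.z * (nx * f * nx⁻¹ * ny)⁻¹ = nx * (f * y * f⁻¹) * nx⁻¹ := by rw [hy']; group
      _ = nx * F.z * nx⁻¹ * (ny * F.z * ny⁻¹) := by rw [hflip, hy']; group
  · rw [show (nx * f * nx⁻¹ * ny)⁻¹ * e * (nx * f * nx⁻¹ * ny) =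
      ny⁻¹ * (nx * (f⁻¹ * (nx⁻¹ * e * nx) * f⁻¹⁻¹) * nx⁻¹) * ny by group, F.conj_in_E (inv_mem hf) he]
    rcases bit (JankoFour.B F.ctx (F.cls f⁻¹) (F.cls (nx⁻¹ * e * nx))) with h | h <;> rw [h]
    · simpa [pickB, mul_assoc] using he'
    · rw [show decide ((1 : ZMod 2) = 1) = true by decide, pickB_true,
        show ny⁻¹ * (nx * (F.z * (nx⁻¹ * e * nx)) * nx⁻¹) * ny = ny⁻¹ * (nx * F.z * nx⁻¹) * ny * (ny⁻¹ * e * ny)
        by group]
      exact mul_mem hx he'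

include C in
/-- One element of `E` in the groups of all seven. -/
theorem exists_seven : ∃ e ∈ F.E, e * e = 1 ∧ C.chi (F.cls e) = 1 ∧
    ∀ i < 7, ∃ n ∈ S.NV, n * F.z * n⁻¹ = C.el (seven.getD i 0) ∧ n⁻¹ * e * n ∈ F.E := by
  have hs : seven.getD 0 0 = 1 ∧ seven.getD 1 0 = 56 ∧ seven.getD 2 0 = 80 := by decide +kernel
  obtain ⟨s0, s1, s2⟩ := hs
  obtain ⟨n1, hn1, hn1e⟩ := C.exists_conj_seven (Or.inl rfl)
  obtain ⟨n2, hn2, hn2e⟩ := C.exists_conj_seven (Or.inr rfl)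
  obtain ⟨e1, he1, he1', hc1⟩ := C.exists_in_both (Or.inl rfl) hn1 hn1e
  obtain ⟨e2, he2, he2', hc2⟩ := C.exists_in_both (Or.inr rfl) hn2 hn2e
  have hnz : ∀ {n : G} {r : ℕ}, n * F.z * n⁻¹ = C.el r → r < 2048 → r ≠ 1 → n * F.z * n⁻¹ ≠ F.z :=
    fun {n r} h hr hr1 e => hr1 (C.el_inj hr (by norm_num) ((h.symm.trans e).trans C.el_one.symm))
  have q1 := sq_one_both (hnz hn1e (by rw [s1]; norm_num) (by rw [s1]; norm_num)) he1 he1'
  have q2 := sq_one_both (hnz hn2e (by rw [s2]; norm_num) (by rw [s2]; norm_num)) he2 he2'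
  set k := e1⁻¹ * e2 with hk
  have hkE : k ∈ F.E := mul_mem (inv_mem he1) he2
  have hkK : k ∈ S.K := ⟨hkE, by
    show JankoFour.cls F.ctx (e1⁻¹ * e2) ∈ S.W
    rw [cls_mul F.ctx (inv_mem he1) he2, cls_inv F.ctx he1, ← C.chi_eq_iff]
    exact hc1.trans hc2.symm⟩
  obtain ⟨q, hq, hqe⟩ := C.exists_el (S.K_le hkK)
  have hq128 : q < 128 := (C.el_mem_E_iff hq).1 (hqe ▸ hkE)
  have hfix : eAct 1 q = q := by
    have hcomm : Commute e1 k := by
      have h : e1 * k * (e1 * k) = 1 := by rw [hk, mul_inv_cancel_left, q2]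
      show e1 * k = k * e1
      rw [← inv_eq_of_mul_eq_one_right h, mul_inv_rev, inv_eq_of_mul_eq_one_right q1,
        inv_eq_of_mul_eq_one_right (S.K_sq hkK)]
    rw [← hqe, C.commute_el_iff he1 hq, hc1] at hcomm
    exact hcomm
  have h := List.all_eq_true.1 cen_split q (List.mem_range.2 hq128)
  rw [show Nat.beq (eAct 1 q) q = true by rw [hfix]; exact Nat.beq_refl q, Bool.not_true, Bool.false_or] at h
  obtain ⟨a, ha, hab⟩ := List.any_eq_true.1 h
  rw [List.mem_range] at ha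
  rw [Bool.and_eq_true] at hab
  have hqa : q ^^^ a < 128 := Nat.xor_lt_two_pow (n := 7) hq128 ha
  set e := e1 * C.el a
  have hee : e = e2 * C.el (q ^^^ a) := by
    rw [C.el_xor, hqe, hk, ← mul_assoc, show e2 * (e1⁻¹ * e2) = e1 by
      have hc : e1 * k * (e1 * k) = 1 := by rw [hk, mul_inv_cancel_left, q2]
      have := S.K_sq hkK
      rw [hk] at this
      calc e2 * (e1⁻¹ * e2) = e1 * ((e1⁻¹ * e2) * (e1⁻¹ * e2)) := by group
        _ = e1 := by rw [this, mul_one]]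
  have heE : e ∈ F.E := mul_mem he1 (C.el_mem_K ha).1
  have b1 : n1⁻¹ * e * n1 ∈ F.E := by
    rw [show n1⁻¹ * e * n1 = n1⁻¹ * e1 * n1 * (n1⁻¹ * C.el a * n1) by simp only [e]; group]
    exact mul_mem he1' (C.mem_of_mask (by norm_num) hn1 hn1e (by omega) hab.1)
  have b2 : n2⁻¹ * e * n2 ∈ F.E := by
    rw [hee, show n2⁻¹ * (e2 * C.el (q ^^^ a)) * n2 = n2⁻¹ * e2 * n2 * (n2⁻¹ * C.el (q ^^^ a) * n2) by group]
    exact mul_mem he2' (C.mem_of_mask (by norm_num) hn2 hn2e (by omega) hab.2)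
  have hchi : C.chi (F.cls e) = 1 := by
    show C.chi (JankoFour.cls F.ctx (e1 * C.el a)) = 1
    rw [cls_mul F.ctx he1 (C.el_mem_K ha).1, C.chi_add, C.chi_eq_zero.2 (C.el_mem_K ha).2, Nat.xor_zero, hc1]
  have hl := kMasks_links
  simp only [Bool.and_eq_true] at hl
  obtain ⟨⟨⟨⟨l1, l2⟩, l3⟩, l4⟩, l5⟩ := hl
  have z1 : n1⁻¹ * F.z * n1 ∈ F.E := C.el_one ▸ C.mem_of_mask (i := 1) (by norm_num) hn1 hn1e (by norm_num) l3
  have z2 : n2⁻¹ * F.z * n2 ∈ F.E := C.el_one ▸ C.mem_of_mask (i := 2) (by norm_num) hn2 hn2e (by norm_num) l4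
  have inj : ∀ {r r' : ℕ}, r < 2048 → r' < 2048 → r ≠ r' → C.el r ≠ C.el r' :=
    fun h h' hne e => hne (C.el_inj h h' e)
  have y12 : n1⁻¹ * (n2 * F.z * n2⁻¹) * n1 ∈ F.E := by
    rw [hn2e, s2]; exact C.mem_of_mask (i := 1) (by norm_num) hn1 hn1e (by norm_num) l1
  have x12 : n2⁻¹ * (n1 * F.z * n1⁻¹) * n2 ∈ F.E := by
    rw [hn1e, s1]; exact C.mem_of_mask (i := 2) (by norm_num) hn2 hn2e (by norm_num) l2
  have one : ∀ {x : G}, x ∈ F.E → (1 : G)⁻¹ * x * 1 ∈ F.E := fun h => by simpa using h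
  have z0 : (1 : G) * F.z * 1⁻¹ = F.z := by simp
  obtain ⟨n3, hn3, hn3e, b3⟩ := C.step (one_mem _) hn1 (one (by rw [hn1e, s1]; exact (C.el_mem_K (by norm_num)).1))
    (by rw [z0]; exact z1) (by rw [z0]; exact hnz hn1e (by rw [s1]; norm_num) (by rw [s1]; norm_num)) (one heE) b1
  obtain ⟨n4, hn4, hn4e, b4⟩ := C.step (one_mem _) hn2 (one (by rw [hn2e, s2]; exact (C.el_mem_K (by norm_num)).1))
    (by rw [z0]; exact z2) (by rw [z0]; exact hnz hn2e (by rw [s2]; norm_num) (by rw [s2]; norm_num)) (one heE) b2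
  obtain ⟨n5, hn5, hn5e, b5⟩ := C.step hn1 hn2 y12 x12
    (by rw [hn1e, hn2e, s1, s2]; exact inj (by norm_num) (by norm_num) (by norm_num)) b1 b2
  have e5 : n5 * F.z * n5⁻¹ = C.el (seven.getD 5 0) := by rw [hn5e, hn1e, hn2e, s1, s2, ← C.el_xor]; rfl
  have z5 : n5⁻¹ * F.z * n5 ∈ F.E := C.el_one ▸ C.mem_of_mask (i := 5) (by norm_num) hn5 e5 (by norm_num) l5
  obtain ⟨n6, hn6, hn6e, b6⟩ := C.step (one_mem _) hn5
    (one (by rw [e5]; exact (C.el_mem_K (v := 104) (by norm_num)).1)) (by rw [z0]; exact z5)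
    (by rw [z0]; exact hnz e5 (by decide +kernel) (by decide +kernel)) (one heE) b5
  refine ⟨e, heE, sq_one_both (hnz hn1e (by rw [s1]; norm_num) (by rw [s1]; norm_num)) heE b1, hchi, fun i hi => ?_⟩
  interval_cases i
  · exact ⟨1, one_mem _, by rw [z0, s0, C.el_one], one heE⟩
  · exact ⟨n1, hn1, hn1e, b1⟩
  · exact ⟨n2, hn2, hn2e, b2⟩
  · exact ⟨n3, hn3, by rw [hn3e, z0, hn1e, s1, ← C.el_one, ← C.el_xor]; rfl, b3⟩
  · exact ⟨n4, hn4, by rw [hn4e, z0, hn2e, s2, ← C.el_one, ← C.el_xor]; rfl, b4⟩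
  · exact ⟨n5, hn5, e5, b5⟩
  · exact ⟨n6, hn6, by rw [hn6e, z0, e5, ← C.el_one, ← C.el_xor]; rfl, b6⟩

include C in
theorem ncard_cen {e : G} (he : e ∈ F.E) :
    {x | x ∈ S.Vb ∧ Commute e x}.ncard = (cen (C.chi (F.cls e))).length := by
  refine C.ncard_codes (fun x hx => hx.1) fun v hv => ?_
  rw [Set.mem_ofPred_eq, and_iff_right (C.el_mem v), C.commute_el_iff he hv]
  exact ⟨fun h => by rw [h]; exact Nat.beq_refl v, fun h => Nat.eq_of_beq_eq_true h⟩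

include C in
theorem not_mem_Vb {e : G} (he : e ∈ F.E) {m : ℕ} (hm : (cen (C.chi (F.cls e))).length = m) (hlt : m < 2048) :
    e ∉ S.Vb := fun hV => by
  have h := C.ncard_cen he
  rw [hm, show {x | x ∈ S.Vb ∧ Commute e x} = (S.Vb : Set G) from Set.ext fun x =>
    ⟨fun hx => hx.1, fun hx => ⟨hx, S.Vb_comm hV hx⟩⟩, ← Nat.card_coe_set_eq] at h
  rw [SetLike.coe_sort_coe, S.card_Vb] at h
  omega

include C in
/-- The second representative. -/
theorem exists_small : ∃ e ∈ F.E, e * e = 1 ∧ C.chi (F.cls e) = 22 := by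
  obtain ⟨e, he, hc⟩ := C.exists_e (show 22 < 64 by norm_num)
  rcases F.ctx.sq e he with h | h
  · exact ⟨e, he, h, hc⟩
  have hk := C.w0_mem 2
  refine ⟨e * C.w0 2, mul_mem he hk.1, ?_, ?_⟩
  · have hflip : C.w0 2 * e * (C.w0 2)⁻¹ = F.z * e := by
      rw [F.conj_in_E hk.1 he, C.cls_w0, C.B_cw, hc, show decide (zb (par (2 &&& 22)) = 1) = true by decide +kernel,
        pickB_true]
    rw [inv_eq_of_mul_eq_one_right (S.K_sq hk)] at hflip
    rw [show e * C.w0 2 * (e * C.w0 2) = e * (C.w0 2 * e * C.w0 2) by group, hflip, ← mul_assoc,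
      (F.comm_of_mem he).eq, mul_assoc, h, F.ctx.sq_z]
  · show C.chi (JankoFour.cls F.ctx _) = 22
    rw [cls_mul F.ctx he hk.1, C.chi_add, C.chi_eq_zero.2 hk.2, Nat.xor_zero, hc]

include C in
/-- Two involutions of `E` represent the classes of involutions of the quotient. -/
theorem exists_reps : ∃ e1 ∈ F.E, ∃ e2 ∈ F.E, e1 * e1 = 1 ∧ e2 * e2 = 1 ∧ C.chi (F.cls e1) = 1 ∧
    C.chi (F.cls e2) = 22 ∧
    (∀ i < 7, ∃ n ∈ S.NV, n * F.z * n⁻¹ = C.el (seven.getD i 0) ∧ n⁻¹ * e1 * n ∈ F.E) ∧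
    ∀ j ∈ S.NV, j * j ∈ S.Vb → j ∉ S.Vb → ∃ e, (e = e1 ∨ e = e2) ∧
      ∃ n ∈ S.NV, ∃ v ∈ S.Vb, n * j * n⁻¹ = e * v := by
  obtain ⟨ψ, hψ, hker, -⟩ := C.exists_psi
  obtain ⟨e1, he1, q1, hc1, hall⟩ := C.exists_seven
  obtain ⟨e2, he2, q2, hc2⟩ := C.exists_small
  have hcount := cen_count
  rw [Bool.and_eq_true] at hcount
  have k1 : {x | x ∈ S.Vb ∧ Commute e1 x}.ncard = 128 := by
    have h := Nat.eq_of_beq_eq_true hcount.2
    rw [C.ncard_cen he1, hc1]; exact h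
  have k2 : {x | x ∈ S.Vb ∧ Commute e2 x}.ncard = 64 := by
    have h := Nat.eq_of_beq_eq_true hcount.1
    rw [C.ncard_cen he2, hc2]; exact h
  have v1 : e1 ∉ S.Vb := C.not_mem_Vb he1 ((C.ncard_cen he1).symm.trans k1) (by norm_num)
  have v2 : e2 ∉ S.Vb := C.not_mem_Vb he2 ((C.ncard_cen he2).symm.trans k2) (by norm_num)
  have hinv : ∀ {x : G} (hx : x ∈ S.NV), x * x ∈ S.Vb → x ∉ S.Vb → orderOf ((ψ ⟨x, hx⟩ : ↥Cfsg.M24) : Equiv.Perm Cfsg.GolayPt) = 2 := by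
    intro x hx hx2 hxV
    refine orderOf_eq_prime ?_ fun e => hxV ?_
    · have hm : (⟨x, hx⟩ : ↥S.NV) * ⟨x, hx⟩ ∈ ψ.ker := by
        rw [hker, Subgroup.mem_subgroupOf]
        exact hx2
      rw [MonoidHom.mem_ker, map_mul] at hm
      rw [pow_two]
      exact congrArg Subtype.val hm
    · have hm : (⟨x, hx⟩ : ↥S.NV) ∈ ψ.ker := Subtype.ext e
      rwa [hker, Subgroup.mem_subgroupOf] at hm
  -- elements over one involution of the quotient
  have hlift : ∀ {x y : G} (hx : x ∈ S.NV) (hy : y ∈ S.NV),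
      (∃ k ∈ Cfsg.M24, k * ((ψ ⟨x, hx⟩ : ↥Cfsg.M24) : Equiv.Perm Cfsg.GolayPt) * k⁻¹ = (ψ ⟨y, hy⟩ : ↥Cfsg.M24)) →
      ∃ n ∈ S.NV, ∃ v ∈ S.Vb, n * x * n⁻¹ = y * v := by
    rintro x y hx hy ⟨k, hk, hke⟩
    obtain ⟨n, hn⟩ := hψ ⟨k, hk⟩
    refine ⟨n, n.2, y⁻¹ * ((n : G) * x * (n : G)⁻¹), ?_, by group⟩
    have hm : (⟨y, hy⟩ : ↥S.NV)⁻¹ * (n * ⟨x, hx⟩ * n⁻¹) ∈ ψ.ker := by
      rw [MonoidHom.mem_ker, map_mul, map_mul, map_mul, map_inv, map_inv, hn, inv_mul_eq_one]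
      exact Subtype.ext hke.symm
    rwa [hker, Subgroup.mem_subgroupOf] at hm
  have hne : ¬ ∃ n ∈ S.NV, ∃ v ∈ S.Vb, n * e2 * n⁻¹ = e1 * v := by
    rintro ⟨n, hn, v, hv, he⟩
    have hset : (MulAut.conj n) '' {x | x ∈ S.Vb ∧ Commute e2 x} = {x | x ∈ S.Vb ∧ Commute e1 x} := by
      ext y
      constructor
      · rintro ⟨x, ⟨hx, hc⟩, rfl⟩
        refine ⟨S.conj_mem_Vb hn hx, ?_⟩
        have h := (hc.map (MulAut.conj n).toMonoidHom).mul_left (S.Vb_comm hv (S.conj_mem_Vb hn hx))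
        simp only [MulEquiv.coe_toMonoidHom, MulAut.conj_apply] at h
        rw [he, mul_assoc e1, S.Vb_sq hv, mul_one] at h
        exact h
      · rintro ⟨hy, hc⟩
        refine ⟨n⁻¹ * y * n, ⟨by simpa using S.conj_mem_Vb (inv_mem hn) hy, ?_⟩, show n * (n⁻¹ * y * n) * n⁻¹ = y by group⟩
        have h := (hc.mul_left (S.Vb_comm hv hy)).map (MulAut.conj n⁻¹).toMonoidHom
        rw [← he] at h
        simpa [mul_assoc] using h
    have := congrArg Set.ncard hset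
    rw [Set.ncard_image_of_injective _ (MulAut.conj n).injective, k1, k2] at this
    omega
  have g1 := S.E_normalizes he1
  have g2 := S.E_normalizes he2
  have w1 : e1 * e1 ∈ S.Vb := q1.symm ▸ one_mem _
  have w2 : e2 * e2 ∈ S.Vb := q2.symm ▸ one_mem _
  refine ⟨e1, he1, e2, he2, q1, q2, hc1, hc2, hall, fun j hj hj2 hjV => ?_⟩
  set a1 := ((ψ ⟨e1, g1⟩ : ↥Cfsg.M24) : Equiv.Perm Cfsg.GolayPt)
  set a2 := ((ψ ⟨e2, g2⟩ : ↥Cfsg.M24) : Equiv.Perm Cfsg.GolayPt)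
  set aj := ((ψ ⟨j, hj⟩ : ↥Cfsg.M24) : Equiv.Perm Cfsg.GolayPt)
  obtain ⟨-, -, -, hconj⟩ := Cfsg.Lib.Concrete.involution_classes
  have hor : (∃ k ∈ Cfsg.M24, k * aj * k⁻¹ = a1) ∨ ∃ k ∈ Cfsg.M24, k * aj * k⁻¹ = a2 := by
    by_cases h : (∀ p, aj p ≠ p) ↔ ∀ p, a1 p ≠ p
    · exact Or.inl (hconj _ (ψ _).2 _ (ψ _).2 (hinv hj hj2 hjV) (hinv g1 w1 v1) h)
    · refine Or.inr (hconj _ (ψ _).2 _ (ψ _).2 (hinv hj hj2 hjV) (hinv g2 w2 v2) ?_)
      by_contra h'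
      refine hne (hlift g2 g1 (hconj _ (ψ _).2 _ (ψ _).2 (hinv g2 w2 v2) (hinv g1 w1 v1) ?_))
      exact iff_of_neither h h'
  rcases hor with h | h
  · exact ⟨e1, Or.inl rfl, hlift hj g1 h⟩
  · exact ⟨e2, Or.inr rfl, hlift hj g2 h⟩

include C in
/-- An involution outside the standard group moves into `E`, a member of the second class it centralizes with it. -/
theorem into {j t : G} (hj : j ∈ S.NV) (hj2 : j * j = 1) (hjV : j ∉ S.Vb) (ht : t ∈ S.Vb) (ht1 : t ≠ 1)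
    (htnc : ¬ IsConj F.z t) (hc : Commute j t) :
    ∃ n ∈ S.NV, n * j * n⁻¹ ∈ F.E ∧ n * j * n⁻¹ ∉ S.K ∧ n * t * n⁻¹ ∈ S.K := by
  obtain ⟨-, -, -, -, -, hcls, -⟩ := C.model
  obtain ⟨e1, he1, e2, he2, q1, q2, hc1, hc2, hall, hrep⟩ := C.exists_reps
  have main : ∀ {e : G}, e * e = 1 →
      (∃ n ∈ S.NV, ∃ x ∈ S.Vb, n * j * n⁻¹ = e * x) →
      ∃ n ∈ S.NV, ∃ v w : ℕ, v < 2048 ∧ w < 2048 ∧ n * j * n⁻¹ = e * C.el v ∧ n * t * n⁻¹ = C.el w ∧
        Commute e (C.el v) ∧ Commute e (C.el w) ∧ inD w = true := by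
    intro e he2' hk
    obtain ⟨n, hn, x, hx, hnx⟩ := hk
    obtain ⟨v, hv, rfl⟩ := C.exists_el hx
    obtain ⟨w, hw, hwe⟩ := C.exists_el (S.conj_mem_Vb hn ht)
    have hev : Commute e (C.el v) := by
      have h : e * C.el v * (e * C.el v) = 1 := by rw [← hnx]; exact Frame.conj_sq_one hj2
      show e * C.el v = C.el v * e
      rw [← inv_eq_of_mul_eq_one_right h, mul_inv_rev, inv_eq_of_mul_eq_one_right he2',
        inv_eq_of_mul_eq_one_right (S.Vb_sq (C.el_mem v))]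
    refine ⟨n, hn, v, w, hv, hw, hnx, hwe.symm, hev, ?_, ?_⟩
    · have h := (hc.map (MulAut.conj n).toMonoidHom).mul_left (S.Vb_comm (C.el_mem v) (S.conj_mem_Vb hn ht))
      simp only [MulEquiv.coe_toMonoidHom, MulAut.conj_apply] at h
      rw [hnx, mul_assoc, S.Vb_sq (C.el_mem v), mul_one, ← hwe] at h
      exact h
    · by_contra hD
      rw [Bool.not_eq_true] at hD
      refine htnc ?_
      rw [← isConj_conj_iff (g := n), ← hwe, hcls w hw]
      exact ⟨fun h0 => ht1 (by rw [h0, C.el_zero] at hwe; exact conj_eq_one_iff.1 hwe.symm), hD⟩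
  obtain ⟨e, he, h⟩ := hrep j hj (hj2.symm ▸ one_mem _) hjV
  rcases he with he | he <;> rw [he] at h
  · obtain ⟨n, hn, v, w, hv, hw, hnj, hnt, hev, hew, hD⟩ := main q1 h
    rw [C.commute_el_iff he1 hv, hc1] at hev
    rw [C.commute_el_iff he1 hw, hc1] at hew
    have hmem : ∀ {u}, u < 2048 → eAct 1 u = u → u ∈ cen 1 := fun {u} hu h =>
      List.mem_filter.2 ⟨List.mem_range.2 hu, by rw [h]; exact Nat.beq_refl u⟩
    obtain ⟨i, hi, hi'⟩ := List.any_eq_true.1 (List.all_eq_true.1 (List.all_eq_true.1 cen_cover v (hmem hv hev)) w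
      (List.mem_filter.2 ⟨hmem hw hew, hD⟩))
    rw [Bool.and_eq_true] at hi'
    obtain ⟨m, hm, hme, hmE⟩ := hall i (List.mem_range.1 hi)
    have hconjm : ∀ x : G, m⁻¹ * n * x * (m⁻¹ * n)⁻¹ = m⁻¹ * (n * x * n⁻¹) * m := fun x => by group
    refine ⟨m⁻¹ * n, mul_mem (inv_mem hm) hn, ?_, ?_, ?_⟩
    · rw [hconjm, hnj, show m⁻¹ * (e1 * C.el v) * m = m⁻¹ * e1 * m * (m⁻¹ * C.el v * m) by group]
      exact mul_mem hmE (C.mem_of_mask (List.mem_range.1 hi) hm hme hv hi'.1)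
    · intro hK
      refine hjV ?_
      rw [show j = (m⁻¹ * n)⁻¹ * (m⁻¹ * n * j * (m⁻¹ * n)⁻¹) * (m⁻¹ * n) by group]
      simpa using S.conj_mem_Vb (inv_mem (mul_mem (inv_mem hm) hn)) (S.K_le hK)
    · rw [← S.Vb_inf_E]
      refine ⟨S.conj_mem_Vb (mul_mem (inv_mem hm) hn) ht, ?_⟩
      rw [hconjm, hnt]
      exact C.mem_of_mask (List.mem_range.1 hi) hm hme hw hi'.2
  · obtain ⟨n, hn, v, w, hv, hw, hnj, hnt, hev, hew, hD⟩ := main q2 h
    rw [C.commute_el_iff he2 hv, hc2] at hev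
    rw [C.commute_el_iff he2 hw, hc2] at hew
    have hs : ∀ {u}, u < 2048 → eAct 22 u = u → u < 128 := fun {u} hu h => Nat.blt_eq.mp
      (List.all_eq_true.1 cen_small u (List.mem_filter.2 ⟨List.mem_range.2 hu, by rw [h]; exact Nat.beq_refl u⟩))
    refine ⟨n, hn, ?_, ?_, ?_⟩
    · rw [hnj]
      exact mul_mem he2 (C.el_mem_K (hs hv hev)).1
    · intro hK
      refine hjV ?_
      rw [show j = n⁻¹ * (n * j * n⁻¹) * n by group]
      simpa using S.conj_mem_Vb (inv_mem hn) (S.K_le hK)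
    · rw [hnt]
      exact C.el_mem_K (hs hw hew)

end Adapted

end Cfsg.Lib.JankoFour
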