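import Cfsg.Agent.Lib.JankoFour.Singular

/-!
# Two groups of order `2¹¹` in the centralizer of `z` meet `E` in at most eight elements
-/

set_option autoImplicit false
set_option linter.style.haveILetI false
set_option linter.unusedSectionVars false

namespace Cfsg.Lib.JankoFour

open Cfsg Cfsg.Lib.Extra Module

variable {G : Type*} [Group G] [Finite G] {A : Type} [Group A] {I : Subgroup A}

namespace Frame

variable (F : Frame G A I)

/-- An element of `C` of odd prime order fixes no isotropic invariant space of dimension four. -/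
theorem no_fixed_isotropic {x : G} (hx : x ∈ F.C) {q : ℕ} (hq : q.Prime) (hq2 : q ≠ 2) (hxq : x ^ q = 1)
    (hne : F.img x ≠ 1) (L : Submodule (ZMod 2) F.V) (hLd : 4 ≤ finrank (ZMod 2) ↥L) (hiso : L ≤ F.perp L)
    (hfix : ∀ v ∈ L, F.act x v = v) : False := by
  classical
  haveI : FiniteDimensional (ZMod 2) F.V := Module.Finite.of_finite
  haveI : Fact q.Prime := ⟨hq⟩
  letI : Fintype F.V := Fintype.ofFinite _
  obtain ⟨hxz, hxp⟩ := F.mem_C.1 hx
  set U := LinearMap.range (F.disp x) with hU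
  have hUf : ∀ v ∈ F.fix x, ∀ u ∈ U, JankoFour.B F.ctx v u = 0 := by
    rintro v hv _ ⟨w, rfl⟩
    exact F.B_fix_disp hxz hv w
  have hUx : ∀ u ∈ U, F.act x u ∈ U := by
    rintro _ ⟨w, rfl⟩
    exact ⟨F.act x w, by simp only [disp_apply, map_add]⟩
  have hUp : ∀ u ∈ U, F.act F.p u ∈ U := by
    rintro _ ⟨w, rfl⟩
    refine ⟨F.act F.p w, ?_⟩
    rw [disp_apply, disp_apply, map_add, ← act_mul F.ctx hxz F.p_comm, hxp.eq, act_mul F.ctx F.p_comm hxz]
  have hUfix : ∀ u ∈ U, F.act x u = u → u = 0 := by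
    rintro _ ⟨w, rfl⟩ hu
    have h : ∀ n : ℕ, F.act (x ^ (2 * n)) w = w ∧ F.act (x ^ (2 * n + 1)) w = F.disp x w + w := by
      have h1 : F.act x w = F.disp x w + w := by rw [disp_apply, add_assoc, bar_self, add_zero]
      intro n
      induction n with
      | zero => exact ⟨by rw [mul_zero, pow_zero, act_one], by rw [mul_zero, zero_add, pow_one]; exact h1⟩
      | succ n ih =>
        have e : F.act (x ^ (2 * (n + 1))) w = w := by
          rw [show 2 * (n + 1) = 2 * n + 1 + 1 by ring, pow_succ, act_mul F.ctx (hxz.pow_left _) hxz, h1, map_add,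
            F.act_pow_fix hxz hu, ih.2, ← add_assoc, bar_self, zero_add]
        exact ⟨e, by rw [pow_succ', act_mul F.ctx hxz (hxz.pow_left _), e, h1]⟩
    obtain ⟨n, hn⟩ := hq.odd_of_ne_two hq2
    have := (h n).2
    rw [← hn, hxq, act_one] at this
    exact (add_eq_right.1 this.symm)
  have hsum : finrank (ZMod 2) ↥U + finrank (ZMod 2) ↥(F.fix x) = 12 := by
    have := LinearMap.finrank_range_add_finrank_ker (F.disp x)
    rw [F.finrank_V] at this
    exact this
  have hLfix : L ≤ F.fix x := fun v hv => F.mem_ker_disp.2 (hfix v hv)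
  have hle : U ⊔ L ≤ F.perp L := sup_le (fun u hu l hl => hUf l (hLfix hl) u hu) hiso
  have hdisj : U ⊓ L = ⊥ := (Submodule.eq_bot_iff _).2 fun v hv => hUfix v hv.1 (hfix v hv.2)
  have hdim : finrank (ZMod 2) ↥U ≤ 4 := by
    have h1 := Submodule.finrank_sup_add_finrank_inf_eq U L
    have h2 := Submodule.finrank_mono hle
    rw [hdisj, finrank_bot] at h1
    rw [F.finrank_perp] at h2
    omega
  have hpos : finrank (ZMod 2) ↥U ≠ 0 := fun h0 => by
    rw [Submodule.finrank_eq_zero, hU, LinearMap.range_eq_bot] at h0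
    exact hne (F.img_mem (F.mem_E_of_act hxz fun v => F.mem_ker_disp.1 (by rw [LinearMap.mem_ker, h0]; rfl)))
  have hev := F.even_finrank U hUp
  have hmod : 2 ^ finrank (ZMod 2) ↥U ≡ 1 [MOD q] := by
    let f : ↥U → ↥U := fun u => ⟨F.act x u, hUx u u.2⟩
    have hf : Function.Bijective f := (Finite.injective_iff_bijective).1 fun a b h =>
      Subtype.ext (act_injective F.ctx hxz (congrArg Subtype.val h))
    set σ : Equiv.Perm ↥U := Equiv.ofBijective f hf with hσdef
    have hpow : ∀ (n : ℕ) (u : ↥U), ((σ ^ n) u : F.V) = F.act (x ^ n) u := by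
      intro n
      induction n with
      | zero => intro u; rw [pow_zero, pow_zero, act_one]; rfl
      | succ n ih =>
        intro u
        rw [pow_succ', Equiv.Perm.mul_apply, pow_succ', act_mul F.ctx hxz (hxz.pow_left n), ← ih]
        rfl
    have hσ : σ ^ q ^ 1 = 1 := Equiv.ext fun u => Subtype.ext (by rw [pow_one, hpow, hxq, act_one]; rfl)
    have hfix0 : σ.supportᶜ = {0} := by
      ext u
      rw [Finset.mem_compl, Equiv.Perm.notMem_support, Finset.mem_singleton]
      refine ⟨fun h => Subtype.ext (hUfix u u.2 (congrArg Subtype.val h)), fun h => ?_⟩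
      subst h
      exact Subtype.ext (map_zero _)
    have h := Equiv.Perm.card_compl_support_modEq (p := q) (n := 1) hσ
    rw [hfix0, Finset.card_singleton, ← Nat.card_eq_fintype_card, F.card_sub] at h
    exact h.symm
  obtain ⟨j, hj⟩ := hev
  have hj2 : j = 1 ∨ j = 2 := by omega
  have hq15 : q ∣ 15 := by
    have := (Nat.modEq_iff_dvd' (Nat.one_le_two_pow)).1 hmod.symm
    rcases hj2 with rfl | rfl <;> rw [hj] at this
    · exact dvd_trans this (by norm_num)
    · exact this
  rcases (show q = 3 ∨ q = 5 by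
    have h1 := Nat.le_of_dvd (by norm_num) hq15
    interval_cases q <;> first | omega | (revert hq hq15; decide)) with rfl | rfl
  · have := (F.finrank_fix_three hx hxq hne).1
    omega
  · have hd4 : finrank (ZMod 2) ↥U = 4 := by
      rcases hj2 with rfl | rfl
      · exfalso
        rw [hj, Nat.ModEq] at hmod
        norm_num at hmod
      · exact hj
    let W' := {v : F.V // v ∈ U ∧ v ≠ 0}
    have hcardW : Fintype.card W' = 15 := by
      have e : Nat.card W' = ((U : Set F.V) \ {0}).ncard := rfl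
      rw [← Nat.card_eq_fintype_card, e, Set.ncard_sdiff_singleton_of_mem (zero_mem U), ← Nat.card_coe_set_eq]
      show Nat.card ↥U - 1 = 15
      rw [F.card_sub, hd4]
      norm_num
    let f : F.V → ℤ := fun v => if JankoFour.qf F.ctx v = 0 then 1 else -1
    have h15 := F.fifteen_dvd hxz hxp hxq U hUx hUp hUfix f
      (fun v => by simp only [f, qf_act F.ctx hxz]) fun v => by simp only [f, qf_act F.ctx F.p_comm]
    set N := (Finset.univ.filter fun v : W' => JankoFour.qf F.ctx (v : F.V) ≠ 0)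
    have hsum15 : (∑ v : W', f v) = 15 - 2 * (N.card : ℤ) := by
      have e : ∀ v : W', f v = 1 - 2 * (if JankoFour.qf F.ctx (v : F.V) ≠ 0 then (1 : ℤ) else 0) := fun v => by
        simp only [f]
        by_cases h : JankoFour.qf F.ctx (v : F.V) = 0 <;> simp [h]
      simp only [e, Finset.sum_sub_distrib, ← Finset.mul_sum, Finset.sum_boole, Finset.sum_const, Finset.card_univ,
        hcardW, N]
      norm_num
    rw [hsum15] at h15
    have hN : N.card ≤ 15 := hcardW ▸ Finset.card_le_univ N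
    rcases (show N.card = 0 ∨ N.card = 15 by omega) with h0 | h0
    · -- totally singular
      have hs : ∀ u ∈ U, JankoFour.qf F.ctx u = 0 := by
        intro u hu
        by_cases hu0 : u = 0
        · rw [hu0, qf_zero]
        · by_contra h
          exact (Finset.card_eq_zero.1 h0 ▸ Finset.notMem_empty (⟨u, hu, hu0⟩ : W'))
            (Finset.mem_filter.2 ⟨Finset.mem_univ _, h⟩)
      have hperp : U ⊔ F.fix x = ⊤ := by
        refine Submodule.eq_top_of_finrank_eq ?_
        have h1 := Submodule.finrank_sup_add_finrank_inf_eq U (F.fix x)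
        rw [show U ⊓ F.fix x = ⊥ from (Submodule.eq_bot_iff _).2 fun v hv => hUfix v hv.1 (F.mem_ker_disp.1 hv.2),
          finrank_bot] at h1
        rw [F.finrank_V]
        omega
      obtain ⟨u, hu, hu0⟩ := (Submodule.ne_bot_iff U).1 fun e => hpos (by rw [e, finrank_bot])
      refine hu0 ((B_nondegenerate F.ctx).2 u fun v => ?_)
      obtain ⟨a, ha, b, hb, rfl⟩ := Submodule.mem_sup.1 (hperp.ge (Submodule.mem_top (x := v)))
      rw [map_add, LinearMap.add_apply, hUf b hb u hu, add_zero]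
      have := qf_add F.ctx a u
      rw [hs a ha, hs u hu, hs _ (add_mem ha hu), zero_add, zero_add] at this
      exact this.symm
    · -- anisotropic
      have ha : ∀ u ∈ U, u ≠ 0 → JankoFour.qf F.ctx u = 1 := fun u hu hu0 => by
        have hm : (⟨u, hu, hu0⟩ : W') ∈ N := by
          rw [Finset.eq_univ_of_card N (h0.trans hcardW.symm)]
          exact Finset.mem_univ _
        exact (bit _).resolve_left (Finset.mem_filter.1 hm).2
      have hB : ∀ u ∈ U, ∀ w ∈ U, u ≠ 0 → w ≠ 0 → u + w ≠ 0 → JankoFour.B F.ctx u w = 1 := by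
        intro u hu w hw hu0 hw0 huw
        have := qf_add F.ctx u w
        rw [ha u hu hu0, ha w hw hw0, ha _ (add_mem hu hw) huw, bit_self, zero_add] at this
        exact this.symm
      obtain ⟨u, hu, hu0⟩ := (Submodule.ne_bot_iff U).1 fun e => hpos (by rw [e, finrank_bot])
      obtain ⟨⟨w, hw, hw0⟩, hwu⟩ : ∃ w : W', (w : F.V) ≠ u :=
        (Fintype.exists_ne_of_one_lt_card (hcardW.symm ▸ (by norm_num : 1 < 15)) (⟨u, hu, hu0⟩ : W')).imp fun w h e => h (Subtype.ext e)
      obtain ⟨⟨y, hy, hy0⟩, hyn⟩ : ∃ y : W', (y : F.V) ∉ ({u, w, u + w} : Finset F.V) := by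
        by_contra hcon
        simp only [not_exists, not_not] at hcon
        have hh := Fintype.card_le_of_injective (fun y : W' => (⟨y, hcon y⟩ : ({u, w, u + w} : Finset F.V)))
          fun a b e => Subtype.ext (congrArg (fun s : ({u, w, u + w} : Finset F.V) => (s : F.V)) e)
        rw [hcardW, Fintype.card_coe] at hh
        exact absurd (hh.trans Finset.card_le_three) (by norm_num)
      simp only [Finset.mem_insert, Finset.mem_singleton, not_or] at hyn
      obtain ⟨hyu, hyw, hyuw⟩ := hyn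
      have hne : ∀ {a b : F.V}, a ≠ b → a + b ≠ 0 := fun h e => h ((add_eq_zero_iff_eq' F.ctx).1 e)
      have hsum3 : u + (w + y) ≠ 0 := hne fun e => hyuw (by rw [e, add_comm w y, add_assoc, bar_self, add_zero])
      have h := hB u hu (w + y) (add_mem hw hy) hu0 (hne (Ne.symm hyw)) hsum3
      rw [map_add, hB u hu w hw hu0 hw0 (hne (Ne.symm hwu)), hB u hu y hy hu0 hy0 (hne (Ne.symm hyu)), bit_self] at h
      exact zero_ne_one h

end Frame

namespace Std

variable {F : Frame G A I} {D : HexData A I} (S : Std F D)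

include S in
/-- Different groups of order `2¹¹` meet `E` in at most eight elements. -/
theorem meet_le {V V' : Subgroup G} (hV : F.IsEleven V) (hV' : F.IsEleven V') (hne : V ≠ V') :
    Nat.card ↥(V ⊓ V' ⊓ F.E) ≤ 8 := by
  haveI : Fact (Nat.Prime 2) := ⟨Nat.prime_two⟩
  haveI := F.finite_A
  set K0 := V ⊓ V' ⊓ F.E
  by_contra hlt
  have hz : F.z ∈ K0 := ⟨⟨S.eleven_z hV, S.eleven_z hV'⟩, F.ctx.mem⟩
  set L := F.clsSub K0 inf_le_right
  have hcard : 2 * 2 ^ finrank (ZMod 2) ↥L = Nat.card ↥K0 := by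
    rw [← F.card_sub]
    exact F.card_clsSub inf_le_right hz
  have hd : 3 ≤ finrank (ZMod 2) ↥L := by
    by_contra h
    have h2 := Nat.pow_le_pow_right (show 1 ≤ 2 by norm_num) (show finrank (ZMod 2) ↥L ≤ 2 by omega)
    norm_num at h2
    omega
  have hLp : ∀ v ∈ L, F.act F.p v ∈ L := by
    rintro _ ⟨a, ha, rfl⟩
    exact ⟨F.p * a * F.p⁻¹, ⟨⟨(Subgroup.mem_normalizer_iff.1 (S.eleven_p hV) a).1 ha.1.1,
      (Subgroup.mem_normalizer_iff.1 (S.eleven_p hV') a).1 ha.1.2⟩, F.conj_mem F.p_comm ha.2⟩,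
      (act_cls F.ctx F.p_comm ha.2).symm⟩
  obtain ⟨j, hj⟩ := F.even_finrank L hLp
  have hiso : L ≤ F.perp L := by
    rintro _ ⟨a, ha, rfl⟩ _ ⟨b, hb, rfl⟩
    exact (B_cls F.ctx hb.2 ha.2).2 (commute_of_sq hV.2.1 hb.1.1 ha.1.1)
  -- the join centralizes the meet and maps into `I`
  let M : Subgroup G :=
    { carrier := {x | Commute x F.z ∧ F.img x ∈ I}
      one_mem' := ⟨Commute.one_left _, by rw [F.img_one]; exact one_mem _⟩
      mul_mem' := fun ⟨hx, hx'⟩ ⟨hy, hy'⟩ => ⟨hx.mul_left hy, by rw [F.img_mul _ _ hx hy]; exact mul_mem hx' hy'⟩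
      inv_mem' := fun ⟨hx, hx'⟩ => ⟨hx.inv_left, by rw [F.img_inv hx]; exact inv_mem hx'⟩ }
  have hVM : ∀ {W : Subgroup G}, F.IsEleven W → W ≤ M := by
    intro W hW x hx
    obtain ⟨T, U, hTI, -, -, hT, -⟩ := F.eleven_data hW.1 hW.2.1 hW.2.2
    exact ⟨hW.1 x hx, hTI ((hT _).2 ⟨x, hx, rfl⟩)⟩
  set P := V ⊔ V'
  have hPM : P ≤ M := sup_le (hVM hV) (hVM hV')
  have hcent : ∀ x ∈ P, ∀ a ∈ K0, Commute x a := fun x hx a ha => Subgroup.mem_centralizer_singleton_iff.1
    ((sup_le (fun y hy => Subgroup.mem_centralizer_singleton_iff.2 (commute_of_sq hV.2.1 hy ha.1.1))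
      fun y hy => Subgroup.mem_centralizer_singleton_iff.2 (commute_of_sq hV'.2.1 hy ha.1.2) :
      P ≤ Subgroup.centralizer ({a} : Set G)) hx)
  have hfixL : ∀ x ∈ P, ∀ v ∈ L, F.act x v = v := by
    rintro x hx _ ⟨a, ha, rfl⟩
    exact F.act_fix (hPM hx).1 ha.2 (hcent x hx a ha)
  have hkey : ∀ i : ℕ, (∀ v ∈ L, F.act (F.p ^ i) v = v) → 3 ∣ i := by
    intro i hi
    by_contra h3
    obtain ⟨v, hv, hv0⟩ := (Submodule.ne_bot_iff L).1 fun e => by rw [e, finrank_bot] at hd; omega
    have h2 := F.act_pow_fix (F.p_comm.pow_left i) (hi v hv) i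
    rw [← pow_mul, show F.p ^ (i * i) = F.p by
      rw [← pow_mod_orderOf, F.p_ord, Nat.mul_mod]
      rcases (show i % 3 = 1 ∨ i % 3 = 2 by omega) with e | e <;> rw [e] <;> norm_num] at h2
    exact hv0 (F.act_p_eq h2)
  let θ : ↥P →* A := MonoidHom.mk' (fun x => F.img x) fun x y => F.img_mul _ _ (hPM x.2).1 (hPM y.2).1
  by_cases hp : IsPGroup 2 ↥θ.range
  · -- a 2-group
    have hker : θ.ker.map P.subtype ≤ F.E := by
      rintro _ ⟨x, hx, rfl⟩
      obtain ⟨e, he, i, hxe⟩ := (F.img_ker (x : G) (hPM x.2).1).1 hx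
      have h3 := hkey i fun v hv => by
        have := hfixL x x.2 v hv
        rwa [hxe, act_mul F.ctx (F.comm_of_mem he) (F.p_comm.pow_left i), act_of_mem F.ctx he] at this
      show (x : G) ∈ F.E
      rw [hxe, F.p_pow_eq_one.2 h3, mul_one]
      exact he
    obtain ⟨a, ha⟩ := IsPGroup.iff_card.1 hp
    obtain ⟨b, hb⟩ := IsPGroup.iff_card.1 (F.ctx.two.to_le hker)
    rw [Subgroup.card_map_of_injective P.subtype_injective] at hb
    have hP : IsPGroup 2 ↥P := IsPGroup.of_card (n := a + b) (by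
      rw [← θ.ker.index_mul_card, Subgroup.index_ker, ha, hb, pow_add])
    exact hne (S.two_group_unique hP ⟨hV.2.1, hV.2.2⟩ ⟨hV'.2.1, hV'.2.2⟩ le_sup_left le_sup_right)
  · -- an element of odd order
    obtain ⟨q, hq, hqd, hq2⟩ : ∃ q, q.Prime ∧ q ∣ Nat.card ↥θ.range ∧ q ≠ 2 := by
      by_contra hcon
      refine hp (IsPGroup.of_card (n := (Nat.card ↥θ.range).primeFactorsList.length) ?_)
      refine Nat.eq_prime_pow_of_unique_prime_dvd Nat.card_pos.ne' fun {d} hd' hdd => ?_
      by_contra h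
      exact hcon ⟨d, hd', hdd, h⟩
    haveI : Fact q.Prime := ⟨hq⟩
    obtain ⟨⟨_, x, rfl⟩, hord⟩ := exists_prime_orderOf_dvd_card' q hqd
    rw [← Subgroup.orderOf_coe] at hord
    have hord' : orderOf (F.img (x : G)) = q := hord
    obtain ⟨hxz, hxI⟩ := hPM x.2
    obtain ⟨c, hc, hci⟩ := F.mem_I_iff.1 hxI
    obtain ⟨hcz, hcp⟩ := F.mem_C.1 hc
    obtain ⟨e, he, i, hei⟩ := (F.img_ker (c⁻¹ * x) (hcz.inv_left.mul_left hxz)).1
      (by rw [F.img_mul _ _ hcz.inv_left hxz, F.img_inv hcz, hci, inv_mul_cancel])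
    -- a member of `C` with the same action
    have hyC : c * F.p ^ i ∈ F.C := mul_mem hc (pow_mem F.p_mem_C i)
    set y := c * F.p ^ i
    obtain ⟨hyz, hyp⟩ := F.mem_C.1 hyC
    have hyi : F.img y = F.img (x : G) := by
      rw [F.img_mul _ _ hcz (F.p_comm.pow_left i), F.img_p_pow, mul_one, hci]
    have hyfix : ∀ v ∈ L, F.act y v = v := fun v hv => by
      have h := hfixL x x.2 v hv
      rw [show (x : G) = c * (e * F.p ^ i) by rw [← hei, mul_inv_cancel_left],
        act_mul F.ctx hcz ((F.comm_of_mem he).mul_left (F.p_comm.pow_left i)),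
        act_mul F.ctx (F.comm_of_mem he) (F.p_comm.pow_left i), act_of_mem F.ctx he] at h
      rw [act_mul F.ctx hcz (F.p_comm.pow_left i), h]
    have hyq : F.img (y ^ q) = 1 := by rw [F.img_pow hyz, hyi, ← hord', pow_orderOf_eq_one]
    have h2q : (y ^ 2) ^ q = 1 := by
      obtain ⟨k, hk⟩ := F.ker_C (pow_mem hyC q) hyq
      have h3 := hkey k fun v hv => by
        have := F.act_pow_fix hyz (hyfix v hv) q
        rcases hk with h | h <;> rw [h] at this
        · exact this
        · rwa [act_mul F.ctx (Commute.refl _) (F.p_comm.pow_left k), act_of_mem F.ctx F.ctx.mem] at this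
      rw [← pow_mul, mul_comm, pow_mul]
      rcases hk with h | h <;> rw [h, F.p_pow_eq_one.2 h3]
      · exact one_pow 2
      · rw [mul_one, pow_two, F.ctx.sq_z]
    refine F.no_fixed_isotropic (pow_mem hyC 2) hq hq2 h2q ?_ L (by omega) hiso
      fun v hv => F.act_pow_fix hyz (hyfix v hv) 2
    rw [F.img_pow hyz, hyi]
    intro h
    have h1 := orderOf_dvd_of_pow_eq_one h
    rw [hord'] at h1
    exact hq2 ((Nat.prime_dvd_prime_iff_eq hq Nat.prime_two).1 h1)

end Std

end Cfsg.Lib.JankoFour
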