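import Cfsg.Agent.Lib.JankoFour.Inverters
import Cfsg.Agent.Lib.JankoFour.Into
import Cfsg.Agent.Lib.JankoFour.Meet
import Cfsg.Agent.Lib.Solv.GaschutzAbelian

/-!
# The normalizer of the standard group splits

A Sylow 2-subgroup of the quotient lifts to a group of order `2¹⁰` meeting the standard group trivially.
-/

set_option autoImplicit false
set_option linter.style.haveILetI false
set_option linter.unusedSectionVars false

namespace Cfsg.Lib.JankoFour

open Cfsg Cfsg.Lib.Extra Module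

variable {G : Type*} [Group G] [Finite G] {A : Type} [Group A] {I : Subgroup A}

theorem commute_pickB {H : Type*} [Monoid H] {x y : H} (h : Commute x y) (i j : Bool) :
    Commute (pickB i x) (pickB j y) := by
  cases i <;> cases j <;> simp [pickB, h]

/-- Four involutions with the relations of `D₈ × 2` generate a group of normal forms. -/
structure Quad (G : Type*) [Group G] where
  /-- First. -/
  u : G
  /-- Second. -/
  v : G
  /-- The central one. -/
  r : G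
  /-- The swapping one. -/
  a : G
  u2 : u * u = 1
  v2 : v * v = 1
  r2 : r * r = 1
  a2 : a * a = 1
  uv : Commute u v
  ru : Commute r u
  rv : Commute r v
  ra : Commute r a
  au : a * u * a⁻¹ = v
  av : a * v * a⁻¹ = u

namespace Quad

variable (Q : Quad G)

/-- The normal form. -/
def val (q : Bool × Bool × Bool × Bool) : G :=
  pickB q.1 Q.u * pickB q.2.1 Q.v * pickB q.2.2.1 Q.r * pickB q.2.2.2 Q.a

/-- The product of normal forms. -/
def mulQ (q q' : Bool × Bool × Bool × Bool) : Bool × Bool × Bool × Bool :=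
  (xor q.1 (if q.2.2.2 then q'.2.1 else q'.1), xor q.2.1 (if q.2.2.2 then q'.1 else q'.2.1),
    xor q.2.2.1 q'.2.2.1, xor q.2.2.2 q'.2.2.2)

/-- The inverse of a normal form. -/
def invQ (q : Bool × Bool × Bool × Bool) : Bool × Bool × Bool × Bool :=
  (if q.2.2.2 then q.2.1 else q.1, if q.2.2.2 then q.1 else q.2.1, q.2.2.1, q.2.2.2)

theorem val_one : Q.val (false, false, false, false) = 1 := by simp [val, pickB]

theorem val_mul (q q' : Bool × Bool × Bool × Bool) : Q.val q * Q.val q' = Q.val (mulQ q q') := by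
  obtain ⟨i, j, k, l⟩ := q
  obtain ⟨i', j', k', l'⟩ := q'
  simp only [val, mulQ]
  have push : pickB l Q.a * (pickB i' Q.u * pickB j' Q.v) =
      pickB (if l then j' else i') Q.u * pickB (if l then i' else j') Q.v * pickB l Q.a := by
    cases l
    · simp [pickB]
    · have e1 : Q.a * pickB i' Q.u * Q.a⁻¹ = pickB i' Q.v := by cases i' <;> simp [pickB, Q.au]
      have e2 : Q.a * pickB j' Q.v * Q.a⁻¹ = pickB j' Q.u := by cases j' <;> simp [pickB, Q.av]
      calc pickB true Q.a * (pickB i' Q.u * pickB j' Q.v)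
          = Q.a * pickB i' Q.u * Q.a⁻¹ * (Q.a * pickB j' Q.v * Q.a⁻¹) * Q.a := by
            rw [pickB_true]; group
        _ = pickB i' Q.v * pickB j' Q.u * Q.a := by rw [e1, e2]
        _ = pickB j' Q.u * pickB i' Q.v * Q.a := by rw [(commute_pickB Q.uv.symm i' j').eq]
        _ = _ := by simp [pickB_true]
  set i'' := if l then j' else i'
  set j'' := if l then i' else j'
  have hka : Commute (pickB l Q.a) (pickB k' Q.r) := commute_pickB Q.ra.symm l k'
  have hku : Commute (pickB k Q.r) (pickB i'' Q.u * pickB j'' Q.v) :=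
    (commute_pickB Q.ru k i'').mul_right (commute_pickB Q.rv k j'')
  have huv : Commute (pickB j Q.v) (pickB i'' Q.u) := commute_pickB Q.uv.symm j i''
  calc pickB i Q.u * pickB j Q.v * pickB k Q.r * pickB l Q.a *
        (pickB i' Q.u * pickB j' Q.v * pickB k' Q.r * pickB l' Q.a)
      = pickB i Q.u * pickB j Q.v * pickB k Q.r *
          (pickB l Q.a * (pickB i' Q.u * pickB j' Q.v)) * pickB k' Q.r * pickB l' Q.a := by group
    _ = pickB i Q.u * pickB j Q.v * (pickB k Q.r * (pickB i'' Q.u * pickB j'' Q.v)) *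
          (pickB l Q.a * pickB k' Q.r) * pickB l' Q.a := by rw [push]; group
    _ = pickB i Q.u * (pickB j Q.v * pickB i'' Q.u) * pickB j'' Q.v * (pickB k Q.r * pickB k' Q.r) *
          (pickB l Q.a * pickB l' Q.a) := by rw [hku.eq, hka.eq]; group
    _ = _ := by
      rw [huv.eq, pickB_xor Q.u2, pickB_xor Q.v2, pickB_xor Q.r2, pickB_xor Q.a2]
      group

theorem mulQ_invQ : ∀ q, mulQ q (invQ q) = (false, false, false, false) := by decide

theorem eq_of_mulQ : ∀ q q', mulQ q (invQ q') = (false, false, false, false) → q = q' := by decide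

theorem val_inv (q : Bool × Bool × Bool × Bool) : (Q.val q)⁻¹ = Q.val (invQ q) :=
  inv_eq_of_mul_eq_one_right (by rw [val_mul, mulQ_invQ, val_one])

end Quad

namespace Frame

variable (F : Frame G A I)

/-- A kernel element of `C` commuting with an inverter is trivial or `z`. -/
theorem ker_fixed {r k : G} (hr : F.Inverts r) (hk : k ∈ F.C) (h : F.img k = 1) (hc : Commute r k) :
    k = 1 ∨ k = F.z := by
  obtain ⟨i, e⟩ := F.ker_C hk h
  have hp : Commute r (F.p ^ i) := by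
    rcases e with e | e
    · rwa [e] at hc
    · rw [e] at hc
      simpa using hr.1.inv_right.mul_right hc
  have h2 := F.inverts_p_pow hr i
  rw [hp.eq, mul_inv_cancel_right] at h2
  have h0 : F.p ^ i = 1 := F.p_pow_sq (Or.inl (by nth_rewrite 1 [h2]; exact inv_mul_cancel _))
  rcases e with e | e <;> rw [e, h0]
  exacts [Or.inl rfl, Or.inr (mul_one _)]

/-- An element normalizing `⟨p⟩`. -/
def Norms (F : Frame G A I) (x : G) : Prop := Commute x F.p ∨ x * F.p * x⁻¹ = F.p⁻¹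

theorem norms_mul {x y : G} (hx : F.Norms x) (hy : F.Norms y) : F.Norms (x * y) := by
  have key : x * y * F.p * (x * y)⁻¹ = x * (y * F.p * y⁻¹) * x⁻¹ := by group
  have hi : x * F.p⁻¹ * x⁻¹ = (x * F.p * x⁻¹)⁻¹ := by group
  rcases hy with hy | hy
  · rw [hy.eq, mul_inv_cancel_right] at key
    rcases hx with hx | hx
    · exact Or.inl (hx.mul_left hy)
    · exact Or.inr (key.trans hx)
  · rw [hy, hi] at key
    rcases hx with hx | hx
    · rw [hx.eq, mul_inv_cancel_right] at key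
      exact Or.inr key
    · rw [hx, inv_inv] at key
      exact Or.inl (mul_inv_eq_iff_eq_mul.1 key)

/-- Conjugation by an element normalizing `⟨p⟩` preserves trivial norms. -/
theorem nrm_conj {m k : G} (hm : F.Norms m) (hk : F.nrm k = 1)
    (hc : Commute (F.p * k * F.p⁻¹) (F.p * F.p * k * (F.p * F.p)⁻¹)) : F.nrm (m * k * m⁻¹) = 1 := by
  have h3 : F.p * F.p * F.p = 1 := by rw [← pow_two, ← pow_succ]; exact F.p_cube
  rcases hm with hm | hm
  · have e1 : F.p * (m * k * m⁻¹) * F.p⁻¹ = m * (F.p * k * F.p⁻¹) * m⁻¹ := by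
      calc F.p * (m * k * m⁻¹) * F.p⁻¹ = (F.p * m) * k * (F.p * m)⁻¹ := by group
        _ = (m * F.p) * k * (m * F.p)⁻¹ := by rw [hm.eq]
        _ = _ := by group
    have e2 : F.p * F.p * (m * k * m⁻¹) * (F.p * F.p)⁻¹ = m * (F.p * F.p * k * (F.p * F.p)⁻¹) * m⁻¹ := by
      have hm2 := hm.mul_right hm
      calc F.p * F.p * (m * k * m⁻¹) * (F.p * F.p)⁻¹ = (F.p * F.p * m) * k * (F.p * F.p * m)⁻¹ := by group
        _ = (m * (F.p * F.p)) * k * (m * (F.p * F.p))⁻¹ := by rw [hm2.eq]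
        _ = _ := by group
    calc F.nrm (m * k * m⁻¹) = m * F.nrm k * m⁻¹ := by rw [nrm, e1, e2, nrm]; group
      _ = 1 := by rw [hk, mul_one, mul_inv_cancel]
  · have hp : F.p * m = m * (F.p * F.p) := by
      have e := mul_inv_eq_iff_eq_mul.1 hm
      calc F.p * m = F.p * (F.p * (m * F.p)) := by rw [e]; group
        _ = (F.p * F.p * F.p) * (F.p⁻¹ * (m * F.p)) := by group
        _ = F.p⁻¹ * m * F.p := by rw [h3, one_mul, ← mul_assoc]
        _ = m * (F.p * F.p) := by rw [← e]; group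
    have hpp : F.p * F.p * m = m * F.p := by
      calc F.p * F.p * m = F.p * (m * (F.p * F.p)) := by rw [mul_assoc, hp]
        _ = m * F.p * (F.p * F.p * F.p) := by rw [← mul_assoc, hp]; group
        _ = m * F.p := by rw [h3, mul_one]
    have e1 : F.p * (m * k * m⁻¹) * F.p⁻¹ = m * (F.p * F.p * k * (F.p * F.p)⁻¹) * m⁻¹ := by
      calc F.p * (m * k * m⁻¹) * F.p⁻¹ = (F.p * m) * k * (F.p * m)⁻¹ := by group
        _ = _ := by rw [hp]; group
    have e2 : F.p * F.p * (m * k * m⁻¹) * (F.p * F.p)⁻¹ = m * (F.p * k * F.p⁻¹) * m⁻¹ := by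
      calc F.p * F.p * (m * k * m⁻¹) * (F.p * F.p)⁻¹ = (F.p * F.p * m) * k * (F.p * F.p * m)⁻¹ := by group
        _ = _ := by rw [hpp]; group
    calc F.nrm (m * k * m⁻¹) = m * (k * (F.p * F.p * k * (F.p * F.p)⁻¹ * (F.p * k * F.p⁻¹))) * m⁻¹ := by
          rw [nrm, e1, e2]; group
      _ = m * F.nrm k * m⁻¹ := by rw [← hc.eq, nrm, mul_assoc k]
      _ = 1 := by rw [hk, mul_one, mul_inv_cancel]

end Frame

namespace Std

variable {F : Frame G A I} {D : HexData A I} (S : Std F D)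

/-- The elements of `K` of trivial norm. -/
def N1 : Subgroup G where
  carrier := {k | k ∈ S.K ∧ F.nrm k = 1}
  one_mem' := ⟨one_mem _, F.nrm_one⟩
  mul_mem' := fun ha hb => ⟨mul_mem ha.1 hb.1, by rw [S.nrm_mul ha.1 hb.1, ha.2, hb.2, one_mul]⟩
  inv_mem' := fun {a} ha => by rwa [Set.mem_ofPred_eq, inv_eq_of_mul_eq_one_right (S.K_sq ha.1)]

theorem card_N1 : Nat.card ↥S.N1 = 64 := by
  rw [show (64 : ℕ) = 2 ^ finrank (ZMod 2) ↥S.W by rw [S.finrank_W]; norm_num, ← F.card_sub]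
  refine Nat.card_congr (Equiv.ofBijective (fun k : ↥S.N1 => (⟨F.cls k, k.2.1.2⟩ : ↥S.W)) ⟨fun a b e => ?_, fun w => ?_⟩)
  · exact Subtype.ext (S.norm_one_unique a.2.1 b.2.1 (congrArg Subtype.val e) a.2.2 b.2.2)
  · obtain ⟨a, ha, e, h1⟩ := S.exists_norm_one w.2
    exact ⟨⟨a, ha, h1⟩, Subtype.ext e⟩

end Std

namespace Adapted

variable {F : Frame G A I} {D : HexData A I} {S : Std F D} (C : Adapted S)

include C in
/-- Involutions inverting `p` over each of the four outer involutions. -/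
theorem exists_outer (i : Fin 4) : ∃ y, F.Inverts y ∧ F.img y = D.s i ∧ y * y = 1 := by
  obtain ⟨x, hx, hxi⟩ := F.img_surj (D.s 0)
  obtain ⟨e, he, hn⟩ := F.exists_normalizing hx
  have hez := F.comm_of_mem he
  set y0 := e * x
  have hy0i : F.img y0 = D.s 0 := by rw [F.img_mul _ _ hez hx, F.img_mem he, one_mul, hxi]
  have hy0z : Commute y0 F.z := hez.mul_left hx
  have hy0 : F.Inverts y0 := ⟨hy0z, hn.resolve_left fun h =>
    D.s_out 0 (hy0i ▸ F.mem_I_iff.2 ⟨y0, F.mem_C.2 ⟨hy0z, h⟩, rfl⟩)⟩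
  have hsqV : y0 * y0 ∈ S.Vb := by
    rcases F.ker_fixed hy0 (F.inverts_mul hy0 hy0) (by rw [F.img_mul _ _ hy0z hy0z, hy0i, D.s_sq])
      ((Commute.refl y0).mul_right (Commute.refl y0)) with h | h <;> rw [h]
    exacts [one_mem _, S.z_mem]
  have hNV : y0 ∈ S.NV := S.normalizes hy0z (by rw [hy0i]; exact D.s_T 0)
  have hnV : y0 ∉ S.Vb := fun h => D.s_out 0 (hy0i ▸ D.T_le (S.Vb_img h))
  obtain ⟨e1, he1, e2, he2, q1, q2, -, -, -, hrep⟩ := C.exists_reps
  obtain ⟨f, hf, n, hn', v, hv, hjv⟩ := hrep y0 hNV hsqV hnV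
  have hf2 : f * f = 1 := by rcases hf with h | h <;> rw [h] <;> assumption
  set v' := n⁻¹ * v * n with hv'
  have hv'V : v' ∈ S.Vb := by
    have := S.conj_mem_Vb (inv_mem hn') hv
    rwa [inv_inv] at this
  set j := y0 * v' with hj
  have hv'2 := S.Vb_sq hv'V
  have hjf : j = n⁻¹ * f * n := by
    calc j = n⁻¹ * (n * y0 * n⁻¹) * v * n := by rw [hj, hv']; group
      _ = n⁻¹ * f * (v * v) * n := by rw [hjv]; group
      _ = _ := by rw [S.Vb_sq hv, mul_one]
  have hj2 : j * j = 1 := by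
    rw [hjf]
    calc n⁻¹ * f * n * (n⁻¹ * f * n) = n⁻¹ * (f * f) * n := by group
      _ = 1 := by rw [hf2]; group
  have hjz : Commute j F.z := hy0z.mul_left (S.Vb_z hv'V)
  have hji : F.img j = D.s 0 * F.img v' := by rw [hj, F.img_mul _ _ hy0z (S.Vb_z hv'V), hy0i]
  obtain ⟨b, hb, hbe⟩ := D.s_coset _ (S.Vb_img hv'V) (by rw [← hji, ← F.img_mul _ _ hjz hjz, hj2, F.img_one])
  obtain ⟨c, hc, rfl⟩ := S.lift hb
  have hcz := S.X_z hc
  set j' := c⁻¹ * j * c with hj'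
  have hj'z : Commute j' F.z := (hcz.inv_left.mul_left hjz).mul_left hcz
  have hj'i : F.img j' = D.s 0 := by
    rw [hj', F.img_mul _ _ (hcz.inv_left.mul_left hjz) hcz, F.img_mul _ _ hcz.inv_left hjz, F.img_inv hcz, hji,
      ← hbe]
    group
  obtain ⟨e', he', hinv, hsq⟩ := F.exists_inverter hj'z (by
    rw [hj', show c⁻¹ * j * c * (c⁻¹ * j * c) = c⁻¹ * (j * j) * c by group, hj2]; group)
    (hj'i ▸ D.s_out 0)
  set y := e' * j'
  have hyi : F.img y = D.s 0 := by rw [F.img_mul _ _ (F.comm_of_mem he') hj'z, F.img_mem he', one_mul, hj'i]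
  -- transport to the others
  obtain ⟨h, hh⟩ := D.s_conj i
  obtain ⟨w, hw, rfl⟩ := F.img_surj h
  obtain ⟨g, hg, hgn⟩ := F.exists_normalizing hw
  have hgz := F.comm_of_mem hg
  refine ⟨g * w * y * (g * w)⁻¹, F.inverts_conj (hgz.mul_left hw) hgn hinv, ?_, ?_⟩
  · rw [F.img_conj (hgz.mul_left hw) hinv.1, F.img_mul _ _ hgz hw, F.img_mem hg, one_mul, hyi, hh]
  · rw [conj_mul, show y * y = 1 from hsq, mul_one, mul_inv_cancel]

include C in
/-- Lifts with the relations of the four outer involutions. -/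
theorem exists_quad : ∃ Q : Quad G, ∃ w1 w2, Q.a = w1 * w2 ∧ F.Inverts Q.u ∧ F.Inverts Q.r ∧ F.Inverts w1 ∧
    F.Inverts w2 ∧ F.img Q.u = D.s 0 ∧ F.img Q.r = D.s 3 ∧ F.img w1 = D.s 1 ∧ F.img w2 = D.s 2 := by
  obtain ⟨r, hr, hri, hr2⟩ := C.exists_outer 3
  have mk : ∀ i, ∃ w, F.Inverts w ∧ F.img w = D.s i ∧ w * w = 1 ∧ Commute r w := fun i => by
    obtain ⟨w, hw, hwi, hw2⟩ := C.exists_outer i
    obtain ⟨w', h1, h2, h3, h4⟩ := F.exists_commuting S.hres hr hr2 hw hw2 (by rw [hri, hwi]; exact D.comm3 i)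
    exact ⟨w', h1, h2.trans hwi, h3, h4⟩
  obtain ⟨w1, hw1, hw1i, -, hrw1⟩ := mk 1
  obtain ⟨w2, hw2, hw2i, -, hrw2⟩ := mk 2
  obtain ⟨u, hu, hui, hu2, hru⟩ := mk 0
  set a := w1 * w2 with ha
  have haC : a ∈ F.C := F.inverts_mul hw1 hw2
  obtain ⟨haz, hap⟩ := F.mem_C.1 haC
  have hai : F.img a = D.s 1 * D.s 2 := by rw [ha, F.img_mul _ _ hw1.1 hw2.1, hw1i, hw2i]
  have hra : Commute r a := hrw1.mul_right hrw2
  have ha2 : a * a = 1 := F.sq_one S.hres haC (F.ker_fixed hr (mul_mem haC haC) (by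
    rw [F.img_mul _ _ haz haz, hai, D.comm12.symm.mul_mul_mul_comm, D.s_sq, D.s_sq, one_mul]) (hra.mul_right hra))
  set v := a * u * a⁻¹ with hv
  have hvI : F.Inverts v := F.inverts_conj haz (Or.inl hap) hu
  have hrv : Commute r v := (hra.mul_right hru).mul_right hra.inv_right
  have hv2 : v * v = 1 := by rw [hv, conj_mul, hu2, mul_one, mul_inv_cancel]
  have hvi : F.img v = D.s 1 * D.s 2 * D.s 0 * (D.s 1 * D.s 2)⁻¹ := by rw [hv, F.img_conj haz hu.1, hai, hui]
  have huvC := F.inverts_mul hu hvI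
  have huv2 : u * v * (u * v) = 1 := F.sq_one S.hres huvC (F.ker_fixed hr (mul_mem huvC huvC) (by
    rw [F.img_mul _ _ (F.mem_C.1 huvC).1 (F.mem_C.1 huvC).1, F.img_mul _ _ hu.1 hvI.1, hui, hvi,
      D.comm_conj.symm.mul_mul_mul_comm, D.s_sq, one_mul,
      ← hvi, ← F.img_mul _ _ hvI.1 hvI.1, hv2, F.img_one])
    ((hru.mul_right hrv).mul_right (hru.mul_right hrv)))
  have huv : Commute u v := by
    show u * v = v * u
    rw [← inv_eq_of_mul_eq_one_right huv2, mul_inv_rev, inv_eq_of_mul_eq_one_right hu2,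
      inv_eq_of_mul_eq_one_right hv2]
  have hav : a * v * a⁻¹ = u := by
    rw [hv, show a * (a * u * a⁻¹) * a⁻¹ = (a * a) * u * (a * a)⁻¹ by group, ha2]
    group
  exact ⟨⟨u, v, r, a, hu2, hv2, hr2, ha2, huv, hru, hrv, hra, rfl, hav⟩, w1, w2, rfl, hu, hr, hw1, hw2, hui, hri,
    hw1i, hw2i⟩

include C in
/-- A lift of `g` moves the fixed space to a complement. -/
theorem exists_shift : ∃ d ∈ F.C, F.img d = D.g ∧ ∀ w ∈ S.W, F.act d w ∈ S.W → w = 0 := by
  haveI : FiniteDimensional (ZMod 2) F.V := Module.Finite.of_finite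
  obtain ⟨d, hd, hdi⟩ := F.mem_I_iff.1 D.g_mem
  obtain ⟨hdz, hdp⟩ := F.mem_C.1 hd
  refine ⟨d, hd, hdi, ?_⟩
  set L := S.W ⊓ S.W.map (F.act d)
  have hp : ∀ v ∈ L, F.act F.p v ∈ L := by
    rintro v ⟨hv, w, hw, rfl⟩
    refine ⟨S.p_W hv, F.act F.p w, S.p_W hw, ?_⟩
    rw [← act_mul F.ctx hdz F.p_comm, hdp.eq, act_mul F.ctx F.p_comm hdz]
  have hR : ∀ {x : G}, x ∈ F.C → F.img x ∈ D.R → ∀ v ∈ L, F.act x v ∈ L := by
    rintro x hx hxR v ⟨hv, w, hw, rfl⟩
    obtain ⟨hxz, -⟩ := F.mem_C.1 hx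
    refine ⟨S.W_invariant hxz (D.R_T _ hxR) hv, F.act (d⁻¹ * x * d) w, ?_, ?_⟩
    · refine S.W_invariant ((hdz.inv_left.mul_left hxz).mul_left hdz) (fun a ha => ?_) hw
      rw [F.img_mul _ _ (hdz.inv_left.mul_left hxz) hdz, F.img_mul _ _ hdz.inv_left hxz, F.img_inv hdz, hdi]
      have := D.R_conj _ hxR a ha
      simpa [mul_assoc] using this
    · rw [← act_mul F.ctx hdz ((hdz.inv_left.mul_left hxz).mul_left hdz), ← act_mul F.ctx hxz hdz]
      congr 1
      group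
  have h6 := F.six_dvd C.Y_mem C.Y_cube C.d_mem C.rel hp (hR C.Y_mem C.Y_img) (hR C.d_mem C.d_img)
  have hle := Submodule.finrank_mono (inf_le_left : L ≤ S.W)
  rw [S.finrank_W] at hle
  have h0 : finrank (ZMod 2) ↥L = 0 := by
    by_contra h0
    have h6' : finrank (ZMod 2) ↥L = 6 := by
      have h66 := Nat.le_of_dvd (Nat.pos_of_ne_zero h0) h6
      change finrank (ZMod 2) ↥L ≤ 6 at hle
      omega
    have hL : L = S.W := Submodule.eq_of_le_of_finrank_eq inf_le_left (h6'.trans S.finrank_W.symm)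
    set V' := S.Vb.map (MulAut.conj d).toMonoidHom
    have hV' := F.isEleven_conj hdz S.isEleven
    have hK : S.K ≤ S.Vb ⊓ V' ⊓ F.E := by
      intro k hk
      refine ⟨⟨S.K_le hk, ?_⟩, hk.1⟩
      obtain ⟨w, hw, hwk⟩ := ((hL.symm ▸ hk.2 : F.cls k ∈ L)).2
      obtain ⟨a, ha, rfl⟩ := cls_surj F.ctx w
      rw [act_cls F.ctx hdz ha] at hwk
      rcases (cls_eq_iff F.ctx hk.1 (F.conj_mem hdz ha)).1 hwk.symm with e | e <;> rw [e]
      · exact ⟨a, S.K_le ⟨ha, hw⟩, rfl⟩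
      · refine mul_mem ⟨F.z, S.z_mem, ?_⟩ ⟨a, S.K_le ⟨ha, hw⟩, rfl⟩
        show d * F.z * d⁻¹ = F.z
        rw [hdz.eq, mul_inv_cancel_right]
    by_cases hne : S.Vb = V'
    · have hN : d ∈ Subgroup.normalizer (S.Vb : Set G) := by
        refine Subgroup.mem_normalizer_iff.2 fun y => ?_
        conv_rhs => rw [hne]
        refine ⟨fun hy => ⟨y, hy, rfl⟩, fun ⟨w, hw, e⟩ => ?_⟩
        rwa [← (MulAut.conj d).injective e]
      have hall : ∀ a ∈ D.T, a = 1 := fun a ha => D.meet a ha (hdi ▸ S.normalizer_img hdz hN a ha)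
      have hT := D.card_T
      rw [(Subgroup.eq_bot_iff_forall _).2 hall, Subgroup.card_bot] at hT
      omega
    · have h := (Subgroup.card_le_of_le hK).trans (S.meet_le S.isEleven hV' hne)
      rw [S.card_K] at h
      omega
  intro w hw hdw
  rw [Submodule.finrank_eq_zero] at h0
  have hm : F.act d w ∈ L := ⟨hdw, w, hw, rfl⟩
  rw [h0, Submodule.mem_bot] at hm
  exact act_injective F.ctx hdz (hm.trans (map_zero _).symm)

include C in
/-- A group of order `2¹⁰` in the normalizer meeting the standard group trivially. -/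
theorem exists_partial : ∃ P : Subgroup G, P ≤ S.NV ∧ Nat.card ↥P = 1024 ∧ ∀ x ∈ P, x ∈ S.Vb → x = 1 := by
  obtain ⟨Q, w1, w2, hae, hu, hr, hw1, hw2, hui, hri, hw1i, hw2i⟩ := C.exists_quad
  obtain ⟨d, hd, hdi, hdW⟩ := C.exists_shift
  obtain ⟨hdz, hdp⟩ := F.mem_C.1 hd
  let Good : G → Prop := fun n => Commute n F.z ∧ F.Norms n ∧
    (∀ a ∈ D.T, F.img n * a * (F.img n)⁻¹ ∈ D.T) ∧
    ∀ a ∈ D.T, D.g⁻¹ * (F.img n * (D.g * a * D.g⁻¹) * (F.img n)⁻¹) * D.g ∈ D.T
  have gmul : ∀ {x y}, Good x → Good y → Good (x * y) := by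
    rintro x y ⟨x1, x2, x3, x4⟩ ⟨y1, y2, y3, y4⟩
    refine ⟨x1.mul_left y1, F.norms_mul x2 y2, fun a ha => ?_, fun a ha => ?_⟩
    · have := x3 _ (y3 a ha)
      rw [F.img_mul _ _ x1 y1]
      simpa [mul_assoc] using this
    · have := x4 _ (y4 a ha)
      rw [F.img_mul _ _ x1 y1]
      simpa [mul_assoc] using this
  have gone : Good 1 := by
    refine ⟨Commute.one_left _, Or.inl (Commute.one_left _), fun a ha => ?_, fun a ha => ?_⟩
    · simpa [F.img_one] using ha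
    · simpa [F.img_one, mul_assoc] using ha
  have ginv : ∀ {x} (i : Fin 4), F.Inverts x → F.img x = D.s i → Good x := fun {x} i hx hxi =>
    ⟨hx.1, Or.inr hx.2, by rw [hxi]; exact D.s_T i, by rw [hxi]; exact D.s_conj_T i⟩
  have gu := ginv 0 hu hui
  have gr := ginv 3 hr hri
  have ga : Good Q.a := hae ▸ gmul (ginv 1 hw1 hw1i) (ginv 2 hw2 hw2i)
  have gv : Good Q.v := by
    rw [← Q.au, inv_eq_of_mul_eq_one_right Q.a2]
    exact gmul (gmul ga gu) ga
  have gpick : ∀ {x}, Good x → ∀ b, Good (pickB b x) := fun {x} hx b => by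
    cases b
    exacts [by rw [pickB_false]; exact gone, by rwa [pickB_true]]
  have gval : ∀ q, Good (Q.val q) := fun q =>
    gmul (gmul (gmul (gpick gu _) (gpick gv _)) (gpick gr _)) (gpick ga _)
  have hpi : ∀ {x}, Good x → ∀ b, F.img (pickB b x) = pickB b (F.img x) := fun {x} _ b => by
    cases b
    exacts [by rw [pickB_false, pickB_false, F.img_one], rfl]
  have himg : ∀ q, F.img (Q.val q) ∈ D.T → q = (false, false, false, false) := by
    rintro ⟨i, j, k, l⟩ h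
    have hai : F.img Q.a = D.s 1 * D.s 2 := by rw [hae, F.img_mul _ _ hw1.1 hw2.1, hw1i, hw2i]
    have hvi : F.img Q.v = D.s 1 * D.s 2 * D.s 0 * (D.s 1 * D.s 2)⁻¹ := by
      rw [← Q.au, F.img_conj ga.1 gu.1, hai, hui]
    rw [Quad.val, F.img_mul _ _ (((gpick gu i).1.mul_left (gpick gv j).1).mul_left (gpick gr k).1) (gpick ga l).1,
      F.img_mul _ _ ((gpick gu i).1.mul_left (gpick gv j).1) (gpick gr k).1,
      F.img_mul _ _ (gpick gu i).1 (gpick gv j).1, hpi gu, hpi gv, hpi gr, hpi ga, hui, hri, hai, hvi] at h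
    obtain ⟨rfl, rfl, rfl, rfl⟩ := D.s_meet i j k l h
    rfl
  let N' : Subgroup G := S.N1.map (MulAut.conj d).toMonoidHom
  have hN'E : ∀ {e}, e ∈ N' → e ∈ F.E := by
    rintro _ ⟨k, hk, rfl⟩
    exact F.conj_mem hdz hk.1.1
  have hN'V : ∀ {e}, e ∈ N' → e ∈ S.Vb → e = 1 := by
    rintro _ ⟨k, hk, rfl⟩ hV
    have hK : d * k * d⁻¹ ∈ S.K := by
      rw [← S.Vb_inf_E]
      exact ⟨hV, F.conj_mem hdz hk.1.1⟩
    have h0 : F.cls k = 0 := hdW _ hk.1.2 (by
      show F.act d (JankoFour.cls F.ctx k) ∈ S.W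
      rw [act_cls F.ctx hdz hk.1.1]
      exact hK.2)
    have : k = 1 := S.norm_one_unique hk.1 (one_mem _) (h0.trans (cls_one F.ctx).symm) hk.2 F.nrm_one
    show d * k * d⁻¹ = 1
    rw [this, mul_one, mul_inv_cancel]
  have hnorm : ∀ q, ∀ e ∈ N', Q.val q * e * (Q.val q)⁻¹ ∈ N' := by
    rintro q _ ⟨k, hk, rfl⟩
    obtain ⟨n1, n2, -, n4⟩ := gval q
    set n := Q.val q
    set m := d⁻¹ * n * d with hm
    have hmz : Commute m F.z := (hdz.inv_left.mul_left n1).mul_left hdz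
    have hmn : F.Norms m := F.norms_mul (F.norms_mul (Or.inl hdp.inv_left) n2) (Or.inl hdp)
    have hmV : m ∈ S.NV := S.normalizes hmz (fun a ha => by
      rw [hm, F.img_mul _ _ (hdz.inv_left.mul_left n1) hdz, F.img_mul _ _ hdz.inv_left n1, F.img_inv hdz, hdi]
      simpa [mul_assoc] using n4 a ha)
    have hmk : m * k * m⁻¹ ∈ S.K := by
      rw [← S.Vb_inf_E]
      exact ⟨S.conj_mem_Vb hmV (S.K_le hk.1), F.conj_mem hmz hk.1.1⟩
    have h1 := S.conj_p_K hk.1
    have h2 : F.p * F.p * k * (F.p * F.p)⁻¹ ∈ S.K := by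
      rw [show F.p * F.p * k * (F.p * F.p)⁻¹ = F.p * (F.p * k * F.p⁻¹) * F.p⁻¹ by group]
      exact S.conj_p_K h1
    refine ⟨m * k * m⁻¹, ⟨hmk, F.nrm_conj hmn hk.2 (S.Vb_comm (S.K_le h1) (S.K_le h2))⟩, ?_⟩
    show d * (m * k * m⁻¹) * d⁻¹ = n * (d * k * d⁻¹) * n⁻¹
    rw [hm]; group
  let P : Subgroup G :=
    { carrier := {x | ∃ e ∈ N', ∃ q, x = e * Q.val q}
      one_mem' := ⟨1, one_mem _, _, by rw [Q.val_one, mul_one]⟩
      mul_mem' := by
        rintro _ _ ⟨e, he, q, rfl⟩ ⟨e', he', q', rfl⟩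
        exact ⟨e * (Q.val q * e' * (Q.val q)⁻¹), mul_mem he (hnorm q e' he'), Quad.mulQ q q',
          by rw [← Q.val_mul]; group⟩
      inv_mem' := by
        rintro _ ⟨e, he, q, rfl⟩
        refine ⟨Q.val (Quad.invQ q) * e⁻¹ * (Q.val (Quad.invQ q))⁻¹, hnorm _ _ (inv_mem he), Quad.invQ q, ?_⟩
        rw [← Q.val_inv]; group }
  refine ⟨P, ?_, ?_, ?_⟩
  · rintro _ ⟨e, he, q, rfl⟩
    exact mul_mem (S.E_normalizes (hN'E he)) (S.normalizes (gval q).1 (gval q).2.2.1)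
  · let φ : ↥N' × (Bool × Bool × Bool × Bool) → ↥P := fun p => ⟨p.1 * Q.val p.2, p.1, p.1.2, p.2, rfl⟩
    have hφ : Function.Bijective φ := by
      refine ⟨?_, ?_⟩
      · rintro ⟨e, q⟩ ⟨e', q'⟩ h
        have h' : (e : G) * Q.val q = e' * Q.val q' := congrArg Subtype.val h
        have hq : q = q' := Quad.eq_of_mulQ _ _ (himg _ (by
          rw [← Q.val_mul, ← Q.val_inv,
            show Q.val q * (Q.val q')⁻¹ = (e : G)⁻¹ * (e * Q.val q) * (Q.val q')⁻¹ by group, h',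
            show (e : G)⁻¹ * (e' * Q.val q') * (Q.val q')⁻¹ = (e : G)⁻¹ * e' by group,
            F.img_mem (mul_mem (inv_mem (hN'E e.2)) (hN'E e'.2))]
          exact one_mem _))
        subst hq
        exact Prod.ext (Subtype.ext (mul_right_cancel h')) rfl
      · rintro ⟨_, e, he, q, rfl⟩
        exact ⟨(⟨e, he⟩, q), rfl⟩
    rw [← Nat.card_congr (Equiv.ofBijective φ hφ), Nat.card_prod,
      Subgroup.card_map_of_injective (MulAut.conj d).injective, S.card_N1]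
    simp
  · rintro _ ⟨e, he, q, rfl⟩ hV
    have hq := himg q (by
      have h := S.Vb_img hV
      rwa [F.img_mul _ _ (F.comm_of_mem (hN'E he)) (gval q).1, F.img_mem (hN'E he), one_mul] at h)
    rw [hq, Q.val_one, mul_one] at hV ⊢
    exact hN'V he hV

include C in
/-- The normalizer splits over the standard group. -/
theorem exists_section (ψ : ↥S.NV →* ↥Cfsg.M24) (hψ : Function.Surjective ψ)
    (hk : ψ.ker = S.Vb.subgroupOf S.NV) : ∃ σ : ↥Cfsg.M24 →* ↥S.NV, ∀ g, ψ (σ g) = g := by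
  obtain ⟨P, hP, hcard, hmeet⟩ := C.exists_partial
  haveI : IsMulCommutative ↥ψ.ker := ⟨⟨fun a b => Subtype.ext (Subtype.ext
    (S.Vb_comm (Subgroup.mem_subgroupOf.1 (hk.le a.2)) (Subgroup.mem_subgroupOf.1 (hk.le b.2))).eq)⟩⟩
  set A2 : Subgroup ↥S.NV := P.subgroupOf S.NV
  have hAK : A2 ⊓ ψ.ker = ⊥ := (Subgroup.eq_bot_iff_forall _).2 fun x hx =>
    Subtype.ext (hmeet _ (Subgroup.mem_subgroupOf.1 hx.1) (Subgroup.mem_subgroupOf.1 (hk.le hx.2)))
  have hinj : Function.Injective (ψ.comp A2.subtype) := by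
    rw [← MonoidHom.ker_eq_bot_iff, Subgroup.eq_bot_iff_forall]
    intro x hx
    have hm : (x : ↥S.NV) ∈ A2 ⊓ ψ.ker := ⟨x.2, hx⟩
    rw [hAK, Subgroup.mem_bot] at hm
    exact Subtype.ext hm
  have hmap : Nat.card ↥(A2.map ψ) = 1024 := by
    rw [← hcard, ← Nat.card_congr (Subgroup.subgroupOfEquivOfLe hP).toEquiv]
    refine (Nat.card_congr (Equiv.ofBijective (fun x : ↥A2 => (⟨ψ x, x, x.2, rfl⟩ : ↥(A2.map ψ)))
      ⟨fun a b e => hinj (congrArg Subtype.val e), ?_⟩)).symm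
    rintro ⟨_, x, hx, rfl⟩
    exact ⟨⟨x, hx⟩, rfl⟩
  have hidx : (ψ.ker ⊔ A2).index = 239085 := by
    rw [sup_comm, ← Subgroup.comap_map_eq, Subgroup.index_comap_of_surjective _ hψ]
    have h := (A2.map ψ).index_mul_card
    rw [hmap, Cfsg.Lib.Concrete.card_M24] at h
    omega
  have hcop : (Nat.card ↥ψ.ker).Coprime (ψ.ker ⊔ A2).index := by
    rw [hidx, Nat.card_congr (MulEquiv.subgroupCongr hk).toEquiv,
      Nat.card_congr (Subgroup.subgroupOfEquivOfLe S.Vb_le_NV).toEquiv, S.card_Vb]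
    norm_num
  obtain ⟨H, hH⟩ := Cfsg.Lib.GaschutzAbelian.exists_complement ψ.ker (ψ.ker ⊔ A2) le_sup_left hcop A2 le_sup_right
    hAK rfl
  have hbij : Function.Bijective (ψ.comp H.subtype) := by
    refine ⟨?_, fun g => ?_⟩
    · rw [← MonoidHom.ker_eq_bot_iff, Subgroup.eq_bot_iff_forall]
      intro x hx
      exact Subtype.ext (hH.disjoint.le_bot (⟨hx, x.2⟩ : (x : ↥S.NV) ∈ ψ.ker ⊓ H))
    · obtain ⟨n, rfl⟩ := hψ g
      obtain ⟨⟨k, h⟩, e⟩ := hH.2 n
      refine ⟨h, ?_⟩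
      rw [← e, map_mul, show ψ (k : ↥S.NV) = 1 from k.2, one_mul]
      rfl
  refine ⟨H.subtype.comp (MulEquiv.ofBijective _ hbij).symm.toMonoidHom, fun g => ?_⟩
  exact (MulEquiv.ofBijective _ hbij).apply_symm_apply g

end Adapted

end Cfsg.Lib.JankoFour
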