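import Cfsg.Agent.Lib.JankoFour.Setting
import Cfsg.Agent.Lib.JankoFour.Split

/-!
# The classes of involutions and the centralizer of the second one
-/

set_option autoImplicit false
set_option linter.style.haveILetI false
set_option linter.unusedSectionVars false

namespace Cfsg.Lib.JankoFour

open Cfsg Cfsg.Lib.Extra Module BitModel
open scoped Pointwise

theorem cen_one_inD : ((cen 1).any inD) = true := by decide +kernel

theorem mem_stabilizer_pair {g : Equiv.Perm Cfsg.GolayPt} :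
    g ∈ MulAction.stabilizer (Equiv.Perm Cfsg.GolayPt) ({none, some 0} : Set Cfsg.GolayPt) ↔
      (g none = none ∧ g (some 0) = some 0) ∨ (g none = some 0 ∧ g (some 0) = none) := by
  rw [MulAction.mem_stabilizer_iff, Set.smul_set_insert, Set.smul_set_singleton, Set.pair_eq_pair_iff]
  simp only [Equiv.Perm.smul_def]

variable {G : Type*} [Group G] [Finite G] {A : Type} [Group A] {I : Subgroup A}

namespace Adapted

variable {F : Frame G A I} {D : HexData A I} {S : Std F D} (C : Adapted S)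

include C in
/-- Every involution is conjugate into the standard group. -/
theorem exists_conj_Vb {t : G} (h2 : t * t = 1) : ∃ g : G, g * t * g⁻¹ ∈ S.Vb := by
  haveI : Fact (Nat.Prime 2) := ⟨Nat.prime_two⟩
  obtain ⟨P, hVP, hPz⟩ := F.exists_sylow_two_G (fun x hx => F.centralizer_z_iff.2 (S.Vb_z hx))
    (isBig_pGroup S.isBig)
  have htp : IsPGroup 2 ↥(Subgroup.zpowers t) := by
    rintro ⟨x, hx⟩
    obtain ⟨k, rfl⟩ := Subgroup.mem_zpowers_iff.1 hx
    refine ⟨1, Subtype.ext ?_⟩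
    show (t ^ k) ^ (2 ^ 1) = 1
    rw [pow_one, pow_two, ← zpow_add, ← two_mul, zpow_mul, zpow_two, h2, one_zpow]
  obtain ⟨T, hT⟩ := htp.exists_le_sylow
  obtain ⟨g, hg⟩ := MulAction.exists_smul_eq G T P
  have hjP : g * t * g⁻¹ ∈ (P : Subgroup G) := by
    rw [← hg]
    exact ⟨t, hT (Subgroup.mem_zpowers t), rfl⟩
  set j := g * t * g⁻¹ with hj
  have hjN : j ∈ S.NV := mem_normalizer_of_map (S.two_group_unique P.isPGroup' (isBig_map S.isBig j) S.isBig (by
    rintro _ ⟨y, hy, rfl⟩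
    exact mul_mem (mul_mem hjP (hVP hy)) (inv_mem hjP)) hVP)
  by_cases hjV : j ∈ S.Vb
  · exact ⟨g, hjV⟩
  have hj2 : j * j = 1 := Frame.conj_sq_one h2
  obtain ⟨e1, he1, e2, he2, q1, q2, hc1, hc2, hall, hrep⟩ := C.exists_reps
  obtain ⟨e, he, n, hn, v, hv, hnj⟩ := hrep j hjN (hj2.symm ▸ one_mem _) hjV
  have heq : e * e = 1 := by rcases he with h | h <;> rw [h] <;> assumption
  have hev : Commute e v := by
    have h : e * v * (e * v) = 1 := by rw [← hnj]; exact Frame.conj_sq_one hj2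
    show e * v = v * e
    rw [← inv_eq_of_mul_eq_one_right h, mul_inv_rev, inv_eq_of_mul_eq_one_right heq,
      inv_eq_of_mul_eq_one_right (S.Vb_sq hv)]
  have hfin : ∀ m : G, m * j * m⁻¹ ∈ F.E → ∃ g : G, g * t * g⁻¹ ∈ S.Vb := fun m hm => by
    obtain ⟨d, -, hd⟩ := C.fused_E hm (Frame.conj_sq_one hj2)
    refine ⟨d * m * g, ?_⟩
    have e : d * m * g * t * (d * m * g)⁻¹ = d * (m * j * m⁻¹) * d⁻¹ := by rw [hj]; group
    rw [e]
    exact S.K_le hd
  obtain ⟨w, hw, rfl⟩ := C.exists_el hv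
  rcases he with rfl | rfl
  · rw [C.commute_el_iff he1 hw, hc1] at hev
    obtain ⟨u, hu, huD⟩ := List.any_eq_true.1 cen_one_inD
    have hwc : w ∈ cen 1 := List.mem_filter.2 ⟨List.mem_range.2 hw, by rw [hev]; exact Nat.beq_refl w⟩
    obtain ⟨i, hi, hi'⟩ := List.any_eq_true.1 (List.all_eq_true.1 (List.all_eq_true.1 cen_cover w hwc) u
      (List.mem_filter.2 ⟨hu, huD⟩))
    rw [Bool.and_eq_true] at hi'
    obtain ⟨m, hm, hme, hmE⟩ := hall i (List.mem_range.1 hi)
    refine hfin (m⁻¹ * n) ?_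
    have e' : m⁻¹ * n * j * (m⁻¹ * n)⁻¹ = m⁻¹ * (n * j * n⁻¹) * m := by group
    rw [e', hnj, show m⁻¹ * (e * C.el w) * m = m⁻¹ * e * m * (m⁻¹ * C.el w * m) by group]
    exact mul_mem hmE (C.mem_of_mask (List.mem_range.1 hi) hm hme hw hi'.1)
  · rw [C.commute_el_iff he2 hw, hc2] at hev
    have hs : w < 128 := Nat.blt_eq.mp (List.all_eq_true.1 cen_small w
      (List.mem_filter.2 ⟨List.mem_range.2 hw, by rw [hev]; exact Nat.beq_refl w⟩))
    exact hfin n (by rw [hnj]; exact mul_mem he2 (C.el_mem_K hs).1)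

include C in
/-- An involution outside the class of `z` is conjugate to the representative. -/
theorem exists_conj_two {t : G} (h2 : t * t = 1) (h1 : t ≠ 1) (hnc : ¬ IsConj F.z t) :
    ∃ g : G, g * t * g⁻¹ = C.el 2 := by
  obtain ⟨g, hg⟩ := C.exists_conj_Vb h2
  obtain ⟨n, -, hn⟩ := C.exists_to_two hg (fun e => h1 (conj_eq_one_iff.1 e)) fun h => hnc (isConj_conj_iff.1 h)
  exact ⟨n * g, by rw [← hn]; group⟩

include C in
/-- The centralizer of the representative splits over the standard group with the pair stabilizer on top. -/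
theorem exists_two_complement : ∃ φ : ↥Pair →* G, Function.Injective φ ∧
    φ.range ≤ Subgroup.centralizer ({C.el 2} : Set G) ∧ φ.range ⊓ S.Vb = ⊥ ∧
    φ.range ⊔ S.Vb = Subgroup.centralizer ({C.el 2} : Set G) := by
  obtain ⟨ψ, hψ, hk, hst⟩ := C.exists_psi
  obtain ⟨σ, hσ⟩ := C.exists_section ψ hψ hk
  let ι : ↥Pair →* ↥Cfsg.M24 := Subgroup.inclusion fun _ h => h.1
  let φ : ↥Pair →* G := S.NV.subtype.comp (σ.comp ι)
  have hone : ∀ n : ↥S.NV, ψ n = 1 ↔ (n : G) ∈ S.Vb := fun n => by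
    rw [← MonoidHom.mem_ker, hk, Subgroup.mem_subgroupOf]
  have hmem : ∀ {x : G}, x ∈ Subgroup.centralizer ({C.el 2} : Set G) ↔ Commute x (C.el 2) := fun {x} =>
    Subgroup.mem_centralizer_singleton_iff
  have hle : φ.range ≤ Subgroup.centralizer ({C.el 2} : Set G) := by
    rintro _ ⟨h, rfl⟩
    refine hmem.2 (mul_inv_eq_iff_eq_mul.1 ((hst (σ (ι h))).2 ?_))
    rw [hσ]
    exact mem_stabilizer_pair.2 h.2.2
  refine ⟨φ, fun a b e => ?_, hle, (Subgroup.eq_bot_iff_forall _).2 ?_, le_antisymm (sup_le hle fun x hx =>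
    hmem.2 (S.Vb_comm hx (C.el_mem 2))) fun x hx => ?_⟩
  · have h := congrArg ψ (Subtype.ext e : σ (ι a) = σ (ι b))
    rw [hσ, hσ] at h
    exact Subgroup.inclusion_injective _ h
  · rintro _ ⟨⟨h, rfl⟩, hv⟩
    have h1 : ψ (σ (ι h)) = 1 := (hone _).2 hv
    rw [hσ] at h1
    show ((σ (ι h) : ↥S.NV) : G) = 1
    rw [h1, map_one]
    rfl
  · let m : ↥S.NV := ⟨x, C.centralizer_le_NV (C.el_mem 2) C.el_two_cls.1 C.el_two_cls.2 hx⟩
    have hp := mem_stabilizer_pair.1 ((hst m).1 (mul_inv_eq_iff_eq_mul.2 (hmem.1 hx).eq))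
    let h : ↥Pair := ⟨(ψ m : Equiv.Perm Cfsg.GolayPt), (ψ m).2, hp⟩
    have hv : (φ h)⁻¹ * x ∈ S.Vb :=
      (hone ((σ (ψ m))⁻¹ * m)).1 (by rw [map_mul, map_inv, hσ, inv_mul_cancel])
    have := Subgroup.mul_mem_sup (S := φ.range) (T := S.Vb) ⟨h, rfl⟩ hv
    rwa [mul_inv_cancel_left] at this

end Adapted

end Cfsg.Lib.JankoFour
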