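import Cfsg.Agent.Lib.JankoFour.Frame
import Cfsg.Prelude.Def_JankoFourType

/-!
# The frame of a group of Janko-four type
-/

set_option autoImplicit false
set_option linter.style.haveILetI false

namespace Cfsg.Lib.JankoFour

open Cfsg Cfsg.Lib.Extra
open scoped Pointwise

variable {G : Type*} [Group G] [Finite G]

theorem exists_frame {z : G} {P : Subgroup G} (hJ : Cfsg.IsOfJankoFourTypeWith z P)
    {I : Subgroup (MulAut ↥Spor.M22)} (hF : Facts (MulAut ↥Spor.M22) I) :
    ∃ F : Frame G (MulAut ↥Spor.M22) I, F.z = z ∧ Subgroup.zpowers F.p = P ∧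
      F.E = Cfsg.twoCoreOfCentralizer z := by
  classical
  obtain ⟨hz, hext, hcard, hcent, ⟨N, hEN, hNH, hnorm, hNcard, ⟨hNn, ⟨e⟩⟩, hPN⟩, hP, hfix, hne, hperf⟩ := hJ
  haveI := hNn
  haveI : Fact (Nat.Prime 3) := ⟨Nat.prime_three⟩
  haveI : Fact (Nat.Prime 2) := ⟨Nat.prime_two⟩
  set H := Subgroup.centralizer ({z} : Set G)
  set E := Cfsg.twoCoreOfCentralizer z with hEdef
  have hEH : E ≤ H := Subgroup.map_subtype_le _
  have hmemH : ∀ {x : G}, x ∈ H ↔ Commute x z := fun {x} => Subgroup.mem_centralizer_singleton_iff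
  have hzH : z ∈ H := hmemH.2 (Commute.refl z)
  have hzE : z ∈ E := hcent ⟨hzH, fun a ha => (hmemH.1 (hEH ha)).eq⟩
  have hctx : Ctx E z := by
    refine ctx_of_twoCore hz rfl hext fun a ha => hcent ⟨hmemH.2 ?_, ha⟩
    exact (Subgroup.mem_centralizer_iff.1 ha z hzE).symm
  haveI : Finite ↥P := inferInstance
  obtain ⟨p, hp⟩ := (isCyclic_of_prime_card hP).exists_generator
  have hP' : Subgroup.zpowers (p : G) = P := by
    refine le_antisymm (Subgroup.zpowers_le.2 p.2) fun a ha => ?_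
    obtain ⟨k, hk⟩ := Subgroup.mem_zpowers_iff.1 (hp ⟨a, ha⟩)
    exact Subgroup.mem_zpowers_iff.2 ⟨k, by simpa using congrArg Subtype.val hk⟩
  have hpo : orderOf (p : G) = 3 := by rw [← Nat.card_zpowers, hP', hP]
  have hpz : Commute (p : G) z := hmemH.1 (hNH (hPN p.2))
  have hpN : (p : G) ∈ N := hPN p.2
  -- the kernel is `E⟨p⟩`
  have hN : ∀ x ∈ N, ∃ a ∈ E, ∃ i : ℕ, x = a * (p : G) ^ i := by
    have hsub : E ⊔ P ≤ N := sup_le hEN hPN
    have hdisj : Disjoint E P := by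
      rw [Subgroup.disjoint_def]
      intro a ha ha'
      have h1 : orderOf a ∣ 3 := by
        rw [← Subgroup.orderOf_mk a ha', ← hP]; exact orderOf_dvd_natCard _
      have h2 : orderOf a ∣ 2 ^ 13 := by
        rw [← Subgroup.orderOf_mk a ha, ← hcard]; exact orderOf_dvd_natCard _
      exact orderOf_eq_one_iff.1 (Nat.eq_one_of_dvd_coprimes (by norm_num) h1 h2)
    have hinj : Function.Injective (fun q : ↥E × ↥P => (⟨(q.1 : G) * q.2,
        mul_mem (hEN q.1.2) (hPN q.2.2)⟩ : ↥N)) := by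
      intro q q' h
      exact Subgroup.mul_injective_of_disjoint hdisj (congrArg Subtype.val h)
    have hbij : Function.Bijective (fun q : ↥E × ↥P => (⟨(q.1 : G) * q.2,
        mul_mem (hEN q.1.2) (hPN q.2.2)⟩ : ↥N)) := by
      refine (Nat.bijective_iff_injective_and_card _).2 ⟨hinj, ?_⟩
      rw [Nat.card_prod, hP, hNcard, mul_comm]
    intro x hx
    obtain ⟨⟨a, b⟩, hab⟩ := hbij.2 ⟨x, hx⟩
    obtain ⟨i, hi⟩ := (Submonoid.mem_powers_iff _ _).1 ((mem_powers_iff_mem_zpowers).2 (hP'.symm ▸ b.2 :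
      (b : G) ∈ Subgroup.zpowers (p : G)))
    exact ⟨a, a.2, i, by rw [hi]; exact (congrArg Subtype.val hab).symm⟩
  let φ : ↥H →* MulAut ↥Spor.M22 := e.toMonoidHom.comp (QuotientGroup.mk' (N.subgroupOf H))
  have hφ : ∀ x : ↥H, φ x = 1 ↔ (x : G) ∈ N := fun x => by
    show e ((QuotientGroup.mk' (N.subgroupOf H)) x) = 1 ↔ _
    rw [e.map_eq_one_iff, QuotientGroup.mk'_apply, QuotientGroup.eq_one_iff]
    exact Iff.rfl
  let img : G → MulAut ↥Spor.M22 := fun x => if h : x ∈ H then φ ⟨x, h⟩ else 1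
  have himg : ∀ {x : G} (h : x ∈ H), img x = φ ⟨x, h⟩ := fun h => dif_pos h
  have hC : ∀ x : G, x ∈ H ⊓ Subgroup.centralizer (P : Set G) ↔
      x ∈ Subgroup.centralizer ({z} : Set G) ⊓ Subgroup.centralizer ({(p : G)} : Set G) := by
    intro x
    refine and_congr Iff.rfl ⟨fun h => ?_, fun h b hb => ?_⟩
    · exact Subgroup.mem_centralizer_singleton_iff.2 (Subgroup.mem_centralizer_iff.1 h p p.2).symm
    · rw [← hP'] at hb
      obtain ⟨j, rfl⟩ := Subgroup.mem_zpowers_iff.1 hb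
      have hc : Commute x (p : G) := Subgroup.mem_centralizer_singleton_iff.1 h
      exact (hc.zpow_right j).eq.symm
  have hcen : Nat.card ↥(Subgroup.center ↥E) = 2 := hext.2
  have hCeq : H ⊓ Subgroup.centralizer (P : Set G) =
      Subgroup.centralizer ({z} : Set G) ⊓ Subgroup.centralizer ({(p : G)} : Set G) := Subgroup.ext hC
  refine ⟨⟨z, p, E, img, hF, hctx, hcard, hcen, hpo, hpz, ?_, ?_, ?_, ?_, ?_, ?_⟩, rfl, hP', rfl⟩
  · intro x y hx hy
    rw [himg (hmemH.2 hx), himg (hmemH.2 hy), himg (hmemH.2 (hx.mul_left hy)), ← map_mul]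
    rfl
  · intro a
    obtain ⟨q, hq⟩ := e.surjective a
    obtain ⟨x, rfl⟩ := QuotientGroup.mk'_surjective (N.subgroupOf H) q
    exact ⟨x, hmemH.1 x.2, by rw [himg x.2]; exact hq⟩
  · intro x hx
    rw [himg (hmemH.2 hx), hφ]
    refine ⟨fun h => hN x h, ?_⟩
    rintro ⟨a, ha, i, rfl⟩
    exact mul_mem (hEN ha) (pow_mem hpN i)
  · intro a ha hap
    have h : a ∈ Subgroup.zpowers z := by
      rw [← hfix]
      refine ⟨ha, ?_⟩
      rw [← hP']
      intro b hb
      obtain ⟨k, rfl⟩ := Subgroup.mem_zpowers_iff.1 hb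
      exact (hap.zpow_right k).eq.symm
    obtain ⟨k, rfl⟩ := Subgroup.mem_zpowers_iff.1 h
    rw [← zpow_mod_orderOf, hz]
    rcases Int.emod_two_eq k with h2 | h2 <;> norm_num [h2]
  · by_contra hcon
    push Not at hcon
    refine hne (le_antisymm ?_ ?_)
    · rintro x ⟨hxH, hxN⟩
      refine ⟨hxH, ?_⟩
      rw [← hP']
      have hx : x * p * x⁻¹ ∈ Subgroup.zpowers (p : G) :=
        hP'.symm ▸ ((Subgroup.mem_normalizer_iff.1 hxN p).1 p.2)
      obtain ⟨k, hk⟩ := Subgroup.mem_zpowers_iff.1 hx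
      rw [← zpow_mod_orderOf, hpo] at hk
      have hcomm : Commute x (p : G) := by
        have h3 : k % ((3 : ℕ) : ℤ) = 0 ∨ k % ((3 : ℕ) : ℤ) = 1 ∨ k % ((3 : ℕ) : ℤ) = 2 := by omega
        rcases h3 with h3 | h3 | h3 <;> rw [h3] at hk
        · exfalso
          rw [zpow_zero] at hk
          rw [conj_eq_one_iff.1 hk.symm, orderOf_one] at hpo
          omega
        · rw [zpow_one] at hk
          exact mul_inv_eq_iff_eq_mul.1 hk.symm
        · exfalso
          refine hcon x (hmemH.1 hxH) ?_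
          rw [← hk]
          exact (inv_eq_of_mul_eq_one_right (by
            rw [zpow_ofNat, ← pow_succ']
            show (p : G) ^ 3 = 1
            rw [← hpo, pow_orderOf_eq_one])).symm
      intro b hb
      obtain ⟨j, rfl⟩ := Subgroup.mem_zpowers_iff.1 hb
      exact (hcomm.zpow_right j).eq.symm
    · exact inf_le_inf_left _ (Subgroup.centralizer_le_normalizer _)
  · rw [← hCeq]
    exact hperf p.2

end Cfsg.Lib.JankoFour
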