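import Cfsg.Agent.Lib.JankoFour.Count
import Cfsg.Agent.Lib.JankoFour.BitModel.Aut
import Cfsg.Agent.Lib.FischerLarge.PairCode
import Cfsg.Agent.Lib.Concrete.M24

/-!
# The normalizer of the group of order `2¹¹` induces the whole automorphism group of its two classes
-/

set_option autoImplicit false
set_option linter.style.haveILetI false
set_option linter.unusedSectionVars false

namespace Cfsg.Lib.JankoFour

open Cfsg Cfsg.Lib.Extra Cfsg.Lib.FischerLarge Module BitModel
open scoped Pointwise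

variable {G : Type*} [Group G] [Finite G] {A : Type} [Group A] {I : Subgroup A}

namespace Frame

variable (F : Frame G A I)

/-- The order of the centralizer of `z`. -/
theorem card_centralizer_z :
    Nat.card ↥(Subgroup.centralizer ({F.z} : Set G)) = 2 ^ 13 * 3 * 887040 := by
  haveI := F.finite_A
  set H := Subgroup.centralizer ({F.z} : Set G)
  let θ : ↥H →* A := MonoidHom.mk' (fun x => F.img x) fun x y =>
    F.img_mul _ _ (F.centralizer_z_iff.1 x.2) (F.centralizer_z_iff.1 y.2)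
  have hsurj : θ.range = ⊤ := eq_top_iff.2 fun a _ => by
    obtain ⟨x, hx, rfl⟩ := F.img_surj a
    exact ⟨⟨x, F.centralizer_z_iff.2 hx⟩, rfl⟩
  let g : ↥F.E × Fin 3 → ↥θ.ker := fun q =>
    ⟨⟨(q.1 : G) * F.p ^ (q.2 : ℕ), F.centralizer_z_iff.2 ((F.comm_of_mem q.1.2).mul_left (F.p_comm.pow_left _))⟩, by
      show F.img _ = 1
      rw [F.img_mul _ _ (F.comm_of_mem q.1.2) (F.p_comm.pow_left _), F.img_mem q.1.2, F.img_p_pow, one_mul]⟩
  have hg : Function.Bijective g := by
    constructor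
    · rintro ⟨e, i⟩ ⟨e', j⟩ h
      have h' : (e : G) * F.p ^ (i : ℕ) = e' * F.p ^ (j : ℕ) := congrArg (fun x : ↥θ.ker => ((x : ↥H) : G)) h
      have hij : i = j := by
        by_contra hne
        have key : ∀ {a b : Fin 3} {x y : G}, x ∈ F.E → y ∈ F.E → (a : ℕ) < b →
            x * F.p ^ (a : ℕ) = y * F.p ^ (b : ℕ) → False := by
          intro a b x y hx hy hab he
          obtain ⟨k, hk, hb⟩ : ∃ k, (k = 1 ∨ k = 2) ∧ (b : ℕ) = k + a := ⟨b - a, by omega, by omega⟩
          rw [hb, pow_add, ← mul_assoc] at he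
          have hm : F.p ^ k ∈ F.E := by
            have : F.p ^ k = y⁻¹ * x := by rw [mul_right_cancel he, inv_mul_cancel_left]
            rw [this]
            exact mul_mem (inv_mem hy) hx
          rcases hk with rfl | rfl
          · exact F.not_mem_p (by simpa using hm)
          · exact F.not_mem_p (by rw [← inv_inv F.p, F.p_inv]; exact inv_mem hm)
        rcases Nat.lt_or_gt_of_ne (fun h => hne (Fin.ext h)) with hlt | hlt
        · exact key e.2 e'.2 hlt h'
        · exact key e'.2 e.2 hlt h'.symm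
      subst hij
      exact Prod.ext (Subtype.ext (mul_right_cancel h')) rfl
    · rintro ⟨⟨x, hx⟩, hk⟩
      obtain ⟨e, he, i, rfl⟩ := (F.img_ker x (F.centralizer_z_iff.1 hx)).1 hk
      refine ⟨(⟨e, he⟩, ⟨i % 3, Nat.mod_lt _ (by norm_num)⟩), Subtype.ext (Subtype.ext ?_)⟩
      show e * F.p ^ (i % 3) = e * F.p ^ i
      rw [← F.p_ord, pow_mod_orderOf]
  rw [← θ.ker.index_mul_card, Subgroup.index_ker, hsurj, Subgroup.card_top, F.facts.card_A,
    ← Nat.card_eq_of_bijective g hg, Nat.card_prod, F.card_E, Nat.card_fin]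
  ring

end Frame

namespace Std

variable {F : Frame G A I} {D : HexData A I} (S : Std F D)

noncomputable instance vbCommGroup : CommGroup ↥S.Vb :=
  { (inferInstance : Group ↥S.Vb) with mul_comm := fun a b => Subtype.ext (S.Vb_comm a.2 b.2).eq }

theorem ker_normAut : S.normAut.ker = S.Vb.subgroupOf S.NV := by
  ext n
  rw [MonoidHom.mem_ker, Subgroup.mem_subgroupOf]
  constructor
  · intro h
    refine S.centralizer_le (Subgroup.mem_centralizer_iff.2 fun x hx => ?_)
    have h1 : (n : G) * x * (n : G)⁻¹ = x := congrArg (fun σ : MulAut ↥S.Vb => ((σ ⟨x, hx⟩ : ↥S.Vb) : G)) h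
    exact (mul_inv_eq_iff_eq_mul.1 h1).symm
  · intro h
    refine MulEquiv.ext fun x => Subtype.ext ?_
    show (n : G) * x * (n : G)⁻¹ = x
    rw [(S.Vb_comm h x.2).eq, mul_inv_cancel_right]

theorem Vb_le_NV : S.Vb ≤ S.NV := fun _ h => Subgroup.le_normalizer h

/-- A Sylow 2-subgroup of `G` in both the centralizer and the normalizer. -/
theorem exists_sylow_both :
    ∃ P : Subgroup G, P ≤ S.NV ⊓ Subgroup.centralizer ({F.z} : Set G) ∧ Nat.card ↥P = 2 ^ 21 ∧ S.Vb ≤ P := by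
  haveI : Fact (Nat.Prime 2) := ⟨Nat.prime_two⟩
  obtain ⟨P, hVP, hPH⟩ := F.exists_sylow_two_G (fun x hx => F.centralizer_z_iff.2 (S.Vb_z hx)) (isBig_pGroup S.isBig)
  refine ⟨P, le_inf (fun x hx => ?_) hPH, ?_, hVP⟩
  · refine mem_normalizer_of_map (S.two_group_unique P.isPGroup' (isBig_map S.isBig x) S.isBig ?_ hVP)
    rintro _ ⟨y, hy, rfl⟩
    exact mul_mem (mul_mem hx (hVP hy)) (inv_mem hx)
  · obtain ⟨k, hk⟩ := IsPGroup.iff_card.1 P.isPGroup'
    have hle := Subgroup.card_dvd_of_le hPH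
    rw [hk, F.card_centralizer_z] at hle
    have hge : 2 ^ 21 ∣ Nat.card ↥(P : Subgroup G) := P.pow_dvd_card_of_pow_dvd_card
      ((show 2 ^ 21 ∣ 2 ^ 13 * 3 * 887040 by norm_num).trans
        (F.card_centralizer_z ▸ Subgroup.card_subgroup_dvd_card _))
    rw [hk] at hge
    rw [hk]
    have h21 : 21 ≤ k := (Nat.pow_dvd_pow_iff_le_right (by norm_num)).1 hge
    by_contra hne
    have h22 : 2 ^ 22 ∣ 2 ^ 13 * 3 * 887040 :=
      (pow_dvd_pow 2 (show 22 ≤ k from lt_of_le_of_ne h21 fun e => hne (by rw [← e]))).trans hle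
    norm_num at h22

/-- The normalizer in the centralizer of `z` induces a large group. -/
theorem dvd_stab : 15 * 2 ^ 10 ∣
    Nat.card ↥(MulAction.stabilizer ↥S.normAut.range (⟨F.z, S.z_mem⟩ : ↥S.Vb)) := by
  haveI : Fact (Nat.Prime 5) := ⟨by norm_num⟩
  set H := S.NV ⊓ Subgroup.centralizer ({F.z} : Set G)
  let θ : ↥H →* MulAut ↥S.Vb := S.normAut.comp (Subgroup.inclusion inf_le_left)
  have hle : θ.range ≤ (MulAction.stabilizer ↥S.normAut.range (⟨F.z, S.z_mem⟩ : ↥S.Vb)).map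
      S.normAut.range.subtype := by
    rintro _ ⟨h, rfl⟩
    refine ⟨⟨θ h, ⟨_, rfl⟩⟩, Subtype.ext ?_, rfl⟩
    show (h : G) * F.z * (h : G)⁻¹ = F.z
    rw [(F.centralizer_z_iff.1 h.2.2).eq, mul_inv_cancel_right]
  refine dvd_trans ?_ ((Subgroup.card_dvd_of_le hle).trans (by
    rw [Subgroup.card_map_of_injective Subtype.val_injective]))
  have hVH : S.Vb ≤ H := le_inf S.Vb_le_NV fun x hx => F.centralizer_z_iff.2 (S.Vb_z hx)
  have hker : θ.ker = S.Vb.subgroupOf H := by
    ext h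
    show S.normAut (Subgroup.inclusion inf_le_left h) = 1 ↔ _
    rw [← MonoidHom.mem_ker, S.ker_normAut]
    rfl
  have hc := θ.ker.index_mul_card
  rw [Subgroup.index_ker, hker, Nat.card_congr (Subgroup.subgroupOfEquivOfLe hVH).toEquiv, S.card_Vb] at hc
  obtain ⟨P, hP, hPc, -⟩ := S.exists_sylow_both
  have d2 : 2 ^ 21 ∣ Nat.card ↥H := hPc ▸ Subgroup.card_dvd_of_le hP
  have d3 : 3 ∣ Nat.card ↥H := F.p_ord ▸ H.orderOf_dvd_natCard ⟨S.p_normalizes, F.centralizer_z_iff.2 F.p_comm⟩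
  obtain ⟨x, hx, hxi⟩ := F.img_surj D.five
  have d5 : 5 ∣ Nat.card ↥H := by
    refine dvd_trans ?_ (H.orderOf_dvd_natCard ⟨S.normalizes hx (hxi.symm ▸ D.five_T), F.centralizer_z_iff.2 hx⟩)
    rw [← D.five_ord, ← hxi]
    exact orderOf_dvd_of_pow_eq_one (by rw [← F.img_pow hx, pow_orderOf_eq_one, F.img_one])
  have d15 : 2 ^ 21 * (3 * 5) ∣ Nat.card ↥H := Nat.Coprime.mul_dvd_of_dvd_of_dvd (by norm_num) d2
    (Nat.Coprime.mul_dvd_of_dvd_of_dvd (by norm_num) d3 d5)
  rw [← hc, show (2 : ℕ) ^ 21 * (3 * 5) = 15 * 2 ^ 10 * 2 ^ 11 by norm_num] at d15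
  exact Nat.dvd_of_mul_dvd_mul_right (by norm_num) d15

/-- The elements not conjugate to `z`. -/
def dSet : Set ↥S.Vb := {x | x ≠ 1 ∧ ¬ IsConj F.z (x : G)}

/-- The automorphisms keeping the class. -/
def tAut : Subgroup (MulAut ↥S.Vb) where
  carrier := {σ | ∀ t, σ t ∈ S.dSet ↔ t ∈ S.dSet}
  one_mem' _ := Iff.rfl
  mul_mem' {σ τ} hσ hτ t := (hσ _).trans (hτ t)
  inv_mem' {σ} hσ t := by
    rw [← hσ (σ⁻¹ t), MulAut.inv_def, MulEquiv.apply_symm_apply]

theorem range_le_tAut : S.normAut.range ≤ S.tAut := by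
  rintro _ ⟨n, rfl⟩ t
  show (S.normAut n t ≠ 1 ∧ ¬ IsConj F.z ((n : G) * t * (n : G)⁻¹)) ↔ _
  rw [isConj_conj_iff]
  exact and_congr_left fun _ => not_congr (MulEquiv.map_eq_one_iff _)

end Std

namespace Adapted

variable {F : Frame G A I} {D : HexData A I} {S : Std F D} (C : Adapted S)

/-- The element with a given code, in the group. -/
noncomputable def el' (v : ℕ) : ↥S.Vb := ⟨C.el v, C.el_mem v⟩

theorem el_dSet {v : ℕ} (hv : v < 2048) : C.el' v ∈ S.dSet ↔ inD v = true := by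
  obtain ⟨-, -, -, -, -, hcls, -⟩ := C.model
  show C.el' v ≠ 1 ∧ ¬ IsConj F.z (C.el v) ↔ _
  rw [hcls v hv]
  constructor
  · rintro ⟨h1, h2⟩
    have hv0 : v ≠ 0 := fun e => h1 (Subtype.ext (by rw [e]; exact C.el_zero))
    simpa [hv0] using h2
  · intro h
    have hv0 : v ≠ 0 := fun e => by rw [e, inD_zero] at h; exact Bool.false_ne_true h
    exact ⟨fun e => hv0 (C.el_eq_one hv (congrArg Subtype.val e)), fun e => by rw [h] at e; exact Bool.noConfusion e.2⟩

include C in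
theorem exists_el' (x : ↥S.Vb) : ∃ v < 2048, C.el' v = x := by
  obtain ⟨v, hv, e⟩ := C.exists_el x.2
  exact ⟨v, hv, Subtype.ext e⟩

theorem el'_xor (v w : ℕ) : C.el' (v ^^^ w) = C.el' v * C.el' w := Subtype.ext (C.el_xor v w)

theorem ncard_codes' {P : ℕ → Bool} {s : Set ↥S.Vb} (h : ∀ v < 2048, C.el' v ∈ s ↔ P v = true) :
    s.ncard = ((List.range 2048).filter P).length := by
  rw [← Set.ncard_image_of_injective s Subtype.val_injective]
  refine C.ncard_codes (fun x ⟨y, _, hy⟩ => hy ▸ y.2) fun v hv => ?_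
  rw [← h v hv]
  exact ⟨fun ⟨y, hy, e⟩ => (show y = C.el' v from Subtype.ext e) ▸ hy, fun h => ⟨_, h, rfl⟩⟩

/-- The twenty-four points. -/
noncomputable def pairCode : PairCode ↥S.Vb (Fin 24) where
  f i := C.el' (fPt i)
  T := S.dSet
  sq a := Subtype.ext (S.Vb_sq a.2)
  one_notMem h := h.1 rfl
  pair p q hpq := by
    have h1 := allLt_spec fPair p.2
    have h2 := allLt_spec fPair q.2
    rw [Bool.and_eq_true] at h1 h2
    have h3 := allLt_spec h1.2 q.2
    rw [Bool.or_eq_true] at h3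
    rw [← C.el'_xor, C.el_dSet (Nat.xor_lt_two_pow (n := 11) (Nat.blt_eq.mp h1.1) (Nat.blt_eq.mp h2.1))]
    exact h3.resolve_left fun e => hpq (Fin.ext (Nat.eq_of_beq_eq_true e))
  surj t ht := by
    obtain ⟨v, hv, rfl⟩ := C.exists_el' t
    have h := allLt_spec fSurj hv
    rw [(C.el_dSet hv).1 ht, Bool.not_true, Bool.false_or] at h
    obtain ⟨i, hi, hi'⟩ := List.any_eq_true.1 h
    obtain ⟨j, hj, hij⟩ := List.any_eq_true.1 hi'
    rw [Bool.and_eq_true, Bool.not_eq_true'] at hij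
    refine ⟨⟨i, List.mem_range.1 hi⟩, ⟨j, List.mem_range.1 hj⟩, fun e => ?_, ?_⟩
    · obtain rfl : i = j := congrArg Fin.val e
      rw [Nat.beq_refl] at hij
      exact Bool.noConfusion hij.1
    · rw [← C.el'_xor, Nat.eq_of_beq_eq_true hij.2]
  gen := by
    refine eq_top_iff.2 fun x _ => ?_
    obtain ⟨v, hv, rfl⟩ := C.exists_el' x
    have h := allLt_spec dSpan hv
    rw [Bool.or_eq_true, Bool.or_eq_true] at h
    rcases h with (h | h) | h
    · exact Subgroup.subset_closure ((C.el_dSet hv).2 h)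
    · rw [Nat.eq_of_beq_eq_true h, show C.el' 0 = 1 from Subtype.ext C.el_zero]
      exact one_mem _
    · obtain ⟨t, ht, hvt⟩ := List.any_eq_true.1 h
      obtain ⟨ht', htD⟩ := List.mem_filter.1 ht
      have ht2 := List.mem_range.1 ht'
      rw [show v = (v ^^^ t) ^^^ t by rw [Nat.xor_assoc, Nat.xor_self, Nat.xor_zero], C.el'_xor]
      exact mul_mem (Subgroup.subset_closure ((C.el_dSet (Nat.xor_lt_two_pow (n := 11) hv ht2)).2 hvt))
        (Subgroup.subset_closure ((C.el_dSet ht2).2 htD))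
  cardα := Fintype.card_fin 24
  cardT := by
    rw [C.ncard_codes' fun v hv => C.el_dSet hv]
    have h := Nat.eq_of_beq_eq_true inD_count
    exact h
  cardX := by
    rw [C.ncard_codes' (P := fun v => v != 0 && !inD v) fun v hv => ?_]
    · have h := Nat.eq_of_beq_eq_true notD_count
      exact h
    · rw [Set.mem_ofPred_eq, C.el_dSet hv, Bool.and_eq_true, bne_iff_ne, Bool.not_eq_true', Bool.not_eq_true]
      exact and_congr_left fun _ => not_congr ⟨fun e => C.el_eq_one hv (congrArg Subtype.val e),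
        fun e => Subtype.ext (by rw [e]; exact C.el_zero)⟩
  nbrs t ht := by
    obtain ⟨v, hv, rfl⟩ := C.exists_el' t
    rw [C.ncard_codes' (P := fun s => inD s && inD (v ^^^ s)) fun s hs => ?_]
    · have h := allLt_spec dMask_nbrs hv
      rw [(C.el_dSet hv).1 ht, Bool.not_true, Bool.false_or] at h
      exact Nat.eq_of_beq_eq_true h
    · rw [Set.mem_ofPred_eq, C.el_dSet hs, ← C.el'_xor, C.el_dSet (Nat.xor_lt_two_pow (n := 11) hv hs),
        Bool.and_eq_true]

include C in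
theorem dvd_range : 1771 * 15 * 2 ^ 10 ∣ Nat.card ↥S.normAut.range := by
  obtain ⟨-, -, -, h1771, -⟩ := C.model
  rw [← (MulAction.stabilizer ↥S.normAut.range (⟨F.z, S.z_mem⟩ : ↥S.Vb)).index_mul_card, ← S.ncard_orb S.z_mem,
    h1771, mul_assoc]
  exact Nat.mul_dvd_mul_left _ S.dvd_stab

/-- A member. -/
theorem rep_mem : C.el' 2 ∈ S.dSet := (C.el_dSet (by norm_num)).2 (by decide +kernel)

include C in
theorem exists_psi : ∃ ψ : ↥S.NV →* ↥Cfsg.M24, Function.Surjective ψ ∧ ψ.ker = S.Vb.subgroupOf S.NV ∧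
    ∀ n : ↥S.NV, (n : G) * C.el 2 * (n : G)⁻¹ = C.el 2 ↔
      (ψ n : Equiv.Perm GolayPt) ∈ MulAction.stabilizer (Equiv.Perm GolayPt) ({none, some 0} : Set GolayPt) := by
  obtain ⟨ψ, h1, h2, h3⟩ := C.pairCode.exists_mathieu S.normAut
    (fun m t ht => (S.range_le_tAut ⟨m, rfl⟩ t).2 ht) C.dvd_range C.rep_mem
  refine ⟨ψ, h1, h2.trans S.ker_normAut, fun n => ?_⟩
  rw [← h3 n]
  exact ⟨fun e => Subtype.ext e, fun e => congrArg Subtype.val e⟩

include C in
theorem card_NV : Nat.card ↥S.NV = 2 ^ 11 * 244823040 := by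
  obtain ⟨ψ, h1, h2, -⟩ := C.exists_psi
  rw [← ψ.ker.index_mul_card, Subgroup.index_ker, MonoidHom.range_eq_top_of_surjective ψ h1, Subgroup.card_top,
    Cfsg.Lib.Concrete.card_M24, h2, Nat.card_congr (Subgroup.subgroupOfEquivOfLe S.Vb_le_NV).toEquiv, S.card_Vb,
    mul_comm]

include C in
/-- Every automorphism keeping the class is induced. -/
theorem range_eq_tAut : S.normAut.range = S.tAut := by
  refine Subgroup.eq_of_le_of_card_ge S.range_le_tAut (le_of_eq ?_)
  obtain ⟨ψ, hψ, hk, -⟩ := C.pairCode.exists_mathieu S.tAut.subtype (fun σ t ht => (σ.2 t).2 ht) (by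
    rw [Subgroup.range_subtype]
    exact C.dvd_range.trans (Subgroup.card_dvd_of_le S.range_le_tAut)) C.rep_mem
  have hinj : Function.Injective ψ := (MonoidHom.ker_eq_bot_iff _).1 (by rw [hk, Subgroup.ker_subtype])
  rw [Nat.card_eq_of_bijective ψ ⟨hinj, hψ⟩, Cfsg.Lib.Concrete.card_M24]
  have h := S.normAut.ker.index_mul_card
  rw [Subgroup.index_ker, S.ker_normAut, Nat.card_congr (Subgroup.subgroupOfEquivOfLe S.Vb_le_NV).toEquiv,
    S.card_Vb, C.card_NV, mul_comm] at h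
  exact (Nat.eq_of_mul_eq_mul_left (by norm_num) h).symm

/-- A map of codes keeping the class is realized by the normalizer. -/
theorem exists_of_map {L L' : List ℕ} (h : autOk L L' = true) :
    ∃ n ∈ S.NV, ∀ v < 2048, n * C.el v * n⁻¹ = C.el (lin L v) := by
  have hp : ∀ v < 2048, lin L v < 2048 ∧ lin L' v < 2048 ∧ lin L' (lin L v) = v ∧ lin L (lin L' v) = v ∧
      inD (lin L v) = inD v := fun v hv => by
    have := allLt_spec h hv
    simp only [Bool.and_eq_true, beq_iff_eq, Nat.blt_eq] at this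
    exact ⟨this.1.1.1.1, this.1.1.1.2, Nat.eq_of_beq_eq_true this.1.1.2, Nat.eq_of_beq_eq_true this.1.2, this.2⟩
  choose c hc hce using C.exists_el'
  have hci : ∀ v < 2048, c (C.el' v) = v := fun v hv =>
    C.el_inj (hc _) hv (congrArg Subtype.val (hce (C.el' v)))
  let σ : MulAut ↥S.Vb :=
    { toFun := fun x => C.el' (lin L (c x))
      invFun := fun x => C.el' (lin L' (c x))
      left_inv := fun x => by
        show C.el' (lin L' (c (C.el' (lin L (c x))))) = x
        rw [hci _ (hp _ (hc x)).1, (hp _ (hc x)).2.2.1, hce]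
      right_inv := fun x => by
        show C.el' (lin L (c (C.el' (lin L' (c x))))) = x
        rw [hci _ (hp _ (hc x)).2.1, (hp _ (hc x)).2.2.2.1, hce]
      map_mul' := fun x y => by
        rw [← C.el'_xor, ← lin_xor]
        conv_lhs => rw [← hce x, ← hce y, ← C.el'_xor, hci _ (Nat.xor_lt_two_pow (n := 11) (hc x) (hc y))] }
  have hσ : σ ∈ S.tAut := fun t => by
    conv_rhs => rw [← hce t, C.el_dSet (hc t)]
    show C.el' (lin L (c t)) ∈ _ ↔ _
    rw [C.el_dSet (hp _ (hc t)).1, (hp _ (hc t)).2.2.2.2]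
  rw [← C.range_eq_tAut] at hσ
  obtain ⟨n, hn⟩ := hσ
  refine ⟨n, n.2, fun v hv => ?_⟩
  have e := congrArg (fun τ : MulAut ↥S.Vb => ((τ (C.el' v) : ↥S.Vb) : G)) hn
  refine e.trans ?_
  show C.el (lin L (c (C.el' v))) = _
  rw [hci v hv]

end Adapted

end Cfsg.Lib.JankoFour
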