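import Cfsg.Agent.Lib.JankoFour.Scalar

/-!
# An elementary abelian subgroup of order sixteen without an isotropic fixed space
-/

set_option autoImplicit false
set_option linter.style.haveILetI false
set_option linter.unusedSectionVars false

namespace Cfsg.Lib.JankoFour

open Cfsg Cfsg.Lib.Extra Module

namespace Frame

variable {G : Type*} [Group G] [Finite G] {A : Type} [Group A] {I : Subgroup A} (F : Frame G A I)

/-- A subspace fixed by everything over a subgroup of `A`. -/
def Fixes (T : Subgroup A) (U : Submodule (ZMod 2) F.V) : Prop :=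
  ∀ x, Commute x F.z → F.img x ∈ T → x * x ∈ F.E → ∀ u ∈ U, F.act x u = u

/-- A subgroup of `A` with an isotropic six-dimensional fixed space. -/
def IsoFix (T : Subgroup A) : Prop :=
  ∃ U : Submodule (ZMod 2) F.V, finrank (ZMod 2) ↥U = 6 ∧ U ≤ F.perp U ∧ F.Fixes T U

/-- Elements over the same element of `I`, with squares in `E`, act alike. -/
theorem act_eq_of_img {x y : G} (hx : Commute x F.z) (hy : Commute y F.z) (hI : F.img x ∈ I)
    (he : F.img x = F.img y) (hx2 : x * x ∈ F.E) (hy2 : y * y ∈ F.E) (v : F.V) : F.act x v = F.act y v := by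
  obtain ⟨c, hc, hci, hc2⟩ := F.exists_lift_two hI (by rw [← F.img_mul _ _ hx hx, F.img_mem hx2])
  have h1 := F.act_eq_lift hx hc hci (fun w => by rw [← act_mul F.ctx hx hx, act_of_mem F.ctx hx2]) hc2 v
  have h2 := F.act_eq_lift hy hc (hci.trans he)
    (fun w => by rw [← act_mul F.ctx hy hy, act_of_mem F.ctx hy2]) hc2 v
  rw [← h1, h2]

namespace Fused

variable {F} {F' : Frame G A I} (h : Fused F F')
include h

/-- The linear half of `E'` in `C(z)` gives a subgroup of order sixteen without isotropic fixed space. -/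
theorem exists_not_isoFix : ∃ T : Subgroup A, T ≤ I ∧ Nat.card ↥T = 16 ∧ (∀ a ∈ T, a * a = 1) ∧ ¬ F.IsoFix T := by
  haveI : FiniteDimensional (ZMod 2) F.V := Module.Finite.of_finite
  haveI : FiniteDimensional (ZMod 2) F'.V := Module.Finite.of_finite
  haveI := F.facts.normal
  obtain ⟨-, -, hrel, h32⟩ := h.symm.card_data
  refine ⟨I ⊓ h.symm.theta.range, inf_le_left, ?_, ?_, ?_⟩
  · have hsplit : Nat.card ↥h.symm.theta.range =
        I.relIndex h.symm.theta.range * Nat.card ↥(I ⊓ h.symm.theta.range) := by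
      rw [← Subgroup.inf_relIndex_right, ← Subgroup.relIndex_mul_relIndex ⊥ (I ⊓ h.symm.theta.range)
        h.symm.theta.range bot_le inf_le_right |>.trans (Subgroup.relIndex_bot_left _), Subgroup.relIndex_bot_left,
        mul_comm]
    rw [hrel, h32] at hsplit
    omega
  · rintro _ ⟨-, x, rfl⟩
    rw [← map_mul]
    show F.img ((x : G) * x) = 1
    rcases F'.ctx.sq x x.2.1 with e | e <;> rw [e]
    exacts [F.img_one, F.img_mem h.mem]
  rintro ⟨U, hU6, hUiso, hUfix⟩
  have hUU : F.perp U = U := (Submodule.eq_of_le_of_finrank_le hUiso (by rw [F.finrank_perp, hU6])).symm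
  have hlin : ∀ {f}, f ∈ F'.E → Commute f F.z → F.img f ∈ I → ∀ u ∈ U, F.act f u = u := fun {f} hf hfz hfI =>
    hUfix f hfz ⟨hfI, ⟨⟨f, hf, Subgroup.mem_centralizer_singleton_iff.2 hfz.eq⟩, rfl⟩⟩ (by
      rcases F'.ctx.sq f hf with e | e <;> rw [e]
      exacts [one_mem _, h.mem])
  set b := F.cls F'.z
  have hbne : b ≠ 0 := h.b_cls_ne
  set KV := F.clsSub (F.E ⊓ F'.E) inf_le_left
  set w := F.p * F'.z * F.p⁻¹ with hwdef
  have hw : w ∈ F.E ⊓ F'.E := h.scalar_b.1
  have hwcls : F.cls w = F.act F.p b := (act_cls F.ctx F.p_comm h.mem).symm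
  -- what is fixed in the intersection lies on the line
  have hUK : U ⊓ KV ≤ F.line b := by
    rintro _ ⟨hu, k, hk, rfl⟩
    set S := Submodule.span (ZMod 2) {F'.cls F.z, F'.cls w}
    have hkS : F'.cls k ∈ S := by
      rw [← F'.perp_perp S]
      intro v hv
      obtain ⟨f, hf, rfl⟩ := cls_surj F'.ctx v
      have hfz : Commute f F.z := by
        have := (B_cls F'.ctx h.mem' hf).1 (hv _ (Submodule.subset_span (Set.mem_insert _ _)))
        exact this.symm
      have hfw : Commute f w := by
        have := (B_cls F'.ctx hw.2 hf).1 (hv _ (Submodule.subset_span (Set.mem_insert_of_mem _ rfl)))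
        exact this.symm
      have hfI : F.img f ∈ I := (h.symm.linear_iff hf hfz).2 hfw
      have e := h.symm.act_K hf hfz ⟨hk.2, hk.1⟩
      rw [show F.cls k = JankoFour.cls F.ctx k from rfl, hlin hf hfz hfI _ hu] at e
      rcases bit (JankoFour.B F'.ctx (F'.cls f) (F'.cls k)) with e0 | e0
      · exact e0
      · rw [e0, one_smul] at e
        exact absurd (left_eq_add.1 e) hbne
    have conv : ∀ a, a ∈ F.E ⊓ F'.E → F'.cls k = F'.cls a → F.cls a ∈ F.line b → F.cls k ∈ F.line b := by
      intro a ha he hal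
      rcases (cls_eq_iff F'.ctx hk.2 ha.2).1 he with e | e <;> rw [e]
      · exact hal
      · show JankoFour.cls F.ctx _ ∈ _
        rw [cls_mul F.ctx h.mem ha.1]
        exact add_mem (F.self_mem_line b) hal
    have hzl : F.cls F.z ∈ F.line b := by rw [F.cls_z_zero]; exact zero_mem _
    have hwl : F.cls w ∈ F.line b := by rw [hwcls]; exact F.line_invariant (F.self_mem_line b)
    obtain ⟨s, t, hst⟩ := Submodule.mem_span_pair.1 hkS
    rcases bit s with rfl | rfl <;> rcases bit t with rfl | rfl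
    · refine conv 1 (one_mem _) ?_ ?_
      · rw [← hst, zero_smul, zero_smul, zero_add]; exact (cls_one F'.ctx).symm
      · show JankoFour.cls F.ctx 1 ∈ _
        rw [cls_one]; exact zero_mem _
    · exact conv w hw (by rw [← hst, zero_smul, one_smul, zero_add]) hwl
    · exact conv F.z h.z_mem (by rw [← hst, zero_smul, one_smul, add_zero]) hzl
    · refine conv (F.z * w) (mul_mem h.z_mem hw) ?_ ?_
      · rw [← hst, one_smul, one_smul]
        exact (cls_mul F'.ctx h.mem' hw.2).symm
      · show JankoFour.cls F.ctx _ ∈ _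
        rw [cls_mul F.ctx F.ctx.mem hw.1]
        exact add_mem hzl hwl
  -- a linear element moves too much of `U` into the intersection
  obtain ⟨f, hfE, hfz, hfI, hfK⟩ := h.symm.exists_linear
  have hfb : Commute f F'.z := F'.comm_of_mem hfE
  obtain ⟨-, -, -, -, -, hrk⟩ := F.finrank_range_disp' hfz hfI
    (fun h1 => hfK (h.symm.mem_E'_of_img hfE hfz h1)) (by
      rcases F'.ctx.sq f hfE with e | e <;> rw [e]
      exacts [one_mem _, h.mem])
  set R := LinearMap.range (F.disp f)
  have hperpR : F.fix f ≤ F.perp R := by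
    rintro u hu _ ⟨x, rfl⟩
    show JankoFour.B F.ctx (F.disp f x) u = 0
    rw [B_symm]
    exact F.B_fix_disp hfz hu x
  have hRU : R ≤ U := by
    rintro _ ⟨x, rfl⟩
    rw [← hUU]
    intro u hu
    exact F.B_fix_disp hfz (F.mem_ker_disp.2 (hlin hfE hfz hfI u hu)) x
  have hbR : b ∈ R := by
    obtain ⟨k, hk, hkB⟩ : ∃ k ∈ F'.E ⊓ F.E, JankoFour.B F'.ctx (F'.cls f) (F'.cls k) = 1 := by
      by_contra hcon
      push Not at hcon
      refine hfK ((h.symm.cls_K_iff hfE).1 ?_).2
      rw [← h.symm.perp_K, mem_perp]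
      rintro _ ⟨k, hk, rfl⟩
      rw [B_symm]
      exact (bit _).resolve_right (hcon k hk)
    refine ⟨F.cls k, ?_⟩
    rw [disp_apply, h.symm.act_K hfE hfz hk, hkB, one_smul, add_comm, ← add_assoc, bar_self, zero_add]
  set Wb := F.perp (Submodule.span (ZMod 2) {b}) with hWb
  have hkerW : F.fix f ≤ Wb := fun u hu => by
    rw [hWb, mem_perp]
    intro x hx
    obtain ⟨a, rfl⟩ := Submodule.mem_span_singleton.1 hx
    rw [map_smul, LinearMap.smul_apply, hperpR hu b hbR, smul_zero]
  have himg : Wb.map (F.disp f) ≤ U ⊓ KV := by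
    rintro _ ⟨v, hv, rfl⟩
    obtain ⟨e, he, rfl⟩ := cls_surj F.ctx v
    refine ⟨hRU (LinearMap.mem_range_self _ _), f * e * f⁻¹ * e⁻¹,
      ⟨F.E.mul_mem (F.conj_mem hfz he) (F.E.inv_mem he), ?_⟩, ?_⟩
    · have heb : Commute e F'.z := ((B_cls F.ctx h.mem he).1 (hv b (Submodule.mem_span_singleton_self _))).symm
      have := F'.E.mul_mem hfE (F'.conj_mem heb (F'.E.inv_mem hfE))
      rwa [show f * (e * f⁻¹ * e⁻¹) = f * e * f⁻¹ * e⁻¹ by group] at this
    · rw [disp_apply, cls_mul F.ctx (F.conj_mem hfz he) (inv_mem he), cls_inv F.ctx he, ← act_cls F.ctx hfz he]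
  have h3 : finrank (ZMod 2) ↥(Wb.map (F.disp f)) = 3 := by
    have e1 := LinearMap.finrank_range_add_finrank_ker ((F.disp f).domRestrict Wb)
    rw [LinearMap.range_domRestrict, LinearMap.ker_domRestrict, ← Submodule.finrank_map_subtype_eq Wb,
      Submodule.map_comap_subtype, inf_eq_right.2 hkerW, hWb, F.finrank_perp, finrank_span_singleton hbne] at e1
    have e2 : finrank (ZMod 2) ↥R + finrank (ZMod 2) ↥(F.fix f) = finrank (ZMod 2) F.V :=
      LinearMap.finrank_range_add_finrank_ker (F.disp f)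
    rw [hrk, F.finrank_V] at e2
    rw [hWb]
    omega
  have := Submodule.finrank_mono (himg.trans hUK)
  rw [h3, F.finrank_line hbne] at this
  omega

end Fused

end Frame

end Cfsg.Lib.JankoFour
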