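import Cfsg.Agent.Lib.JankoFour.Hexad
import Cfsg.Agent.Lib.JankoFour.NoIsotropic

/-!
# The elementary abelian subgroup of order `2¹¹`

A Sylow 2-subgroup has exactly one of them.
-/

set_option autoImplicit false
set_option linter.style.haveILetI false
set_option linter.unusedSectionVars false

namespace Cfsg.Lib.JankoFour

open Cfsg Cfsg.Lib.Extra Module

namespace Frame

variable {G : Type*} [Group G] [Finite G] {A : Type} [Group A] {I : Subgroup A} (F : Frame G A I)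

/-- With no quotient of order two some other conjugate of `z` lies in `E`. -/
theorem exists_fused_conj (F : Frame G A I) (hres : Cfsg.pResidual 2 G = ⊤) : ∃ g, Fused F (F.conj g) := by
  classical
  haveI := F.facts.normal
  have hidx := F.facts_index
  have hmem : ∀ {x : G}, x ∈ Subgroup.centralizer ({F.z} : Set G) → Commute x F.z := fun hx =>
    Subgroup.mem_centralizer_singleton_iff.1 hx
  let φ : ↥(Subgroup.centralizer ({F.z} : Set G)) →* Multiplicative (ZMod 2) :=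
    MonoidHom.mk' (fun x => if F.img x ∈ I then 1 else Multiplicative.ofAdd 1) fun x y => by
      show (if F.img ((x : G) * y) ∈ I then (1 : Multiplicative (ZMod 2)) else Multiplicative.ofAdd 1) = _
      rw [F.img_mul _ _ (hmem x.2) (hmem y.2), Subgroup.mul_mem_iff_of_index_two hidx]
      by_cases hx : F.img x ∈ I <;> by_cases hy : F.img y ∈ I <;> simp [hx, hy] <;> decide
  have hφ : Function.Surjective φ := by
    obtain ⟨a, ha⟩ := SetLike.exists_not_mem_of_ne_top I (fun e => by rw [e, Subgroup.index_top] at hidx; omega) rfl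
    obtain ⟨x, hx, rfl⟩ := F.img_surj a
    intro y
    rcases (show y = 1 ∨ y = Multiplicative.ofAdd 1 by revert y; decide) with rfl | rfl
    · exact ⟨1, map_one φ⟩
    · exact ⟨⟨x, Subgroup.mem_centralizer_singleton_iff.2 hx.eq⟩, if_neg ha⟩
  obtain ⟨g, hg, hgne⟩ := F.ctx.exists_fused (by rw [F.card_E]; norm_num) hres
    (by rw [Nat.card_eq_fintype_card]; rfl) φ hφ
  exact ⟨g, hgne, hg, F.ctx.mem_symm hg⟩

/-- The elements of `E` over a subspace. -/
noncomputable def clsPre (U : Submodule (ZMod 2) F.V) : Subgroup G where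
  carrier := {a | a ∈ F.E ∧ F.cls a ∈ U}
  one_mem' := ⟨one_mem _, by
    show JankoFour.cls F.ctx 1 ∈ U
    rw [cls_one]; exact zero_mem _⟩
  mul_mem' {a b} ha hb := ⟨mul_mem ha.1 hb.1, by
    show JankoFour.cls F.ctx (a * b) ∈ U
    rw [cls_mul F.ctx ha.1 hb.1]; exact add_mem ha.2 hb.2⟩
  inv_mem' {a} ha := ⟨inv_mem ha.1, by
    show JankoFour.cls F.ctx a⁻¹ ∈ U
    rw [cls_inv F.ctx ha.1]; exact ha.2⟩

theorem card_clsPre (U : Submodule (ZMod 2) F.V) :
    Nat.card ↥(F.clsPre U) = 2 ^ (finrank (ZMod 2) ↥U + 1) := by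
  have hz : F.z ∈ F.clsPre U := ⟨F.ctx.mem, by rw [F.cls_z_zero]; exact zero_mem _⟩
  have hle : F.clsPre U ≤ F.E := fun a ha => ha.1
  rw [← F.card_clsSub hle hz, show F.clsSub (F.clsPre U) hle = U from le_antisymm
    (by rintro _ ⟨a, ha, rfl⟩; exact ha.2)
    (fun v hv => by obtain ⟨a, ha, rfl⟩ := cls_surj F.ctx v; exact ⟨a, ⟨ha, hv⟩, rfl⟩), F.card_sub, pow_succ,
    mul_comm]

theorem act_fix {x a : G} (hx : Commute x F.z) (ha : a ∈ F.E) (h : Commute x a) :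
    F.act x (F.cls a) = F.cls a := by
  show JankoFour.act F.ctx x _ = _
  rw [act_cls F.ctx hx ha, h.eq, mul_inv_cancel_right]

/-- A subgroup of `C(z)` of order `2¹¹` with trivial squares maps onto an isotropically fixed group of order 16. -/
theorem eleven_data {V : Subgroup G} (hz : ∀ x ∈ V, Commute x F.z) (h2 : ∀ x ∈ V, x * x = 1)
    (hV : Nat.card ↥V = 2 ^ 11) :
    ∃ (T : Subgroup A) (U : Submodule (ZMod 2) F.V), T ≤ I ∧ Nat.card ↥T = 16 ∧ (∀ a ∈ T, a * a = 1) ∧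
      (∀ a, a ∈ T ↔ ∃ x ∈ V, F.img x = a) ∧ finrank (ZMod 2) ↥U = 6 ∧ U ≤ F.perp U ∧ F.Fixes T U ∧
      V ⊓ F.E = F.clsPre U := by
  classical
  haveI : FiniteDimensional (ZMod 2) F.V := Module.Finite.of_finite
  haveI := F.finite_A
  haveI := F.facts.normal
  have hcomm : ∀ x ∈ V, ∀ y ∈ V, Commute x y := fun x hx y hy => by
    show x * y = y * x
    rw [← inv_eq_of_mul_eq_one_right (h2 _ (V.mul_mem hx hy)), mul_inv_rev, inv_eq_of_mul_eq_one_right (h2 x hx),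
      inv_eq_of_mul_eq_one_right (h2 y hy)]
  let θ : ↥V →* A := MonoidHom.mk' (fun x => F.img x) fun x y => F.img_mul _ _ (hz x x.2) (hz y y.2)
  set T := θ.range
  have hT : ∀ a, a ∈ T ↔ ∃ x ∈ V, F.img x = a := fun a =>
    ⟨fun ⟨x, e⟩ => ⟨x, x.2, e⟩, fun ⟨x, hx, e⟩ => ⟨⟨x, hx⟩, e⟩⟩
  have hT2 : ∀ a ∈ T, a * a = 1 := by
    rintro _ ⟨x, rfl⟩
    rw [← map_mul, show x * x = 1 from Subtype.ext (h2 x x.2), map_one]
  have hTc : ∀ a ∈ T, ∀ b ∈ T, Commute a b := by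
    rintro _ ⟨x, rfl⟩ _ ⟨y, rfl⟩
    exact (show Commute x y from Subtype.ext (hcomm x x.2 y y.2).eq).map θ
  have h16 : Nat.card ↥(I ⊓ T) ≤ 16 :=
    F.facts.elem _ inf_le_left (fun a ha => hT2 a ha.2) fun a ha b hb => hTc a ha.2 b hb.2
  have hrel : I.relIndex T ≤ 2 :=
    Nat.le_of_dvd (by norm_num) (F.facts_index ▸ Subgroup.relIndex_dvd_index_of_normal _ _)
  have hsplit : Nat.card ↥T = I.relIndex T * Nat.card ↥(I ⊓ T) := by
    rw [← Subgroup.inf_relIndex_right, ← Subgroup.relIndex_mul_relIndex ⊥ (I ⊓ T) T bot_le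
      inf_le_right |>.trans (Subgroup.relIndex_bot_left _), Subgroup.relIndex_bot_left, mul_comm]
  have hr : Nat.card ↥T ≤ 32 := by rw [hsplit]; exact (Nat.mul_le_mul hrel h16)
  set K := V ⊓ F.E
  have hker : θ.ker = K.subgroupOf V := by
    ext x
    show F.img x = 1 ↔ (x : G) ∈ K
    exact ⟨fun e => ⟨x.2, F.mem_E_of_two (hz x x.2) e (n := 1) (by rw [pow_one, pow_two, h2 x x.2])⟩,
      fun e => F.img_mem e.2⟩
  have hcard : Nat.card ↥K * Nat.card ↥T = 2 ^ 11 := by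
    rw [← hV, ← θ.ker.index_mul_card, Subgroup.index_ker, hker,
      Nat.card_congr (Subgroup.subgroupOfEquivOfLe (inf_le_left : K ≤ V)).toEquiv, mul_comm]
  set U := F.clsSub K inf_le_right with hU
  have hKU : K ≤ F.clsPre U := fun a ha => ⟨ha.2, a, ha, rfl⟩
  have hKle : Nat.card ↥K ≤ 2 ^ (finrank (ZMod 2) ↥U + 1) := F.card_clsPre U ▸ Subgroup.card_le_of_le hKU
  have hiso : U ≤ F.perp U := by
    rintro _ ⟨a, ha, rfl⟩ _ ⟨b, hb, rfl⟩
    exact (B_cls F.ctx hb.2 ha.2).2 (hcomm b hb.1 a ha.1)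
  have hd : finrank (ZMod 2) ↥U ≤ 6 := by
    have := Submodule.finrank_mono hiso
    rw [F.finrank_perp] at this
    omega
  have hfix : ∀ x ∈ V, ∀ u ∈ U, F.act x u = u := by
    rintro x hx _ ⟨a, ha, rfl⟩
    exact F.act_fix (hz x hx) ha.2 (hcomm x hx a ha.1)
  have hTI : T ≤ I := by
    by_contra hnot
    obtain ⟨_, ⟨s, rfl⟩, hs⟩ := SetLike.not_le_iff_exists.1 hnot
    have hs' : F.img (s : G) ∉ I := hs
    have hsz := hz s s.2
    have hdisj : U ⊓ U.map (F.act F.p) = ⊥ := by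
      refine (Submodule.eq_bot_iff _).2 ?_
      rintro _ ⟨h1, u, hu, rfl⟩
      have e := F.act_p_inv hsz hs' u
      rw [hfix s s.2 _ h1, hfix s s.2 u hu] at e
      rw [F.act_p_eq (act_injective F.ctx F.p_comm e.symm), map_zero]
    by_cases h8 : ∃ x ∈ V, F.img x ∈ I ∧ F.img x ≠ 1
    · obtain ⟨x, hx, hxI, hx1⟩ := h8
      obtain ⟨c, hc, hc2, hci, hact, hrk⟩ :=
        F.finrank_range_disp' (hz x hx) hxI hx1 (by rw [h2 x hx]; exact one_mem _)
      have hle : U ⊔ U.map (F.act F.p) ≤ F.fix x := by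
        refine sup_le (fun u hu => F.mem_ker_disp.2 (hfix x hx u hu)) ?_
        rintro _ ⟨u, hu, rfl⟩
        refine F.mem_ker_disp.2 ?_
        rw [F.act_p_comm (hz x hx) hxI, hfix x hx u hu]
      have e1 := Submodule.finrank_sup_add_finrank_inf_eq U (U.map (F.act F.p))
      rw [hdisj, finrank_bot, add_zero,
        ← (Submodule.equivMapOfInjective (F.act F.p) (act_injective F.ctx F.p_comm) U).finrank_eq] at e1
      have e2 : finrank (ZMod 2) ↥(LinearMap.range (F.disp x)) + finrank (ZMod 2) ↥(F.fix x) =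
          finrank (ZMod 2) F.V := LinearMap.finrank_range_add_finrank_ker (F.disp x)
      rw [hrk, F.finrank_V] at e2
      have e3 := Submodule.finrank_mono hle
      have := Nat.mul_le_mul (hKle.trans (Nat.pow_le_pow_right (by norm_num : 0 < 2)
        (show finrank (ZMod 2) ↥U + 1 ≤ 5 by omega))) hr
      omega
    · push Not at h8
      have hb : I ⊓ T = ⊥ := by
        refine (Subgroup.eq_bot_iff_forall _).2 ?_
        rintro _ ⟨hI, x, rfl⟩
        exact h8 x x.2 hI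
      rw [hb, Subgroup.card_bot, mul_one] at hsplit
      have := Nat.mul_le_mul (hKle.trans (Nat.pow_le_pow_right (by norm_num : 0 < 2)
        (show finrank (ZMod 2) ↥U + 1 ≤ 7 by omega))) (hsplit.trans_le hrel)
      omega
  have hT16 : Nat.card ↥T ≤ 16 := F.facts.elem _ hTI hT2 hTc
  have hK7 : Nat.card ↥K ≤ 2 ^ 7 := hKle.trans (Nat.pow_le_pow_right (by norm_num : 0 < 2) (by omega))
  have hT' : Nat.card ↥T = 16 := by
    have := Nat.mul_le_mul_right (Nat.card ↥T) hK7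
    rw [hcard] at this
    omega
  rw [hT'] at hcard
  have hU6 : finrank (ZMod 2) ↥U = 6 := by
    by_contra hne
    have := hKle.trans (Nat.pow_le_pow_right (by norm_num : 0 < 2)
      (show finrank (ZMod 2) ↥U + 1 ≤ 6 by omega))
    omega
  refine ⟨T, U, hTI, hT', hT2, hT, hU6, hiso, fun x hx hxT hx2 u hu => ?_, ?_⟩
  · obtain ⟨y, hy, hye⟩ := (hT _).1 hxT
    rw [F.act_eq_of_img hx (hz y hy) (hTI hxT) hye.symm hx2 (by rw [h2 y hy]; exact one_mem _), hfix y hy u hu]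
  · exact Subgroup.eq_of_le_of_card_ge hKU (by rw [F.card_clsPre, hU6]; omega)

/-- The property is invariant under conjugation. -/
theorem isoFix_conj {T T' : Subgroup A} {d : G} (hd : Commute d F.z)
    (hT : ∀ a ∈ T', (F.img d)⁻¹ * a * F.img d ∈ T) (h : F.IsoFix T) : F.IsoFix T' := by
  haveI : FiniteDimensional (ZMod 2) F.V := Module.Finite.of_finite
  obtain ⟨U, hU6, hUiso, hUfix⟩ := h
  refine ⟨U.map (F.act d), ?_, ?_, ?_⟩
  · rw [← (Submodule.equivMapOfInjective (F.act d) (act_injective F.ctx hd) U).finrank_eq, hU6]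
  · rintro _ ⟨v, hv, rfl⟩ _ ⟨u, hu, rfl⟩
    show JankoFour.B F.ctx (F.act d u) (F.act d v) = 0
    rw [B_act F.ctx hd]
    exact hUiso hv u hu
  · rintro x hx hxT hx2 _ ⟨u, hu, rfl⟩
    have hy : Commute (d⁻¹ * x * d) F.z := (hd.inv_left.mul_left hx).mul_left hd
    have h1 := hUfix (d⁻¹ * x * d) hy (by
      rw [F.img_mul _ _ (hd.inv_left.mul_left hx) hd, F.img_mul _ _ hd.inv_left hx, F.img_inv hd]
      exact hT _ hxT) (by
      have := F.conj_mem hd.inv_left hx2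
      rwa [show d⁻¹ * (x * x) * d⁻¹⁻¹ = d⁻¹ * x * d * (d⁻¹ * x * d) by group] at this) u hu
    rw [← act_mul F.ctx hx hd, show x * d = d * (d⁻¹ * x * d) by group, act_mul F.ctx hd hy, h1]

/-- A conjugate of a 2-subgroup of `I` lies with a given one in a 2-subgroup. -/
theorem exists_common (F : Frame G A I) {S T : Subgroup A} (hS : S ≤ I) (hSp : IsPGroup 2 ↥S) (hT : T ≤ I)
    (hTp : IsPGroup 2 ↥T) :
    ∃ g ∈ I, ∃ P ≤ I, IsPGroup 2 ↥P ∧ S ≤ P ∧ T.map (MulAut.conj g).toMonoidHom ≤ P := by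
  haveI := F.finite_A
  haveI : Fact (Nat.Prime 2) := ⟨Nat.prime_two⟩
  obtain ⟨P, hP⟩ := (hSp.of_equiv (Subgroup.subgroupOfEquivOfLe hS).symm : IsPGroup 2 ↥(S.subgroupOf I)).exists_le_sylow
  obtain ⟨Q, hQ⟩ := (hTp.of_equiv (Subgroup.subgroupOfEquivOfLe hT).symm : IsPGroup 2 ↥(T.subgroupOf I)).exists_le_sylow
  obtain ⟨g, hg⟩ := MulAction.exists_smul_eq ↥I Q P
  refine ⟨g, g.2, (P : Subgroup ↥I).map I.subtype, Subgroup.map_subtype_le _, P.isPGroup'.map I.subtype,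
    fun a ha => ⟨⟨a, hS ha⟩, hP (Subgroup.mem_subgroupOf.2 ha), rfl⟩, ?_⟩
  rintro _ ⟨a, ha, rfl⟩
  refine ⟨g * ⟨a, hT ha⟩ * g⁻¹, ?_, rfl⟩
  rw [← hg]
  exact ⟨⟨a, hT ha⟩, hQ (Subgroup.mem_subgroupOf.2 ha), rfl⟩

theorem conj_sq {T : Subgroup A} (h : ∀ a ∈ T, a * a = 1) (g : A) :
    ∀ a ∈ T.map (MulAut.conj g).toMonoidHom, a * a = 1 := by
  rintro _ ⟨a, ha, rfl⟩
  rw [← map_mul, h a ha, map_one]

/-- In a 2-subgroup of `I` only one group of order sixteen has an isotropic fixed space. -/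
theorem isoFix_unique (h6 : Sixteen A I) (hres : Cfsg.pResidual 2 G = ⊤) {S T T' : Subgroup A} (hS : S ≤ I)
    (hSp : IsPGroup 2 ↥S) (hT : T ≤ S) (hT' : T' ≤ S) (hT2 : ∀ a ∈ T, a * a = 1) (hT2' : ∀ a ∈ T', a * a = 1)
    (hTc : Nat.card ↥T = 16) (hTc' : Nat.card ↥T' = 16) (hi : F.IsoFix T) (hi' : F.IsoFix T') : T = T' := by
  haveI : Fact (Nat.Prime 2) := ⟨Nat.prime_two⟩
  obtain ⟨g, hg⟩ := F.exists_fused_conj hres
  obtain ⟨T0, hT0I, hT0c, hT02, hT0n⟩ := hg.exists_not_isoFix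
  obtain ⟨k, hk, P, hPI, hPp, hSP, hT0P⟩ :=
    F.exists_common hS hSp hT0I (IsPGroup.of_card (n := 4) (by rw [hT0c]; norm_num))
  have hne : ∀ T1 : Subgroup A, F.IsoFix T1 → T1 ≠ T0.map (MulAut.conj k).toMonoidHom := by
    rintro T1 h1 rfl
    obtain ⟨d, hd, hdk⟩ := F.mem_I_iff.1 (inv_mem hk)
    refine hT0n (F.isoFix_conj (T := T0.map (MulAut.conj k).toMonoidHom) (F.mem_C.1 hd).1
      (fun a ha => ⟨a, ha, ?_⟩) h1)
    show k * a * k⁻¹ = _
    rw [hdk, inv_inv]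
  rcases h6.two P hPI hPp T T' _ (hT.trans hSP) (hT'.trans hSP) hT0P hT2 hT2' (conj_sq hT02 k) hTc hTc'
    ((Subgroup.card_map_of_injective (MulAut.conj k).injective).trans hT0c) with e | e | e
  exacts [e, absurd e (hne T hi), absurd e (hne T' hi')]

theorem centralizer_z_iff {x : G} : x ∈ Subgroup.centralizer ({F.z} : Set G) ↔ Commute x F.z :=
  Subgroup.mem_centralizer_singleton_iff

/-- The hypotheses on the elementary abelian subgroup. -/
def IsEleven (V : Subgroup G) : Prop :=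
  (∀ x ∈ V, Commute x F.z) ∧ (∀ x ∈ V, x * x = 1) ∧ Nat.card ↥V = 2 ^ 11

theorem isEleven_conj {V : Subgroup G} {d : G} (hd : Commute d F.z) (h : F.IsEleven V) :
    F.IsEleven (V.map (MulAut.conj d).toMonoidHom) := by
  obtain ⟨h1, h2, h3⟩ := h
  refine ⟨?_, ?_, (Subgroup.card_map_of_injective (MulAut.conj d).injective).trans h3⟩
  · rintro _ ⟨x, hx, rfl⟩
    exact (hd.mul_left (h1 x hx)).mul_left hd.inv_left
  · rintro _ ⟨x, hx, rfl⟩
    rw [← map_mul, h2 x hx, map_one]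

/-- There is a group of order `2¹¹` with trivial squares in `C(z)`, and in a 2-subgroup at most one. -/
theorem exists_eleven (h6 : Sixteen A I) (hres : Cfsg.pResidual 2 G = ⊤) :
    (∃ V, F.IsEleven V) ∧ ∀ S : Subgroup G, S ≤ Subgroup.centralizer ({F.z} : Set G) → IsPGroup 2 ↥S →
      ∀ V V', F.IsEleven V → F.IsEleven V' → V ≤ S → V' ≤ S → V = V' := by
  classical
  haveI : FiniteDimensional (ZMod 2) F.V := Module.Finite.of_finite
  haveI : Fact (Nat.Prime 2) := ⟨Nat.prime_two⟩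
  haveI := F.finite_A
  obtain ⟨T, X, W, hTI, hTc, hT2, hX, hW6, hWW, hWq, hW⟩ := F.exists_hexad h6 hres
  have hXz : ∀ c ∈ X, Commute c F.z := fun c hc => (F.mem_C.1 ((hX c).1 hc).1).1
  have hX2 : ∀ c ∈ X, c * c = 1 := fun c hc => ((hX c).1 hc).2.2
  have hlift : ∀ a ∈ T, ∃ c ∈ X, F.img c = a := fun a ha => by
    obtain ⟨c, hc, hci, hc2⟩ := F.exists_lift_two (hTI ha) (hT2 a ha)
    exact ⟨c, (hX c).2 ⟨hc, hci.symm ▸ ha, F.sq_one hres hc hc2⟩, hci⟩
  set K := F.clsPre W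
  have hK2 : ∀ a ∈ K, a * a = 1 := fun a ha => (qf_cls F.ctx ha.1).1 (hWq _ ha.2)
  have hKc : ∀ a ∈ K, ∀ c ∈ X, Commute c a := fun a ha c hc =>
    F.commute_of_fixed ((hX c).1 hc).1 ha.1 ((hW _).1 ha.2 c hc)
  have hTfix : F.IsoFix T := ⟨W, hW6, hWW.ge, fun x hx hxT hx2 w hw => by
    obtain ⟨c, hc, hci⟩ := hlift _ hxT
    rw [F.act_eq_of_img hx (hXz c hc) (hTI hxT) hci.symm hx2 (by rw [hX2 c hc]; exact one_mem _)]
    exact (hW w).1 hw c hc⟩
  let V0 : Subgroup G :=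
    { carrier := {x | ∃ a ∈ K, ∃ c ∈ X, x = a * c}
      one_mem' := ⟨1, one_mem _, 1, one_mem _, (one_mul _).symm⟩
      mul_mem' := by
        rintro _ _ ⟨a, ha, c, hc, rfl⟩ ⟨b, hb, d, hd, rfl⟩
        exact ⟨a * b, mul_mem ha hb, c * d, mul_mem hc hd, by
          rw [mul_assoc a c, ← mul_assoc c b, (hKc b hb c hc).eq]; group⟩
      inv_mem' := by
        rintro _ ⟨a, ha, c, hc, rfl⟩
        exact ⟨a⁻¹, inv_mem ha, c⁻¹, inv_mem hc, by rw [mul_inv_rev, ((hKc a ha c hc).inv_inv).eq]⟩ }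
  have hV0z : ∀ x ∈ V0, Commute x F.z := by
    rintro _ ⟨a, ha, c, hc, rfl⟩
    exact (F.comm_of_mem ha.1).mul_left (hXz c hc)
  have hV02 : ∀ x ∈ V0, x * x = 1 := by
    rintro _ ⟨a, ha, c, hc, rfl⟩
    rw [mul_assoc, ← mul_assoc c a c, (hKc a ha c hc).eq, mul_assoc a c c, hX2 c hc, mul_one, hK2 a ha]
  have hV0c : Nat.card ↥V0 = 2 ^ 11 := by
    let θ : ↥V0 →* A := MonoidHom.mk' (fun x => F.img x) fun x y => F.img_mul _ _ (hV0z x x.2) (hV0z y y.2)
    have hrange : θ.range = T := by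
      refine le_antisymm ?_ fun a ha => ?_
      · rintro _ ⟨⟨_, a, ha, c, hc, rfl⟩, rfl⟩
        show F.img (a * c) ∈ T
        rw [F.img_mul _ _ (F.comm_of_mem ha.1) (hXz c hc), F.img_mem ha.1, one_mul]
        exact ((hX c).1 hc).2.1
      · obtain ⟨c, hc, hci⟩ := hlift a ha
        exact ⟨⟨c, 1, one_mem _, c, hc, (one_mul c).symm⟩, hci⟩
    have hKV : K ≤ V0 := fun a ha => ⟨a, ha, 1, one_mem _, (mul_one a).symm⟩
    have hker : θ.ker = K.subgroupOf V0 := by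
      ext ⟨x, a, ha, c, hc, hx⟩
      show F.img x = 1 ↔ x ∈ K
      subst hx
      rw [F.img_mul _ _ (F.comm_of_mem ha.1) (hXz c hc), F.img_mem ha.1, one_mul]
      refine ⟨fun e => ?_, fun h => ?_⟩
      · refine mul_mem ha ?_
        rcases F.ker_C_sq ((hX c).1 hc).1 e (Or.inl (hX2 c hc)) with rfl | rfl
        exacts [one_mem _, ⟨F.ctx.mem, by rw [F.cls_z_zero]; exact zero_mem _⟩]
      · have := mul_mem (inv_mem ha) h
        rw [inv_mul_cancel_left] at this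
        exact F.img_mem this.1
    rw [← θ.ker.index_mul_card, Subgroup.index_ker, hrange, hTc, hker,
      Nat.card_congr (Subgroup.subgroupOfEquivOfLe hKV).toEquiv, F.card_clsPre, hW6]
    norm_num
  -- a group of order `2¹¹` over `T` is the standard one
  have hstd : ∀ V, F.IsEleven V → (∀ x ∈ V, F.img x ∈ T) → V = V0 := by
    rintro V ⟨hVz, hV2, hVc⟩ hVT
    obtain ⟨T1, U, -, hT1c, -, hT1, hU6, -, hUfix, hVE⟩ := F.eleven_data hVz hV2 hVc
    have hTT : T1 = T := Subgroup.eq_of_le_of_card_ge (fun a ha => by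
      obtain ⟨x, hx, rfl⟩ := (hT1 a).1 ha
      exact hVT x hx) (by omega)
    subst hTT
    have hUW : U = W := Submodule.eq_of_le_of_finrank_le (fun u hu => (hW u).2 fun c hc =>
      hUfix c (hXz c hc) ((hX c).1 hc).2.1 (by rw [hX2 c hc]; exact one_mem _) u hu) (by omega)
    subst hUW
    refine Subgroup.eq_of_le_of_card_ge (fun x hx => ?_) (by omega)
    obtain ⟨c, hc, hci⟩ := hlift _ (hVT x hx)
    have hxz := hVz x hx
    have hcz := hXz c hc
    set e := c⁻¹ * x with he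
    have heE : e ∈ F.E := F.mem_E_of_act (hcz.inv_left.mul_left hxz) fun v => by
      rw [act_mul F.ctx hcz.inv_left hxz, F.act_eq_of_img hxz hcz (hTI (hVT x hx)) hci.symm
        (by rw [hV2 x hx]; exact one_mem _) (by rw [hX2 c hc]; exact one_mem _), act_inv_act F.ctx hcz]
    have heK : e ∈ K := by
      refine ⟨heE, ?_⟩
      rw [← hWW]
      intro v hv
      obtain ⟨a, ha, rfl⟩ := cls_surj F.ctx v
      have haV : a ∈ V ⊓ F.E := hVE.ge ⟨ha, hv⟩
      have hax : Commute x a := by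
        show x * a = a * x
        rw [← inv_eq_of_mul_eq_one_right (hV2 _ (V.mul_mem hx haV.1)), mul_inv_rev,
          inv_eq_of_mul_eq_one_right (hV2 x hx), inv_eq_of_mul_eq_one_right (hV2 a haV.1)]
      exact (B_cls F.ctx ha heE).2 ((hKc a ⟨ha, hv⟩ c hc).inv_left.mul_left hax).symm
    exact ⟨e, heK, c, hc, by rw [← (hKc e heK c hc).eq, he, mul_inv_cancel_left]⟩
  refine ⟨⟨V0, hV0z, hV02, hV0c⟩, fun S hS hSp V V' hV hV' hVS hVS' => ?_⟩
  -- the images coincide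
  let φ : ↥(Subgroup.centralizer ({F.z} : Set G)) →* A :=
    MonoidHom.mk' (fun x => F.img x) fun x y => F.img_mul _ _ (F.centralizer_z_iff.1 x.2) (F.centralizer_z_iff.1 y.2)
  set Si := (S.subgroupOf (Subgroup.centralizer ({F.z} : Set G))).map φ ⊓ I
  have hSi : IsPGroup 2 ↥Si :=
    ((hSp.of_equiv (Subgroup.subgroupOfEquivOfLe hS).symm).map φ).to_le inf_le_left
  obtain ⟨T1, U1, h1I, h1c, h12, h1m, h1d, h1iso, h1fix, -⟩ := F.eleven_data hV.1 hV.2.1 hV.2.2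
  obtain ⟨T2, U2, h2I, h2c, h22, h2m, h2d, h2iso, h2fix, -⟩ := F.eleven_data hV'.1 hV'.2.1 hV'.2.2
  have hle : ∀ {W' : Subgroup G} {T' : Subgroup A}, W' ≤ S → T' ≤ I → (∀ a, a ∈ T' ↔ ∃ x ∈ W', F.img x = a) →
      T' ≤ Si := fun {W' T'} hWS hTI' hm a ha => by
    obtain ⟨x, hx, rfl⟩ := (hm a).1 ha
    exact ⟨⟨⟨x, hS (hWS hx)⟩, Subgroup.mem_subgroupOf.2 (hWS hx), rfl⟩, hTI' ha⟩
  have h12eq : T1 = T2 := F.isoFix_unique h6 hres inf_le_right hSi (hle hVS h1I h1m) (hle hVS' h2I h2m) h12 h22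
    h1c h2c ⟨U1, h1d, h1iso, h1fix⟩ ⟨U2, h2d, h2iso, h2fix⟩
  -- move the image to `T`
  obtain ⟨g, hg, P, hPI, hPp, hTP, hT1P⟩ := F.exists_common hTI (IsPGroup.of_card (n := 4) (by rw [hTc]; norm_num))
    h1I (IsPGroup.of_card (n := 4) (by rw [h1c]; norm_num))
  obtain ⟨d, hd, rfl⟩ := F.mem_I_iff.1 hg
  have hdz := (F.mem_C.1 hd).1
  have heq : T = T1.map (MulAut.conj (F.img d)).toMonoidHom := by
    refine F.isoFix_unique h6 hres hPI hPp hTP hT1P hT2 (conj_sq h12 _) hTc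
      ((Subgroup.card_map_of_injective (MulAut.conj (F.img d)).injective).trans h1c) hTfix
      (F.isoFix_conj hdz ?_ ⟨U1, h1d, h1iso, h1fix⟩)
    rintro _ ⟨a, ha, rfl⟩
    show (F.img d)⁻¹ * (F.img d * a * (F.img d)⁻¹) * F.img d ∈ T1
    rw [show (F.img d)⁻¹ * (F.img d * a * (F.img d)⁻¹) * F.img d = a by group]
    exact ha
  have key : ∀ {W' : Subgroup G}, F.IsEleven W' → (∀ a, a ∈ T1 ↔ ∃ x ∈ W', F.img x = a) →
      W'.map (MulAut.conj d).toMonoidHom = V0 := fun {W'} hW' hm => by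
    refine hstd _ (F.isEleven_conj hdz hW') ?_
    rintro _ ⟨x, hx, rfl⟩
    rw [heq]
    exact ⟨F.img x, (hm _).2 ⟨x, hx, rfl⟩, (F.img_conj hdz (hW'.1 x hx)).symm⟩
  exact Subgroup.map_injective (MulAut.conj d).injective ((key hV h1m).trans (key hV' (h12eq ▸ h2m)).symm)

/-- A Sylow 2-subgroup of `C(z)` is one of the whole group. -/
theorem exists_sylow_two_G (F : Frame G A I) {V : Subgroup G} (hV : V ≤ Subgroup.centralizer ({F.z} : Set G))
    (hVp : IsPGroup 2 ↥V) :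
    ∃ S : Sylow 2 G, V ≤ (S : Subgroup G) ∧ (S : Subgroup G) ≤ Subgroup.centralizer ({F.z} : Set G) := by
  haveI : Fact (Nat.Prime 2) := ⟨Nat.prime_two⟩
  set H := Subgroup.centralizer ({F.z} : Set G)
  obtain ⟨P, hP⟩ := (hVp.of_equiv (Subgroup.subgroupOfEquivOfLe hV).symm : IsPGroup 2 ↥(V.subgroupOf H)).exists_le_sylow
  set S0 := (P : Subgroup ↥H).map H.subtype
  have hS0H : S0 ≤ H := Subgroup.map_subtype_le _
  have hS0p : IsPGroup 2 ↥S0 := P.isPGroup'.map H.subtype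
  have hEH : F.E ≤ H := fun e he => F.centralizer_z_iff.2 (F.comm_of_mem he)
  have hES : F.E ≤ S0 := by
    haveI : (F.E.subgroupOf H).Normal := ⟨fun n hn g => Subgroup.mem_subgroupOf.2 (by
      simpa using F.conj_mem (F.centralizer_z_iff.1 g.2) (Subgroup.mem_subgroupOf.1 hn))⟩
    have h := P.is_maximal' (IsPGroup.to_sup_of_normal_right P.isPGroup'
      (F.ctx.two.of_equiv (Subgroup.subgroupOfEquivOfLe hEH).symm : IsPGroup 2 ↥(F.E.subgroupOf H))) le_sup_left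
    exact fun e he => ⟨⟨e, hEH he⟩, h.le (Subgroup.mem_sup_right (Subgroup.mem_subgroupOf.2 he)), rfl⟩
  obtain ⟨Q, hQ⟩ := hS0p.exists_le_sylow
  refine ⟨Q, fun x hx => hQ ⟨⟨x, hV hx⟩, hP (Subgroup.mem_subgroupOf.2 hx), rfl⟩, ?_⟩
  have hmax : ∀ x ∈ (Q : Subgroup G), x ∈ H → x ∈ S0 := by
    intro x hx hxH
    have h2 : IsPGroup 2 ↥((Q : Subgroup G).subgroupOf H) :=
      Q.isPGroup'.comap_of_injective H.subtype H.subtype_injective
    have h := P.is_maximal' h2 fun y hy => Subgroup.mem_subgroupOf.2 (hQ ⟨y, hy, rfl⟩)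
    exact ⟨⟨x, hxH⟩, h.le (Subgroup.mem_subgroupOf.2 hx), rfl⟩
  have hQS : (Q : Subgroup G) ≤ S0 := by
    by_contra hne
    haveI : Group.IsNilpotent ↥(Q : Subgroup G) := Q.isPGroup'.isNilpotent
    have hlt : S0.subgroupOf Q < ⊤ :=
      lt_top_iff_ne_top.2 fun e => hne (Subgroup.subgroupOf_eq_top.1 e)
    obtain ⟨w, hw, hwS⟩ := SetLike.exists_of_lt (Group.normalizerCondition_of_isNilpotent (G := ↥(Q : Subgroup G)) _ hlt)
    refine hwS (Subgroup.mem_subgroupOf.2 (hmax w w.2 (F.centralizer_z_iff.2 ?_)))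
    have hzS : F.z ∈ S0 := hES F.ctx.mem
    have hn := (Subgroup.mem_normalizer_iff.1 hw ⟨F.z, hQ hzS⟩).1 (Subgroup.mem_subgroupOf.2 hzS)
    have hzS' : (w : G) * F.z * (w : G)⁻¹ ∈ S0 := Subgroup.mem_subgroupOf.1 hn
    rcases F.ctx.cent ((w : G) * F.z * (w : G)⁻¹) fun e he => by
      have he' := (Subgroup.mem_normalizer_iff.1 (inv_mem hw) ⟨e, hQ (hES he)⟩).1 (Subgroup.mem_subgroupOf.2 (hES he))
      have hc : Commute F.z ((w : G)⁻¹ * e * (w : G)⁻¹⁻¹) :=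
        (F.centralizer_z_iff.1 (hS0H (Subgroup.mem_subgroupOf.1 he'))).symm
      have h' := hc.map (MulAut.conj (w : G)).toMonoidHom
      simpa [mul_assoc] using h' with e | e
    · exact absurd (conj_eq_one_iff.1 e) F.ctx.ne_one
    · exact mul_inv_eq_iff_eq_mul.1 e
  exact hQS.trans hS0H

/-- A Sylow 2-subgroup has exactly one elementary abelian subgroup of order `2¹¹`. -/
theorem existsUnique_eleven (F : Frame G A I) (h6 : Sixteen A I) (hres : Cfsg.pResidual 2 G = ⊤) (T : Sylow 2 G) :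
    ∃! V : Subgroup G, V ≤ (T : Subgroup G) ∧ Cfsg.IsElementaryAbelian 2 V ∧ Nat.card ↥V = 2 ^ 11 := by
  haveI : Fact (Nat.Prime 2) := ⟨Nat.prime_two⟩
  obtain ⟨⟨V0, hV0⟩, huniq⟩ := F.exists_eleven h6 hres
  obtain ⟨S, hVS, hSH⟩ := F.exists_sylow_two_G (fun x hx => F.centralizer_z_iff.2 (hV0.1 x hx))
    (IsPGroup.of_card (n := 11) hV0.2.2)
  obtain ⟨g, hg⟩ := MulAction.exists_smul_eq G S T
  have hmem : ∀ {x}, x ∈ (T : Subgroup G) ↔ g⁻¹ * x * g ∈ (S : Subgroup G) := fun {x} => by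
    rw [← hg]
    constructor
    · rintro ⟨y, hy, rfl⟩
      show g⁻¹ * (g * y * g⁻¹) * g ∈ (S : Subgroup G)
      rw [show g⁻¹ * (g * y * g⁻¹) * g = y by group]
      exact hy
    · exact fun h => ⟨_, h, show g * (g⁻¹ * x * g) * g⁻¹ = x by group⟩
  have hsq : ∀ {V : Subgroup G}, Cfsg.IsElementaryAbelian 2 V → ∀ x ∈ V, x * x = 1 := fun hV x hx => by
    rw [← pow_two]; exact hV.2 x hx
  refine ⟨V0.map (MulAut.conj g).toMonoidHom, ⟨?_, ⟨⟨⟨?_⟩⟩, ?_⟩, ?_⟩, ?_⟩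
  · rintro _ ⟨x, hx, rfl⟩
    refine hmem.2 ?_
    show g⁻¹ * (g * x * g⁻¹) * g ∈ (S : Subgroup G)
    rw [show g⁻¹ * (g * x * g⁻¹) * g = x by group]
    exact hVS hx
  · rintro ⟨_, a, ha, rfl⟩ ⟨_, b, hb, rfl⟩
    refine Subtype.ext ?_
    show MulAut.conj g a * MulAut.conj g b = MulAut.conj g b * MulAut.conj g a
    rw [← map_mul, ← map_mul]
    congr 1
    rw [← inv_eq_of_mul_eq_one_right (hV0.2.1 _ (V0.mul_mem ha hb)), mul_inv_rev,
      inv_eq_of_mul_eq_one_right (hV0.2.1 a ha), inv_eq_of_mul_eq_one_right (hV0.2.1 b hb)]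
  · rintro _ ⟨x, hx, rfl⟩
    rw [← map_pow, pow_two, hV0.2.1 x hx, map_one]
  · rw [Subgroup.card_map_of_injective (MulAut.conj g).injective, hV0.2.2]
  rintro V ⟨hVT, hVe, hVc⟩
  set V' := V.map (MulAut.conj g⁻¹).toMonoidHom
  have hV'S : V' ≤ (S : Subgroup G) := by
    rintro _ ⟨x, hx, rfl⟩
    show g⁻¹ * x * g⁻¹⁻¹ ∈ (S : Subgroup G)
    rw [inv_inv]
    exact hmem.1 (hVT hx)
  have hV' : F.IsEleven V' := by
    refine ⟨fun x hx => F.centralizer_z_iff.1 (hSH (hV'S hx)), ?_,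
      (Subgroup.card_map_of_injective (MulAut.conj g⁻¹).injective).trans hVc⟩
    rintro _ ⟨x, hx, rfl⟩
    rw [← map_mul, hsq hVe x hx, map_one]
  rw [← huniq _ hSH S.isPGroup' V' V0 hV' hV0 hV'S hVS]
  rw [Subgroup.map_map]
  ext x
  simp [Subgroup.mem_map, mul_assoc]

end Frame

end Cfsg.Lib.JankoFour
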