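import Cfsg.Agent.Lib.JankoFour.SylowThree
import Cfsg.Agent.Lib.JankoFour.FromHyp
import Cfsg.Agent.Lib.JankoFour.AutM22

/-!
# Groups of Janko-four type: the centralizer of `P`, the Sylow 3-subgroup, one class of elements of order three
-/

set_option autoImplicit false
set_option linter.style.haveILetI false
set_option linter.unusedSectionVars false

namespace Cfsg.Lib.JankoFour

open Cfsg Cfsg.Lib.Extra Module
open scoped Pointwise

universe u

variable {G : Type u} [Group G] [Finite G]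

theorem pResidual_two_of_simple [IsSimpleGroup G] (hna : ¬ IsMulCommutative G) : Cfsg.pResidual 2 G = ⊤ := by
  haveI : Fact (Nat.Prime 2) := ⟨Nat.prime_two⟩
  refine (IsSimpleGroup.eq_bot_or_eq_top_of_normal (Cfsg.pResidual 2 G) inferInstance).resolve_left fun h => ?_
  have hp : IsPGroup 2 (G ⧸ Cfsg.pResidual 2 G) := Cfsg.Lib.Fusion.isPGroup_quotient_pResidual
  have hG : IsPGroup 2 G := hp.of_injective (QuotientGroup.mk' (Cfsg.pResidual 2 G))
    (by rw [← MonoidHom.ker_eq_bot_iff, QuotientGroup.ker_mk', h])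
  haveI := hG.center_nontrivial
  have hc : Subgroup.center G = ⊤ :=
    (IsSimpleGroup.eq_bot_or_eq_top_of_normal (Subgroup.center G) inferInstance).resolve_left
      fun hb => (Subgroup.nontrivial_iff_ne_bot _).1 inferInstance hb
  exact hna ⟨⟨fun a b => (Subgroup.mem_center_iff.1 (hc ▸ Subgroup.mem_top a) b).symm⟩⟩

namespace Frame

variable {A : Type} [Group A] {I : Subgroup A} (F : Frame G A I)

theorem centralizer_zpowers :
    Subgroup.centralizer (Subgroup.zpowers F.p : Set G) = Subgroup.centralizer ({F.p} : Set G) := by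
  ext x
  rw [Subgroup.mem_centralizer_iff, Subgroup.mem_centralizer_singleton_iff]
  refine ⟨fun h => (h F.p (Subgroup.mem_zpowers _)).symm, fun h y hy => ?_⟩
  obtain ⟨i, rfl⟩ := Subgroup.mem_zpowers_iff.1 hy
  exact ((show Commute x F.p from h).zpow_right i).eq.symm

theorem center_C : Subgroup.center ↥F.C = F.imgC.ker := by
  refine le_antisymm (fun c hc => ?_) fun c hc => Subgroup.mem_center_iff.2 fun d =>
    Subtype.ext (F.ker_C_comm c.2 hc d.2).eq.symm
  have h : F.imgC c ∈ Subgroup.centralizer (I : Set A) := Subgroup.mem_centralizer_iff.2 fun a ha => by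
    obtain ⟨d, rfl⟩ := (SetLike.ext_iff.1 F.imgC_range a).2 ha
    rw [← map_mul, ← map_mul, Subgroup.mem_center_iff.1 hc d]
  rw [F.facts.cent, Subgroup.mem_bot] at h
  exact h

theorem center_cyclic : IsCyclic ↥(Subgroup.center ↥F.C) ∧ Nat.card ↥(Subgroup.center ↥F.C) = 6 := by
  rw [F.center_C]
  refine ⟨?_, F.card_ker_imgC⟩
  rw [F.ker_imgC]
  infer_instance

theorem quotient_center : Nonempty (↥F.C ⧸ Subgroup.center ↥F.C ≃* ↥I) :=
  ⟨(QuotientGroup.quotientMulEquivOfEq F.center_C).trans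
    ((QuotientGroup.quotientKerEquivRange F.imgC).trans (MulEquiv.subgroupCongr F.imgC_range))⟩

theorem normalizer_le (hres : Cfsg.pResidual 2 G = ⊤) :
    Subgroup.normalizer (Subgroup.zpowers F.p : Set G) ≤ Subgroup.centralizer ({F.z} : Set G) := by
  intro k hk
  refine Subgroup.mem_centralizer_singleton_iff.2 (F.commute_z_of_normalize hres ?_).eq
  exact F.pow_eq_or ((Subgroup.mem_normalizer_iff.1 hk F.p).1 (Subgroup.mem_zpowers _))
    fun h1 => F.not_mem_p (by rw [conj_eq_one_iff.1 h1]; exact one_mem _)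

/-- The structure of a Sylow 3-subgroup in `C(z)`. -/
theorem sylow_three_structure (hres : Cfsg.pResidual 2 G = ⊤) (S : Sylow 3 G)
    (hS : (S : Subgroup G) ≤ Subgroup.centralizer ({F.z} : Set G)) :
    Cfsg.IsExtraspecial 3 ↥(S : Subgroup G) ∧ Nat.card ↥(S : Subgroup G) = 27 ∧
      Monoid.exponent ↥(S : Subgroup G) = 3 ∧
      Subgroup.normalizer ((S : Subgroup G) : Set G) ≤ Subgroup.centralizer ({F.z} : Set G) ∧
      Nat.card ↥(Subgroup.normalizer ((S : Subgroup G) : Set G)) = 864 := by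
  haveI : Fact (Nat.Prime 3) := ⟨Nat.prime_three⟩
  obtain ⟨R⟩ := (inferInstance : Nonempty (Sylow 3 ↥F.C))
  obtain ⟨S0, hS0⟩ := F.exists_sylow_G hres R
  set H := Subgroup.centralizer ({F.z} : Set G)
  have hS0H : (S0 : Subgroup G) ≤ H := by
    rw [hS0]; exact (Subgroup.map_subtype_le _).trans inf_le_left
  obtain ⟨h, hh⟩ := MulAction.exists_smul_eq (↥H) (S0.subtype hS0H) (S.subtype hS)
  have hle : (F.sub R).map (MulAut.conj (h : G)).toMonoidHom ≤ (S : Subgroup G) := by
    rintro _ ⟨r, hr, rfl⟩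
    have hr' : r ∈ (S0 : Subgroup G) := by rw [hS0]; exact hr
    have h1 : h * (⟨r, hS0H hr'⟩ : ↥H) * h⁻¹ ∈ (h • S0.subtype hS0H : Sylow 3 ↥H) := by
      show h * (⟨r, hS0H hr'⟩ : ↥H) * h⁻¹ ∈ (MulAut.conj h) • (S0.subtype hS0H : Subgroup ↥H)
      exact Subgroup.smul_mem_pointwise_smul _ _ _ (show (⟨r, hS0H hr'⟩ : ↥H) ∈ (S0.subtype hS0H : Subgroup ↥H)
        from hr')
    rw [hh] at h1
    exact h1
  have hcardS : Nat.card ↥(S : Subgroup G) = 27 := by
    rw [← Nat.card_congr (Sylow.equiv S0 S).toEquiv, hS0, F.card_sub_sylow]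
  have hmap : (F.sub R).map (MulAut.conj (h : G)).toMonoidHom = (S : Subgroup G) :=
    Subgroup.eq_of_le_of_card_ge hle
      (by rw [Subgroup.card_map_of_injective (MulAut.conj (h : G)).injective, F.card_sub_sylow, hcardS])
  have hcube : ∀ s ∈ (S : Subgroup G), s ^ 3 = 1 := by
    rw [← hmap]
    rintro _ ⟨_, ⟨r, hr, rfl⟩, rfl⟩
    rw [← map_pow]
    show (MulAut.conj (h : G)) ((r : G) ^ 3) = 1
    rw [F.sylow_cube R hr, map_one]
  refine ⟨?_, hcardS, ?_, ?_, ?_⟩
  · refine isExtraspecial_of_cube (by rw [hcardS]; norm_num) fun hcm => F.sylow_not_comm R ?_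
    intro a ha b hb
    have hm : ∀ {c : ↥F.C}, c ∈ R → (MulAut.conj (h : G)) (c : G) ∈ (S : Subgroup G) := fun hc =>
      hle ⟨_, ⟨_, hc, rfl⟩, rfl⟩
    haveI := hcm
    have e : (MulAut.conj (h : G)) (a : G) * (MulAut.conj (h : G)) (b : G) =
        (MulAut.conj (h : G)) (b : G) * (MulAut.conj (h : G)) (a : G) :=
      congrArg Subtype.val (mul_comm' (⟨_, hm ha⟩ : ↥(S : Subgroup G)) ⟨_, hm hb⟩)
    rw [← map_mul, ← map_mul] at e
    exact Subtype.ext ((MulAut.conj (h : G)).injective e)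
  · haveI : Nontrivial ↥(S : Subgroup G) := Finite.one_lt_card_iff_nontrivial.1 (by omega)
    rcases (Nat.dvd_prime Nat.prime_three).1 (Monoid.exponent_dvd_of_forall_pow_eq_one
      fun s : ↥(S : Subgroup G) => Subtype.ext (hcube s s.2)) with e | e
    · exact absurd (Monoid.exp_eq_one_iff.1 e) (not_subsingleton _)
    · exact e
  · intro k hk
    rw [← hmap, ← Subgroup.map_equiv_normalizer_eq] at hk
    obtain ⟨k0, hk0, rfl⟩ := hk
    have h0 := (F.normalizer_sub hres R hk0).2
    refine Subgroup.mem_centralizer_singleton_iff.2 ?_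
    have hz : Commute (h : G) F.z := Subgroup.mem_centralizer_singleton_iff.1 h.2
    exact ((hz.mul_left h0).mul_left hz.inv_left).eq
  · rw [← hmap, ← Subgroup.map_equiv_normalizer_eq, Subgroup.card_map_of_injective (MulAut.conj (h : G)).injective,
      F.card_normalizer_sub hres R]

end Frame

/-- The inner automorphisms of `M₂₂` form a copy of it. -/
noncomputable def innerEquiv : ↥AutM22.inner ≃* ↥Cfsg.Spor.M22 :=
  (MonoidHom.ofInjective AutM22.conj_injective).symm

end Cfsg.Lib.JankoFour
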