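import Cfsg.Agent.Lib.JankoFour.Fusion

/-!
# A basis of the fixed space adapted to the Sylow 3-subgroup
-/

set_option autoImplicit false
set_option linter.style.haveILetI false
set_option linter.unusedSectionVars false

namespace Cfsg.Lib.JankoFour

open Cfsg Cfsg.Lib.Extra Module

variable {G : Type*} [Group G] [Finite G] {A : Type} [Group A] {I : Subgroup A}

/-- Two elements of the Sylow 3-subgroup and a vector from which the coordinates are built. -/
structure Adapted {F : Frame G A I} {D : HexData A I} (S : Std F D) where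
  /-- The element with a fixed vector. -/
  Y : G
  /-- The shift. -/
  d : G
  /-- The first basis vector. -/
  e₀ : F.V
  Y_mem : Y ∈ F.C
  d_mem : d ∈ F.C
  Y_cube : Y ^ 3 = 1
  d_cube : d ^ 3 = 1
  rel : d * Y * d⁻¹ = Y * F.p
  Y_img : F.img Y ∈ D.R
  d_img : F.img d ∈ D.R
  Y_fix : ∃ u ∈ D.T, u ≠ 1 ∧ Commute (F.img Y) u
  d_fix : ∃ u ∈ D.T, u ≠ 1 ∧ Commute (F.img d) u
  e₀_mem : e₀ ∈ S.W
  e₀_ne : e₀ ≠ 0
  e₀_fix : F.act Y e₀ = e₀

theorem exists_adapted {F : Frame G A I} {D : HexData A I} (S : Std F D) : Nonempty (Adapted S) := by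
  classical
  haveI := F.finite_A
  obtain ⟨y₁, hy₁, y₂, hy₂, h1, h2, hind, hf₁, hf₂⟩ := D.R_fix
  have hmap : (S.R' : Subgroup ↥F.C).map F.imgC = D.R := Subgroup.eq_of_le_of_card_ge (by
    rintro _ ⟨r, hr, rfl⟩
    exact S.R'_img r hr) (by rw [F.card_sylow_map, D.card_R])
  obtain ⟨Y, hY, hYi⟩ : ∃ Y ∈ S.R', F.imgC Y = y₁ := by
    have := hmap.symm ▸ hy₁
    exact this
  obtain ⟨d, hd, hdi⟩ : ∃ d ∈ S.R', F.imgC d = y₂ := by
    have := hmap.symm ▸ hy₂
    exact this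
  have hYi' : F.img (Y : G) = y₁ := hYi
  have hdi' : F.img (d : G) = y₂ := hdi
  have hY' := F.mem_C.1 Y.2
  have hd' := F.mem_C.1 d.2
  have hY3 := F.sylow_cube S.R' hY
  have hd3 := F.sylow_cube S.R' hd
  obtain ⟨hab, hR3, -⟩ := F.facts.sylow_three _ D.card_R
  set k := (d : G) * Y * (d : G)⁻¹ * (Y : G)⁻¹ with hk
  have hkC : k ∈ F.C := mul_mem (mul_mem (mul_mem d.2 Y.2) (inv_mem d.2)) (inv_mem Y.2)
  have hki : F.img k = 1 := by
    rw [hk, F.img_mul _ _ ((hd'.1.mul_left hY'.1).mul_left hd'.1.inv_left) hY'.1.inv_left,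
      F.img_conj hd'.1 hY'.1, F.img_inv hY'.1, hYi', hdi', (hab y₂ hy₂ y₁ hy₁).eq, mul_inv_cancel_right,
      mul_inv_cancel]
  have e1 : (d : G) * Y * (d : G)⁻¹ = Y * k := by
    rw [← (F.ker_C_comm hkC hki Y.2).eq, hk, inv_mul_cancel_right]
  obtain ⟨i, hi⟩ := F.ker_C_cube hkC hki (by
    have h := congrArg (· ^ 3) e1
    simp only [conj_pow, hY3, mul_one, mul_inv_cancel, (F.ker_C_comm hkC hki Y.2).symm.mul_pow, one_mul] at h
    exact h.symm)
  have hmod : F.p ^ i = F.p ^ (i % 3) := by rw [← F.p_ord, pow_mod_orderOf]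
  rw [hi, hmod] at e1
  have hi0 : i % 3 ≠ 0 := by
    intro e
    rw [e, pow_zero, mul_one] at e1
    -- otherwise the Sylow subgroup would be abelian
    have hc : Commute d Y := Subtype.ext (mul_inv_eq_iff_eq_mul.1 e1)
    obtain ⟨r, hr, hrY⟩ := F.exists_not_commute S.R' hY (by rw [hYi']; exact h1)
    let Z : Subgroup A := Subgroup.zpowers y₁ ⊔ Subgroup.zpowers y₂
    have hZ : Z = D.R := by
      refine Subgroup.eq_of_le_of_card_ge (sup_le (Subgroup.zpowers_le.2 hy₁) (Subgroup.zpowers_le.2 hy₂)) ?_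
      have h3 : Nat.card ↥(Subgroup.zpowers y₁) = 3 := by
        rw [Nat.card_zpowers]
        exact orderOf_eq_prime (hR3 y₁ hy₁) h1
      have hdvd : Nat.card ↥Z ∣ 9 := D.card_R ▸ Subgroup.card_dvd_of_le
        (sup_le (Subgroup.zpowers_le.2 hy₁) (Subgroup.zpowers_le.2 hy₂))
      have hlt : 3 < Nat.card ↥Z := by
        by_contra hle
        have he : Subgroup.zpowers y₁ = Z := Subgroup.eq_of_le_of_card_ge le_sup_left (by omega)
        have hm : y₂ ∈ Subgroup.zpowers y₁ := he ▸ Subgroup.mem_sup_right (Subgroup.mem_zpowers y₂)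
        obtain ⟨n, hn⟩ := (mem_zpowers_iff_mem_range_orderOf.1 hm |> Finset.mem_image.1)
        exact hind n hn.2.symm
      rw [D.card_R]
      have h9 := Nat.le_of_dvd (by norm_num) hdvd
      obtain ⟨j, hj, he⟩ := (Nat.dvd_prime_pow Nat.prime_three).1 (show Nat.card ↥Z ∣ 3 ^ 2 from hdvd)
      interval_cases j <;> omega
    have hcen : ∀ a ∈ Z, ∀ s ∈ S.R', F.imgC s = a → Commute s Y := by
      intro a ha
      have hle : Z ≤ ((Subgroup.centralizer {Y}).map F.imgC) := sup_le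
        (Subgroup.zpowers_le.2 ⟨Y, Subgroup.mem_centralizer_singleton_iff.2 rfl, hYi⟩)
        (Subgroup.zpowers_le.2 ⟨d, Subgroup.mem_centralizer_singleton_iff.2 hc.eq, hdi⟩)
      obtain ⟨c, hcc, hca⟩ := hle ha
      intro s _ hsa
      have hkz : (c⁻¹ * s : ↥F.C) ∈ F.imgC.ker := by
        rw [MonoidHom.mem_ker, map_mul, map_inv, hca, hsa, inv_mul_cancel]
      have h := F.ker_C_comm (c⁻¹ * s : ↥F.C).2 (MonoidHom.mem_ker.1 hkz) Y.2
      have h' : Commute (c⁻¹ * s : ↥F.C) Y := Subtype.ext h.eq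
      have := (show Commute c Y from Subgroup.mem_centralizer_singleton_iff.1 hcc).mul_left h'
      rwa [mul_inv_cancel_left] at this
    exact hrY (hcen _ (hZ.symm ▸ S.R'_img r hr) r hr rfl)
  have key : ∀ δ : ↥F.C, δ ∈ S.R' → (δ : G) ^ 3 = 1 → (δ : G) * Y * (δ : G)⁻¹ = Y * F.p →
      (∃ u ∈ D.T, u ≠ 1 ∧ Commute (F.img δ) u) → Nonempty (Adapted S) := by
    intro δ hδ hδ3 hrel hδf
    have hδ' := F.mem_C.1 δ.2
    have hinv : ∀ x : ↥F.C, x ∈ S.R' → ∀ {w}, w ∈ S.W → F.act (x : G) w ∈ S.W := fun x hx {w} hw =>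
      S.W_invariant (F.mem_C.1 x.2).1 (D.R_T _ (S.R'_img x hx)) hw
    -- a fixed vector of one of the translates
    obtain ⟨w, hw, hw0⟩ := S.W_ne_bot
    have hmem : ∀ Z : ↥F.C, Z ∈ S.R' → F.proj (Z : G) w ∈ S.W := fun Z hZ => by
      rw [F.proj_apply]
      exact add_mem (add_mem hw (hinv Z hZ hw)) (hinv Z hZ (hinv Z hZ hw))
    have hp : (⟨F.p, F.p_mem_C⟩ : ↥F.C) ∈ S.R' := F.p_mem_sylow S.R'
    have move : ∀ {Z : G}, Commute Z F.z → ∀ v ∈ F.fix Z, F.act (δ : G) v ∈ F.fix ((δ : G) * Z * (δ : G)⁻¹) := by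
      intro Z hZ v hv
      refine F.mem_ker_disp.2 ?_
      rw [← act_mul F.ctx ((hδ'.1.mul_left hZ).mul_left hδ'.1.inv_left) hδ'.1, inv_mul_cancel_right,
        act_mul F.ctx hδ'.1 hZ, F.mem_ker_disp.1 hv]
    have hshift : (δ : G) * (Y * F.p) * (δ : G)⁻¹ = Y * F.p * F.p := by
      rw [show (δ : G) * (Y * F.p) * (δ : G)⁻¹ = δ * Y * (δ : G)⁻¹ * (δ * F.p * (δ : G)⁻¹) by group, hrel,
        hδ'.2.eq, mul_inv_cancel_right]
    have hshift' : (δ : G) * (Y * F.p * F.p) * (δ : G)⁻¹ = Y := by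
      rw [show (δ : G) * (Y * F.p * F.p) * (δ : G)⁻¹ = δ * (Y * F.p) * (δ : G)⁻¹ * (δ * F.p * (δ : G)⁻¹) by group,
        hshift, hδ'.2.eq, mul_inv_cancel_right, mul_assoc, mul_assoc,
        show F.p * (F.p * F.p) = 1 by rw [← pow_two, ← pow_succ', F.p_cube], mul_one]
    have hfin : ∀ v ∈ S.W, v ≠ 0 → v ∈ F.fix (Y : G) → Nonempty (Adapted S) := fun v hv hv0 hvY =>
      ⟨{ Y := Y, d := δ, e₀ := v, Y_mem := Y.2, d_mem := δ.2, Y_cube := hY3, d_cube := hδ3, rel := hrel,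
         Y_img := S.R'_img Y hY, d_img := S.R'_img δ hδ,
         Y_fix := by rw [hYi']; exact hf₁, d_fix := hδf, e₀_mem := hv, e₀_ne := hv0,
         e₀_fix := F.mem_ker_disp.1 hvY }⟩
    have hinj := act_injective F.ctx hδ'.1
    have hne : ∀ {v}, v ≠ 0 → F.act (δ : G) v ≠ 0 := fun {v} hv e => hv (hinj (e.trans (map_zero _).symm))
    by_cases a0 : F.proj (Y : G) w = 0
    · have hY1 : (Y : G) * F.p ∈ F.C := mul_mem Y.2 F.p_mem_C
      by_cases a1 : F.proj ((Y : G) * F.p) w = 0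
      · have a2 : F.proj ((Y : G) * F.p * F.p) w ≠ 0 := fun a2 => hw0 (by
          rw [← F.proj_sum Y.2 w, a0, a1, a2, add_zero, add_zero])
        have hm := hmem (Y * ⟨F.p, F.p_mem_C⟩ * ⟨F.p, F.p_mem_C⟩) (mul_mem (mul_mem hY hp) hp)
        have hf := F.proj_mem (F.mem_C.1 (mul_mem hY1 F.p_mem_C)).1 (X := (Y : G) * F.p * F.p)
          (by simpa [pow_two, mul_assoc] using F.mul_p_cube Y.2 hY3 2) w
        have hm2 := move (F.mem_C.1 (mul_mem hY1 F.p_mem_C)).1 _ hf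
        rw [hshift'] at hm2
        exact hfin _ (hinv δ hδ hm) (hne a2) hm2
      · have hm := hmem (Y * ⟨F.p, F.p_mem_C⟩) (mul_mem hY hp)
        have hf := F.proj_mem (F.mem_C.1 hY1).1 (X := (Y : G) * F.p)
          (by simpa using F.mul_p_cube Y.2 hY3 1) w
        have hm2 := move (F.mem_C.1 hY1).1 _ hf
        rw [hshift] at hm2
        have hm3 := move (F.mem_C.1 (mul_mem hY1 F.p_mem_C)).1 _ hm2
        rw [hshift'] at hm3
        exact hfin _ (hinv δ hδ (hinv δ hδ hm)) (hne (hne a1)) hm3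
    · exact hfin _ (hmem Y hY) a0 (F.proj_mem hY'.1 hY3 w)
  rcases (show i % 3 = 1 ∨ i % 3 = 2 by omega) with e | e <;> rw [e] at e1
  · exact key d hd hd3 (by rw [e1, pow_one]) (by rw [hdi']; exact hf₂)
  · refine key d⁻¹ (inv_mem hd) (by rw [Subgroup.coe_inv, inv_pow, hd3, inv_one]) ?_ ?_
    · simp only [Subgroup.coe_inv, inv_inv]
      calc (d : G)⁻¹ * Y * d = (d : G)⁻¹ * ((Y : G) * F.p ^ 2 * F.p) * d := by
            rw [mul_assoc (Y : G), ← pow_succ, F.p_cube, mul_one]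
        _ = (d : G)⁻¹ * ((d : G) * Y * (d : G)⁻¹ * F.p) * d := by rw [e1]
        _ = Y * ((d : G)⁻¹ * F.p * d) := by group
        _ = Y * F.p := by rw [mul_assoc (d : G)⁻¹, ← hd'.2.eq, inv_mul_cancel_left]
    · obtain ⟨u, hu, hu1, hcu⟩ := hf₂
      refine ⟨u, hu, hu1, ?_⟩
      rw [Subgroup.coe_inv, F.img_inv hd'.1, hdi']
      exact hcu.inv_left

end Cfsg.Lib.JankoFour
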