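import Cfsg.Agent.Lib.JankoFour.Iso

/-!
# The centralizer of `p` lies in the centralizer of `z`
-/

set_option autoImplicit false
set_option linter.style.haveILetI false
set_option linter.unusedSectionVars false

namespace Cfsg.Lib.JankoFour

open Cfsg Cfsg.Lib.Extra Module
open scoped commutatorElement

namespace Frame

variable {G : Type*} [Group G] [Finite G] {A : Type} [Group A] {I : Subgroup A} (F : Frame G A I)

theorem finite_A (F : Frame G A I) : Finite A := Nat.finite_of_card_ne_zero (by rw [F.facts.card_A]; omega)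

/-- An element inverting `p` lies outside the kernel. -/
theorem not_inv_E {e : G} (he : e ∈ F.E) : e * F.p * e⁻¹ ≠ F.p⁻¹ := by
  intro h
  have h2 : e * F.p * e⁻¹ * F.p⁻¹ = F.p := by rw [h, ← pow_two, inv_pow, ← F.p_inv, inv_inv]
  refine F.not_mem_p (h2 ▸ ?_)
  rw [show e * F.p * e⁻¹ * F.p⁻¹ = e * (F.p * e⁻¹ * F.p⁻¹) by group]
  exact F.E.mul_mem he (F.conj_mem F.p_comm (inv_mem he))

/-- An element with image in `I` normalizing `⟨p⟩` centralizes `p`. -/
theorem commute_p_of_mem_I {x : G} (hx : Commute x F.z) (hI : F.img x ∈ I)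
    (h : Commute x F.p ∨ x * F.p * x⁻¹ = F.p⁻¹) : Commute x F.p := by
  obtain ⟨c, hc, hci⟩ := F.mem_I_iff.1 hI
  obtain ⟨hcz, hcp⟩ := F.mem_C.1 hc
  obtain ⟨i, hi⟩ := F.ker_commute (hcz.inv_left.mul_left hx)
    (by rw [F.img_mul _ _ hcz.inv_left hx, F.img_inv hcz, hci, inv_mul_cancel]) (by
      rcases h with h | h
      · exact Or.inl (hcp.inv_left.mul_left h)
      · refine Or.inr ?_
        calc c⁻¹ * x * F.p * (c⁻¹ * x)⁻¹ = c⁻¹ * (x * F.p * x⁻¹) * c := by group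
          _ = F.p⁻¹ := by rw [h, (hcp.inv_left.inv_right).eq, inv_mul_cancel_right])
  have e : c⁻¹ * x ∈ F.C := by
    rcases hi with e | e <;> rw [e]
    exacts [pow_mem F.p_mem_C i, mul_mem F.z_mem_C (pow_mem F.p_mem_C i)]
  have := F.C.mul_mem hc e
  rw [mul_inv_cancel_left] at this
  exact (F.mem_C.1 this).2

/-- An element of odd order maps into `I`. -/
theorem img_mem_I {x : G} (hx : Commute x F.z) {n : ℕ} (hn : Odd n) (h : x ^ n = 1) : F.img x ∈ I := by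
  haveI := F.facts.normal
  obtain ⟨m, rfl⟩ := hn
  by_contra hI
  have h2 : F.img x ^ 2 ∈ I := by
    rw [pow_two]; exact Subgroup.mul_self_mem_of_index_two F.facts_index _
  have h1 : F.img x ^ (2 * m + 1) = 1 := by rw [← F.img_pow hx, h, F.img_one]
  rw [pow_succ, pow_mul] at h1
  exact hI (by rw [eq_inv_of_mul_eq_one_right h1]; exact inv_mem (pow_mem h2 m))

/-- A conjugate frame at another involution in which `p` lies in `C`. -/
theorem exists_other {t : G} (ht : t ∈ F.C) (hne : t ≠ F.z) {k : G} (hk : k * F.z * k⁻¹ = t) :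
    ∃ k', k' * F.z * k'⁻¹ = t ∧ F.p ∈ (F.conj k').C ∧ (F.conj k').img F.p ≠ 1 := by
  obtain ⟨htz, htp⟩ := F.mem_C.1 ht
  set F' := F.conj k
  have hzt : F'.z = t := hk
  have hpt : Commute F.p F'.z := hzt ▸ htp.symm
  have hker : F'.img F.p ≠ 1 := by
    intro h1
    obtain ⟨d, hd, hd'⟩ := F'.ker_three hpt h1 F.p_cube fun e => F.not_mem_p (e ▸ one_mem _)
    have hdz : d * k * F.z * (d * k)⁻¹ = t := by
      calc d * k * F.z * (d * k)⁻¹ = d * F'.z * d⁻¹ := by show _ = d * (k * F.z * k⁻¹) * d⁻¹; group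
        _ = t := by rw [(F'.comm_of_mem hd).eq, mul_inv_cancel_right, hzt]
    have hdp : d * k * F.p * (d * k)⁻¹ = F.p ∨ d * k * F.p * (d * k)⁻¹ = F.p⁻¹ := by
      have e0 : d * k * F.p * (d * k)⁻¹ = d * F'.p * d⁻¹ := by show _ = d * (k * F.p * k⁻¹) * d⁻¹; group
      rw [e0]
      rcases hd' with e | e
      · exact Or.inl e
      · exact Or.inr (by rw [← e]; group)
    exact hne (hdz ▸ F.eq_of_normalize hdp (hdz ▸ htz))
  -- a conjugate of the scalar of the other frame commutes with `p`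
  have hpI : F'.img F.p ∈ I := F'.img_mem_I hpt (n := 3) (by decide) F.p_cube
  obtain ⟨d, hd, hd'⟩ := F'.ker_three ((hpt.mul_left F'.p_comm).mul_left hpt.inv_left)
    (by rw [F'.img_conj hpt F'.p_comm, F'.img_p, mul_one, mul_inv_cancel])
    (by rw [conj_pow, F'.p_cube, mul_one, mul_inv_cancel])
    (fun h => F'.not_mem_p (by rw [conj_eq_one_iff.1 h]; exact one_mem _))
  set d2 := F.p * d * F.p⁻¹ with hd2
  set d3 := F.p * d2 * F.p⁻¹ with hd3
  have hd2E : d2 ∈ F'.E := F'.conj_mem hpt hd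
  have hd3E : d3 ∈ F'.E := F'.conj_mem hpt hd2E
  have hcyc : ∀ r : G, F.p * F'.p * F.p⁻¹ = d * r * d⁻¹ →
      F.p * (F.p * (F.p * F'.p * F.p⁻¹) * F.p⁻¹) * F.p⁻¹ = F'.p := by
    intro r _
    calc F.p * (F.p * (F.p * F'.p * F.p⁻¹) * F.p⁻¹) * F.p⁻¹ = F.p ^ 3 * F'.p * (F.p ^ 3)⁻¹ := by
          rw [pow_succ, pow_two]; group
      _ = F'.p := by rw [F.p_cube]; group
  have hd1 : d * F'.p * d⁻¹ = F.p * F'.p * F.p⁻¹ := by
    refine hd'.resolve_right fun e => ?_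
    refine F'.not_inv_E (e := (d3 * d2 * d)) (F'.E.mul_mem (F'.E.mul_mem hd3E hd2E) hd) ?_
    have e' := hcyc _ e.symm
    have s1 : F.p * (F.p * F'.p * F.p⁻¹) * F.p⁻¹ = d2 * d * F'.p * d⁻¹ * d2⁻¹ := by
      rw [← e, show F.p * (d * F'.p⁻¹ * d⁻¹) * F.p⁻¹ = d2 * (F.p * F'.p * F.p⁻¹)⁻¹ * d2⁻¹ by rw [hd2]; group,
        ← e]
      group
    rw [s1, show F.p * (d2 * d * F'.p * d⁻¹ * d2⁻¹) * F.p⁻¹ =
      d3 * d2 * (F.p * F'.p * F.p⁻¹) * d2⁻¹ * d3⁻¹ by rw [hd3, hd2]; group, ← e] at e'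
    rw [← inv_inj, inv_inv]
    conv_rhs => rw [← e']
    group
  have hzero : JankoFour.cls F'.ctx (d3 * d2 * d) = 0 := by
    have hE3 := F'.E.mul_mem (F'.E.mul_mem hd3E hd2E) hd
    refine (cls_eq_zero F'.ctx hE3).2 (F'.fixed _ hE3 (mul_inv_eq_iff_eq_mul.1 ?_))
    have e' := hcyc _ hd1.symm
    have s1 : F.p * (F.p * F'.p * F.p⁻¹) * F.p⁻¹ = d2 * d * F'.p * d⁻¹ * d2⁻¹ := by
      rw [← hd1, show F.p * (d * F'.p * d⁻¹) * F.p⁻¹ = d2 * (F.p * F'.p * F.p⁻¹) * d2⁻¹ by rw [hd2]; group, ← hd1]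
      group
    rw [s1, show F.p * (d2 * d * F'.p * d⁻¹ * d2⁻¹) * F.p⁻¹ =
      d3 * d2 * (F.p * F'.p * F.p⁻¹) * d2⁻¹ * d3⁻¹ by rw [hd3, hd2]; group, ← hd1] at e'
    conv_rhs => rw [← e']
    group
  set y := d2 with hy
  have hcls : JankoFour.cls F'.ctx (d3 * d) = JankoFour.cls F'.ctx y := by
    rw [cls_mul F'.ctx (F'.E.mul_mem hd3E hd2E) hd, cls_mul F'.ctx hd3E hd2E] at hzero
    rw [cls_mul F'.ctx hd3E hd, ← add_eq_zero_iff_eq' F'.ctx, ← hzero]
    abel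
  have hfix : Commute F.p (y * F'.p * y⁻¹) := by
    refine mul_inv_eq_iff_eq_mul.1 ?_
    have e0 : F.p * (y * F'.p * y⁻¹) * F.p⁻¹ = (d3 * d) * F'.p * (d3 * d)⁻¹ := by
      rw [show F.p * (y * F'.p * y⁻¹) * F.p⁻¹ = d3 * (F.p * F'.p * F.p⁻¹) * d3⁻¹ by rw [hd3]; group, ← hd1]
      group
    rw [e0]
    rcases (cls_eq_iff F'.ctx (F'.E.mul_mem hd3E hd) hd2E).1 hcls with e | e <;> rw [e]
    calc F'.z * y * F'.p * (F'.z * y)⁻¹ = F'.z * (y * F'.p * y⁻¹) * F'.z⁻¹ := by group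
      _ = y * F'.p * y⁻¹ := by
        have : Commute F'.z (y * F'.p * y⁻¹) :=
          ((F'.ctx.central y hd2E).mul_right F'.p_comm.symm).mul_right (F'.ctx.central y hd2E).inv_right
        rw [this.eq, mul_inv_cancel_right]
  have hyz : y * k * F.z * (y * k)⁻¹ = t := by
    calc y * k * F.z * (y * k)⁻¹ = y * F'.z * y⁻¹ := by show _ = y * (k * F.z * k⁻¹) * y⁻¹; group
      _ = t := by rw [(F'.comm_of_mem hd2E).eq, mul_inv_cancel_right, hzt]
  refine ⟨y * k, hyz, (F.conj (y * k)).mem_C.2 ⟨?_, ?_⟩, ?_⟩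
  · show Commute F.p (y * k * F.z * (y * k)⁻¹)
    rw [hyz]; exact htp.symm
  · show Commute F.p (y * k * F.p * (y * k)⁻¹)
    rw [show y * k * F.p * (y * k)⁻¹ = y * (k * F.p * k⁻¹) * y⁻¹ by group]
    exact hfix
  · show F.img ((y * k)⁻¹ * F.p * (y * k)) ≠ 1
    intro h1
    have e1 : F'.img (y⁻¹ * F.p * y) = 1 := by
      show F.img (k⁻¹ * (y⁻¹ * F.p * y) * k) = 1
      rwa [show k⁻¹ * (y⁻¹ * F.p * y) * k = (y * k)⁻¹ * F.p * (y * k) by group]
    have hyz' : Commute y F'.z := F'.comm_of_mem hd2E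
    rw [F'.img_mul _ _ (hyz'.inv_left.mul_left hpt) hyz', F'.img_mul _ _ hyz'.inv_left hpt, F'.img_inv hyz',
      F'.img_mem hd2E, inv_one, one_mul, mul_one] at e1
    exact hker e1

theorem imgC_normal (S : Subgroup ↥F.C) [S.Normal] : S.map F.imgC = ⊥ ∨ S.map F.imgC = I := by
  haveI := F.facts.simple
  haveI : ((S.map F.imgC).subgroupOf I).Normal := by
    refine ⟨fun n hn g => ?_⟩
    obtain ⟨s, hs, hsn⟩ := hn
    obtain ⟨c, hc⟩ : (g : A) ∈ F.imgC.range := F.imgC_range.symm ▸ g.2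
    refine ⟨c * s * c⁻¹, Subgroup.Normal.conj_mem inferInstance s hs c, ?_⟩
    rw [map_mul, map_mul, map_inv, hsn, hc]
    rfl
  have hle : S.map F.imgC ≤ I := (Subgroup.map_le_range _ _).trans F.imgC_range.le
  rcases IsSimpleGroup.eq_bot_or_eq_top_of_normal ((S.map F.imgC).subgroupOf I) inferInstance with h | h
  · left
    rw [Subgroup.subgroupOf_eq_bot] at h
    exact disjoint_iff.1 h ▸ (inf_eq_left.2 hle).symm
  · exact Or.inr (le_antisymm hle (Subgroup.subgroupOf_eq_top.1 h))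

/-- A normal subgroup of `C` moving the image contains the commutators. -/
theorem commutator_le_of_normal {N : Subgroup G} (hn : ∀ c ∈ F.C, ∀ n ∈ N, c * n * c⁻¹ ∈ N) {t : G}
    (ht : t ∈ N) (htC : t ∈ F.C) (hti : F.img t ≠ 1) : ⁅F.C, F.C⁆ ≤ N := by
  haveI : (N.subgroupOf F.C).Normal := ⟨fun n hn' g => hn g g.2 n hn'⟩
  have hI : (N.subgroupOf F.C).map F.imgC = I := by
    refine (F.imgC_normal _).resolve_left fun h => hti ?_
    have : F.imgC ⟨t, htC⟩ ∈ (N.subgroupOf F.C).map F.imgC := ⟨⟨t, htC⟩, ht, rfl⟩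
    rwa [h, Subgroup.mem_bot] at this
  rw [Subgroup.commutator_le]
  intro a ha b hb
  have hsplit : ∀ c ∈ F.C, ∃ n ∈ N, n ∈ F.C ∧ ∀ d ∈ F.C, Commute (n⁻¹ * c) d := by
    intro c hc
    have hm : F.imgC ⟨c, hc⟩ ∈ (N.subgroupOf F.C).map F.imgC := by
      rw [hI]; exact (SetLike.ext_iff.1 F.imgC_range _).1 ⟨_, rfl⟩
    obtain ⟨n, hn', e⟩ := hm
    refine ⟨n, hn', n.2, fun d hd => F.ker_C_comm (F.C.mul_mem (F.C.inv_mem n.2) hc) ?_ hd⟩
    have e' : F.img (n : G) = F.img c := e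
    rw [F.img_mul _ _ (F.mem_C.1 n.2).1.inv_left (F.mem_C.1 hc).1, F.img_inv (F.mem_C.1 n.2).1, e', inv_mul_cancel]
  obtain ⟨n, hnN, hnC, hna⟩ := hsplit a ha
  obtain ⟨m, hmN, hmC, hmb⟩ := hsplit b hb
  have ea : a = n * (n⁻¹ * a) := (mul_inv_cancel_left n a).symm
  have eb : b = m * (m⁻¹ * b) := (mul_inv_cancel_left m b).symm
  set u := n⁻¹ * a
  set v := m⁻¹ * b
  have huC : u ∈ F.C := F.C.mul_mem (F.C.inv_mem hnC) ha
  have hvC : v ∈ F.C := F.C.mul_mem (F.C.inv_mem hmC) hb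
  have e : ⁅a, b⁆ = ⁅n, m⁆ := by
    rw [commutatorElement_def, commutatorElement_def, ea, eb]
    calc n * u * (m * v) * (n * u)⁻¹ * (m * v)⁻¹ = n * (u * (m * v)) * u⁻¹ * n⁻¹ * v⁻¹ * m⁻¹ := by group
      _ = n * m * (v * n⁻¹) * v⁻¹ * m⁻¹ := by rw [(hna _ (F.C.mul_mem hmC hvC)).eq]; group
      _ = n * m * n⁻¹ * m⁻¹ := by rw [(hmb _ (F.C.inv_mem hnC)).eq]; group
  rw [e, commutatorElement_def]
  exact N.mul_mem (N.mul_mem (N.mul_mem hnN hmN) (N.inv_mem hnN)) (N.inv_mem hmN)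

theorem eq_one_of_odd_two {x : G} {m n : ℕ} (hm : Odd m) (h1 : x ^ m = 1) (h2 : x ^ 2 ^ n = 1) : x = 1 :=
  orderOf_eq_one_iff.1 (Nat.eq_one_of_dvd_coprimes ((Nat.coprime_two_right.2 hm).pow_right n)
    (orderOf_dvd_of_pow_eq_one h1) (orderOf_dvd_of_pow_eq_one h2))

theorem pow_card_O {o : G} (ho : o ∈ F.O) : o ^ Nat.card ↥F.O = 1 :=
  congrArg Subtype.val (pow_card_eq_one' (x := (⟨o, ho⟩ : ↥F.O)))

theorem pow_two_E {e : G} (he : e ∈ F.E) : e ^ 2 ^ 2 = 1 := by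
  rcases F.ctx.sq e he with e2 | e2
  · rw [show (2 : ℕ) ^ 2 = 2 * 2 from rfl, pow_mul, pow_two e, e2, one_pow]
  · rw [show (2 : ℕ) ^ 2 = 2 * 2 from rfl, pow_mul, pow_two e, e2, pow_two, F.ctx.sq_z]

theorem eq_one_O_E {F' : Frame G A I} {x : G} (h1 : x ∈ F.O) (h2 : x ∈ F'.E) : x = 1 :=
  eq_one_of_odd_two F.O_odd (F.pow_card_O h1) (F'.pow_two_E h2)

/-- An element of odd order centralizing `z` and an element `X` of order three maps into `⟨img X⟩`. -/
theorem img_mem_powers {o X : G} (hX : X ∈ F.C) (h3 : X ^ 3 = 1) (hne : F.img X ≠ 1) (ho : Commute o F.z)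
    (hoX : Commute o X) {n : ℕ} (hn : Odd n) (hon : o ^ n = 1) : ∃ j : ℕ, F.img o = F.img X ^ j := by
  haveI := F.finite_A
  haveI : Fact (Nat.Prime 3) := ⟨Nat.prime_three⟩
  have hX' := F.mem_C.1 hX
  have hxo : orderOf (F.img X) = 3 := orderOf_eq_prime (by rw [← F.img_pow hX'.1, h3, F.img_one]) hne
  set y := F.img o with hy
  have hyn : y ^ n = 1 := by rw [hy, ← F.img_pow ho, hon, F.img_one]
  have hyC : y ∈ Subgroup.centralizer ({F.img X} : Set A) := Subgroup.mem_centralizer_singleton_iff.2 (by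
    rw [hy, ← F.img_mul _ _ ho hX'.1, hoX.eq, F.img_mul _ _ hX'.1 ho])
  have hy9 : orderOf y ∣ 9 := by
    have h72 := Subgroup.orderOf_dvd_natCard (s := Subgroup.centralizer ({F.img X} : Set A)) hyC
    rw [(F.facts.three_cent _ hxo).1] at h72
    have hodd := orderOf_dvd_of_pow_eq_one hyn
    exact (((Nat.coprime_two_right.2 hn).pow_right 3).coprime_dvd_left hodd).dvd_of_dvd_mul_left
      (show orderOf y ∣ 2 ^ 3 * 9 by simpa using h72)
  have hy3 : y ^ 3 = 1 := by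
    rcases (Nat.dvd_prime_pow Nat.prime_three).1 (show orderOf y ∣ 3 ^ 2 by simpa using hy9) with ⟨i, hi, e⟩
    rcases (show i ≤ 1 ∨ i = 2 by omega) with hi' | rfl
    · exact orderOf_dvd_iff_pow_eq_one.1 (e ▸ (pow_dvd_pow 3 hi').trans (by norm_num))
    · exact (F.facts.sylow_three (Subgroup.zpowers y) (by rw [Nat.card_zpowers, e]; norm_num)).2.1 y
        (Subgroup.mem_zpowers y)
  by_cases hmem : y ∈ Subgroup.zpowers (F.img X)
  · obtain ⟨j, hj⟩ := mem_powers_iff_mem_zpowers.2 hmem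
    exact ⟨j, hj.symm⟩
  exfalso
  -- a lift in `C` commuting with `X`
  have hyI : y ∈ I := F.img_mem_I ho hn hon
  obtain ⟨e, he, hea⟩ := F.exists_normalizing ho
  have hez := F.comm_of_mem he
  set a := e * o
  have haz : Commute a F.z := hez.mul_left ho
  have hai : F.img a = y := by rw [F.img_mul _ _ hez ho, F.img_mem he, one_mul]
  have hap : Commute a F.p := F.commute_p_of_mem_I haz (hai ▸ hyI) hea
  have haC : a ∈ F.C := F.mem_C.2 ⟨haz, hap⟩
  have haX : Commute a X := by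
    set m := a * X * a⁻¹ * X⁻¹ with hm
    have hmC : m ∈ F.C := F.C.mul_mem (F.C.mul_mem (F.C.mul_mem haC hX) (F.C.inv_mem haC)) (F.C.inv_mem hX)
    have hmE : m ∈ F.E := by
      rw [hm, show e * o * X * (e * o)⁻¹ * X⁻¹ = e * ((o * X * o⁻¹) * e⁻¹ * X⁻¹) by group, hoX.eq,
        mul_inv_cancel_right]
      exact F.E.mul_mem he (F.conj_mem hX'.1 (F.E.inv_mem he))
    have hm3 : m ^ 3 = 1 := by
      have e1 : a * X * a⁻¹ = m * X := by rw [hm, inv_mul_cancel_right]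
      have e2 := congrArg (· ^ 3) e1
      simp only [conj_pow, h3, mul_one, mul_inv_cancel, (F.ker_C_comm hmC (F.img_mem hmE) hX).mul_pow] at e2
      exact e2.symm
    have h1 := F.eq_one_of_cube hmE hm3
    rw [hm] at h1
    exact mul_inv_eq_iff_eq_mul.1 (mul_inv_eq_one.1 h1)
  -- so a Sylow subgroup of `C` has centre beyond `⟨p⟩`
  set b := a ^ 4 with hb
  have hbC : b ∈ F.C := F.C.pow_mem haC 4
  have hbi : F.img b = y := by rw [hb, F.img_pow haz, hai, pow_succ, hy3, one_mul]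
  have hbX : Commute b X := haX.pow_left 4
  have hb3 : b ^ 3 = 1 := by
    obtain ⟨i, hi⟩ := F.ker_C (F.C.pow_mem haC 3) (by rw [F.img_pow haz, hai, hy3])
    refine F.cube_eq_one (i := i * 4) hbC (fun h => hmem ?_) ?_
    · rw [hbi] at h; rw [h]; exact one_mem _
    · rw [hb, ← pow_mul, mul_comm 4, pow_mul]
      rcases hi with h | h <;> rw [h]
      · rw [← pow_mul]
      · rw [(F.p_comm.symm.pow_right i).mul_pow, ← pow_mul F.p, show F.z ^ 4 = (F.z * F.z) ^ 2 by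
          rw [← pow_two, ← pow_mul], F.ctx.sq_z, one_pow, one_mul]
  set X' : ↥F.C := ⟨X, hX⟩
  set b' : ↥F.C := ⟨b, hbC⟩
  have hP : IsPGroup 3 ↥(Subgroup.closure ({X', b'} : Set ↥F.C)) := by
    have hcomm : Commute X' b' := Subtype.ext hbX.symm.eq
    haveI : IsMulCommutative ↥(Subgroup.closure ({X', b'} : Set ↥F.C)) := by
      refine Subgroup.isMulCommutative_closure ?_
      rintro _ (rfl | rfl) _ (rfl | rfl)
      exacts [rfl, hcomm.eq, hcomm.symm.eq, rfl]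
    intro g
    refine ⟨1, Subtype.ext ?_⟩
    obtain ⟨g, hg⟩ := g
    show g ^ 3 ^ 1 = 1
    rw [pow_one]
    have hc : ∀ a ∈ Subgroup.closure ({X', b'} : Set ↥F.C), ∀ b ∈ Subgroup.closure ({X', b'} : Set ↥F.C),
        Commute a b := fun a ha b hb => congrArg Subtype.val
          (mul_comm' (⟨a, ha⟩ : ↥(Subgroup.closure ({X', b'} : Set ↥F.C))) ⟨b, hb⟩)
    induction hg using Subgroup.closure_induction with
    | mem x hx => rcases hx with rfl | rfl <;> exact Subtype.ext (by first | exact h3 | exact hb3)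
    | one => exact one_pow 3
    | mul x y hx hy ix iy => rw [(hc x hx y hy).mul_pow, ix, iy, one_mul]
    | inv x _ ix => rw [inv_pow, ix, inv_one]
  obtain ⟨R, hR⟩ := hP.exists_le_sylow
  have hXR : X' ∈ R := hR (Subgroup.subset_closure (Set.mem_insert _ _))
  have hbR : b' ∈ R := hR (Subgroup.subset_closure (Set.mem_insert_of_mem _ rfl))
  obtain ⟨r, hrR, hr⟩ := F.exists_not_commute R hXR hne
  set M := Subgroup.centralizer ({X'} : Set ↥F.C)
  set Rb := (R : Subgroup ↥F.C).map F.imgC with hRb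
  have h9 : Nat.card ↥Rb = 9 := F.card_sylow_map R
  have hle : Rb ≤ M.map F.imgC := by
    set W := Subgroup.closure ({F.img X, y} : Set A)
    have hW : W ≤ Rb := (Subgroup.closure_le _).2 (by
      rintro _ (rfl | rfl)
      exacts [⟨X', hXR, rfl⟩, ⟨b', hbR, hbi⟩])
    have hd : Nat.card ↥W ∣ 9 := h9 ▸ Subgroup.card_dvd_of_le hW
    have hlt : 3 < Nat.card ↥W := by
      rw [← hxo, ← Nat.card_zpowers]
      by_contra hge
      have e1 := Subgroup.eq_of_le_of_card_ge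
        (Subgroup.zpowers_le.2 (Subgroup.subset_closure (Set.mem_insert _ _)) : Subgroup.zpowers (F.img X) ≤ W)
        (by omega)
      exact hmem (e1.symm ▸ Subgroup.subset_closure (Set.mem_insert_of_mem _ rfl))
    have h9' : Nat.card ↥W = 9 := by
      rcases (Nat.dvd_prime_pow Nat.prime_three).1 (show Nat.card ↥W ∣ 3 ^ 2 by simpa using hd) with ⟨i, hi, e⟩
      interval_cases i <;> rw [e] at hlt ⊢ <;> omega
    rw [← Subgroup.eq_of_le_of_card_ge hW (by rw [h9, h9'])]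
    refine (Subgroup.closure_le _).2 ?_
    rintro _ (rfl | rfl)
    · exact ⟨X', Subgroup.mem_centralizer_singleton_iff.2 rfl, rfl⟩
    · exact ⟨b', Subgroup.mem_centralizer_singleton_iff.2 (Subtype.ext hbX.eq), hbi⟩
  obtain ⟨m, hm, hme⟩ := hle ⟨r, hrR, rfl⟩
  refine hr (Subtype.ext ?_)
  have hk := F.ker_C_comm (F.C.mul_mem (F.C.inv_mem m.2) r.2) (by
    have e1 : F.img (m : G) = F.img r := hme
    rw [F.img_mul _ _ (F.mem_C.1 m.2).1.inv_left (F.mem_C.1 r.2).1, F.img_inv (F.mem_C.1 m.2).1, e1,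
      inv_mul_cancel]) hX
  have hm' : Commute (m : G) X := congrArg Subtype.val (Subgroup.mem_centralizer_singleton_iff.1 hm)
  have := hm'.mul_left hk
  rw [mul_inv_cancel_left] at this
  exact this.eq

theorem O_center {x : G} (hx : x ∈ F.O) (hz : Commute x F.z) : x ∈ Subgroup.zpowers F.p := by
  set S := (F.O.subgroupOf F.C) with hS
  haveI : S.Normal := ⟨fun n hn g => F.O_conj hn (F.mem_C.1 g.2).2⟩
  haveI := F.finite_A
  have hxC : x ∈ F.C := F.mem_C.2 ⟨hz, F.O_comm hx⟩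
  have hbot : S.map F.imgC = ⊥ := by
    refine (F.imgC_normal S).resolve_right fun h => ?_
    have hodd : Odd (Nat.card ↥(S.map F.imgC)) := by
      refine F.O_odd.of_dvd_nat ((Subgroup.card_map_dvd _ _).trans ?_)
      rw [hS, ← Subgroup.inf_subgroupOf_left, Nat.card_congr (Subgroup.subgroupOfEquivOfLe inf_le_left).toEquiv]
      exact Subgroup.card_dvd_of_le inf_le_right
    rw [h, F.facts.card_I] at hodd
    exact absurd hodd (by decide)
  have hi : F.img x = 1 := by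
    have : F.imgC ⟨x, hxC⟩ ∈ S.map F.imgC := ⟨⟨x, hxC⟩, hx, rfl⟩
    rwa [hbot, Subgroup.mem_bot] at this
  obtain ⟨i, e | e⟩ := F.ker_C hxC hi
  · exact e ▸ pow_mem (Subgroup.mem_zpowers _) i
  · exfalso
    have h1 := F.pow_card_O hx
    obtain ⟨m, hm⟩ := F.O_odd
    rw [e, (F.p_comm.symm.pow_right i).mul_pow, hm, pow_succ F.z, pow_mul, pow_two, F.ctx.sq_z, one_pow, one_mul,
      ← pow_mul] at h1
    refine F.z_ne_p_pow (i * (2 * m + 1) * 2) ((eq_inv_of_mul_eq_one_left h1).trans ?_)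
    rw [pow_mul F.p (i * (2 * m + 1))]
    exact inv_eq_of_mul_eq_one_right (by rw [← pow_succ', F.p_pow_six])

end Frame

end Cfsg.Lib.JankoFour
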