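import Cfsg.Agent.Lib.JankoFour.NoEleven
import Cfsg.Agent.Lib.JankoFour.BitModel.Centralizer

/-!
# The centralizer of an involution of the second class
-/

set_option autoImplicit false
set_option linter.style.haveILetI false
set_option linter.unusedSectionVars false

namespace Cfsg.Lib.JankoFour

open Cfsg Cfsg.Lib.Extra Module BitModel

variable {G : Type*} [Group G] [Finite G] {A : Type} [Group A] {I : Subgroup A}

/-- Two involutions are conjugate by a power of their product, or a power of it centralizes both. -/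
theorem dihedral {x y : G} (hx : x * x = 1) (hy : y * y = 1) {H : Subgroup G} (hxH : x ∈ H) (hyH : y ∈ H) :
    (∃ c ∈ H, c * x * c⁻¹ = y) ∨ ∃ i ∈ H, i * i = 1 ∧ i ≠ 1 ∧ Commute i x ∧ Commute i y ∧
      (∃ c ∈ H, c * x * c⁻¹ = x * i ∨ c * y * c⁻¹ = x * i) ∧
      ∃ c ∈ H, c * x * c⁻¹ = y * i ∨ c * y * c⁻¹ = y * i := by
  set r := x * y with hr
  have hrH : r ∈ H := mul_mem hxH hyH
  have xi : x⁻¹ = x := inv_eq_of_mul_eq_one_right hx
  have yi : y⁻¹ = y := inv_eq_of_mul_eq_one_right hy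
  have hri : r⁻¹ = y * x := by rw [hr, mul_inv_rev, xi, yi]
  have hxr : x * r * x⁻¹ = r⁻¹ := by rw [hri, hr, xi, ← mul_assoc x, hx, one_mul]
  have hyr : y * r * y⁻¹ = r⁻¹ := by rw [hri, hr, yi, mul_assoc y, mul_assoc x, hy, mul_one]
  have hxj : ∀ j : ℕ, r ^ j * x * (r ^ j)⁻¹ = r ^ (2 * j) * x := fun j => by
    have h : (r ^ j)⁻¹ = x * r ^ j * x⁻¹ := by rw [← conj_pow, hxr, inv_pow]
    have h2 : x * (r ^ j)⁻¹ = r ^ j * x := by rw [h, ← mul_assoc, ← mul_assoc, hx, one_mul, xi]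
    rw [mul_assoc, h2, ← mul_assoc, two_mul, pow_add]
  have hyj : ∀ j : ℕ, r ^ j * y * (r ^ j)⁻¹ = r ^ (2 * j) * y := fun j => by
    have h : (r ^ j)⁻¹ = y * r ^ j * y⁻¹ := by rw [← conj_pow, hyr, inv_pow]
    have h2 : y * (r ^ j)⁻¹ = r ^ j * y := by rw [h, ← mul_assoc, ← mul_assoc, hy, one_mul, yi]
    rw [mul_assoc, h2, ← mul_assoc, two_mul, pow_add]
  have hy' : y = r⁻¹ * x := by rw [hri, mul_assoc, hx, mul_one]
  have hord := pow_orderOf_eq_one r
  obtain ⟨m, hm | hm⟩ := Nat.even_or_odd' (orderOf r)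
  · right
    have hm0 : 0 < m := by have := orderOf_pos r; omega
    set i := r ^ m with hi
    have hi2 : i * i = 1 := by rw [hi, ← pow_add, ← two_mul, ← hm, hord]
    have hii : (r ^ m)⁻¹ = i := inv_eq_of_mul_eq_one_right hi2
    have hix : Commute i x := by
      have h := conj_pow (a := x) (b := r) (i := m)
      rw [hxr, inv_pow, hii] at h
      exact (mul_inv_eq_iff_eq_mul.1 h.symm).symm
    have hiy : Commute i y := by
      have h := conj_pow (a := y) (b := r) (i := m)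
      rw [hyr, inv_pow, hii] at h
      exact (mul_inv_eq_iff_eq_mul.1 h.symm).symm
    refine ⟨i, pow_mem hrH m, hi2, fun h1 => ?_, hix, hiy, ?_, ?_⟩
    · exact absurd (orderOf_dvd_of_pow_eq_one h1) (Nat.not_dvd_of_pos_of_lt hm0 (by omega))
    · obtain ⟨l, hl | hl⟩ := Nat.even_or_odd' m
      · exact ⟨r ^ l, pow_mem hrH l, Or.inl (by rw [hxj, ← hl, ← hix.eq])⟩
      · refine ⟨r ^ (l + 1), pow_mem hrH _, Or.inr ?_⟩
        rw [hyj, ← hix.eq, hi, hl, hy', show 2 * (l + 1) = 2 * l + 1 + 1 by ring, pow_succ r (2 * l + 1)]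
        group
    · obtain ⟨l, hl | hl⟩ := Nat.even_or_odd' m
      · exact ⟨r ^ l, pow_mem hrH l, Or.inr (by rw [hyj, ← hl, ← hiy.eq])⟩
      · refine ⟨r ^ l, pow_mem hrH _, Or.inl ?_⟩
        rw [hxj, ← hiy.eq, hi, hl, hy', pow_succ r (2 * l)]
        group
  · left
    refine ⟨r ^ m, pow_mem hrH m, ?_⟩
    rw [hxj, hy', show r⁻¹ = r ^ (2 * m) from inv_eq_of_mul_eq_one_right (by rw [← pow_succ', ← hm, hord])]

namespace Adapted

variable {F : Frame G A I} {D : HexData A I} {S : Std F D} (C : Adapted S)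

include C in
/-- A conjugate of `z` in one group through `t` normalizes no other one. -/
theorem no_two {j t : G} (hjN : j ∈ S.NV) (hj : IsConj F.z j) (ht : t ∈ S.Vb) (ht1 : t ≠ 1)
    (htnc : ¬ IsConj F.z t) {V' : Subgroup G} (hV' : IsBig V') (hjV' : j ∈ V') (htV' : t ∈ V') : V' = S.Vb := by
  by_cases hjV : j ∈ S.Vb
  · obtain ⟨g, hg⟩ := isConj_iff.1 hj
    obtain ⟨n, hn, hne⟩ := S.fusion S.z_mem hjV hg
    set W := V'.map (MulAut.conj n⁻¹).toMonoidHom
    have hz : F.z ∈ W := ⟨j, hjV', show n⁻¹ * j * n⁻¹⁻¹ = F.z by rw [← hne]; group⟩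
    have hW : F.IsEleven W := ⟨fun x hx => commute_of_sq (isBig_map hV' _).1 hx hz, (isBig_map hV' _).1,
      (isBig_map hV' _).2⟩
    have e := C.uniq hW S.isEleven (t := n⁻¹ * t * n⁻¹⁻¹) ⟨t, htV', rfl⟩ (S.conj_mem_Vb (inv_mem hn) ht)
      (fun e => ht1 (conj_eq_one_iff.1 e)) fun e => htnc (isConj_conj_iff.1 e)
    refine Subgroup.map_injective (f := (MulAut.conj n⁻¹).toMonoidHom) (MulAut.conj n⁻¹).injective ?_
    exact e.trans (map_of_mem_normalizer (inv_mem hn)).symm
  · exfalso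
    obtain ⟨n, hn, hjE, hjK, htK⟩ := C.into hjN (hV'.1 j hjV') hjV ht ht1 htnc (commute_of_sq hV'.1 hjV' htV')
    exact C.no_eleven hjE hjK (isConj_conj_iff.2 hj) htK (fun e => ht1 (conj_eq_one_iff.1 e))
      (fun e => htnc (isConj_conj_iff.1 e)) ((commute_of_sq hV'.1 hjV' htV').map (MulAut.conj n).toMonoidHom)
      (isBig_map hV' n) (mem_map_conj.2 hjV') (mem_map_conj.2 htV')

include C in
/-- The same for any two groups. -/
theorem no_two' {j t : G} (hj : IsConj F.z j) (ht1 : t ≠ 1) (htnc : ¬ IsConj F.z t) {V V' : Subgroup G}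
    (hV : IsBig V) (htV : t ∈ V) (hjN : V.map (MulAut.conj j).toMonoidHom = V) (hV' : IsBig V') (hjV' : j ∈ V')
    (htV' : t ∈ V') : V' = V := by
  obtain ⟨g, hg⟩ := S.conj_big hV
  refine Subgroup.map_injective (f := (MulAut.conj g).toMonoidHom) (MulAut.conj g).injective ?_
  rw [hg]
  refine C.no_two (j := g * j * g⁻¹) ?_ (isConj_conj_iff.2 hj) (hg ▸ mem_map_conj.2 htV)
    (fun e => ht1 (conj_eq_one_iff.1 e)) (fun e => htnc (isConj_conj_iff.1 e)) (isBig_map hV' g)
    (mem_map_conj.2 hjV') (mem_map_conj.2 htV')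
  refine mem_normalizer_of_map ?_
  rw [← hg, Subgroup.map_map]
  conv_rhs => rw [← hjN, Subgroup.map_map]
  congr 1
  ext u
  simp [mul_assoc]

include C in
theorem el_two_cls : C.el 2 ≠ 1 ∧ ¬ IsConj F.z (C.el 2) := by
  obtain ⟨-, -, -, -, -, hcls, -⟩ := C.model
  have h := near_exists
  simp only [Bool.and_eq_true] at h
  refine ⟨fun e => ?_, fun e => ?_⟩
  · exact absurd (C.el_eq_one (by norm_num) e) (by norm_num)
  · have := ((hcls 2 (by norm_num)).1 e).2
    rw [h.2] at this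
    exact Bool.noConfusion this

include C in
/-- Only the standard group contains the representative. -/
theorem big_two {V : Subgroup G} (hV : IsBig V) (ht : C.el 2 ∈ V) : V = S.Vb := by
  obtain ⟨-, -, -, -, -, hcls, -⟩ := C.model
  obtain ⟨ht1, htnc⟩ := C.el_two_cls
  by_contra hne
  set t := C.el 2
  set H := Subgroup.centralizer ({t} : Set G)
  have hmem : ∀ {u : G}, u ∈ H ↔ Commute u t := fun {u} => Subgroup.mem_centralizer_singleton_iff
  have hbig : ∀ {U : Subgroup G}, IsBig U → t ∈ U → U ≤ H := fun hU htU x hx =>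
    hmem.2 (commute_of_sq hU.1 hx htU)
  have htVb : t ∈ S.Vb := C.el_mem 2
  have hz : ∀ {v}, v < 2048 → v ≠ 0 → inD v = false → IsConj F.z (C.el v) := fun hv h0 hD => (hcls _ hv).2 ⟨h0, hD⟩
  have hnz : ∀ {v}, v < 2048 → inD v = true → ¬ IsConj F.z (C.el v) := fun hv hD h => by
    rw [hcls _ hv, hD] at h
    exact Bool.noConfusion h.2
  -- the common part avoids the first class
  have hU : ∀ {v}, v < 2048 → v ≠ 0 → C.el v ∈ V → inD v = true := by
    intro v hv hv0 hvV
    by_contra hD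
    exact hne (C.no_two' (hz hv hv0 (Bool.eq_false_iff.2 hD)) ht1 htnc S.isBig htVb
      (map_of_mem_normalizer (Subgroup.le_normalizer (C.el_mem v))) hV hvV ht)
  obtain ⟨i, hi, hiU⟩ : ∃ i ∈ nearTwo, ∀ v < 2048, C.el v ∈ V → v ≠ 0 → v = 2 ∨ v = i ∨ v = i ^^^ 2 := by
    have hnear : ∀ v < 2048, C.el v ∈ V → v ≠ 0 → v ≠ 2 → v ∈ nearTwo := by
      intro v hv hvV hv0 hv2
      refine List.mem_filter.2 ⟨List.mem_filter.2 ⟨List.mem_range.2 hv, hU hv hv0 hvV⟩, ?_⟩
      refine hU (Nat.xor_lt_two_pow (n := 11) hv (by norm_num)) (fun e => hv2 (Nat.xor_eq_zero_iff.1 e)) ?_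
      rw [C.el_xor]
      exact mul_mem hvV ht
    by_cases h : ∃ v, v < 2048 ∧ C.el v ∈ V ∧ v ≠ 0 ∧ v ≠ 2
    · obtain ⟨i, hi, hiV, hi0, hi2⟩ := h
      refine ⟨i, hnear i hi hiV hi0 hi2, fun v hv hvV hv0 => ?_⟩
      by_contra hcon
      simp only [not_or] at hcon
      obtain ⟨hv2, hvi, hvi2⟩ := hcon
      have hi2lt : i ^^^ 2 < 2048 := Nat.xor_lt_two_pow (n := 11) hi (by norm_num)
      have h := List.all_eq_true.1 (List.all_eq_true.1 near_small i (hnear i hi hiV hi0 hi2)) v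
        (hnear v hv hvV hv0 hv2)
      simp only [Bool.or_eq_true, Bool.not_eq_true', Bool.and_eq_false_iff] at h
      rcases h with (h | h) | h
      · exact hvi (Nat.eq_of_beq_eq_true h)
      · exact hvi2 (Nat.eq_of_beq_eq_true h)
      · have h1 : inD (v ^^^ i) = true := hU (Nat.xor_lt_two_pow (n := 11) hv hi)
          (fun e => hvi (Nat.xor_eq_zero_iff.1 e)) (by rw [C.el_xor]; exact mul_mem hvV hiV)
        have h2 : inD (v ^^^ 2 ^^^ i) = true := by
          refine hU (Nat.xor_lt_two_pow (n := 11) (Nat.xor_lt_two_pow (n := 11) hv (by norm_num)) hi) (fun e => ?_)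
            (by rw [C.el_xor, C.el_xor]; exact mul_mem (mul_mem hvV ht) hiV)
          exact hvi2 (by rw [← Nat.xor_eq_zero_iff.1 e, Nat.xor_assoc, Nat.xor_self, Nat.xor_zero])
        rw [h1, h2] at h
        simp at h
    · have hex := near_exists
      simp only [Bool.and_eq_true, Bool.not_eq_true'] at hex
      obtain ⟨i, hi⟩ : ∃ i, i ∈ nearTwo := List.exists_mem_of_ne_nil _ fun e => by
        rw [e] at hex
        exact Bool.noConfusion hex.1.1.1
      exact ⟨i, hi, fun v hv hvV hv0 => Or.inl (by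
        by_contra hv2
        exact h ⟨v, hv, hvV, hv0, hv2⟩)⟩
  obtain ⟨hiD', hi2D⟩ := List.mem_filter.1 hi
  obtain ⟨hilt, hiD⟩ := List.mem_filter.1 hiD'
  rw [List.mem_range] at hilt
  obtain ⟨w, hw, hwall⟩ := List.any_eq_true.1 (List.all_eq_true.1 near_witness i hi)
  rw [List.mem_range] at hw
  simp only [Bool.and_eq_true, Bool.not_eq_true'] at hwall
  obtain ⟨⟨⟨⟨hw0, hwD⟩, hw2⟩, hwi⟩, hw2i⟩ := hwall
  have hw0' : w ≠ 0 := fun e => by rw [e] at hw0; exact Bool.noConfusion hw0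
  have hy : IsConj F.z (C.el w) := hz hw hw0' hwD
  set y := C.el w
  -- a member of the other group of the other type
  obtain ⟨c, hc, hce⟩ := S.conj_in S.isBig hV (hbig S.isBig htVb) (hbig hV ht)
  have h12 := near_exists
  simp only [Bool.and_eq_true, Bool.not_eq_true'] at h12
  set x := c * C.el 12 * c⁻¹
  have hxz : IsConj F.z x := isConj_conj_iff.2 (hz (by norm_num) (by norm_num) h12.1.1.2)
  have hxt : IsConj F.z (x * t) := by
    rw [show x * t = c * (C.el 12 * t) * c⁻¹ by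
      rw [show c * (C.el 12 * t) * c⁻¹ = x * (c * t * c⁻¹) by simp only [x]; group, (hmem.1 hc).eq,
        mul_inv_cancel_right], isConj_conj_iff, ← C.el_xor]
    exact hz (Nat.xor_lt_two_pow (n := 11) (by norm_num) (by norm_num)) (by decide +kernel) h12.1.2
  have hyt : ¬ IsConj F.z (y * t) := by
    rw [← C.el_xor]
    exact hnz (Nat.xor_lt_two_pow (n := 11) hw (by norm_num)) hw2
  have hxV : x ∈ V := hce ▸ mem_map_conj.2 (C.el_mem 12)
  have hyV : y ∈ S.Vb := C.el_mem w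
  have hxH : x ∈ H := hbig hV ht hxV
  have hyH : y ∈ H := hbig S.isBig htVb hyV
  have hmap : ∀ {U : Subgroup G}, IsBig U → t ∈ U → ∀ {q : G}, q ∈ U → IsConj F.z q → ∀ {k : G}, k ∈ H →
      Commute k q → U.map (MulAut.conj k).toMonoidHom = U := by
    intro U hU htU q hq hqz k hk hkq
    refine C.no_two' hqz ht1 htnc hU htU (map_of_mem_normalizer (Subgroup.le_normalizer hq)) (isBig_map hU k) ?_ ?_
    · have := (mem_map_conj (d := k)).2 hq
      rwa [hkq.eq, mul_inv_cancel_right] at this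
    · have := (mem_map_conj (d := k)).2 htU
      rwa [(hmem.1 hk).eq, mul_inv_cancel_right] at this
  rcases dihedral (hV.1 x hxV) (S.Vb_sq hyV) hxH hyH with ⟨k, hk, hke⟩ | ⟨f, hfH, -, hf1, hfx, hfy, hcx, hcy⟩
  · refine hyt ?_
    rw [show y * t = k * (x * t) * k⁻¹ by
      rw [show k * (x * t) * k⁻¹ = k * x * k⁻¹ * (k * t * k⁻¹) by group, hke, (hmem.1 hk).eq, mul_inv_cancel_right]]
    exact isConj_conj_iff.2 hxt
  · -- the central power lies in both
    have hzof : ∀ {u : G}, (∃ k ∈ H, k * x * k⁻¹ = u ∨ k * y * k⁻¹ = u) → IsConj F.z u := by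
      rintro u ⟨k, -, rfl | rfl⟩
      exacts [isConj_conj_iff.2 hxz, isConj_conj_iff.2 hy]
    have hin : ∀ {U : Subgroup G}, IsBig U → t ∈ U → ∀ {q : G}, q ∈ U → IsConj F.z q → Commute f q →
        (∃ k ∈ H, k * x * k⁻¹ = q * f ∨ k * y * k⁻¹ = q * f) → f ∈ U := by
      intro U hU htU q hq hqz hfq hk
      have hnorm : U.map (MulAut.conj (q * f)).toMonoidHom = U := by
        have e1 := hmap hU htU hq hqz hfH hfq
        have e2 := map_of_mem_normalizer (Subgroup.le_normalizer hq)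
        conv_rhs => rw [← e2, ← e1]
        rw [Subgroup.map_map, map_mul]
        rfl
      obtain ⟨k, hkH, hk'⟩ := hk
      obtain ⟨U', hU', htU', hqfU⟩ : ∃ U', IsBig U' ∧ t ∈ U' ∧ q * f ∈ U' := by
        have ht' : ∀ {U0 : Subgroup G}, t ∈ U0 → t ∈ U0.map (MulAut.conj k).toMonoidHom := fun h => by
          have := (mem_map_conj (d := k)).2 h
          rwa [(hmem.1 hkH).eq, mul_inv_cancel_right] at this
        rcases hk' with h | h
        · exact ⟨_, isBig_map hV k, ht' ht, h ▸ mem_map_conj.2 hxV⟩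
        · exact ⟨_, isBig_map S.isBig k, ht' htVb, h ▸ mem_map_conj.2 hyV⟩
      have e := C.no_two' (hzof ⟨k, hkH, hk'⟩) ht1 htnc hU htU hnorm hU' hqfU htU'
      rw [show f = q⁻¹ * (q * f) by group]
      exact mul_mem (inv_mem hq) (e ▸ hqfU)
    have hfV : f ∈ V := hin hV ht hxV hxz hfx hcx
    have hfVb : f ∈ S.Vb := hin S.isBig htVb hyV hy hfy hcy
    obtain ⟨v, hv, hve⟩ := C.exists_el hfVb
    have hv0 : v ≠ 0 := fun e => hf1 (by rw [← hve, e, C.el_zero])
    refine hnz (Nat.xor_lt_two_pow (n := 11) hw hv) ?_ (by rw [C.el_xor, hve]; exact hzof hcy)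
    rcases hiU v hv (hve ▸ hfV) hv0 with rfl | rfl | rfl
    · exact hw2
    · exact hwi
    · rw [Nat.xor_comm i 2, ← Nat.xor_assoc]
      exact hw2i

include C in
theorem exists_to_two {t : G} (ht : t ∈ S.Vb) (h1 : t ≠ 1) (hnc : ¬ IsConj F.z t) :
    ∃ n ∈ S.NV, n * t * n⁻¹ = C.el 2 := by
  obtain ⟨-, -, -, -, -, hcls, hD⟩ := C.model
  obtain ⟨v, hv, rfl⟩ := C.exists_el ht
  have hvD : inD v = true := by
    by_contra h
    exact hnc ((hcls v hv).2 ⟨fun e => h1 (by rw [e, C.el_zero]), Bool.eq_false_iff.2 h⟩)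
  have h2 := near_exists
  simp only [Bool.and_eq_true] at h2
  have a := (hD v hv).2 hvD
  have b := (hD 2 (by norm_num)).2 h2.2
  rw [← S.orb_eq a] at b
  exact b

include C in
/-- A group through a member of the second class is the standard one. -/
theorem big_unique {V : Subgroup G} (hV : IsBig V) {t : G} (ht : t ∈ S.Vb) (ht' : t ∈ V) (h1 : t ≠ 1)
    (hnc : ¬ IsConj F.z t) : V = S.Vb := by
  obtain ⟨n, hn, hne⟩ := C.exists_to_two ht h1 hnc
  refine Subgroup.map_injective (f := (MulAut.conj n).toMonoidHom) (MulAut.conj n).injective ?_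
  rw [map_of_mem_normalizer hn]
  exact C.big_two (isBig_map hV n) (hne ▸ mem_map_conj.2 ht')

include C in
/-- The centralizer of a member of the second class normalizes the standard group. -/
theorem centralizer_le_NV {t : G} (ht : t ∈ S.Vb) (h1 : t ≠ 1) (hnc : ¬ IsConj F.z t) :
    Subgroup.centralizer ({t} : Set G) ≤ S.NV := by
  intro c hc
  refine mem_normalizer_of_map (C.big_unique (isBig_map S.isBig c) ht ?_ h1 hnc)
  have h := (mem_map_conj (d := c)).2 ht
  rwa [(show Commute c t from Subgroup.mem_centralizer_singleton_iff.1 hc).eq, mul_inv_cancel_right] at h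

end Adapted

end Cfsg.Lib.JankoFour
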