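import Cfsg.Agent.Lib.JankoFour.Sign
import Cfsg.Agent.Lib.JankoFour.BitModel.Count

/-!
# The conjugates of `z` in the group of order `2¹¹`, on codes
-/

set_option autoImplicit false
set_option linter.style.haveILetI false
set_option linter.unusedSectionVars false

namespace Cfsg.Lib.JankoFour

open Cfsg Cfsg.Lib.Extra Module BitModel

variable {G : Type*} [Group G] [Finite G] {A : Type} [Group A] {I : Subgroup A}

theorem isConj_conj_iff {H : Type*} [Group H] {g x z : H} : IsConj z (g * x * g⁻¹) ↔ IsConj z x := by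
  refine ⟨fun h => h.trans ?_, fun h => h.trans (isConj_iff.2 ⟨g, rfl⟩)⟩
  exact isConj_iff.2 ⟨g⁻¹, by group⟩

theorem pickB_mem_mul {H : Type*} [Group H] {z : H} (hz : z * z = 1) (a b : Bool) (x : H) :
    pickB a z * (pickB b z * x) = pickB (a ^^ b) z * x := by
  rw [pickB_xor hz, mul_assoc]

namespace Adapted

variable {F : Frame G A I} {D : HexData A I} {S : Std F D} (C : Adapted S)

include C in
theorem conj_pickB_z {n : G} (hn : Commute n F.z) (b : Bool) : n * pickB b F.z * n⁻¹ = pickB b F.z := by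
  rw [pickB_conj, hn.eq, mul_inv_cancel_right]

theorem el_p (b : Bool) {x u : ℕ} (hx : x < 64) :
    F.p * C.el (code b x u) * F.p⁻¹ = C.el (code b (rot x) u) := by
  rw [C.el_code b u hx, C.el_code b u (linOk_lt rot_lin hx),
    show F.p * (pickB b F.z * C.w0 x * C.cL u) * F.p⁻¹ =
      F.p * pickB b F.z * F.p⁻¹ * (F.p * C.w0 x * F.p⁻¹) * (F.p * C.cL u * F.p⁻¹) by group,
    C.conj_pickB_z F.p_comm, C.w0_conj F.p_comm (Commute.refl _) (C.act_p_cw hx),
    (S.X_p (C.cL_mem u)).symm.eq, mul_inv_cancel_right]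

theorem el_d (b : Bool) {x u : ℕ} (hx : x < 64) (hu : u < 16) :
    C.d * C.el (code b x u) * C.d⁻¹ = C.el (code (b ^^ (C.sig 3 && u.testBit 0)) (sh x) (su u)) := by
  rw [C.el_code b u hx, C.el_code _ _ (linOk_lt sh_lin hx),
    show C.d * (pickB b F.z * C.w0 x * C.cL u) * C.d⁻¹ =
      C.d * pickB b F.z * C.d⁻¹ * (C.d * C.w0 x * C.d⁻¹) * (C.d * C.cL u * C.d⁻¹) by group,
    C.conj_pickB_z C.d_z, C.w0_conj C.d_z C.d_p (C.act_d_cw hx), C.d_cL hu, pickB_xor F.ctx.sq_z]
  rw [mul_assoc (pickB b F.z), ← mul_assoc (C.w0 (sh x)),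
    ← (S.Vb_comm (pickB_mem S.z_mem (C.sig 3 && u.testBit 0)) (S.K_le (C.w0_mem _))).eq]
  group

theorem el_Y (b : Bool) {x u : ℕ} (hx : x < 64) (hu : u < 16) :
    C.Y * C.el (code b x u) * C.Y⁻¹ = C.el (code (b ^^ (C.sig 12 && u.testBit 2)) (yw x) (yu u)) := by
  rw [C.el_code b u hx, C.el_code _ _ (linOk_lt yw_lin hx),
    show C.Y * (pickB b F.z * C.w0 x * C.cL u) * C.Y⁻¹ =
      C.Y * pickB b F.z * C.Y⁻¹ * (C.Y * C.w0 x * C.Y⁻¹) * (C.Y * C.cL u * C.Y⁻¹) by group,
    C.conj_pickB_z C.Y_z, C.w0_conj C.Y_z C.Y_p (C.act_Y_cw hx), C.Y_cL hu, pickB_xor F.ctx.sq_z]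
  rw [mul_assoc (pickB b F.z), ← mul_assoc (C.w0 (yw x)),
    ← (S.Vb_comm (pickB_mem S.z_mem (C.sig 12 && u.testBit 2)) (S.K_le (C.w0_mem _))).eq]
  group

/-- An element of `E` with given functional. -/
theorem exists_e {c : ℕ} (hc : c < 64) : ∃ e ∈ F.E, C.chi (F.cls e) = c := by
  obtain ⟨v, hv⟩ := C.exists_chi hc
  obtain ⟨e, he, rfl⟩ := cls_surj F.ctx v
  exact ⟨e, he, hv⟩

theorem isZ_eAct {c v : ℕ} (hc : c < 64) (hv : v < 2048) :
    IsConj F.z (C.el (eAct c v)) ↔ IsConj F.z (C.el v) := by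
  obtain ⟨e, he, rfl⟩ := C.exists_e hc
  rw [← C.el_eAct he hv, isConj_conj_iff]

include C in
theorem eAct_code {c : ℕ} (b : Bool) {x u : ℕ} (hx : x < 64) :
    eAct c (code b x u) = code (b ^^ par (c &&& x) ^^ quad u c) (x ^^^ app u c) u := by
  obtain ⟨e1, e2, e3⟩ := parts_code b u hx
  rw [eAct, e1, e2, e3]

/-- The classes on the elements over an image point. -/
theorem isZ_range {u : ℕ} (hu : u < 16) (hu0 : u ≠ 0) (b : Bool) {x : ℕ} (hx : x < 64)
    (hr : inRange u x = true) :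
    IsConj F.z (C.el (code b x u)) ↔ b ≠ (C.sig u ^^ quadAt u x) := by
  have hpre := allLt_spec (allLt_spec range_pre hu) hx
  rw [hr, Bool.not_true, Bool.false_or] at hpre
  obtain ⟨c, hc, hcx⟩ := List.any_eq_true.1 hpre
  have hc' : c < 64 := List.mem_range.1 hc
  obtain rfl := Nat.eq_of_beq_eq_true hcx
  have hq := allLt_spec (allLt_spec range_spec hu) hc'
  rw [Bool.and_eq_true, beq_iff_eq] at hq
  rw [hq.2]
  have h0 : ∀ b0, IsConj F.z (C.el (code b0 0 u)) ↔ b0 ≠ C.sig u := by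
    intro b0
    rw [C.el_code b0 u (by norm_num), C.w0_zero, mul_one]
    obtain ⟨hn, hnf, -, hnz⟩ := C.nz_spec hu
    have e : C.cL u = pickB (C.sig u) F.z * C.nz u := by
      rw [C.nz_eq hu, ← mul_assoc, ← pickB_xor F.ctx.sq_z, Bool.xor_self, pickB_false, one_mul]
    rw [e, pickB_mem_mul F.ctx.sq_z]
    by_cases hb : b0 = C.sig u
    · subst hb
      rw [Bool.xor_self, pickB_false, one_mul]
      exact iff_of_false (hnz hu0) (fun h => h rfl)
    · rw [show (b0 ^^ C.sig u) = true by revert hb; cases b0 <;> cases C.sig u <;> decide, pickB_true]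
      exact iff_of_true ((F.exactly_one D S.hres (S.X_C hn) (S.X_sq hn) (C.img_ne_one hu hu0 hn hnf)).2 (hnz hu0)) hb
  have hsrc : code (b ^^ quad u c) 0 u < 2048 := code_lt (by norm_num) hu
  have hcode : eAct c (code (b ^^ quad u c) 0 u) = code b (app u c) u := by
    rw [C.eAct_code _ (by norm_num), Nat.and_zero, Nat.zero_xor, show par 0 = false from rfl, Bool.xor_false,
      Bool.xor_assoc, Bool.xor_self, Bool.xor_false]
  rw [← hcode, C.isZ_eAct hc' hsrc, h0]
  cases b <;> cases quad u c <;> cases C.sig u <;> decide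

/-- The remaining elements of a coset form one class. -/
theorem isZ_96 {u : ℕ} (hu : u < 16) (hu0 : u ≠ 0) (b : Bool) {x : ℕ} (hx : x < 64) (hr : inRange u x = false) :
    IsConj F.z (C.el (code b x u)) ↔ IsConj F.z (C.el (code false (rep96 u) u)) := by
  have h := allLt_spec orbit96 hu
  rw [Bool.or_eq_true] at h
  have h' := h.resolve_left fun e => hu0 (Nat.eq_of_beq_eq_true e)
  simp only [Bool.and_eq_true] at h'
  obtain ⟨⟨-, hlt⟩, hall⟩ := h'
  have hlt' : rep96 u < 64 := Nat.blt_eq.mp hlt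
  have h1 := allLt_spec hall hx
  rw [hr, Bool.false_or] at h1
  have h2 := List.all_eq_true.1 h1 b (by cases b <;> simp)
  obtain ⟨r, hr', hr2⟩ := List.any_eq_true.1 h2
  obtain ⟨c, hc, hcode⟩ := List.any_eq_true.1 hr2
  have hc' := List.mem_range.1 hc
  have hr64 : r < 64 ∧ (IsConj F.z (C.el (code false r u)) ↔ IsConj F.z (C.el (code false (rep96 u) u))) := by
    have hrot : ∀ y < 64, pc y < 64 ∧ rot (rot y) = pc y := by decide +kernel
    simp only [List.mem_cons, List.not_mem_nil, or_false] at hr'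
    rcases hr' with rfl | rfl | rfl
    · exact ⟨hlt', Iff.rfl⟩
    · exact ⟨linOk_lt rot_lin hlt', by rw [← C.el_p false hlt', isConj_conj_iff]⟩
    · refine ⟨(hrot _ hlt').1, ?_⟩
      rw [← (hrot _ hlt').2, ← C.el_p false (linOk_lt rot_lin hlt'), isConj_conj_iff, ← C.el_p false hlt',
        isConj_conj_iff]
  rw [← Nat.eq_of_beq_eq_true hcode, C.isZ_eAct hc' (code_lt hr64.1 hu)]
  exact hr64.2

theorem img_el (b : Bool) {x u : ℕ} (hx : x < 64) : F.img (C.el (code b x u)) = F.img (C.cL u) := by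
  have hk : pickB b F.z * C.w0 x ∈ S.K := mul_mem (pickB_mem S.z_mem_K _) (C.w0_mem _)
  rw [C.el_code b u hx, F.img_mul _ _ (F.comm_of_mem hk.1) (S.X_z (C.cL_mem u)), F.img_mem hk.1, one_mul]

theorem img_cL_inj {u u' : ℕ} (hu : u < 16) (hu' : u' < 16) (h : F.img (C.cL u) = F.img (C.cL u')) : u = u' := by
  refine C.form_unique hu hu' (C.cL_form hu) fun v => ?_
  rcases S.lift_unique (C.cL_mem u) (C.cL_mem u') h with e | e
  · rw [← e]
    exact C.cL_form hu' v
  · rw [← C.form_z_mul (C.cL_mem u), ← e]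
    exact C.cL_form hu' v

theorem cL_img_ne {u : ℕ} (hu : u < 16) (hu0 : u ≠ 0) : F.img (C.cL u) ≠ 1 :=
  C.img_ne_one hu hu0 (C.cL_mem u) (C.cL_form hu)

/-- The class outside the images does not depend on the coset. -/
theorem isZ_uniform {u : ℕ} (hu : u < 16) (hu0 : u ≠ 0) :
    IsConj F.z (C.el (code false (rep96 u) u)) ↔ IsConj F.z (C.el (code false (rep96 1) 1)) := by
  have hrep : ∀ w < 16, w ≠ 0 → rep96 w < 64 ∧ inRange w (rep96 w) = false := by decide +kernel
  obtain ⟨hr1, hn1⟩ := hrep 1 (by norm_num) (by norm_num)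
  obtain ⟨k, hk, hkT, hke⟩ := D.trans _ (S.X_img (C.cL_mem 1)) (C.cL_img_ne (by norm_num) (by norm_num)) _
    (S.X_img (C.cL_mem u)) (C.cL_img_ne hu hu0)
  obtain ⟨n, hn, hni⟩ := F.mem_I_iff.1 hk
  have hn' := F.mem_C.1 hn
  have hnT : ∀ a ∈ D.T, F.img n * a * (F.img n)⁻¹ ∈ D.T := hni.symm ▸ hkT
  have hnorm := S.normalizes hn'.1 hnT
  obtain ⟨w, hw, hwe⟩ := C.exists_el ((Subgroup.mem_normalizer_iff.1 hnorm _).1 (C.el_mem (code false (rep96 1) 1)))
  have himg : F.img (C.el w) = F.img (C.cL u) := by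
    rw [hwe, F.img_conj hn'.1 (S.Vb_z (C.el_mem _)), C.img_el false hr1, hni, hke]
  have hcu : cu w = u := by
    refine C.img_cL_inj (cu_lt hw) hu ?_
    rw [← C.img_el (cb w) (cx_lt w), code_parts, himg]
  have hout : inRange u (cx w) = false := by
    by_contra hr
    rw [Bool.not_eq_false] at hr
    have hpre := allLt_spec (allLt_spec range_pre hu) (cx_lt w)
    rw [hr, Bool.not_true, Bool.false_or] at hpre
    obtain ⟨c, hc, hcx⟩ := List.any_eq_true.1 hpre
    obtain ⟨e, he, hec⟩ := C.exists_e (List.mem_range.1 hc)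
    have h1 : e * C.el w * e⁻¹ ∈ S.X := by
      rw [C.el_eAct he hw, hec, eAct, hcu, Nat.eq_of_beq_eq_true hcx, Nat.xor_self, C.el_code _ _ (by norm_num),
        C.w0_zero, mul_one]
      exact mul_mem (pickB_mem S.z_mem_X _) (C.cL_mem _)
    -- the original is conjugate into `X` by `E`
    have h2 := C.conj_mem_X (inv_mem hn) (fun a ha => by
      rw [F.img_inv hn'.1]
      have hz : n⁻¹ ∈ Subgroup.normalizer (S.Vb : Set G) := inv_mem hnorm
      have := S.normalizer_img hn'.1.inv_left hz a ha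
      rwa [F.img_inv hn'.1] at this) h1
    rw [hwe] at h2
    have he' : n⁻¹ * e * n ∈ F.E := by simpa using F.conj_mem hn'.1.inv_left he
    rw [show n⁻¹ * (e * (n * C.el (code false (rep96 1) 1) * n⁻¹) * e⁻¹) * n⁻¹⁻¹ =
      n⁻¹ * e * n * C.el (code false (rep96 1) 1) * (n⁻¹ * e * n)⁻¹ by group,
      C.el_eAct he' (code_lt hr1 (by norm_num)), C.eAct_code _ hr1] at h2
    set c' := C.chi (F.cls (n⁻¹ * e * n))
    have hx0 : rep96 1 ^^^ app 1 c' = 0 := by
      have hlt : rep96 1 ^^^ app 1 c' < 64 := Nat.xor_lt_two_pow (n := 6) hr1 (app_lt _ _)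
      set b' := (false ^^ par (c' &&& rep96 1) ^^ quad 1 c')
      rw [C.el_code _ _ hlt] at h2
      have h3 : C.w0 (rep96 1 ^^^ app 1 c') ∈ S.X := by
        have := mul_mem (inv_mem (pickB_mem S.z_mem_X b')) (mul_mem h2 (inv_mem (C.cL_mem 1)))
        simpa [mul_assoc] using this
      have hE := (C.w0_mem (rep96 1 ^^^ app 1 c')).1
      refine C.cw_inj0 hlt ?_
      rw [← C.cls_w0]
      rcases F.fixed _ hE (S.X_p h3) with e' | e' <;> rw [e']
      exacts [cls_one F.ctx, F.cls_z_zero]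
    have hcl : c' < 64 := C.chi_lt _
    have hin := allLt_spec (allLt_spec range_spec (show 1 < 16 by norm_num)) hcl
    rw [Bool.and_eq_true, ← Nat.xor_eq_zero_iff.1 hx0, hn1] at hin
    exact Bool.false_ne_true hin.1
  have h := C.isZ_96 hu hu0 (cb w) (cx_lt w) hout
  rw [← hcu, code_parts, hwe, isConj_conj_iff, hcu] at h
  exact h.symm

theorem isZ_flip (b : Bool) {x : ℕ} (hx : x < 64) (hx0 : x ≠ 0) :
    IsConj F.z (C.el (code b x 0)) ↔ IsConj F.z (C.el (code false x 0)) := by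
  cases b
  · rfl
  have hex : ∀ x < 64, x ≠ 0 → ∃ c < 64, eAct c (code false x 0) = code true x 0 := by decide +kernel
  obtain ⟨c, hc, he⟩ := hex x hx hx0
  rw [← he, C.isZ_eAct hc (code_lt hx (by norm_num))]

/-- The classes follow the model. -/
theorem exists_zF : ∃ s t0 t1 t2 t3 eps : Bool, ∀ v < 2048,
    (IsConj F.z (C.el v) ↔ zF (kMask s t0 t1 t2 t3) eps (C.sig 3) (C.sig 12) (C.sig 5) v = true) := by
  classical
  let f : ℕ → Bool := fun x => decide (x ≠ 0 ∧ ¬ IsConj F.z (C.el (code false x 0)))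
  have hf : ∀ y < 64, f (rot y) = f y ∧ f (sh y) = f y ∧ f (yw y) = f y := by
    have h0 : ∀ y < 64, (rot y = 0 ↔ y = 0) ∧ (sh y = 0 ↔ y = 0) ∧ (yw y = 0 ↔ y = 0) ∧ su 0 = 0 ∧ yu 0 = 0 := by
      decide +kernel
    intro y hy
    obtain ⟨h1, h2, h3, h4, h5⟩ := h0 y hy
    have e1 : IsConj F.z (C.el (code false (rot y) 0)) ↔ IsConj F.z (C.el (code false y 0)) := by
      rw [← C.el_p false hy, isConj_conj_iff]
    have e2 : IsConj F.z (C.el (code false (sh y) 0)) ↔ IsConj F.z (C.el (code false y 0)) := by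
      have h := C.el_d false (u := 0) hy (by norm_num)
      rw [h4, show Nat.testBit 0 0 = false from rfl, Bool.and_false, Bool.xor_false] at h
      rw [← h, isConj_conj_iff]
    have e3 : IsConj F.z (C.el (code false (yw y) 0)) ↔ IsConj F.z (C.el (code false y 0)) := by
      have h := C.el_Y false (u := 0) hy (by norm_num)
      rw [h5, Nat.zero_testBit, Bool.and_false, Bool.xor_false] at h
      rw [← h, isConj_conj_iff]
    simp only [f, ne_eq, h1, h2, h3, e1, e2, e3, and_self]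
  refine ⟨f 5, f 1, f 23, f 21, f 22, decide (IsConj F.z (C.el (code false (rep96 1) 1))), fun v hv => ?_⟩
  set m := kMask (f 5) (f 1) (f 23) (f 21) (f 22) with hm
  have hmask : ∀ x < 64, x ≠ 0 → m.testBit x = f x := by
    intro x hx hx0
    have h := allLt_spec orbit_cover hx
    rw [Bool.or_eq_true] at h
    have h' := h.resolve_left fun e => hx0 (Nat.eq_of_beq_eq_true e)
    obtain ⟨j, hj, hj'⟩ := List.any_eq_true.1 h'
    rw [List.mem_range] at hj
    simp only [Bool.and_eq_true, List.all_eq_true, beq_iff_eq] at hj'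
    obtain ⟨h1, h2⟩ := hj'
    have mem : ∀ q : Bool, q ∈ [false, true] := fun q => by cases q <;> simp
    have hrep : ∀ j < 5, orbRep.getD j 0 < 64 := by decide +kernel
    have hfx := reach_spec hf 4 _ x (hrep j hj) h1
    rw [hm, h2 _ (mem _) _ (mem _) _ (mem _) _ (mem _) _ (mem _), hfx]
    obtain rfl | rfl | rfl | rfl | rfl : j = 0 ∨ j = 1 ∨ j = 2 ∨ j = 3 ∨ j = 4 := by omega
    all_goals rfl
  unfold zF
  by_cases hu0 : cu v = 0
  · rw [if_pos (by rw [hu0]; rfl)]
    by_cases hx0 : cx v = 0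
    · rw [if_pos (by rw [hx0]; rfl)]
      have e : v = code (cb v) 0 0 := by
        conv_lhs => rw [← code_parts (v := v), hx0, hu0]
      generalize cb v = b at e ⊢
      subst e
      rw [C.el_code b 0 (by norm_num), C.w0_zero, C.cL_zero, mul_one, mul_one]
      cases b
      · rw [pickB_false]
        exact iff_of_false (fun h => F.ctx.ne_one (isConj_one_left.1 h)) Bool.false_ne_true
      · rw [pickB_true]
        exact iff_of_true (IsConj.refl _) rfl
    · rw [if_neg (fun h => hx0 (beq_iff_eq.1 h)), hmask _ (cx_lt v) hx0]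
      conv_lhs => rw [← code_parts (v := v), hu0]
      rw [C.isZ_flip _ (cx_lt v) hx0]
      simp [f, hx0]
  · have hu := cu_lt hv
    rw [if_neg (fun h => hu0 (beq_iff_eq.1 h))]
    by_cases hr : inRange (cu v) (cx v) = true
    · rw [if_pos hr]
      conv_lhs => rw [← code_parts (v := v)]
      rw [C.isZ_range hu hu0 _ (cx_lt v) hr, C.sig_rule hu hu0, bne_iff_ne]
    · rw [if_neg hr]
      conv_lhs => rw [← code_parts (v := v)]
      rw [C.isZ_96 hu hu0 _ (cx_lt v) (Bool.eq_false_iff.2 hr), C.isZ_uniform hu hu0, decide_eq_true_iff]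

end Adapted

end Cfsg.Lib.JankoFour
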