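import Cfsg.Agent.Lib.JankoFour.Fusion
import Cfsg.Agent.Lib.JankoFour.Results

/-!
# The conjugates of `z` in `C`

Over each involution of `I` exactly one of the two involutions of `C` is conjugate to `z`.
-/

set_option autoImplicit false
set_option linter.style.haveILetI false
set_option linter.unusedSectionVars false

namespace Cfsg.Lib.JankoFour

open Cfsg Cfsg.Lib.Extra Module

namespace Frame

variable {G : Type*} [Group G] [Finite G] {A : Type} [Group A] {I : Subgroup A} (F : Frame G A I)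

/-- An element of order three of `C(z)` over the image of one of `C` is conjugate to it. -/
theorem conj_three_lift {X x : G} (hX : X ∈ F.C) (hX3 : X ^ 3 = 1) (hX1 : F.img X ≠ 1) (hx : Commute x F.z)
    (hx3 : x ^ 3 = 1) (himg : F.img x = F.img X) : ∃ d, Commute d F.z ∧ d * X * d⁻¹ = x := by
  have hX' := F.mem_C.1 hX
  obtain ⟨e, he, i, hi⟩ := (F.img_ker (X⁻¹ * x) (hX'.1.inv_left.mul_left hx)).1
    (by rw [F.img_mul _ _ hX'.1.inv_left hx, F.img_inv hX'.1, himg, inv_mul_cancel])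
  obtain ⟨δ, hδ, hδX⟩ := F.exists_shift hX hX3 hX1
  have hδ' := F.mem_C.1 hδ
  have hδi : ∀ n : ℕ, δ ^ n * X * (δ ^ n)⁻¹ = X * F.p ^ n := by
    intro n
    induction n with
    | zero => simp
    | succ n ih =>
      calc δ ^ (n + 1) * X * (δ ^ (n + 1))⁻¹ = δ * (δ ^ n * X * (δ ^ n)⁻¹) * δ⁻¹ := by rw [pow_succ']; group
        _ = δ * X * δ⁻¹ * (δ * F.p ^ n * δ⁻¹) := by rw [ih]; group
        _ = X * F.p ^ (n + 1) := by
          rw [hδX, (hδ'.2.pow_right n).eq, mul_inv_cancel_right, mul_assoc, ← pow_succ']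
  set Y := X * F.p ^ i
  have hY : Y ∈ F.C := mul_mem hX (pow_mem F.p_mem_C i)
  have hYz := (F.mem_C.1 hY).1
  have hY3 : Y ^ 3 = 1 := F.mul_p_cube hX hX3 i
  set e' := X * e * X⁻¹
  have he' : e' ∈ F.E := F.conj_mem hX'.1 he
  have hxY : x = e' * Y := by
    calc x = X * (X⁻¹ * x) := (mul_inv_cancel_left X x).symm
      _ = e' * Y := by rw [hi]; simp [e', Y, mul_assoc]
  -- the class is displaced
  have hproj : F.proj Y (F.cls e') = 0 := by
    have hm : e' * (Y * e' * Y⁻¹) ∈ F.E := mul_mem he' (F.conj_mem hYz he')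
    have hzY : Commute (Y * Y) F.z := hYz.mul_left hYz
    rw [proj_apply, ← act_mul F.ctx hYz hYz, act_cls F.ctx hYz he', act_cls F.ctx hzY he',
      ← cls_mul F.ctx he' (F.conj_mem hYz he'), ← cls_mul F.ctx hm (F.conj_mem hzY he')]
    refine (cls_eq_zero F.ctx (mul_mem hm (F.conj_mem hzY he'))).2 (Or.inl ?_)
    have h : e' * (Y * e' * Y⁻¹) * (Y * Y * e' * (Y * Y)⁻¹) * Y ^ 3 = (e' * Y) ^ 3 := by
      simp only [pow_succ, pow_zero, one_mul]
      group
    rw [hY3, mul_one, ← hxY, hx3] at h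
    exact h
  obtain ⟨d, hd, hdv⟩ := cls_surj F.ctx (F.act Y (F.cls e'))
  have hdz := F.comm_of_mem hd
  have hYd : Y * d⁻¹ * Y⁻¹ ∈ F.E := F.conj_mem hYz (inv_mem hd)
  have hcls : F.cls (d * (Y * d⁻¹ * Y⁻¹)) = F.cls e' := by
    show JankoFour.cls F.ctx _ = _
    rw [cls_mul F.ctx hd hYd, ← act_cls F.ctx hYz (inv_mem hd), cls_inv F.ctx hd, hdv]
    rw [proj_apply, add_assoc] at hproj
    exact ((add_eq_zero_iff_eq' F.ctx).1 hproj).symm
  have hconj : d * Y * d⁻¹ = d * (Y * d⁻¹ * Y⁻¹) * Y := by group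
  have hfin : d * Y * d⁻¹ = x := by
    rcases (cls_eq_iff F.ctx (mul_mem hd hYd) he').1 hcls with h | h
    · rw [hconj, h, hxY]
    · exfalso
      have h4 : (d * Y * d⁻¹) ^ 3 = 1 := by rw [conj_pow, hY3, mul_one, mul_inv_cancel]
      rw [hconj, h, mul_assoc, ← hxY, hx.symm.mul_pow, hx3, mul_one, F.z_cube] at h4
      exact F.ctx.ne_one h4
  refine ⟨d * δ ^ i, hdz.mul_left (hδ'.1.pow_left i), ?_⟩
  rw [← hfin, show d * δ ^ i * X * (d * δ ^ i)⁻¹ = d * (δ ^ i * X * (δ ^ i)⁻¹) * d⁻¹ by group, hδi]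

/-- Elements of order three outside the kernel form one class of `C(z)`. -/
theorem conj_three {X x : G} (hX : X ∈ F.C) (hX3 : X ^ 3 = 1) (hX1 : F.img X ≠ 1) (hx : Commute x F.z)
    (hx3 : x ^ 3 = 1) (hx1 : F.img x ≠ 1) : ∃ d, Commute d F.z ∧ d * X * d⁻¹ = x := by
  haveI : Fact (Nat.Prime 3) := ⟨Nat.prime_three⟩
  have hX' := F.mem_C.1 hX
  obtain ⟨a, ha, hax⟩ := F.facts.three_conj (F.img X) (F.img x)
    (orderOf_eq_prime (by rw [← F.img_pow hX'.1, hX3, F.img_one]) hX1)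
    (orderOf_eq_prime (by rw [← F.img_pow hx, hx3, F.img_one]) hx1)
  obtain ⟨h, hh, rfl⟩ := F.mem_I_iff.1 ha
  have hh' := F.mem_C.1 hh
  have hi : F.img (h * X * h⁻¹) = F.img x := by rw [F.img_conj hh'.1 hX'.1, hax]
  obtain ⟨d, hd, hdx⟩ := F.conj_three_lift (mul_mem (mul_mem hh hX) (inv_mem hh))
    (by rw [conj_pow, hX3, mul_one, mul_inv_cancel]) (by rw [hi]; exact hx1) hx hx3 hi.symm
  exact ⟨d * h, hd.mul_left hh'.1, by rw [← hdx]; group⟩

/-- The conjugates of `z` in `C` other than `z` are conjugate in `C`. -/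
theorem conj_C (hres : Cfsg.pResidual 2 G = ⊤) {t t' : G} (ht : t ∈ F.C) (hne : t ≠ F.z) (htz : IsConj F.z t)
    (ht' : t' ∈ F.C) (hne' : t' ≠ F.z) (htz' : IsConj F.z t') : ∃ c ∈ F.C, c * t * c⁻¹ = t' := by
  obtain ⟨m, hm⟩ := isConj_iff.1 htz
  obtain ⟨m', hm'⟩ := isConj_iff.1 htz'
  obtain ⟨k, hk, hkC, hk1⟩ := F.exists_other ht hne hm
  obtain ⟨k', hk', hkC', hk1'⟩ := F.exists_other ht' hne' hm'
  have mem : ∀ {j : G}, F.p ∈ (F.conj j).C → j⁻¹ * F.p * j ∈ F.C := fun {j} hj => F.mem_C.2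
    ⟨commute_conj.2 ((F.conj j).mem_C.1 hj).1, commute_conj.2 ((F.conj j).mem_C.1 hj).2⟩
  have cube : ∀ j : G, (j⁻¹ * F.p * j) ^ 3 = 1 := fun j => by
    rw [show j⁻¹ * F.p * j = j⁻¹ * F.p * j⁻¹⁻¹ by rw [inv_inv], conj_pow, F.p_cube]; simp
  obtain ⟨d, hd, hde⟩ := F.conj_three (mem hkC) (cube k) hk1 (F.mem_C.1 (mem hkC')).1 (cube k') hk1'
  have hp : Commute (k' * d * k⁻¹) F.p := by
    refine mul_inv_eq_iff_eq_mul.1 ?_
    calc k' * d * k⁻¹ * F.p * (k' * d * k⁻¹)⁻¹ = k' * (d * (k⁻¹ * F.p * k) * d⁻¹) * k'⁻¹ := by group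
      _ = F.p := by rw [hde]; group
  refine ⟨k' * d * k⁻¹, F.mem_C.2 ⟨F.commute_z_of_commute_p hres hp, hp⟩, ?_⟩
  calc k' * d * k⁻¹ * t * (k' * d * k⁻¹)⁻¹ = k' * (d * F.z * d⁻¹) * k'⁻¹ := by rw [← hk]; group
    _ = t' := by rw [hd.eq, mul_inv_cancel_right, hk']

/-- Two involutions of `C` with the same image. -/
theorem lift_two_eq {c c' : G} (hc : c ∈ F.C) (hc2 : c * c = 1) (hc' : c' ∈ F.C) (hc'2 : c' * c' = 1)
    (h : F.img c' = F.img c) : c' = c ∨ c' = F.z * c := by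
  have hcz := (F.mem_C.1 hc).1
  set k := c' * c⁻¹ with hk
  have hkC : k ∈ F.C := mul_mem hc' (inv_mem hc)
  have hki : F.img k = 1 := by
    rw [hk, F.img_mul _ _ (F.mem_C.1 hc').1 hcz.inv_left, F.img_inv hcz, h, mul_inv_cancel]
  have e : c' = k * c := by rw [hk, inv_mul_cancel_right]
  have hk2 : k * k = 1 := by
    rw [e, mul_assoc, ← mul_assoc c k c, ← (F.ker_C_comm hkC hki hc).eq, mul_assoc k c c, hc2, mul_one] at hc'2
    exact hc'2
  rcases F.ker_C_sq hkC hki (Or.inl hk2) with h1 | h1 <;> rw [e, h1]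
  exacts [Or.inl (one_mul _), Or.inr rfl]

theorem conj_sq_one {c d : G} (h : c * c = 1) : d * c * d⁻¹ * (d * c * d⁻¹) = 1 := by
  rw [show d * c * d⁻¹ * (d * c * d⁻¹) = d * (c * c) * d⁻¹ by group, h]; group

/-- An involution of `C` is not conjugate in `C` to its product with `z`. -/
theorem not_conj_z_mul (D : HexData A I) (hres : Cfsg.pResidual 2 G = ⊤) {c : G} (hc : c ∈ F.C)
    (hc2 : c * c = 1) (hne : F.img c ≠ 1) {d : G} (hd : d ∈ F.C) : d * c * d⁻¹ ≠ F.z * c := by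
  classical
  haveI := F.finite_A
  intro hdc
  have hcz := (F.mem_C.1 hc).1
  set a := F.img c
  have haI : a ∈ I := F.mem_I_iff.2 ⟨c, hc, rfl⟩
  have ha2 : orderOf a = 2 := orderOf_eq_prime (by rw [pow_two, ← F.img_mul _ _ hcz hcz, hc2, F.img_one]) hne
  obtain ⟨t, htI, ht2, Q, hQI, hQc, hQt, hQgen⟩ := D.cent_gen
  obtain ⟨g, hgI, hgt⟩ := F.facts.invol_conj t a htI haI ht2 ha2
  let H : Subgroup A := I ⊓ Subgroup.centralizer ({a} : Set A)
  let K₀ : Subgroup A :=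
    { carrier := {b | ∃ e ∈ F.C, F.img e = b ∧ Commute e c}
      one_mem' := ⟨1, one_mem _, F.img_one, Commute.one_left c⟩
      mul_mem' := by
        rintro _ _ ⟨e, he, rfl, hec⟩ ⟨f, hf, rfl, hfc⟩
        exact ⟨e * f, mul_mem he hf, F.img_mul _ _ (F.mem_C.1 he).1 (F.mem_C.1 hf).1, hec.mul_left hfc⟩
      inv_mem' := by
        rintro _ ⟨e, he, rfl, hec⟩
        exact ⟨e⁻¹, inv_mem he, F.img_inv (F.mem_C.1 he).1, hec.inv_left⟩ }
  have hK0H : K₀ ≤ H := by
    rintro _ ⟨e, he, rfl, hec⟩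
    refine ⟨F.mem_I_iff.2 ⟨e, he, rfl⟩, Subgroup.mem_centralizer_singleton_iff.2 ?_⟩
    rw [← F.img_mul _ _ (F.mem_C.1 he).1 hcz, hec.eq, F.img_mul _ _ hcz (F.mem_C.1 he).1]
  -- lifts move `c` to one of the two
  have hlift : ∀ e ∈ F.C, Commute (F.img e) a → Commute e c ∨ e * c * e⁻¹ = F.z * c := by
    intro e he hea
    rcases F.lift_two_eq hc hc2 (mul_mem (mul_mem he hc) (inv_mem he)) (conj_sq_one hc2)
      (by rw [F.img_conj (F.mem_C.1 he).1 hcz, hea.eq, mul_inv_cancel_right]) with h | h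
    · exact Or.inl (mul_inv_eq_iff_eq_mul.1 h)
    · exact Or.inr h
  -- the Sylow subgroup lies inside
  have hQK : Q.map (MulAut.conj g).toMonoidHom ≤ K₀ := by
    refine (Subgroup.map_mono hQgen).trans ?_
    rw [MonoidHom.map_closure, Subgroup.closure_le]
    rintro _ ⟨b, ⟨hbQ, hb2⟩, rfl⟩
    set b' := g * b * g⁻¹
    show b' ∈ K₀
    have hb'I : b' ∈ I := I.mul_mem (I.mul_mem hgI (hQI hbQ)) (I.inv_mem hgI)
    obtain ⟨e, he, hei, he2⟩ := F.exists_lift_two hb'I (conj_sq_one hb2)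
    have he1 := F.sq_one hres he he2
    have hba : Commute b' a := by
      rw [← hgt]
      exact (hQt b hbQ).symm.map (MulAut.conj g).toMonoidHom
    rcases hlift e he (hei.symm ▸ hba) with h | h
    · exact ⟨e, he, hei, h⟩
    · exfalso
      have hsq : e * c * (e * c) = F.z := by
        have h' : e * c * e = F.z * c := by rwa [inv_eq_of_mul_eq_one_right he1] at h
        rw [show e * c * (e * c) = e * c * e * c by group, h', mul_assoc, hc2, mul_one]
      exact F.ctx.ne_one (hsq.symm.trans (F.sq_one hres (mul_mem he hc) (Or.inr hsq)))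
  have hdH : F.img d ∈ H := by
    refine ⟨F.mem_I_iff.2 ⟨d, hd, rfl⟩, Subgroup.mem_centralizer_singleton_iff.2 (mul_inv_eq_iff_eq_mul.1 ?_)⟩
    rw [← F.img_conj (F.mem_C.1 hd).1 hcz, hdc, F.img_mul _ _ (Commute.refl _) hcz, F.img_mem F.ctx.mem, one_mul]
  have hdK : F.img d ∉ K₀ := by
    rintro ⟨e, he, hei, hec⟩
    obtain ⟨i, hi⟩ := F.ker_C (mul_mem (inv_mem he) hd)
      (by rw [F.img_mul _ _ (F.mem_C.1 he).1.inv_left (F.mem_C.1 hd).1, F.img_inv (F.mem_C.1 he).1, hei,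
        inv_mul_cancel])
    have hker : Commute (e⁻¹ * d) c := by
      rcases hi with h | h <;> rw [h]
      exacts [((F.mem_C.1 hc).2.symm).pow_left i, hcz.symm.mul_left (((F.mem_C.1 hc).2.symm).pow_left i)]
    have hdcomm := hec.mul_left hker
    rw [mul_inv_cancel_left] at hdcomm
    rw [hdcomm.eq, mul_inv_cancel_right] at hdc
    exact F.ctx.ne_one (mul_eq_right.1 hdc.symm)
  have hidx : (K₀.subgroupOf H).index = 2 := by
    refine Subgroup.index_eq_two_iff.2 ⟨⟨F.img d, hdH⟩, fun b => ?_⟩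
    simp only [Subgroup.mem_subgroupOf, Subgroup.coe_mul]
    by_cases hb : (b : A) ∈ K₀
    · refine Or.inr ⟨hb, fun h => hdK ?_⟩
      have := K₀.mul_mem (K₀.inv_mem hb) h
      rwa [inv_mul_cancel_left] at this
    · refine Or.inl ⟨?_, hb⟩
      obtain ⟨e, he, hei⟩ := F.mem_I_iff.1 b.2.1
      rcases hlift e he (hei.symm ▸ Subgroup.mem_centralizer_singleton_iff.1 b.2.2) with h | h
      · exact absurd ⟨e, he, hei, h⟩ hb
      · refine ⟨e * d, mul_mem he hd, by rw [F.img_mul _ _ (F.mem_C.1 he).1 (F.mem_C.1 hd).1, hei],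
          mul_inv_eq_iff_eq_mul.1 ?_⟩
        calc e * d * c * (e * d)⁻¹ = e * (d * c * d⁻¹) * e⁻¹ := by group
          _ = e * F.z * e⁻¹ * (e * c * e⁻¹) := by rw [hdc]; group
          _ = c := by rw [(F.mem_C.1 he).1.eq, mul_inv_cancel_right, h, ← mul_assoc, F.ctx.sq_z, one_mul]
  have h1 := (K₀.subgroupOf H).index_mul_card
  rw [hidx, Nat.card_congr (Subgroup.subgroupOfEquivOfLe hK0H).toEquiv] at h1
  have h2 := Subgroup.card_dvd_of_le hQK
  rw [Subgroup.card_map_of_injective (MulAut.conj g).injective, hQc] at h2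
  have h3 := Subgroup.card_dvd_of_le (inf_le_left : H ≤ I)
  rw [F.facts.card_I, ← h1] at h3
  have h4 : 256 ∣ 443520 := (show 256 ∣ 2 * Nat.card ↥K₀ from Nat.mul_dvd_mul_left 2 h2).trans h3
  norm_num at h4

/-- Over an involution exactly one of the two is conjugate to `z`. -/
theorem exactly_one (D : HexData A I) (hres : Cfsg.pResidual 2 G = ⊤) {c : G} (hc : c ∈ F.C) (hc2 : c * c = 1)
    (hne : F.img c ≠ 1) : IsConj F.z (F.z * c) ↔ ¬ IsConj F.z c := by
  have hcz := (F.mem_C.1 hc).1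
  have hzc : F.z * c ∈ F.C := mul_mem F.z_mem_C hc
  have hzi : F.img (F.z * c) = F.img c := by
    rw [F.img_mul _ _ (Commute.refl _) hcz, F.img_mem F.ctx.mem, one_mul]
  have hnz : ∀ {x : G}, F.img x = F.img c → x ≠ F.z := fun {x} h e => hne (by
    rw [← h, e, F.img_mem F.ctx.mem])
  constructor
  · intro h1 h2
    obtain ⟨d, hd, hde⟩ := F.conj_C hres hc (hnz rfl) h2 hzc (hnz hzi) h1
    exact F.not_conj_z_mul D hres hc hc2 hne hd hde
  · intro h
    obtain ⟨t, ht, htne, m, hm⟩ := F.exists_conj_C hres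
    have ht' := F.mem_C.1 ht
    have ht2 : t * t = 1 := by rw [← hm]; exact conj_sq_one F.ctx.sq_z
    have hti : F.img t ≠ 1 := fun e => by
      rcases F.ker_C_sq ht e (Or.inl ht2) with e' | e'
      · rw [e', conj_eq_one_iff] at hm
        exact F.ctx.ne_one hm
      · exact htne e'
    have hor : ∀ {x : G}, Commute x F.z → F.img x ≠ 1 → x * x = 1 → orderOf (F.img x) = 2 :=
      fun {x} hx hx1 hx2 => orderOf_eq_prime (by rw [pow_two, ← F.img_mul _ _ hx hx, hx2, F.img_one]) hx1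
    obtain ⟨g, hg, hgt⟩ := F.facts.invol_conj _ _ (F.mem_I_iff.2 ⟨t, ht, rfl⟩) (F.mem_I_iff.2 ⟨c, hc, rfl⟩)
      (hor ht'.1 hti ht2) (hor hcz hne hc2)
    obtain ⟨d, hd, rfl⟩ := F.mem_I_iff.1 hg
    have hz : IsConj F.z (d * t * d⁻¹) :=
      (isConj_iff.2 ⟨m, hm⟩ : IsConj F.z t).trans (isConj_iff.2 ⟨d, rfl⟩)
    rcases F.lift_two_eq hc hc2 (mul_mem (mul_mem hd ht) (inv_mem hd)) (conj_sq_one ht2)
      (by rw [F.img_conj (F.mem_C.1 hd).1 ht'.1, hgt]) with e | e <;> rw [e] at hz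
    exacts [absurd hz h, hz]

/-- The automorphism group of an elementary abelian group of order `2¹¹`. -/
theorem card_mulAut_eleven {X : Type*} [CommGroup X] [Finite X] (hX : ∀ v : X, v ^ 2 = 1)
    (hcard : Nat.card X = 2 ^ 11) : Nat.card (MulAut X) ∣ ∏ i : Fin 11, (2 ^ 11 - 2 ^ (i : ℕ)) := by
  classical
  haveI : Fact (Nat.Prime 2) := ⟨Nat.prime_two⟩
  letI : Module (ZMod 2) (Additive X) := AddCommGroup.zmodModule fun v => by
    show Additive.ofMul ((Additive.toMul v) ^ 2) = 0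
    rw [hX]; rfl
  let b := Module.finBasis (ZMod 2) (Additive X)
  have hd : finrank (ZMod 2) (Additive X) = 11 := by
    have h : Nat.card (Additive X) = 2 ^ 11 := hcard
    rw [Module.natCard_eq_pow_finrank (K := ZMod 2), Nat.card_zmod] at h
    exact Nat.pow_right_injective le_rfl h
  let R : MulAut X →* (Additive X →ₗ[ZMod 2] Additive X) :=
    { toFun := fun f => (MulEquiv.toAdditive f).toAddMonoidHom.toZModLinearMap 2
      map_one' := LinearMap.ext fun _ => rfl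
      map_mul' := fun _ _ => LinearMap.ext fun _ => rfl }
  let Φ : MulAut X →* GL (Fin (finrank (ZMod 2) (Additive X))) (ZMod 2) :=
    ((Units.map ((LinearMap.toMatrixAlgEquiv b).toMonoidHom))).comp R.toHomUnits
  have hΦ : Function.Injective Φ := fun k l hkl => MulEquiv.ext fun x => Additive.ofMul.injective
    (LinearMap.congr_fun ((LinearMap.toMatrixAlgEquiv b).injective (congrArg Units.val hkl)) (Additive.ofMul x))
  refine (Subgroup.card_dvd_of_injective Φ hΦ).trans ?_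
  rw [Matrix.card_GL_field, ZMod.card, hd]

end Frame

end Cfsg.Lib.JankoFour
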