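import Cfsg.Agent.Lib.JankoFour.Forms
import Cfsg.Agent.Lib.JankoFour.Classes

/-!
# The codes of the elements of the group of order `2¹¹`
-/

set_option autoImplicit false
set_option linter.style.haveILetI false
set_option linter.unusedSectionVars false

namespace Cfsg.Lib.JankoFour

open Cfsg Cfsg.Lib.Extra Module BitModel

variable {G : Type*} [Group G] [Finite G] {A : Type} [Group A] {I : Subgroup A}

theorem pickB_true {H : Type*} [One H] (x : H) : pickB true x = x := rfl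

theorem pickB_false {H : Type*} [One H] (x : H) : pickB false x = 1 := rfl

theorem pickB_xor {H : Type*} [Group H] {x : H} (hx : x * x = 1) (a b : Bool) :
    pickB (a ^^ b) x = pickB a x * pickB b x := by
  cases a <;> cases b <;> simp [pickB, hx]

theorem pickB_mem {H : Type*} [Group H] {K : Subgroup H} {x : H} (hx : x ∈ K) (a : Bool) : pickB a x ∈ K := by
  cases a
  exacts [one_mem _, hx]

theorem pickB_inj {H : Type*} [Group H] {x : H} (hx : x ≠ 1) {a b : Bool} (h : pickB a x = pickB b x) : a = b := by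
  cases a <;> cases b <;> simp_all [pickB]

namespace Frame

variable (F : Frame G A I)

/-- Conjugation inside `E`. -/
theorem conj_in_E {e k : G} (he : e ∈ F.E) (hk : k ∈ F.E) :
    e * k * e⁻¹ = pickB (decide (JankoFour.B F.ctx (F.cls e) (F.cls k) = 1)) F.z * k := by
  rcases bit (JankoFour.B F.ctx (F.cls e) (F.cls k)) with h | h <;> rw [h]
  · rw [show decide ((0 : ZMod 2) = 1) = false by decide, pickB_false, one_mul,
      ((B_cls F.ctx he hk).1 h).eq, mul_inv_cancel_right]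
  · rw [show decide ((1 : ZMod 2) = 1) = true by decide, pickB_true]
    exact (Bf_cls_one F.ctx he hk).1 h

/-- The product over the powers of `p`. -/
def nrm (a : G) : G := a * (F.p * a * F.p⁻¹) * (F.p * F.p * a * (F.p * F.p)⁻¹)

theorem nrm_z : F.nrm F.z = F.z := by
  rw [nrm, F.p_comm.eq, mul_inv_cancel_right, (F.p_comm.mul_left F.p_comm).eq, mul_inv_cancel_right,
    F.ctx.sq_z, one_mul]

theorem nrm_one : F.nrm 1 = 1 := by simp [nrm]

end Frame

namespace Std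

variable {F : Frame G A I} {D : HexData A I} (S : Std F D)

theorem conj_p_K {a : G} (ha : a ∈ S.K) : F.p * a * F.p⁻¹ ∈ S.K :=
  ⟨F.conj_mem F.p_comm ha.1, by
    show JankoFour.cls F.ctx _ ∈ _
    rw [← act_cls F.ctx F.p_comm ha.1]
    exact S.p_W ha.2⟩

theorem nrm_mul {a b : G} (ha : a ∈ S.K) (hb : b ∈ S.K) : F.nrm (a * b) = F.nrm a * F.nrm b := by
  have h1 := S.conj_p_K ha
  have h2 : F.p * F.p * a * (F.p * F.p)⁻¹ ∈ S.K := by
    rw [show F.p * F.p * a * (F.p * F.p)⁻¹ = F.p * (F.p * a * F.p⁻¹) * F.p⁻¹ by group]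
    exact S.conj_p_K h1
  have hcomm : ∀ {x y : G}, x ∈ S.K → y ∈ S.K → Commute x y := fun hx hy =>
    S.Vb_comm (S.K_le hx) (S.K_le hy)
  rw [Frame.nrm, Frame.nrm, Frame.nrm, show F.p * (a * b) * F.p⁻¹ = F.p * a * F.p⁻¹ * (F.p * b * F.p⁻¹) by group,
    show F.p * F.p * (a * b) * (F.p * F.p)⁻¹ =
      F.p * F.p * a * (F.p * F.p)⁻¹ * (F.p * F.p * b * (F.p * F.p)⁻¹) by group,
    (hcomm hb h1).mul_mul_mul_comm, ((hcomm hb h2).mul_left (hcomm (S.conj_p_K hb) h2)).mul_mul_mul_comm]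

/-- Over each class of the fixed space one element has trivial norm. -/
theorem exists_norm_one {w : F.V} (hw : w ∈ S.W) : ∃ a ∈ S.K, F.cls a = w ∧ F.nrm a = 1 := by
  obtain ⟨a, ha, rfl⟩ := cls_surj F.ctx w
  have hK : a ∈ S.K := ⟨ha, hw⟩
  have h2 : Commute (F.p * F.p) F.z := F.p_comm.mul_left F.p_comm
  have hm1 := F.conj_mem F.p_comm ha
  have hm2 := F.conj_mem h2 ha
  have hcls : JankoFour.cls F.ctx (F.nrm a) = 0 := by
    rw [Frame.nrm, cls_mul F.ctx (mul_mem ha hm1) hm2, cls_mul F.ctx ha hm1, ← act_cls F.ctx F.p_comm ha,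
      ← act_cls F.ctx h2 ha, act_mul F.ctx F.p_comm F.p_comm]
    exact F.act_p_sum _
  rcases (cls_eq_zero F.ctx (mul_mem (mul_mem ha hm1) hm2)).1 hcls with h | h
  · exact ⟨a, hK, rfl, h⟩
  · refine ⟨F.z * a, mul_mem S.z_mem_K hK, ?_, ?_⟩
    · show JankoFour.cls F.ctx (F.z * a) = _
      rw [cls_mul F.ctx F.ctx.mem ha, cls_z, zero_add]
    · rw [S.nrm_mul S.z_mem_K hK, F.nrm_z, show F.nrm a = F.z from h, F.ctx.sq_z]

theorem norm_one_unique {a b : G} (ha : a ∈ S.K) (hb : b ∈ S.K) (h : F.cls a = F.cls b) (ha1 : F.nrm a = 1)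
    (hb1 : F.nrm b = 1) : a = b := by
  rcases (cls_eq_iff F.ctx ha.1 hb.1).1 h with e | e
  · exact e
  · exfalso
    rw [e, S.nrm_mul S.z_mem_K hb, F.nrm_z, hb1, mul_one] at ha1
    exact F.ctx.ne_one ha1

end Std

namespace Adapted

variable {F : Frame G A I} {D : HexData A I} {S : Std F D} (C : Adapted S)

/-- The element of trivial norm over given coordinates. -/
noncomputable def w0 (x : ℕ) : G := (S.exists_norm_one (C.cw_mem x)).choose

theorem w0_mem (x : ℕ) : C.w0 x ∈ S.K := (S.exists_norm_one (C.cw_mem x)).choose_spec.1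

theorem cls_w0 (x : ℕ) : F.cls (C.w0 x) = C.cw x := (S.exists_norm_one (C.cw_mem x)).choose_spec.2.1

theorem nrm_w0 (x : ℕ) : F.nrm (C.w0 x) = 1 := (S.exists_norm_one (C.cw_mem x)).choose_spec.2.2

theorem eq_w0 {a : G} {x : ℕ} (ha : a ∈ S.K) (h : F.cls a = C.cw x) (h1 : F.nrm a = 1) : a = C.w0 x :=
  S.norm_one_unique ha (C.w0_mem x) (h.trans (C.cls_w0 x).symm) h1 (C.nrm_w0 x)

theorem w0_zero : C.w0 0 = 1 := (C.eq_w0 (one_mem _) (by rw [C.cw_zero]; exact cls_one F.ctx) F.nrm_one).symm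

theorem w0_xor (x y : ℕ) : C.w0 (x ^^^ y) = C.w0 x * C.w0 y :=
  (C.eq_w0 (mul_mem (C.w0_mem x) (C.w0_mem y)) (by
    show JankoFour.cls F.ctx _ = _
    rw [cls_mul F.ctx (C.w0_mem x).1 (C.w0_mem y).1, C.cw_xor, ← C.cls_w0, ← C.cls_w0])
    (by rw [S.nrm_mul (C.w0_mem x) (C.w0_mem y), C.nrm_w0, C.nrm_w0, one_mul])).symm

theorem w0_conj {n : G} {x x' : ℕ} (hn : Commute n F.z) (hp : Commute n F.p)
    (hW : F.act n (C.cw x) = C.cw x') : n * C.w0 x * n⁻¹ = C.w0 x' := by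
  have hcls : F.cls (n * C.w0 x * n⁻¹) = C.cw x' := by
    rw [← hW, ← C.cls_w0, act_cls F.ctx hn (C.w0_mem x).1]
  refine C.eq_w0 ⟨F.conj_mem hn (C.w0_mem x).1, by rw [hcls]; exact C.cw_mem _⟩ hcls ?_
  have e1 : F.p * (n * C.w0 x * n⁻¹) * F.p⁻¹ = n * (F.p * C.w0 x * F.p⁻¹) * n⁻¹ := by
    calc F.p * (n * C.w0 x * n⁻¹) * F.p⁻¹ = (F.p * n) * C.w0 x * (F.p * n)⁻¹ := by group
      _ = (n * F.p) * C.w0 x * (n * F.p)⁻¹ := by rw [hp.eq]
      _ = _ := by group
  have e2 : F.p * F.p * (n * C.w0 x * n⁻¹) * (F.p * F.p)⁻¹ =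
      n * (F.p * F.p * C.w0 x * (F.p * F.p)⁻¹) * n⁻¹ := by
    calc _ = (F.p * F.p * n) * C.w0 x * (F.p * F.p * n)⁻¹ := by group
      _ = (n * (F.p * F.p)) * C.w0 x * (n * (F.p * F.p))⁻¹ := by rw [← (hp.mul_right hp).eq]
      _ = _ := by group
  rw [Frame.nrm, e1, e2, show ∀ a b c : G, n * a * n⁻¹ * (n * b * n⁻¹) * (n * c * n⁻¹) = n * (a * b * c) * n⁻¹
    from fun a b c => by group]
  rw [show C.w0 x * (F.p * C.w0 x * F.p⁻¹) * (F.p * F.p * C.w0 x * (F.p * F.p)⁻¹) = 1 from C.nrm_w0 x, mul_one,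
    mul_inv_cancel]

/-- A lift of given form that is not conjugate to `z`. -/
theorem exists_nz {u : ℕ} (hu : u < 16) :
    ∃ c ∈ S.X, C.Form c u ∧ (u = 0 → c = 1) ∧ (u ≠ 0 → ¬ IsConj F.z c) := by
  by_cases h0 : u = 0
  · subst h0
    exact ⟨1, one_mem _, C.form_one, fun _ => rfl, fun h => absurd rfl h⟩
  · obtain ⟨c, hc, hcu⟩ := C.exists_form hu
    have hne : F.img c ≠ 1 := fun h => h0 (C.form_unique hu (by norm_num) hcu fun v => by
      rcases S.lift_unique (one_mem _) hc (by rw [F.img_one, h]) with e | e <;> rw [e]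
      · exact C.form_one v
      · rw [C.form_z_mul (one_mem _)]
        exact C.form_one v)
    by_cases hz : IsConj F.z c
    · exact ⟨F.z * c, mul_mem S.z_mem_X hc, fun v => by rw [C.form_z_mul hc]; exact hcu v, fun h => absurd h h0,
        fun _ h => (F.exactly_one D S.hres (S.X_C hc) (S.X_sq hc) hne).1 h hz⟩
    · exact ⟨c, hc, hcu, fun h => absurd h h0, fun _ => hz⟩

/-- The lift of given form that is not conjugate to `z`. -/
noncomputable def nz (u : ℕ) : G := if hu : u < 16 then (C.exists_nz hu).choose else 1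

theorem nz_spec {u : ℕ} (hu : u < 16) :
    C.nz u ∈ S.X ∧ C.Form (C.nz u) u ∧ (u = 0 → C.nz u = 1) ∧ (u ≠ 0 → ¬ IsConj F.z (C.nz u)) := by
  rw [nz, dif_pos hu]
  exact (C.exists_nz hu).choose_spec

theorem img_ne_one {c : G} {u : ℕ} (hu : u < 16) (hu0 : u ≠ 0) (hc : c ∈ S.X) (h : C.Form c u) :
    F.img c ≠ 1 := fun e => hu0 (C.form_unique hu (by norm_num) h fun v => by
  rcases S.lift_unique (one_mem _) hc (by rw [F.img_one, e]) with e' | e' <;> rw [e']
  · exact C.form_one v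
  · rw [C.form_z_mul (one_mem _)]
    exact C.form_one v)

theorem eq_nz {c : G} {u : ℕ} (hu : u < 16) (hu0 : u ≠ 0) (hc : c ∈ S.X) (h : C.Form c u)
    (hz : ¬ IsConj F.z c) : c = C.nz u := by
  obtain ⟨hn, hnf, -, hnz⟩ := C.nz_spec hu
  rcases C.form_eq hn hc hnf h with e | e
  · exact e
  · exact absurd ((F.exactly_one D S.hres (S.X_C hn) (S.X_sq hn) (C.img_ne_one hu hu0 hn hnf)).2 (hnz hu0))
      (e ▸ hz)

/-- The linear section. -/
noncomputable def cL (u : ℕ) : G :=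
  pickB (u.testBit 0) (C.nz 1) * pickB (u.testBit 1) (C.nz 2) *
    (pickB (u.testBit 2) (C.nz 4) * pickB (u.testBit 3) (C.nz 8))

theorem cL_mem (u : ℕ) : C.cL u ∈ S.X :=
  mul_mem (mul_mem (pickB_mem (C.nz_spec (by norm_num)).1 _) (pickB_mem (C.nz_spec (by norm_num)).1 _))
    (mul_mem (pickB_mem (C.nz_spec (by norm_num)).1 _) (pickB_mem (C.nz_spec (by norm_num)).1 _))

theorem cL_xor (u v : ℕ) : C.cL (u ^^^ v) = C.cL u * C.cL v := by
  have hm : ∀ {k : ℕ} (_ : k < 16) (b : Bool), pickB b (C.nz k) ∈ S.Vb := fun hk b =>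
    pickB_mem (S.X_le (C.nz_spec hk).1) b
  have hc : ∀ {x y : G}, x ∈ S.Vb → y ∈ S.Vb → Commute x y := fun hx hy => S.Vb_comm hx hy
  simp only [cL, Nat.testBit_xor, pickB_xor (S.X_sq (C.nz_spec (show 1 < 16 by norm_num)).1),
    pickB_xor (S.X_sq (C.nz_spec (show 2 < 16 by norm_num)).1),
    pickB_xor (S.X_sq (C.nz_spec (show 4 < 16 by norm_num)).1),
    pickB_xor (S.X_sq (C.nz_spec (show 8 < 16 by norm_num)).1)]
  have a0 := hm (show 1 < 16 by norm_num)
  have a1 := hm (show 2 < 16 by norm_num)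
  have a2 := hm (show 4 < 16 by norm_num)
  have a3 := hm (show 8 < 16 by norm_num)
  rw [(hc (a0 (v.testBit 0)) (a1 (u.testBit 1))).mul_mul_mul_comm,
    (hc (a2 (v.testBit 2)) (a3 (u.testBit 3))).mul_mul_mul_comm,
    (hc (mul_mem (a0 (v.testBit 0)) (a1 (v.testBit 1)))
      (mul_mem (a2 (u.testBit 2)) (a3 (u.testBit 3)))).mul_mul_mul_comm]

theorem cL_zero : C.cL 0 = 1 := by simp [cL, pickB]

theorem cL_form {u : ℕ} (hu : u < 16) : C.Form (C.cL u) u := by
  have h : ∀ {k : ℕ} (_ : k < 16) (b : Bool),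
      pickB b (C.nz k) ∈ S.X ∧ C.Form (pickB b (C.nz k)) (cst b k) := fun hk b => by
    cases b
    · exact ⟨one_mem _, C.form_one⟩
    · exact ⟨(C.nz_spec hk).1, (C.nz_spec hk).2.1⟩
  have e : ∀ u < 16, cst (u.testBit 0) 1 ^^^ cst (u.testBit 1) 2 ^^^
      (cst (u.testBit 2) 4 ^^^ cst (u.testBit 3) 8) = u := by decide +kernel
  obtain ⟨m1, f1⟩ := h (show 1 < 16 by norm_num) (u.testBit 0)
  obtain ⟨m2, f2⟩ := h (show 2 < 16 by norm_num) (u.testBit 1)
  obtain ⟨m4, f4⟩ := h (show 4 < 16 by norm_num) (u.testBit 2)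
  obtain ⟨m8, f8⟩ := h (show 8 < 16 by norm_num) (u.testBit 3)
  have := C.form_mul (mul_mem m1 m2) (mul_mem m4 m8) (C.form_mul m1 m2 f1 f2) (C.form_mul m4 m8 f4 f8)
  rw [e u hu] at this
  exact this

theorem z_commute_Vb {x : G} (hx : x ∈ S.Vb) : Commute F.z x := (S.Vb_z hx).symm

/-- The element with a given code. -/
noncomputable def el (v : ℕ) : G := pickB (cb v) F.z * C.w0 (cx v) * C.cL (cu v)

theorem el_mem (v : ℕ) : C.el v ∈ S.Vb :=
  mul_mem (mul_mem (pickB_mem S.z_mem _) (S.K_le (C.w0_mem _))) (S.X_le (C.cL_mem _))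

theorem el_code (b : Bool) {x : ℕ} (u : ℕ) (hx : x < 64) :
    C.el (code b x u) = pickB b F.z * C.w0 x * C.cL u := by
  obtain ⟨e1, e2, e3⟩ := parts_code b u hx
  rw [el, e1, e2, e3]

theorem el_xor (v w : ℕ) : C.el (v ^^^ w) = C.el v * C.el w := by
  have e1 : cb (v ^^^ w) = (cb v ^^ cb w) := Nat.testBit_xor ..
  have hcx : ∀ a : ℕ, cx a = (a >>> 1) &&& 63 := fun a => by
    rw [cx, Nat.shiftRight_eq_div_pow, pow_one, show (63 : ℕ) = 2 ^ 6 - 1 from rfl, Nat.and_two_pow_sub_one_eq_mod]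
  have hcu : ∀ a : ℕ, cu a = a >>> 7 := fun a => by rw [cu, Nat.shiftRight_eq_div_pow]
  have e2 : cx (v ^^^ w) = cx v ^^^ cx w := by
    rw [hcx, hcx, hcx, Nat.shiftRight_xor_distrib, Nat.and_xor_distrib_right]
  have e3 : cu (v ^^^ w) = cu v ^^^ cu w := by rw [hcu, hcu, hcu, Nat.shiftRight_xor_distrib]
  have hz : ∀ b, pickB b F.z ∈ S.Vb := fun b => pickB_mem S.z_mem b
  have hw : ∀ x, C.w0 x ∈ S.Vb := fun x => S.K_le (C.w0_mem x)
  have hl : ∀ u, C.cL u ∈ S.Vb := fun u => S.X_le (C.cL_mem u)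
  rw [el, el, el, e1, e2, e3, pickB_xor F.ctx.sq_z, C.w0_xor, C.cL_xor,
    (S.Vb_comm (hz _) (hw _)).mul_mul_mul_comm,
    (S.Vb_comm (mul_mem (hz _) (hw _)) (hl _)).mul_mul_mul_comm]

theorem el_zero : C.el 0 = 1 := by
  have h := C.el_xor 0 0
  rwa [Nat.xor_self, left_eq_mul] at h

theorem el_one : C.el 1 = F.z := by
  have h := C.el_code true (x := 0) 0 (by norm_num)
  rw [C.w0_zero, C.cL_zero, mul_one, mul_one, pickB_true] at h
  exact h

theorem el_eq_one {v : ℕ} (hv : v < 2048) (h : C.el v = 1) : v = 0 := by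
  have hx := C.cL_mem (cu v)
  have hk : pickB (cb v) F.z * C.w0 (cx v) ∈ S.K := mul_mem (pickB_mem S.z_mem_K _) (C.w0_mem _)
  have he : C.cL (cu v) ∈ S.K := by
    have e : C.cL (cu v) = (pickB (cb v) F.z * C.w0 (cx v))⁻¹ := eq_inv_of_mul_eq_one_right h
    rw [e]
    exact inv_mem hk
  have hu0 : cu v = 0 := by
    by_contra hne
    exact C.img_ne_one (cu_lt hv) hne hx (C.cL_form (cu_lt hv)) (F.img_mem he.1)
  rw [el, hu0, C.cL_zero, mul_one] at h
  have hw : C.w0 (cx v) = pickB (cb v) F.z := by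
    have := eq_inv_of_mul_eq_one_right h
    rw [this, inv_eq_of_mul_eq_one_right]
    cases cb v <;> simp [pickB, F.ctx.sq_z]
  have hx0 : cx v = 0 := by
    refine C.cw_inj0 (cx_lt v) ?_
    rw [← C.cls_w0, hw]
    cases cb v
    · exact cls_one F.ctx
    · exact cls_z F.ctx
  rw [hx0, C.w0_zero] at hw
  have hb : cb v = false := pickB_inj F.ctx.ne_one (hw.symm.trans (pickB_false _).symm)
  rw [← code_parts (v := v), hb, hx0, hu0]
  rfl

theorem el_inj {v w : ℕ} (hv : v < 2048) (hw : w < 2048) (h : C.el v = C.el w) : v = w := by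
  refine Nat.xor_eq_zero_iff.1 (C.el_eq_one (Nat.xor_lt_two_pow (n := 11) hv hw) ?_)
  rw [C.el_xor, h, S.Vb_sq (C.el_mem w)]

include C in
theorem exists_el {x : G} (hx : x ∈ S.Vb) : ∃ v < 2048, C.el v = x := by
  let f : Fin 2048 → ↥S.Vb := fun v => ⟨C.el v, C.el_mem v⟩
  have hf : Function.Bijective f := by
    refine Function.Injective.bijective_of_nat_card_le (fun a b e => ?_) ?_
    · exact Fin.ext (C.el_inj a.2 b.2 (congrArg Subtype.val e))
    · rw [S.card_Vb]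
      simp
  obtain ⟨v, hv⟩ := hf.2 ⟨x, hx⟩
  exact ⟨v, v.2, congrArg Subtype.val hv⟩

/-- The commutator of a member and an element of `E`. -/
theorem comm_eq {c e : G} {u : ℕ} (hc : c ∈ S.X) (hu : C.Form c u) (he : e ∈ F.E) :
    c * e * c⁻¹ * e⁻¹ = pickB (quad u (C.chi (F.cls e))) F.z * C.w0 (app u (C.chi (F.cls e))) := by
  set χ := C.chi (F.cls e)
  let f : G → G := fun g => c * g * c⁻¹ * g⁻¹
  have hcz := S.X_z hc
  have hfE : ∀ g ∈ F.E, f g ∈ F.E := fun g hg => mul_mem (F.conj_mem hcz hg) (inv_mem hg)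
  have hfc : ∀ g ∈ F.E, F.cls (f g) = F.disp c (F.cls g) := fun g hg => by
    show JankoFour.cls F.ctx _ = _
    rw [cls_mul F.ctx (F.conj_mem hcz hg) (inv_mem hg), cls_inv F.ctx hg, ← act_cls F.ctx hcz hg]
    rfl
  have hfK : ∀ g ∈ F.E, f g ∈ S.K := fun g hg => ⟨hfE g hg, by rw [hfc g hg]; exact C.disp_mem hc _⟩
  have hmul : ∀ g ∈ F.E, ∀ g' ∈ F.E, f (g * g') =
      f g * (pickB (decide (JankoFour.B F.ctx (F.cls g) (F.disp c (F.cls g')) = 1)) F.z * f g') :=
    fun g hg g' hg' => by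
      rw [← hfc g' hg', ← F.conj_in_E hg (hfE g' hg')]
      show c * (g * g') * c⁻¹ * (g * g')⁻¹ = c * g * c⁻¹ * g⁻¹ * (g * (c * g' * c⁻¹ * g'⁻¹) * g⁻¹)
      group
  have h2 : Commute (F.p * F.p) F.z := F.p_comm.mul_left F.p_comm
  set e' := F.p * e * F.p⁻¹ with he'
  set e'' := F.p * F.p * e * (F.p * F.p)⁻¹ with he''
  have he'E : e' ∈ F.E := F.conj_mem F.p_comm he
  have he''E : e'' ∈ F.E := F.conj_mem h2 he
  have hc' : Commute c (F.p * F.p) := (S.X_p hc).mul_right (S.X_p hc)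
  have hfq : ∀ q, Commute c q → f (q * e * q⁻¹) = q * f e * q⁻¹ := fun q hq => by
    show c * (q * e * q⁻¹) * c⁻¹ * (q * e * q⁻¹)⁻¹ = q * (c * e * c⁻¹ * e⁻¹) * q⁻¹
    calc _ = (c * q) * e * (c * q)⁻¹ * (q * e⁻¹ * q⁻¹) := by group
      _ = (q * c) * e * (q * c)⁻¹ * (q * e⁻¹ * q⁻¹) := by rw [hq.eq]
      _ = _ := by group
  have hfp : f e' = F.p * f e * F.p⁻¹ := hfq _ (S.X_p hc)
  have hfp2 : f e'' = F.p * F.p * f e * (F.p * F.p)⁻¹ := hfq _ hc'
  set v := F.cls e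
  have hv' : F.cls e' = F.act F.p v := (act_cls F.ctx F.p_comm he).symm
  have hv'' : F.cls e'' = F.act F.p (F.act F.p v) := by
    rw [← act_mul F.ctx F.p_comm F.p_comm]
    exact (act_cls F.ctx h2 he).symm
  -- the product of the three is central
  have hprod : f (e * e' * e'') = 1 := by
    have hcls : JankoFour.cls F.ctx (e * e' * e'') = 0 := by
      rw [cls_mul F.ctx (mul_mem he he'E) he''E, cls_mul F.ctx he he'E,
        show JankoFour.cls F.ctx e' = _ from hv', show JankoFour.cls F.ctx e'' = _ from hv'']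
      exact F.act_p_sum v
    show c * _ * c⁻¹ * _ = _
    rcases (cls_eq_zero F.ctx (mul_mem (mul_mem he he'E) he''E)).1 hcls with h | h <;> rw [h]
    · group
    · rw [hcz.eq, mul_inv_cancel_right, mul_inv_cancel]
  have hcls_mul : F.cls (e * e') = F.act F.p (F.act F.p v) := by
    show JankoFour.cls F.ctx _ = _
    rw [cls_mul F.ctx he he'E, show JankoFour.cls F.ctx e' = _ from hv', F.act_p_sq]
  rw [hmul _ (mul_mem he he'E) _ he''E, hmul _ he _ he'E, hcls_mul, hv', hv'', C.disp_alt hc,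
    show decide ((0 : ZMod 2) = 1) = false by decide, pickB_false, one_mul] at hprod
  have hq : decide (JankoFour.B F.ctx v (F.disp c (F.act F.p v)) = 1) = quad u χ := by
    rw [hu, B_symm, C.B_cw, C.chi_p, quad, bil, Nat.and_comm]
    cases par (χ &&& app u (pc χ)) <;> rfl
  rw [hq] at hprod
  have hn : F.nrm (f e) = pickB (quad u χ) F.z := by
    have hz : Commute (f e) (pickB (quad u χ) F.z) := by
      cases quad u χ
      · exact Commute.one_right _
      · exact F.comm_of_mem (hfE e he)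
    rw [Frame.nrm, ← hfp, ← hfp2]
    have h' : pickB (quad u χ) F.z * (f e * f e' * f e'') = 1 := by
      rw [← hprod]
      simp only [← mul_assoc]
      rw [hz.eq]
    rw [eq_inv_of_mul_eq_one_right h', inv_eq_of_mul_eq_one_right]
    cases quad u χ <;> simp [pickB, F.ctx.sq_z]
  have hzK : ∀ b, pickB b F.z ∈ S.K := fun b => pickB_mem S.z_mem_K b
  have hnz : F.nrm (pickB (quad u χ) F.z) = pickB (quad u χ) F.z := by
    cases quad u χ
    exacts [F.nrm_one, F.nrm_z]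
  have h3 : pickB (quad u χ) F.z * f e = C.w0 (app u χ) := by
    refine C.eq_w0 (mul_mem (hzK _) (hfK e he)) ?_ ?_
    · show JankoFour.cls F.ctx _ = _
      rw [cls_mul F.ctx (hzK _).1 (hfE e he), show JankoFour.cls F.ctx (f e) = _ from hfc e he, hu]
      cases quad u χ
      · rw [pickB_false, cls_one, zero_add]
      · rw [pickB_true, cls_z, zero_add]
    · rw [S.nrm_mul (hzK _) (hfK e he), hn, hnz]
      cases quad u χ <;> simp [pickB, F.ctx.sq_z]
  show f e = _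
  rw [← h3, ← mul_assoc]
  cases quad u χ <;> simp [pickB, F.ctx.sq_z]

/-- Conjugation by elements of `E` on codes. -/
theorem el_eAct {e : G} (he : e ∈ F.E) {v : ℕ} (hv : v < 2048) :
    e * C.el v * e⁻¹ = C.el (eAct (C.chi (F.cls e)) v) := by
  set χ := C.chi (F.cls e)
  set b := cb v
  set x := cx v
  set u := cu v
  have hu : u < 16 := cu_lt hv
  have hlt : x ^^^ app u χ < 64 := Nat.xor_lt_two_pow (n := 6) (cx_lt v) (app_lt _ _)
  rw [eAct, C.el_code _ _ hlt]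
  have hb : e * pickB b F.z * e⁻¹ = pickB b F.z := by
    cases b
    · simp [pickB]
    · rw [pickB_true, (F.comm_of_mem he).eq, mul_inv_cancel_right]
  have hw : e * C.w0 x * e⁻¹ = pickB (par (χ &&& x)) F.z * C.w0 x := by
    rw [F.conj_in_E he (C.w0_mem x).1, C.cls_w0, B_symm, C.B_cw, Nat.and_comm]
    cases par (χ &&& x) <;> rfl
  have hc : e * C.cL u * e⁻¹ = pickB (quad u χ) F.z * C.w0 (app u χ) * C.cL u := by
    have h := C.comm_eq (C.cL_mem u) (C.cL_form hu) he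
    have hK : C.cL u * e * (C.cL u)⁻¹ * e⁻¹ ∈ S.K := by
      rw [h]
      exact mul_mem (pickB_mem S.z_mem_K _) (C.w0_mem _)
    rw [← h, ← inv_eq_of_mul_eq_one_right (S.K_sq hK)]
    group
  rw [el, show e * (pickB b F.z * C.w0 x * C.cL u) * e⁻¹ =
    e * pickB b F.z * e⁻¹ * (e * C.w0 x * e⁻¹) * (e * C.cL u * e⁻¹) by group, hb, hw, hc,
    pickB_xor F.ctx.sq_z, pickB_xor F.ctx.sq_z, C.w0_xor]
  have hcz : ∀ y ∈ S.Vb, ∀ b, Commute (pickB b F.z) y := fun y hy b => by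
    cases b
    exacts [Commute.one_left y, (S.Vb_z hy).symm]
  have hwV := S.K_le (C.w0_mem x)
  rw [show pickB b F.z * (pickB (par (χ &&& x)) F.z * C.w0 x) *
      (pickB (quad u χ) F.z * C.w0 (app u χ) * C.cL u) =
    pickB b F.z * pickB (par (χ &&& x)) F.z * (C.w0 x * pickB (quad u χ) F.z) * C.w0 (app u χ) * C.cL u by group,
    ← (hcz _ hwV _).eq]
  group
  rfl

end Adapted

end Cfsg.Lib.JankoFour
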