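import Cfsg.Agent.Lib.JankoFour.Eigen

/-!
# Conjugate frames
-/

set_option autoImplicit false
set_option linter.style.haveILetI false
set_option linter.unusedSectionVars false

namespace Cfsg.Lib.JankoFour

open Cfsg Cfsg.Lib.Extra Module

namespace Frame

variable {G : Type*} [Group G] [Finite G] {A : Type} [Group A] {I : Subgroup A} (F : Frame G A I)

theorem commute_conj {g x y : G} : Commute (g⁻¹ * x * g) y ↔ Commute x (g * y * g⁻¹) := by
  have e : g * y * g⁻¹ = MulAut.conj g y := rfl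
  have e' : x = MulAut.conj g (g⁻¹ * x * g) := by rw [MulAut.conj_apply]; group
  constructor
  · intro h
    rw [e, e']
    exact h.map (MulAut.conj g).toMonoidHom
  · intro h
    have h' := h.map (MulAut.conj g⁻¹).toMonoidHom
    simpa [MulAut.conj_apply, mul_assoc] using h'

/-- The conjugate frame. -/
def conj (g : G) : Frame G A I where
  z := g * F.z * g⁻¹
  p := g * F.p * g⁻¹
  E := F.E.map (MulAut.conj g).toMonoidHom
  img x := F.img (g⁻¹ * x * g)
  facts := F.facts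
  ctx := F.ctx.conj g
  card_E := by rw [Subgroup.card_map_of_injective (MulAut.conj g).injective, F.card_E]
  card_center := by
    rw [← Nat.card_congr (Subgroup.centerCongr
      (Subgroup.equivMapOfInjective F.E _ (MulAut.conj g).injective)).toEquiv, F.card_center]
  p_ord := by rw [← MulAut.conj_apply, MulEquiv.orderOf_eq, F.p_ord]
  p_comm := (F.p_comm.map (MulAut.conj g).toMonoidHom :)
  img_mul x y hx hy := by
    rw [← F.img_mul _ _ (commute_conj.2 hx) (commute_conj.2 hy)]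
    exact congrArg F.img (by group)
  img_surj a := by
    obtain ⟨x, hx, rfl⟩ := F.img_surj a
    exact ⟨g * x * g⁻¹, (hx.map (MulAut.conj g).toMonoidHom :), congrArg F.img (by group)⟩
  img_ker x hx := by
    rw [F.img_ker _ (commute_conj.2 hx)]
    constructor
    · rintro ⟨e, he, i, h⟩
      refine ⟨g * e * g⁻¹, ⟨e, he, rfl⟩, i, ?_⟩
      rw [conj_pow, show g * e * g⁻¹ * (g * F.p ^ i * g⁻¹) = g * (e * F.p ^ i) * g⁻¹ by group, ← h]
      group
    · rintro ⟨_, ⟨e, he, rfl⟩, i, h⟩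
      refine ⟨e, he, i, ?_⟩
      rw [h, conj_pow]
      show g⁻¹ * (g * e * g⁻¹ * (g * F.p ^ i * g⁻¹)) * g = _
      group
  fixed := by
    rintro _ ⟨e, he, rfl⟩ h
    have h' : Commute (g⁻¹ * (g * e * g⁻¹) * g) F.p := commute_conj.2 h
    rw [show g⁻¹ * (g * e * g⁻¹) * g = e by group] at h'
    rcases F.fixed e he h' with rfl | rfl
    · exact Or.inl (map_one _)
    · exact Or.inr rfl
  inverter := by
    obtain ⟨s, hs, hsp⟩ := F.inverter
    refine ⟨g * s * g⁻¹, (hs.map (MulAut.conj g).toMonoidHom :), ?_⟩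
    rw [show g * s * g⁻¹ * (g * F.p * g⁻¹) * (g * s * g⁻¹)⁻¹ = g * (s * F.p * s⁻¹) * g⁻¹ by group, hsp]
    group
  perfect := by
    set L := Subgroup.centralizer ({g * F.z * g⁻¹} : Set G) ⊓ Subgroup.centralizer ({g * F.p * g⁻¹} : Set G)
    have h : F.C.map (MulAut.conj g).toMonoidHom ≤ L := by
      rintro _ ⟨c, hc, rfl⟩
      have hc' := F.mem_C.1 hc
      exact ⟨Subgroup.mem_centralizer_singleton_iff.2 (hc'.1.map (MulAut.conj g).toMonoidHom).eq,
        Subgroup.mem_centralizer_singleton_iff.2 (hc'.2.map (MulAut.conj g).toMonoidHom).eq⟩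
    refine Subgroup.commutator_mono h h ?_
    rw [← Subgroup.map_commutator]
    exact ⟨F.p, F.perfect, rfl⟩

theorem conj_z (g : G) : (F.conj g).z = g * F.z * g⁻¹ := rfl

theorem conj_p (g : G) : (F.conj g).p = g * F.p * g⁻¹ := rfl

theorem mem_conj_E {g x : G} : x ∈ (F.conj g).E ↔ g⁻¹ * x * g ∈ F.E := by
  refine ⟨?_, fun h => ⟨g⁻¹ * x * g, h, show g * (g⁻¹ * x * g) * g⁻¹ = x by group⟩⟩
  rintro ⟨e, he, rfl⟩
  show g⁻¹ * (g * e * g⁻¹) * g ∈ F.E
  rwa [show g⁻¹ * (g * e * g⁻¹) * g = e by group]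

/-- The extraspecial group depends only on the involution. -/
theorem conj_E_eq {g h : G} (e : g * F.z * g⁻¹ = h * F.z * h⁻¹) : (F.conj g).E = (F.conj h).E := by
  ext x
  have hn : ∀ {a b : G}, a * F.z * a⁻¹ = b * F.z * b⁻¹ → a⁻¹ * x * a ∈ F.E → b⁻¹ * x * b ∈ F.E := by
    intro a b hab hxa
    have hc : Commute (b⁻¹ * a) F.z := by
      refine mul_inv_eq_iff_eq_mul.1 ?_
      rw [show b⁻¹ * a * F.z * (b⁻¹ * a)⁻¹ = b⁻¹ * (a * F.z * a⁻¹) * b by group, hab]
      group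
    have := F.conj_mem hc hxa
    rwa [show b⁻¹ * a * (a⁻¹ * x * a) * (b⁻¹ * a)⁻¹ = b⁻¹ * x * b by group] at this
  rw [mem_conj_E, mem_conj_E]
  exact ⟨hn e, hn e.symm⟩

theorem eq_one_of_cube {a : G} (ha : a ∈ F.E) (h3 : a ^ 3 = 1) : a = 1 := by
  rcases F.ctx.sq a ha with h | h
  · rwa [pow_succ, pow_two, h, one_mul] at h3
  · rw [pow_succ, pow_two, h] at h3
    rw [eq_inv_of_mul_eq_one_right h3, F.ctx.inv_z, F.ctx.sq_z] at h
    exact absurd h.symm F.ctx.ne_one

/-- Elements of two-power order in the kernel lie in `E`. -/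
theorem mem_E_of_two {x : G} (hx : Commute x F.z) (h1 : F.img x = 1) {n : ℕ} (h2 : x ^ 2 ^ n = 1) :
    x ∈ F.E := by
  obtain ⟨e, he, i, rfl⟩ := (F.img_ker x hx).1 h1
  have key : ∀ m : ℕ, ∃ a ∈ F.E, (e * F.p ^ i) ^ m = a * F.p ^ (i * m) := by
    intro m
    induction m with
    | zero => exact ⟨1, one_mem _, by simp⟩
    | succ m ih =>
      obtain ⟨a, ha, hm⟩ := ih
      refine ⟨a * (F.p ^ (i * m) * e * (F.p ^ (i * m))⁻¹), mul_mem ha (F.conj_mem (F.p_comm.pow_left _) he), ?_⟩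
      rw [pow_succ (e * F.p ^ i), hm, Nat.mul_succ, pow_add]
      group
  obtain ⟨a, ha, hm⟩ := key (2 ^ n)
  rw [h2] at hm
  have hpe : F.p ^ (i * 2 ^ n) ∈ F.E := by rw [← inv_eq_of_mul_eq_one_right hm.symm]; exact inv_mem ha
  have h3 := (F.p_pow_eq_one).1 (F.eq_one_of_cube hpe (F.p_pow_six _))
  have hi : 3 ∣ i := (Nat.Coprime.pow_right n (by norm_num : Nat.Coprime 3 2)).dvd_of_dvd_mul_right h3
  rw [F.p_pow_eq_one.2 hi, mul_one]
  exact he

/-- An element commuting with `p` centralizes what it fixes modulo `⟨z⟩`. -/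
theorem commute_of_fixed {c y : G} (hcC : c ∈ F.C) (hy : y ∈ F.E) (h : F.act c (F.cls y) = F.cls y) :
    Commute c y := by
  obtain ⟨hcz, hcp⟩ := F.mem_C.1 hcC
  rw [act_cls F.ctx hcz hy] at h
  rcases (cls_eq_iff F.ctx (F.conj_mem hcz hy) hy).1 h with h | h
  · exact mul_inv_eq_iff_eq_mul.1 h
  exfalso
  have step : ∀ w, c * w * c⁻¹ = F.z * w → c * (F.p * w * F.p⁻¹) * c⁻¹ = F.z * (F.p * w * F.p⁻¹) := by
    intro w hw
    calc c * (F.p * w * F.p⁻¹) * c⁻¹ = (c * F.p) * w * (c * F.p)⁻¹ := by group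
      _ = F.p * (c * w * c⁻¹) * F.p⁻¹ := by rw [hcp.eq]; group
      _ = _ := by rw [hw, ← mul_assoc F.p F.z, F.p_comm.eq]; group
  set y1 := F.p * y * F.p⁻¹ with hy1
  set y2 := F.p * y1 * F.p⁻¹ with hy2
  have hy1E : y1 ∈ F.E := F.conj_mem F.p_comm hy
  have hy2E : y2 ∈ F.E := F.conj_mem F.p_comm hy1E
  have h1 := step y h
  have h2 := step y1 h1
  have hzero : JankoFour.cls F.ctx (y * y1 * y2) = 0 := by
    rw [cls_mul F.ctx (mul_mem hy hy1E) hy2E, cls_mul F.ctx hy hy1E, hy2, ← act_cls F.ctx F.p_comm hy1E, hy1,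
      ← act_cls F.ctx F.p_comm hy]
    exact F.act_p_sum _
  have hfix : c * (y * y1 * y2) * c⁻¹ = y * y1 * y2 := by
    rcases (cls_eq_zero F.ctx (mul_mem (mul_mem hy hy1E) hy2E)).1 hzero with e | e <;> rw [e]
    · group
    · rw [hcz.eq, mul_inv_cancel_right]
  rw [show c * (y * y1 * y2) * c⁻¹ = c * y * c⁻¹ * (c * y1 * c⁻¹) * (c * y2 * c⁻¹) by group, h, h1, h2] at hfix
  have e : F.z * y * (F.z * y1) * (F.z * y2) = F.z * (y * y1 * y2) := by
    have hc1 : Commute F.z y := F.ctx.central y hy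
    have hc2 : Commute F.z (y * y1) := F.ctx.central _ (mul_mem hy hy1E)
    calc F.z * y * (F.z * y1) * (F.z * y2) = F.z * (y * F.z) * y1 * F.z * y2 := by group
      _ = (F.z * F.z) * (y * y1 * F.z) * y2 := by rw [← hc1.eq]; group
      _ = F.z * (y * y1 * y2) := by rw [F.ctx.sq_z, one_mul, ← hc2.eq]; group
  rw [e] at hfix
  exact F.ctx.ne_one (mul_eq_right.1 hfix)

theorem perp_range_disp {c : G} (hc : c ∈ F.C) (hne : F.img c ≠ 1) (h2 : c * c = 1 ∨ c * c = F.z) :
    F.perp (LinearMap.range (F.disp c)) = F.fix c ∧ F.perp (F.fix c) = LinearMap.range (F.disp c) := by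
  haveI : FiniteDimensional (ZMod 2) F.V := Module.Finite.of_finite
  have hr := F.finrank_range_disp hc hne h2
  have h : F.perp (LinearMap.range (F.disp c)) = F.fix c := by
    refine (Submodule.eq_of_le_of_finrank_le ?_ ?_).symm
    · rintro u hu _ ⟨w, rfl⟩
      show JankoFour.B F.ctx (F.disp c w) u = 0
      rw [B_symm]
      exact F.B_fix_disp (F.mem_C.1 hc).1 hu w
    · rw [F.finrank_perp, hr]
      have hk : finrank (ZMod 2) ↥(LinearMap.range (F.disp c)) + finrank (ZMod 2) ↥(F.fix c) =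
          finrank (ZMod 2) F.V := LinearMap.finrank_range_add_finrank_ker (F.disp c)
      rw [hr, F.finrank_V] at hk
      omega
  exact ⟨h, by rw [← h, F.perp_perp]⟩

end Frame

end Cfsg.Lib.JankoFour
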