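import Cfsg.Agent.Lib.JankoFour.Adapted
import Cfsg.Agent.Lib.JankoFour.BitModel.Checks

/-!
# Coordinates on the fixed space and on its dual
-/

set_option autoImplicit false
set_option linter.style.haveILetI false
set_option linter.unusedSectionVars false

namespace Cfsg.Lib.JankoFour

open Cfsg Cfsg.Lib.Extra Module BitModel

variable {G : Type*} [Group G] [Finite G] {A : Type} [Group A] {I : Subgroup A}

/-- A truth value as a scalar. -/
def zb (b : Bool) : ZMod 2 := if b then 1 else 0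

theorem zb_xor (a b : Bool) : zb (a ^^ b) = zb a + zb b := by cases a <;> cases b <;> decide

theorem zb_inj {a b : Bool} : zb a = zb b ↔ a = b := by cases a <;> cases b <;> decide

theorem zb_decide (c : ZMod 2) : zb (decide (c = 1)) = c := by revert c; decide

theorem decide_add (c c' : ZMod 2) : decide (c + c' = 1) = (decide (c = 1) ^^ decide (c' = 1)) := by
  revert c c'; decide

/-- A vector or zero. -/
def sel1 {V : Type*} [Zero V] (b : Bool) (v : V) : V := if b then v else 0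

theorem sel1_true {V : Type*} [Zero V] (v : V) : sel1 true v = v := rfl

theorem sel1_false {V : Type*} [Zero V] (v : V) : sel1 false v = 0 := rfl

theorem par_one (b : Bool) (i : ℕ) (hi : i < 6) : par (cst b (1 <<< i)) = b := by
  cases b <;> obtain rfl | rfl | rfl | rfl | rfl | rfl : i = 0 ∨ i = 1 ∨ i = 2 ∨ i = 3 ∨ i = 4 ∨ i = 5 := by omega
  all_goals decide

namespace Adapted

variable {F : Frame G A I} {D : HexData A I} {S : Std F D} (C : Adapted S)

/-- The basis of the fixed space. -/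
noncomputable def bas (i : ℕ) : F.V :=
  [C.e₀, F.act F.p C.e₀, F.act C.d C.e₀, F.act F.p (F.act C.d C.e₀), F.act C.d (F.act C.d C.e₀),
    F.act F.p (F.act C.d (F.act C.d C.e₀))].getD i 0

theorem Y_z : Commute C.Y F.z := (F.mem_C.1 C.Y_mem).1

theorem Y_p : Commute C.Y F.p := (F.mem_C.1 C.Y_mem).2

theorem d_z : Commute C.d F.z := (F.mem_C.1 C.d_mem).1

theorem d_p : Commute C.d F.p := (F.mem_C.1 C.d_mem).2

theorem Y_T {a : A} (ha : a ∈ D.T) : F.img C.Y * a * (F.img C.Y)⁻¹ ∈ D.T := D.R_T _ C.Y_img a ha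

theorem d_T {a : A} (ha : a ∈ D.T) : F.img C.d * a * (F.img C.d)⁻¹ ∈ D.T := D.R_T _ C.d_img a ha

theorem Y_W {w : F.V} (hw : w ∈ S.W) : F.act C.Y w ∈ S.W := S.W_invariant C.Y_z (fun _ => C.Y_T) hw

theorem d_W {w : F.V} (hw : w ∈ S.W) : F.act C.d w ∈ S.W := S.W_invariant C.d_z (fun _ => C.d_T) hw

theorem act_d_p (v : F.V) : F.act C.d (F.act F.p v) = F.act F.p (F.act C.d v) := by
  rw [← act_mul F.ctx C.d_z F.p_comm, C.d_p.eq, act_mul F.ctx F.p_comm C.d_z]

theorem act_Y_p (v : F.V) : F.act C.Y (F.act F.p v) = F.act F.p (F.act C.Y v) := by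
  rw [← act_mul F.ctx C.Y_z F.p_comm, C.Y_p.eq, act_mul F.ctx F.p_comm C.Y_z]

theorem act_d_three (v : F.V) : F.act C.d (F.act C.d (F.act C.d v)) = v := F.act_cube C.d_z C.d_cube v

theorem act_Y_d (v : F.V) : F.act C.Y (F.act C.d v) = F.act C.d (F.act C.Y (F.act F.p (F.act F.p v))) := by
  have e : C.Y * C.d = C.d * (C.Y * (F.p * F.p)) := by
    have h3 : F.p * F.p * F.p = 1 := by rw [← pow_two, ← pow_succ, F.p_cube]
    calc C.Y * C.d = C.d * C.Y * C.d⁻¹ * F.p⁻¹ * C.d := by rw [C.rel, mul_inv_cancel_right]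
      _ = C.d * (C.Y * (C.d⁻¹ * F.p⁻¹ * C.d)) := by group
      _ = C.d * (C.Y * (F.p * F.p)) := by
        rw [mul_assoc C.d⁻¹, ← C.d_p.inv_right.eq, inv_mul_cancel_left, inv_eq_of_mul_eq_one_left h3]
  have h2 : Commute (F.p * F.p) F.z := F.p_comm.mul_left F.p_comm
  rw [← act_mul F.ctx C.Y_z C.d_z, e, act_mul F.ctx C.d_z (C.Y_z.mul_left h2), act_mul F.ctx C.Y_z h2,
    act_mul F.ctx F.p_comm F.p_comm]

theorem bas_mem (i : ℕ) : C.bas i ∈ S.W := by
  unfold bas
  rcases i with _ | _ | _ | _ | _ | _ | i <;>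
    simp only [List.getD_cons_zero, List.getD_cons_succ, List.getD_nil]
  exacts [C.e₀_mem, S.p_W C.e₀_mem, C.d_W C.e₀_mem, S.p_W (C.d_W C.e₀_mem), C.d_W (C.d_W C.e₀_mem),
    S.p_W (C.d_W (C.d_W C.e₀_mem)), zero_mem _]

/-- A vector of the fixed space from its coordinates. -/
noncomputable def cw (x : ℕ) : F.V :=
  sel1 (x.testBit 0) (C.bas 0) + sel1 (x.testBit 1) (C.bas 1) + sel1 (x.testBit 2) (C.bas 2) +
    sel1 (x.testBit 3) (C.bas 3) + sel1 (x.testBit 4) (C.bas 4) + sel1 (x.testBit 5) (C.bas 5)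

theorem cw_mem (x : ℕ) : C.cw x ∈ S.W := by
  have : ∀ (b : Bool) (i : ℕ), sel1 b (C.bas i) ∈ S.W := fun b i => by
    cases b
    exacts [zero_mem _, C.bas_mem i]
  unfold cw
  exact add_mem (add_mem (add_mem (add_mem (add_mem (this _ _) (this _ _)) (this _ _)) (this _ _)) (this _ _))
    (this _ _)

theorem cw_xor (x y : ℕ) : C.cw (x ^^^ y) = C.cw x + C.cw y := by
  have : ∀ (a b : Bool) (v : F.V), sel1 (a ^^ b) v = sel1 a v + sel1 b v := fun a b v => by
    cases a <;> cases b <;> simp [sel1, bar_self]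
  simp only [cw, Nat.testBit_xor, this]
  abel

theorem cw_zero : C.cw 0 = 0 := by simp [cw, sel1]

theorem cw_unit {i : ℕ} (hi : i < 6) : C.cw (1 <<< i) = C.bas i := by
  obtain rfl | rfl | rfl | rfl | rfl | rfl : i = 0 ∨ i = 1 ∨ i = 2 ∨ i = 3 ∨ i = 4 ∨ i = 5 := by omega
  all_goals simp [cw, sel1, Nat.testBit, Nat.shiftRight_eq_div_pow]

/-- Maps agreeing on the basis agree. -/
theorem cw_map (f : F.V →ₗ[ZMod 2] F.V) {g : ℕ → ℕ} (hg : linOk g = true)
    (h : ∀ i < 6, f (C.bas i) = C.cw (g (1 <<< i))) {x : ℕ} (hx : x < 64) : f (C.cw x) = C.cw (g x) := by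
  have hs : ∀ (b : Bool) (i : ℕ), i < 6 → cst b (1 <<< i) < 64 := fun b i hi => by
    obtain rfl | rfl | rfl | rfl | rfl | rfl : i = 0 ∨ i = 1 ∨ i = 2 ∨ i = 3 ∨ i = 4 ∨ i = 5 := by omega
    all_goals cases b <;> decide
  have g0 : g 0 = 0 := by
    have := linOk_add hg (x := 0) (y := 0) (by decide) (by decide)
    rwa [Nat.xor_self, Nat.xor_self] at this
  have key : ∀ (b : Bool) (i : ℕ), i < 6 → f (sel1 b (C.bas i)) = C.cw (g (cst b (1 <<< i))) := fun b i hi => by
    cases b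
    · simp [sel1, cst, g0, cw_zero]
    · simp [sel1, cst, h i hi]
  have hx' := mk6_testBit hx
  unfold mk6 at hx'
  have l1 : ∀ {a b : ℕ}, a < 64 → b < 64 → a ^^^ b < 64 := fun ha hb => Nat.xor_lt_two_pow (n := 6) ha hb
  have a0 : cst (x.testBit 0) 1 < 64 := hs _ 0 (by decide)
  have a1 : cst (x.testBit 1) 2 < 64 := hs _ 1 (by decide)
  have a2 : cst (x.testBit 2) 4 < 64 := hs _ 2 (by decide)
  have a3 : cst (x.testBit 3) 8 < 64 := hs _ 3 (by decide)
  have a4 : cst (x.testBit 4) 16 < 64 := hs _ 4 (by decide)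
  have a5 : cst (x.testBit 5) 32 < 64 := hs _ 5 (by decide)
  conv_rhs => rw [← hx']
  rw [linOk_add hg (l1 (l1 (l1 (l1 a0 a1) a2) a3) a4) a5, linOk_add hg (l1 (l1 (l1 a0 a1) a2) a3) a4,
    linOk_add hg (l1 (l1 a0 a1) a2) a3, linOk_add hg (l1 a0 a1) a2, linOk_add hg a0 a1]
  simp only [cw_xor]
  unfold cw
  simp only [map_add]
  rw [key _ 0 (by decide), key _ 1 (by decide), key _ 2 (by decide), key _ 3 (by decide), key _ 4 (by decide),
    key _ 5 (by decide)]
  rfl

/-- The scalar on coordinates. -/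
theorem act_p_cw {x : ℕ} (hx : x < 64) : F.act F.p (C.cw x) = C.cw (rot x) := by
  refine C.cw_map _ rot_lin (fun i hi => ?_) hx
  obtain rfl | rfl | rfl | rfl | rfl | rfl : i = 0 ∨ i = 1 ∨ i = 2 ∨ i = 3 ∨ i = 4 ∨ i = 5 := by omega
  all_goals simp [bas, cw, sel1, rot, Nat.testBit, Nat.shiftRight_eq_div_pow, F.act_p_sq]

/-- The shift on coordinates. -/
theorem act_d_cw {x : ℕ} (hx : x < 64) : F.act C.d (C.cw x) = C.cw (sh x) := by
  refine C.cw_map _ sh_lin (fun i hi => ?_) hx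
  obtain rfl | rfl | rfl | rfl | rfl | rfl : i = 0 ∨ i = 1 ∨ i = 2 ∨ i = 3 ∨ i = 4 ∨ i = 5 := by omega
  all_goals simp [bas, cw, sel1, sh, Nat.testBit, Nat.shiftRight_eq_div_pow, C.act_d_p, C.act_d_three]

/-- The first element of order three on coordinates. -/
theorem act_Y_cw {x : ℕ} (hx : x < 64) : F.act C.Y (C.cw x) = C.cw (yw x) := by
  have h2 : F.act C.Y (F.act C.d C.e₀) = F.act F.p (F.act F.p (F.act C.d C.e₀)) := by
    rw [C.act_Y_d, C.act_Y_p, C.act_Y_p, C.e₀_fix, C.act_d_p, C.act_d_p]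
  have h4 : F.act C.Y (F.act C.d (F.act C.d C.e₀)) = F.act F.p (F.act C.d (F.act C.d C.e₀)) := by
    rw [C.act_Y_d, C.act_Y_p, C.act_Y_p, h2, C.act_d_p, C.act_d_p, C.act_d_p, C.act_d_p, F.act_p_three]
  have u := fun {i : ℕ} (hi : i < 6) => C.cw_unit hi
  have h3 : F.act C.Y (C.bas 3) = C.bas 2 := by
    show F.act C.Y (F.act F.p (F.act C.d C.e₀)) = F.act C.d C.e₀
    rw [C.act_Y_p, h2, F.act_p_three]
  have h5 : F.act C.Y (C.bas 5) = C.bas 4 + C.bas 5 := by
    show F.act C.Y (F.act F.p (F.act C.d (F.act C.d C.e₀))) = _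
    rw [C.act_Y_p, h4, F.act_p_sq]
    rfl
  have hY := show yw 1 = 1 ∧ yw 2 = 2 ∧ yw 4 = 4 ^^^ 8 ∧ yw 8 = 4 ∧ yw 16 = 32 ∧ yw 32 = 16 ^^^ 32 by decide
  obtain ⟨y0, y1, y2, y3, y4, y5⟩ := hY
  refine C.cw_map _ yw_lin (fun i hi => ?_) hx
  obtain rfl | rfl | rfl | rfl | rfl | rfl : i = 0 ∨ i = 1 ∨ i = 2 ∨ i = 3 ∨ i = 4 ∨ i = 5 := by omega
  · rw [show (1 : ℕ) <<< 0 = 1 from rfl, y0, show C.cw 1 = C.bas 0 from u (i := 0) (by decide)]
    exact C.e₀_fix
  · rw [show yw (1 <<< 1) = 2 from y1, show C.cw 2 = C.bas 1 from u (i := 1) (by decide)]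
    show F.act C.Y (F.act F.p C.e₀) = F.act F.p C.e₀
    rw [C.act_Y_p, C.e₀_fix]
  · rw [show yw (1 <<< 2) = 4 ^^^ 8 from y2, C.cw_xor, show C.cw 4 = C.bas 2 from u (i := 2) (by decide),
      show C.cw 8 = C.bas 3 from u (i := 3) (by decide)]
    show F.act C.Y (F.act C.d C.e₀) = _
    rw [h2, F.act_p_sq]
    rfl
  · rw [show yw (1 <<< 3) = 4 from y3, show C.cw 4 = C.bas 2 from u (i := 2) (by decide)]
    exact h3
  · rw [show yw (1 <<< 4) = 32 from y4, show C.cw 32 = C.bas 5 from u (i := 5) (by decide)]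
    exact h4
  · rw [show yw (1 <<< 5) = 16 ^^^ 32 from y5, C.cw_xor, show C.cw 16 = C.bas 4 from u (i := 4) (by decide),
      show C.cw 32 = C.bas 5 from u (i := 5) (by decide)]
    exact h5

theorem cw_inj0 {x : ℕ} (hx : x < 64) (h : C.cw x = 0) : x = 0 := by
  -- the three blocks
  set a : ℕ := x &&& 3
  set b : ℕ := x &&& 12
  set c : ℕ := x &&& 48
  have hparts : ∀ y < 64, (y &&& 3) ^^^ (y &&& 12) ^^^ (y &&& 48) = y ∧ yw (y &&& 3) = y &&& 3 ∧
      yw (y &&& 12) = pc (y &&& 12) ∧ yw (y &&& 48) = rot (y &&& 48) ∧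
      rot (pc (y &&& 12)) = y &&& 12 ∧ rot (y &&& 12) = pc (pc (y &&& 12)) ∧
      pc (y &&& 48) = rot (rot (y &&& 48)) := by decide +kernel
  obtain ⟨e0, e1, e2, e3, -, -, -⟩ := hparts x hx
  have hlt : ∀ k, x &&& k < 64 := fun k => lt_of_le_of_lt Nat.and_le_left hx
  set u := C.cw a
  set v := C.cw b
  set w := C.cw c
  have hsum : u + v + w = 0 := by rw [← C.cw_xor, ← C.cw_xor, e0, h]
  have hyu : F.act C.Y u = u := by rw [C.act_Y_cw (hlt _), e1]
  have hpp : ∀ {y}, y < 64 → C.cw (pc y) = F.act F.p (F.act F.p (C.cw y)) := by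
    intro y hy
    rw [C.act_p_cw hy, C.act_p_cw (linOk_lt rot_lin hy)]
    congr 1
    revert hy; revert y
    decide +kernel
  have hyv : F.act C.Y v = F.act F.p (F.act F.p v) := by rw [C.act_Y_cw (hlt _), e2, hpp (hlt _)]
  have hyw : F.act C.Y w = F.act F.p w := by rw [C.act_Y_cw (hlt _), e3, ← C.act_p_cw (hlt _)]
  have s1 := congrArg (F.act C.Y) hsum
  rw [map_add, map_add, map_zero, hyu, hyv, hyw] at s1
  have s2 := congrArg (F.act C.Y) s1
  rw [map_add, map_add, map_zero, hyu, C.act_Y_p, C.act_Y_p, C.act_Y_p, hyv, hyw, F.act_p_three] at s2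
  have t1 := F.act_p_sum v
  have t2 := F.act_p_sum w
  have hu : u = 0 := by
    calc u = (u + v + w) + (u + F.act F.p (F.act F.p v) + F.act F.p w) + (u + F.act F.p v + F.act F.p (F.act F.p w))
        := by
          rw [show (u + v + w) + (u + F.act F.p (F.act F.p v) + F.act F.p w) +
            (u + F.act F.p v + F.act F.p (F.act F.p w)) = (u + u) + u +
            (v + F.act F.p v + F.act F.p (F.act F.p v)) + (w + F.act F.p w + F.act F.p (F.act F.p w)) by abel,
            t1, t2, bar_self, zero_add, add_zero, add_zero]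
      _ = 0 := by rw [hsum, s1, s2, add_zero, add_zero]
  rw [hu, zero_add] at hsum s1
  have hvw : v = w := (add_eq_zero_iff_eq' F.ctx).1 hsum
  rw [← hvw, F.act_p_sq, add_assoc, bar_self, add_zero] at s1
  have hw0 : w = 0 := hvw.symm.trans s1
  -- each block is a line through a nonzero vector
  have line : ∀ {q : F.V}, q ≠ 0 → ∀ s t : Bool, sel1 s q + sel1 t (F.act F.p q) = 0 → s = false ∧ t = false := by
    intro q hq s t e
    cases s <;> cases t <;> simp [sel1] at e ⊢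
    · exact hq (act_injective F.ctx F.p_comm (e.trans (map_zero _).symm))
    · exact hq e
    · exact hq (F.act_p_eq ((add_eq_zero_iff_eq' F.ctx).1 e).symm)
  have n0 := C.e₀_ne
  have n2 : F.act C.d C.e₀ ≠ 0 := fun e => n0 (act_injective F.ctx C.d_z (e.trans (map_zero _).symm))
  have n4 : F.act C.d (F.act C.d C.e₀) ≠ 0 := fun e => n2 (act_injective F.ctx C.d_z (e.trans (map_zero _).symm))
  have b0 : ∀ y, C.cw (y &&& 3) = sel1 (y.testBit 0) (C.bas 0) + sel1 (y.testBit 1) (C.bas 1) := fun y => by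
    simp [cw, sel1, Nat.testBit_and, show Nat.testBit 3 0 = true by decide, show Nat.testBit 3 1 = true by decide,
      show Nat.testBit 3 2 = false by decide, show Nat.testBit 3 3 = false by decide,
      show Nat.testBit 3 4 = false by decide, show Nat.testBit 3 5 = false by decide]
  have hb : ∀ y, C.cw (y &&& 12) = sel1 (y.testBit 2) (C.bas 2) + sel1 (y.testBit 3) (C.bas 3) := fun y => by
    simp [cw, sel1, Nat.testBit_and, show Nat.testBit 12 1 = false by decide,
      show Nat.testBit 12 2 = true by decide, show Nat.testBit 12 3 = true by decide,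
      show Nat.testBit 12 4 = false by decide, show Nat.testBit 12 5 = false by decide]
  have hc : ∀ y, C.cw (y &&& 48) = sel1 (y.testBit 4) (C.bas 4) + sel1 (y.testBit 5) (C.bas 5) := fun y => by
    simp [cw, sel1, Nat.testBit_and, show Nat.testBit 48 1 = false by decide,
      show Nat.testBit 48 2 = false by decide, show Nat.testBit 48 3 = false by decide,
      show Nat.testBit 48 4 = true by decide, show Nat.testBit 48 5 = true by decide]
  obtain ⟨x0, x1⟩ := line n0 _ _ ((b0 x).symm.trans hu)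
  obtain ⟨x2, x3⟩ := line n2 _ _ ((hb x).symm.trans s1)
  obtain ⟨x4, x5⟩ := line n4 _ _ ((hc x).symm.trans hw0)
  refine eq_of_bits hx (by decide) fun i hi => ?_
  obtain rfl | rfl | rfl | rfl | rfl | rfl : i = 0 ∨ i = 1 ∨ i = 2 ∨ i = 3 ∨ i = 4 ∨ i = 5 := by omega
  all_goals simp [*]

theorem cw_inj {x y : ℕ} (hx : x < 64) (hy : y < 64) (h : C.cw x = C.cw y) : x = y := by
  refine Nat.xor_eq_zero_iff.1 (C.cw_inj0 (Nat.xor_lt_two_pow (n := 6) hx hy) ?_)
  rw [C.cw_xor, h, bar_self]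

include C in
theorem exists_cw {w : F.V} (hw : w ∈ S.W) : ∃ x < 64, C.cw x = w := by
  let f : Fin 64 → ↥S.W := fun x => ⟨C.cw x, C.cw_mem x⟩
  have hf : Function.Bijective f := by
    refine Function.Injective.bijective_of_nat_card_le (fun x y e => ?_) ?_
    · exact Fin.ext (C.cw_inj x.2 y.2 (congrArg Subtype.val e))
    · rw [F.card_sub, S.finrank_W]
      simp
  obtain ⟨x, hx⟩ := hf.2 ⟨w, hw⟩
  exact ⟨x, x.2, congrArg Subtype.val hx⟩

/-- The values of the form on the basis. -/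
noncomputable def chi (v : F.V) : ℕ := mk6 fun i => decide (JankoFour.B F.ctx (C.bas i) v = 1)

theorem chi_lt (v : F.V) : C.chi v < 64 := mk6_lt _

theorem chi_add (v w : F.V) : C.chi (v + w) = C.chi v ^^^ C.chi w := by
  simp only [chi, map_add, decide_add]
  exact mk6_xor _ _

theorem B_bas {i : ℕ} (hi : i < 6) (v : F.V) : JankoFour.B F.ctx (C.bas i) v = zb ((C.chi v).testBit i) := by
  rw [chi, testBit_mk6 _ hi, zb_decide]

/-- The form on coordinates. -/
theorem B_cw {x : ℕ} (v : F.V) : JankoFour.B F.ctx (C.cw x) v = zb (par (x &&& C.chi v)) := by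
  have key : ∀ (b : Bool) (i : ℕ), i < 6 →
      JankoFour.B F.ctx (sel1 b (C.bas i)) v = zb (b && (C.chi v).testBit i) := fun b i hi => by
    cases b
    · simp [sel1, zb]
    · rw [sel1_true, C.B_bas hi, Bool.true_and]
  simp only [cw, map_add, LinearMap.add_apply, key _ 0 (by decide), key _ 1 (by decide), key _ 2 (by decide),
    key _ 3 (by decide), key _ 4 (by decide), key _ 5 (by decide), ← zb_xor, par, Nat.testBit_and]

include C in
theorem chi_eq_zero {v : F.V} : C.chi v = 0 ↔ v ∈ S.W := by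
  constructor
  · intro h
    rw [← S.perp_W]
    intro w hw
    obtain ⟨x, -, rfl⟩ := C.exists_cw hw
    show JankoFour.B F.ctx (C.cw x) v = 0
    rw [C.B_cw, h, Nat.and_zero]
    rfl
  · intro h
    refine eq_of_bits (C.chi_lt v) (by decide) fun i hi => ?_
    refine zb_inj.1 ?_
    rw [← C.B_bas hi, Nat.zero_testBit]
    rw [← S.perp_W] at h
    exact h _ (C.bas_mem i)

theorem chi_eq_iff {v w : F.V} : C.chi v = C.chi w ↔ v + w ∈ S.W := by
  rw [← C.chi_eq_zero, C.chi_add, Nat.xor_eq_zero_iff]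

include C in
theorem exists_chi {x : ℕ} (hx : x < 64) : ∃ v, C.chi v = x := by
  haveI : FiniteDimensional (ZMod 2) F.V := Module.Finite.of_finite
  let L : F.V →ₗ[ZMod 2] (Fin 6 → ZMod 2) := LinearMap.pi fun i => JankoFour.B F.ctx (C.bas i)
  have hker : LinearMap.ker L = S.W := by
    ext v
    rw [LinearMap.mem_ker, ← C.chi_eq_zero]
    constructor
    · intro h
      refine eq_of_bits (C.chi_lt v) (by decide) fun i hi => ?_
      refine zb_inj.1 ?_
      rw [← C.B_bas hi, Nat.zero_testBit]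
      exact congrFun h ⟨i, hi⟩
    · intro h
      funext i
      show JankoFour.B F.ctx (C.bas i) v = 0
      rw [C.B_bas i.2, h, Nat.zero_testBit]
      rfl
  have e := LinearMap.finrank_range_add_finrank_ker L
  rw [hker, S.finrank_W, F.finrank_V] at e
  have htop : LinearMap.range L = ⊤ := Submodule.eq_top_of_finrank_eq (by rw [Module.finrank_fin_fun]; omega)
  obtain ⟨v, hv⟩ := LinearMap.range_eq_top.1 htop fun i => zb (x.testBit i)
  refine ⟨v, eq_of_bits (C.chi_lt v) hx fun i hi => zb_inj.1 ?_⟩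
  rw [← C.B_bas hi]
  exact congrFun hv ⟨i, hi⟩

/-- An element acting on the functionals. -/
theorem chi_act {x : G} (hx : Commute x F.z) {g f : ℕ → ℕ} (hf : ∀ c < 64, f c < 64)
    (hadj : ∀ c < 64, ∀ i < 6, (f c).testBit i = par (g i &&& c)) (hg : ∀ i < 6, F.act x (C.cw (g i)) = C.bas i)
    (v : F.V) : C.chi (F.act x v) = f (C.chi v) := by
  refine eq_of_bits (C.chi_lt _) (hf _ (C.chi_lt v)) fun i hi => ?_
  refine zb_inj.1 ?_
  rw [← C.B_bas hi, ← hg i hi, B_act F.ctx hx, C.B_cw, hadj _ (C.chi_lt v) i hi]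

theorem chi_p (v : F.V) : C.chi (F.act F.p v) = pc (C.chi v) := by
  refine C.chi_act F.p_comm (g := fun i => pc (1 <<< i)) (fun c hc => linOk_lt pc_lin hc) (by decide +kernel)
    (fun i hi => ?_) v
  have h := show ∀ i < 6, pc (1 <<< i) < 64 ∧ rot (pc (1 <<< i)) = 1 <<< i by decide +kernel
  rw [C.act_p_cw (h i hi).1, (h i hi).2, C.cw_unit hi]

theorem chi_d (v : F.V) : C.chi (F.act C.d v) = sh (C.chi v) := by
  refine C.chi_act C.d_z (g := fun i => sh (sh (1 <<< i))) (fun c hc => linOk_lt sh_lin hc) (by decide +kernel)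
    (fun i hi => ?_) v
  have h := show ∀ i < 6, sh (sh (1 <<< i)) < 64 ∧ sh (sh (sh (1 <<< i))) = 1 <<< i by decide +kernel
  rw [C.act_d_cw (h i hi).1, (h i hi).2, C.cw_unit hi]

theorem chi_Y (v : F.V) : C.chi (F.act C.Y v) = yc (C.chi v) := by
  refine C.chi_act C.Y_z (g := fun i => yw (yw (1 <<< i))) (fun c hc => linOk_lt yc_lin hc) (by decide +kernel)
    (fun i hi => ?_) v
  have h := show ∀ i < 6, yw (yw (1 <<< i)) < 64 ∧ yw (yw (yw (1 <<< i))) = 1 <<< i by decide +kernel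
  rw [C.act_Y_cw (h i hi).1, (h i hi).2, C.cw_unit hi]

end Adapted

end Cfsg.Lib.JankoFour
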