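import Cfsg.Agent.Lib.JankoFour.ClassCodes
import Cfsg.Agent.Lib.JankoFour.BitModel.Pick

/-!
# The two classes of the group of order `2¹¹`

There are 1771 conjugates of `z`, and the remaining 276 elements form one orbit of the normalizer.
-/

set_option autoImplicit false
set_option linter.style.haveILetI false
set_option linter.unusedSectionVars false

namespace Cfsg.Lib.JankoFour

open Cfsg Cfsg.Lib.Extra Module BitModel

variable {G : Type*} [Group G] [Finite G] {A : Type} [Group A] {I : Subgroup A}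

namespace Std

variable {F : Frame G A I} {D : HexData A I} (S : Std F D)

/-- The normalizer. -/
def NV : Subgroup G := Subgroup.normalizer (S.Vb : Set G)

theorem conj_mem_Vb {n x : G} (hn : n ∈ S.NV) (hx : x ∈ S.Vb) : n * x * n⁻¹ ∈ S.Vb :=
  (Subgroup.mem_normalizer_iff.1 hn x).1 hx

/-- The normalizer acting on the group. -/
def normAut : ↥S.NV →* MulAut ↥S.Vb where
  toFun n :=
    { toFun := fun x => ⟨(n : G) * x * (n : G)⁻¹, S.conj_mem_Vb n.2 x.2⟩
      invFun := fun x => ⟨(n : G)⁻¹ * x * ((n : G)⁻¹)⁻¹, S.conj_mem_Vb (inv_mem n.2) x.2⟩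
      left_inv := fun x => Subtype.ext (by simp [mul_assoc])
      right_inv := fun x => Subtype.ext (by simp [mul_assoc])
      map_mul' := fun x y => Subtype.ext (by simp [mul_assoc]) }
  map_one' := MulEquiv.ext fun x => Subtype.ext (by simp)
  map_mul' m n := MulEquiv.ext fun x => Subtype.ext (by simp [mul_assoc])

theorem normAut_apply (n : ↥S.NV) (x : ↥S.Vb) : ((S.normAut n x : ↥S.Vb) : G) = n * x * (n : G)⁻¹ := rfl

/-- The orbit of the normalizer. -/
def orb (t : G) : Set G := {v | ∃ n ∈ S.NV, n * t * n⁻¹ = v}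

theorem orb_conj {t x n : G} (hn : n ∈ S.NV) : n * x * n⁻¹ ∈ S.orb t ↔ x ∈ S.orb t := by
  constructor
  · rintro ⟨m, hm, e⟩
    exact ⟨n⁻¹ * m, mul_mem (inv_mem hn) hm, by
      rw [show n⁻¹ * m * t * (n⁻¹ * m)⁻¹ = n⁻¹ * (m * t * m⁻¹) * n by group, e]; group⟩
  · rintro ⟨m, hm, e⟩
    exact ⟨n * m, mul_mem hn hm, by rw [← e]; group⟩

theorem orb_self (t : G) : t ∈ S.orb t := ⟨1, one_mem _, by group⟩

theorem orb_mem {t x : G} (ht : t ∈ S.Vb) (hx : x ∈ S.orb t) : x ∈ S.Vb := by
  obtain ⟨n, hn, rfl⟩ := hx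
  exact S.conj_mem_Vb hn ht

theorem orb_eq {t x : G} (hx : x ∈ S.orb t) : S.orb x = S.orb t := by
  obtain ⟨n, hn, rfl⟩ := hx
  ext y
  refine ⟨fun ⟨m, hm, e⟩ => ⟨m * n, mul_mem hm hn, by rw [← e]; group⟩,
    fun ⟨m, hm, e⟩ => ⟨m * n⁻¹, mul_mem hm (inv_mem hn), by rw [← e]; group⟩⟩

theorem ncard_orb {t : G} (ht : t ∈ S.Vb) :
    (S.orb t).ncard = (MulAction.stabilizer ↥S.normAut.range (⟨t, ht⟩ : ↥S.Vb)).index := by
  rw [MulAction.index_stabilizer, ← Set.ncard_image_of_injective (MulAction.orbit ↥S.normAut.range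
    (⟨t, ht⟩ : ↥S.Vb)) Subtype.val_injective]
  congr 1
  ext x
  constructor
  · rintro ⟨n, hn, rfl⟩
    exact ⟨_, ⟨⟨S.normAut ⟨n, hn⟩, ⟨_, rfl⟩⟩, rfl⟩, rfl⟩
  · rintro ⟨_, ⟨⟨_, n, rfl⟩, rfl⟩, rfl⟩
    exact ⟨n, n.2, rfl⟩

theorem card_normAut_range_dvd : Nat.card ↥S.normAut.range ∣ glCard := by
  letI : CommGroup ↥S.Vb :=
    { (inferInstance : Group ↥S.Vb) with mul_comm := fun a b => Subtype.ext (S.Vb_comm a.2 b.2).eq }
  refine (Subgroup.card_subgroup_dvd_card _).trans ((Frame.card_mulAut_eleven (X := ↥S.Vb)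
    (fun v => Subtype.ext (by rw [pow_two]; exact S.Vb_sq v.2)) S.card_Vb).trans (dvd_of_eq ?_))
  rw [Fin.prod_univ_eq_prod_range (fun i => 2 ^ 11 - 2 ^ i) 11]
  decide +kernel

/-- An automorphism of order twenty-three moves every element but the identity. -/
theorem fixed_twentythree {τ : MulAut ↥S.Vb} (hτ : orderOf τ = 23) {x : ↥S.Vb} (hx : τ x = x) : x = 1 := by
  haveI : Fact (Nat.Prime 23) := ⟨by norm_num⟩
  haveI : Fact (Nat.Prime 2) := ⟨Nat.prime_two⟩
  let Fix : Subgroup ↥S.Vb :=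
    { carrier := {y | τ y = y}
      one_mem' := map_one τ
      mul_mem' := fun {a b} ha hb => show τ (a * b) = a * b by rw [map_mul, ha, hb]
      inv_mem' := fun {a} ha => show τ a⁻¹ = a⁻¹ by rw [map_inv, ha] }
  have hp : IsPGroup 23 ↥(Subgroup.zpowers τ) := IsPGroup.of_card (n := 1) (by rw [Nat.card_zpowers, hτ, pow_one])
  have h := hp.card_modEq_card_fixedPoints (↥S.Vb)
  have hfix : MulAction.fixedPoints ↥(Subgroup.zpowers τ) ↥S.Vb = (Fix : Set ↥S.Vb) := by
    ext y
    refine ⟨fun hy => hy ⟨τ, Subgroup.mem_zpowers τ⟩, fun hy m => ?_⟩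
    obtain ⟨k, hk⟩ := Subgroup.mem_zpowers_iff.1 m.2
    show (m : MulAut ↥S.Vb) • y = y
    rw [← hk]
    exact MulAction.fixedBy_subset_fixedBy_zpow (α := ↥S.Vb) τ k hy
  rw [hfix, S.card_Vb, SetLike.coe_sort_coe] at h
  obtain ⟨k, hk, hke⟩ := (Nat.dvd_prime_pow Nat.prime_two).1 (S.card_Vb ▸ Fix.card_subgroup_dvd_card)
  rw [hke] at h
  rcases (show ∀ k ≤ 11, 2 ^ 11 % 23 = 2 ^ k % 23 → k = 0 ∨ k = 11 by decide) k hk h with rfl | rfl
  · exact Fix.eq_bot_of_card_eq (by rw [hke, pow_zero]) ▸ (show x ∈ Fix from hx) |> Subgroup.mem_bot.1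
  · exfalso
    have htop : Fix = ⊤ := Subgroup.eq_top_of_card_eq _ (by rw [hke, S.card_Vb])
    have h1 : τ = 1 := MulEquiv.ext fun y => (show y ∈ Fix by rw [htop]; trivial)
    rw [h1, orderOf_one] at hτ
    omega

/-- With an element of order twenty-three the lengths of the orbits are divisible by twenty-three. -/
theorem dvd_ncard_orb (h23 : 23 ∣ Nat.card ↥S.normAut.range) {t : G} (ht : t ∈ S.Vb) (ht1 : t ≠ 1) :
    23 ∣ (S.orb t).ncard := by
  haveI : Fact (Nat.Prime 23) := ⟨by norm_num⟩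
  rw [S.ncard_orb ht]
  set T := MulAction.stabilizer ↥S.normAut.range (⟨t, ht⟩ : ↥S.Vb)
  rw [← T.index_mul_card] at h23
  refine ((Nat.Prime.dvd_mul (by norm_num)).1 h23).resolve_right fun h => ?_
  obtain ⟨τ, hτ⟩ := exists_prime_orderOf_dvd_card' 23 h
  have hτ' : orderOf (((τ : ↥S.normAut.range) : MulAut ↥S.Vb)) = 23 := by
    rw [Subgroup.orderOf_coe, Subgroup.orderOf_coe, hτ]
  exact ht1 (congrArg Subtype.val (S.fixed_twentythree hτ' (x := ⟨t, ht⟩) τ.2))

end Std

namespace Adapted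

variable {F : Frame G A I} {D : HexData A I} {S : Std F D} (C : Adapted S)

theorem ncard_codes {P : ℕ → Bool} {s : Set G} (hs : ∀ x ∈ s, x ∈ S.Vb)
    (h : ∀ v < 2048, C.el v ∈ s ↔ P v = true) : s.ncard = ((List.range 2048).filter P).length := by
  classical
  have e : s = ↑((((List.range 2048).filter P).toFinset).image C.el) := by
    ext x
    simp only [Finset.coe_image, List.coe_toFinset, Set.mem_image, Set.mem_ofPred_eq, List.mem_filter, List.mem_range]
    constructor
    · intro hx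
      obtain ⟨v, hv, rfl⟩ := C.exists_el (hs x hx)
      exact ⟨v, ⟨hv, (h v hv).1 hx⟩, rfl⟩
    · rintro ⟨v, ⟨hv, hP⟩, rfl⟩
      exact (h v hv).2 hP
  rw [e, Set.ncard_coe_finset, Finset.card_image_of_injOn, List.toFinset_card_of_nodup (List.nodup_range.filter _)]
  intro a ha b hb hab
  simp only [List.coe_toFinset, Set.mem_ofPred_eq, List.mem_filter, List.mem_range] at ha hb
  exact C.el_inj ha.1 hb.1 hab

/-- The conjugates of `z` form one orbit. -/
theorem mem_orb_z {v : ℕ} : C.el v ∈ S.orb F.z ↔ IsConj F.z (C.el v) := by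
  refine ⟨fun ⟨n, _, e⟩ => isConj_iff.2 ⟨n, e⟩, fun h => ?_⟩
  obtain ⟨g, hg⟩ := isConj_iff.1 h
  exact S.fusion S.z_mem (C.el_mem v) hg

theorem zCount_split (m : ℕ) (eps al be ga : Bool) :
    ((List.range 2048).filter (zF m eps al be ga)).length = zCountK m + zCountT eps al be ga := by
  have e : ∀ n a b : ℕ, n = a + b → List.range n = List.range a ++ (List.range b).map (a + ·) :=
    fun n a b h => h ▸ List.range_add
  rw [e 2048 128 1920 (by norm_num), List.filter_append, List.length_append, List.filter_map,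
    List.length_map, zCountK, zCountT]
  refine congrArg₂ (· + ·) ?_ ?_
  · refine congrArg List.length (List.filter_congr fun v hv => ?_)
    have h : cu v = 0 := by
      rw [List.mem_range] at hv
      unfold cu
      omega
    simp [zF, h]
  · refine congrArg List.length (List.filter_congr fun v _ => ?_)
    have h : cu (128 + v) ≠ 0 := by unfold cu; omega
    simp [zF, h]

include C in
/-- There are 1771 conjugates of `z`. -/
theorem forced : ∃ t0 t1 t2 t3 : Bool, (t0.toNat + t1.toNat + t2.toNat + t3.toNat = 2) ∧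
    (S.orb F.z).ncard = 1771 ∧ ∀ v < 2048, (IsConj F.z (C.el v) ↔
      zF (kMask false t0 t1 t2 t3) true (C.sig 3) (C.sig 12) (C.sig 5) v = true) := by
  obtain ⟨s, t0, t1, t2, t3, eps, h⟩ := C.exists_zF
  have hn : (S.orb F.z).ncard = zCountK (kMask s t0 t1 t2 t3) + if eps then 1680 else 240 := by
    rw [C.ncard_codes (fun x hx => S.orb_mem S.z_mem hx) (fun v hv => C.mem_orb_z.trans (h v hv)), zCount_split]
    have e := zCountT_eq
    simp only [List.all_eq_true] at e
    have := e eps (by cases eps <;> simp) (C.sig 3) (by cases C.sig 3 <;> simp) (C.sig 12)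
      (by cases C.sig 12 <;> simp) (C.sig 5) (by cases C.sig 5 <;> simp)
    rw [Nat.eq_of_beq_eq_true this]
  have hdvd : (S.orb F.z).ncard ∣ glCard := by
    rw [S.ncard_orb S.z_mem]
    exact (Subgroup.index_dvd_card _).trans S.card_normAut_range_dvd
  rw [hn] at hdvd
  have hf := count_force
  simp only [List.all_eq_true] at hf
  have mem : ∀ q : Bool, q ∈ [false, true] := fun q => by cases q <;> simp
  have h1 := hf eps (mem _) s (mem _) t0 (mem _) t1 (mem _) t2 (mem _) t3 (mem _)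
  simp only [Bool.or_eq_true, Bool.not_eq_true', beq_eq_false_iff_ne, Bool.and_eq_true, beq_iff_eq] at h1
  rcases h1 with h1 | ⟨⟨⟨he, hs⟩, ht⟩, hK⟩
  · exact absurd (Nat.mod_eq_zero_of_dvd hdvd) (by simpa using h1)
  · subst he
    subst hs
    exact ⟨t0, t1, t2, t3, ht, by rw [hn, Nat.eq_of_beq_eq_true hK]; rfl, h⟩

theorem normalizer_d : C.d ∈ S.NV := S.normalizes C.d_z fun _ => C.d_T

theorem normalizer_Y : C.Y ∈ S.NV := S.normalizes C.Y_z fun _ => C.Y_T

theorem nz_code {u : ℕ} (hu : u < 16) : C.el (code (C.sig u) 0 u) = C.nz u := by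
  rw [C.el_code _ _ (by norm_num), C.w0_zero, mul_one, C.nz_eq hu]

theorem nz_one_ne : C.nz 1 ≠ 1 := fun e => by
  have h := C.img_ne_one (show 1 < 16 by norm_num) one_ne_zero (C.nz_spec (by norm_num)).1
    (C.nz_spec (by norm_num)).2.1
  rw [e, F.img_one] at h
  exact h rfl

theorem nz_mem_orb {u : ℕ} (hu : u < 16) (hu0 : u ≠ 0) : C.nz u ∈ S.orb (C.nz 1) := by
  obtain ⟨h1, h1f, -, h1z⟩ := C.nz_spec (show 1 < 16 by norm_num)
  obtain ⟨hm, hmf, -, -⟩ := C.nz_spec hu
  obtain ⟨k, hk, hkT, hke⟩ := D.trans _ (S.X_img h1) (C.img_ne_one (by norm_num) one_ne_zero h1 h1f) _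
    (S.X_img hm) (C.img_ne_one hu hu0 hm hmf)
  obtain ⟨n, hn, hni⟩ := F.mem_I_iff.1 hk
  have hn' := F.mem_C.1 hn
  have hnT : ∀ a ∈ D.T, F.img n * a * (F.img n)⁻¹ ∈ D.T := hni.symm ▸ hkT
  have hX := C.conj_mem_X hn hnT h1
  refine ⟨n, S.normalizes hn'.1 hnT, C.eq_nz hu hu0 hX (fun v => ?_) fun h => h1z one_ne_zero
    (isConj_conj_iff.1 h)⟩
  rcases S.lift_unique hm hX (by rw [F.img_conj hn'.1 (S.X_z h1), hni, hke]) with e | e <;> rw [e]
  · exact hmf v
  · rw [C.form_z_mul hm]
    exact hmf v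

theorem orb_eAct {t : G} {c v : ℕ} (hc : c < 64) (hv : v < 2048) :
    C.el (eAct c v) ∈ S.orb t ↔ C.el v ∈ S.orb t := by
  obtain ⟨e, he, rfl⟩ := C.exists_e hc
  rw [← C.el_eAct he hv]
  exact S.orb_conj (S.E_normalizes he)

theorem orb_range {u : ℕ} (hu : u < 16) (hu0 : u ≠ 0) {x : ℕ} (hx : x < 64) (hr : inRange u x = true) :
    C.el (code (C.sig u ^^ quadAt u x) x u) ∈ S.orb (C.nz 1) := by
  have hpre := allLt_spec (allLt_spec range_pre hu) hx
  rw [hr, Bool.not_true, Bool.false_or] at hpre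
  obtain ⟨c, hc, hcx⟩ := List.any_eq_true.1 hpre
  have hc' : c < 64 := List.mem_range.1 hc
  obtain rfl := Nat.eq_of_beq_eq_true hcx
  have hq := allLt_spec (allLt_spec range_spec hu) hc'
  rw [Bool.and_eq_true, beq_iff_eq] at hq
  have hcode : eAct c (code (C.sig u) 0 u) = code (C.sig u ^^ quadAt u (app u c)) (app u c) u := by
    rw [C.eAct_code _ (by norm_num), hq.2, Nat.and_zero, Nat.zero_xor, show par 0 = false from rfl, Bool.xor_false]
  rw [← hcode, C.orb_eAct hc' (code_lt (by norm_num) hu), C.nz_code hu]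
  exact C.nz_mem_orb hu hu0

include C in
/-- The elements not conjugate to `z` form one orbit, and the model is forced. -/
theorem model : C.sig 3 = false ∧ C.sig 12 = false ∧ C.sig 5 = true ∧ (S.orb F.z).ncard = 1771 ∧
    (S.orb (C.nz 1)).ncard = 276 ∧
    (∀ v < 2048, (IsConj F.z (C.el v) ↔ v ≠ 0 ∧ inD v = false)) ∧
    ∀ v < 2048, (C.el v ∈ S.orb (C.nz 1) ↔ inD v = true) := by
  classical
  obtain ⟨t0, t1, t2, t3, ht, h1771, hz⟩ := C.forced
  set O := S.orb (C.nz 1)
  obtain ⟨hn1, -, -, hn1z⟩ := C.nz_spec (show 1 < 16 by norm_num)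
  have hn1V := S.X_le hn1
  have hO : ∀ {x}, x ∈ O → ¬ IsConj F.z x ∧ x ≠ 1 := fun {x} hx => by
    obtain ⟨n, -, rfl⟩ := hx
    exact ⟨fun h => hn1z one_ne_zero (isConj_conj_iff.1 h), fun e => C.nz_one_ne (conj_eq_one_iff.1 e)⟩
  let g : ℕ → Bool := fun x => decide (C.el (code false x 0) ∈ O)
  have hflip : ∀ (b : Bool) {x}, x < 64 → x ≠ 0 → (C.el (code b x 0) ∈ O ↔ g x = true) := by
    intro b x hx hx0
    rw [decide_eq_true_iff]
    cases b
    · rfl
    have hex : ∀ x < 64, x ≠ 0 → ∃ c < 64, eAct c (code false x 0) = code true x 0 := by decide +kernel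
    obtain ⟨c, hc, he⟩ := hex x hx hx0
    rw [← he, C.orb_eAct hc (code_lt hx (by norm_num))]
  have hg : ∀ y < 64, g (rot y) = g y ∧ g (sh y) = g y ∧ g (yw y) = g y := by
    intro y hy
    have e1 : C.el (code false (rot y) 0) ∈ O ↔ C.el (code false y 0) ∈ O := by
      rw [← C.el_p false hy]
      exact S.orb_conj S.p_normalizes
    have e2 : C.el (code false (sh y) 0) ∈ O ↔ C.el (code false y 0) ∈ O := by
      have h := C.el_d false (u := 0) hy (by norm_num)
      rw [show su 0 = 0 from rfl, Nat.zero_testBit, Bool.and_false, Bool.xor_false] at h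
      rw [← h]
      exact S.orb_conj C.normalizer_d
    have e3 : C.el (code false (yw y) 0) ∈ O ↔ C.el (code false y 0) ∈ O := by
      have h := C.el_Y false (u := 0) hy (by norm_num)
      rw [show yu 0 = 0 from rfl, Nat.zero_testBit, Bool.and_false, Bool.xor_false] at h
      rw [← h]
      exact S.orb_conj C.normalizer_Y
    simp only [g, e1, e2, e3, and_self]
  have mem : ∀ q : Bool, q ∈ [false, true] := fun q => by cases q <;> simp
  -- the orbit in the fixed part
  have hK : ∀ x < 64, x ≠ 0 → g x = (kMask false (g 1) (g 23) (g 21) (g 22)).testBit x ∧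
      (g x = true → (kMask false t0 t1 t2 t3).testBit x = true) := by
    intro x hx hx0
    have hsub : g x = true → (kMask false t0 t1 t2 t3).testBit x = true := by
      intro hgx
      have h := (hO ((hflip false hx hx0).2 hgx)).1
      rw [hz _ (code_lt hx (by norm_num)), zF] at h
      obtain ⟨e1, e2, e3⟩ := parts_code false 0 hx
      rw [e1, e2, e3, if_pos (beq_self_eq_true 0), if_neg (fun e => hx0 (beq_iff_eq.1 e))] at h
      simpa using h
    refine ⟨?_, hsub⟩
    have h := allLt_spec orbit_cover hx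
    rw [Bool.or_eq_true] at h
    obtain ⟨j, hj, hj'⟩ := List.any_eq_true.1 (h.resolve_left fun e => hx0 (Nat.eq_of_beq_eq_true e))
    rw [List.mem_range] at hj
    simp only [Bool.and_eq_true, List.all_eq_true, beq_iff_eq] at hj'
    obtain ⟨hr, hm⟩ := hj'
    have hgx := reach_spec hg 4 _ x ((show ∀ j < 5, orbRep.getD j 0 < 64 by decide +kernel) j hj) hr
    rw [hm _ (mem _) _ (mem _) _ (mem _) _ (mem _) _ (mem _)]
    obtain rfl | rfl | rfl | rfl | rfl : j = 0 ∨ j = 1 ∨ j = 2 ∨ j = 3 ∨ j = 4 := by omega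
    · rw [List.getD_cons_zero]
      by_contra hne
      rw [Bool.not_eq_false] at hne
      have h1 := hsub hne
      rw [hm _ (mem _) _ (mem _) _ (mem _) _ (mem _) _ (mem _)] at h1
      exact Bool.false_ne_true h1
    all_goals exact hgx
  have hle : (g 1).toNat + (g 23).toNat + (g 21).toNat + (g 22).toNat ≤ 2 := by
    have hb : ∀ {r}, r < 64 → r ≠ 0 → (g r).toNat ≤ ((kMask false t0 t1 t2 t3).testBit r).toNat := by
      intro r hr hr0
      cases hgr : g r
      · exact Nat.zero_le _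
      · rw [(hK r hr hr0).2 hgr]
    have hbits : ∀ a b c d : Bool, ((kMask false a b c d).testBit 1).toNat + ((kMask false a b c d).testBit 23).toNat +
        ((kMask false a b c d).testBit 21).toNat + ((kMask false a b c d).testBit 22).toNat =
          a.toNat + b.toNat + c.toNat + d.toNat := by decide +kernel
    rw [← ht, ← hbits t0 t1 t2 t3]
    exact Nat.add_le_add (Nat.add_le_add (Nat.add_le_add (hb (by norm_num) (by norm_num))
      (hb (by norm_num) (by norm_num))) (hb (by norm_num) (by norm_num))) (hb (by norm_num) (by norm_num))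
  have hspec : ∀ a b c d : Bool, a.toNat + b.toNat + c.toNat + d.toNat ≤ 2 → ∀ v < 2048,
      (candD a b c d (C.sig 3) (C.sig 12) (C.sig 5)).testBit v =
        if cu v == 0 then (cx v != 0 && (kMask false a b c d).testBit (cx v))
        else inRange (cu v) (cx v) && (cb v == (sgn (C.sig 3) (C.sig 12) (C.sig 5) (cu v) ^^ quadAt (cu v) (cx v))) := by
    intro a b c d habcd v hv
    have h := candD_spec
    simp only [List.all_eq_true] at h
    have h' := h a (mem _) b (mem _) c (mem _) d (mem _) _ (mem (C.sig 3)) _ (mem (C.sig 12)) _ (mem (C.sig 5))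
    rw [Nat.ble_eq.mpr habcd, Bool.not_true, Bool.false_or] at h'
    exact beq_iff_eq.1 (allLt_spec h' hv)
  -- the orbit as a candidate
  have hOcand : ∀ v < 2048, C.el v ∈ O ↔
      (candD (g 1) (g 23) (g 21) (g 22) (C.sig 3) (C.sig 12) (C.sig 5)).testBit v = true := by
    intro v hv
    rw [hspec _ _ _ _ hle v hv]
    by_cases hu0 : cu v = 0
    · rw [if_pos (by rw [hu0]; rfl)]
      by_cases hx0 : cx v = 0
      · refine iff_of_false (fun h => ?_) (by simp [hx0])
        have e : v = code (cb v) 0 0 := by conv_lhs => rw [← code_parts (v := v), hx0, hu0]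
        have hzv := hO h
        generalize cb v = b at e
        subst e
        rw [C.el_code b 0 (by norm_num), C.w0_zero, C.cL_zero, mul_one, mul_one] at hzv
        cases b
        · exact hzv.2 rfl
        · exact hzv.1 (IsConj.refl _)
      · rw [← (hK _ (cx_lt v) hx0).1, bne_iff_ne.2 hx0, Bool.true_and]
        · conv_lhs => rw [← code_parts (v := v), hu0]
          exact hflip _ (cx_lt v) hx0
    · have hu := cu_lt hv
      rw [if_neg (fun h => hu0 (beq_iff_eq.1 h))]
      constructor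
      · intro h
        have hzv := (hO h).1
        rw [hz v hv, zF, if_neg (fun h => hu0 (beq_iff_eq.1 h))] at hzv
        by_cases hr : inRange (cu v) (cx v) = true
        · rw [if_pos hr] at hzv
          rw [hr, Bool.true_and]
          simpa using hzv
        · rw [if_neg hr] at hzv
          exact absurd rfl hzv
      · intro h
        rw [Bool.and_eq_true, beq_iff_eq] at h
        have e : C.el v = C.el (code (C.sig (cu v) ^^ quadAt (cu v) (cx v)) (cx v) (cu v)) := by
          rw [C.sig_rule hu hu0, ← h.2, code_parts]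
        rw [e]
        exact C.orb_range hu hu0 (cx_lt v) h.1
  have hcnt : (S.orb (C.nz 1)).ncard = 240 + 18 * ((g 1).toNat + (g 23).toNat + (g 21).toNat + (g 22).toNat) := by
    rw [C.ncard_codes (fun x hx => S.orb_mem hn1V hx) hOcand]
    have h := candD_count
    simp only [List.all_eq_true] at h
    have h' := h _ (mem (g 1)) _ (mem (g 23)) _ (mem (g 21)) _ (mem (g 22)) _ (mem (C.sig 3)) _ (mem (C.sig 12)) _
      (mem (C.sig 5))
    rw [Nat.ble_eq.mpr hle, Bool.not_true, Bool.false_or] at h'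
    exact Nat.eq_of_beq_eq_true h'
  have h23 : 23 ∣ Nat.card ↥S.normAut.range := by
    refine (show 23 ∣ (S.orb F.z).ncard by rw [h1771]; norm_num).trans ?_
    rw [S.ncard_orb S.z_mem]
    exact Subgroup.index_dvd_card _
  have hk : (g 1).toNat + (g 23).toNat + (g 21).toNat + (g 22).toNat = 2 := by
    have h := S.dvd_ncard_orb h23 hn1V C.nz_one_ne
    rw [hcnt] at h
    revert h hle
    cases g 1 <;> cases g 23 <;> cases g 21 <;> cases g 22 <;> decide
  have hsame : g 1 = t0 ∧ g 23 = t1 ∧ g 21 = t2 ∧ g 22 = t3 := by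
    have hbits : ∀ a b c d : Bool, (kMask false a b c d).testBit 1 = a ∧ (kMask false a b c d).testBit 23 = b ∧
        (kMask false a b c d).testBit 21 = c ∧ (kMask false a b c d).testBit 22 = d := by decide +kernel
    obtain ⟨b1, b2, b3, b4⟩ := hbits t0 t1 t2 t3
    have i1 := (hK 1 (by norm_num) (by norm_num)).2
    have i2 := (hK 23 (by norm_num) (by norm_num)).2
    have i3 := (hK 21 (by norm_num) (by norm_num)).2
    have i4 := (hK 22 (by norm_num) (by norm_num)).2
    rw [b1] at i1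
    rw [b2] at i2
    rw [b3] at i3
    rw [b4] at i4
    revert i1 i2 i3 i4 hk ht
    cases g 1 <;> cases g 23 <;> cases g 21 <;> cases g 22 <;> cases t0 <;> cases t1 <;> cases t2 <;> cases t3 <;>
      decide
  obtain ⟨e0, e1, e2, e3⟩ := hsame
  rw [e0, e1, e2, e3] at hOcand hcnt
  set M := candD t0 t1 t2 t3 (C.sig 3) (C.sig 12) (C.sig 5) with hM
  -- all members have equally many neighbours
  have hnb : ∀ v < 2048, ∀ w < 2048, M.testBit v = true → M.testBit w = true → nbrs M v = nbrs M w := by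
    have key : ∀ v < 2048, {x | x ∈ O ∧ C.el v * x ∈ O}.ncard = nbrs M v := fun v hv =>
      C.ncard_codes (fun x hx => S.orb_mem hn1V hx.1) fun s hs => by
        rw [Set.mem_ofPred_eq, ← C.el_xor, hOcand s hs, hOcand _ (Nat.xor_lt_two_pow (n := 11) hv hs),
          Bool.and_eq_true]
    intro v hv w hw hMv hMw
    obtain ⟨n, hn, hne⟩ : C.el w ∈ S.orb (C.el v) := by
      rw [S.orb_eq ((hOcand v hv).2 hMv)]
      exact (hOcand w hw).2 hMw
    rw [← key v hv, ← key w hw, ← Set.ncard_image_of_injective _ (MulAut.conj n).injective]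
    congr 1
    ext y
    simp only [Set.mem_image, Set.mem_ofPred_eq, MulAut.conj_apply]
    constructor
    · rintro ⟨x, ⟨h1, h2⟩, rfl⟩
      exact ⟨(S.orb_conj hn).2 h1, by
        rw [← hne, show n * C.el v * n⁻¹ * (n * x * n⁻¹) = n * (C.el v * x) * n⁻¹ by group]
        exact (S.orb_conj hn).2 h2⟩
    · rintro ⟨h1, h2⟩
      refine ⟨n⁻¹ * y * n, ⟨(S.orb_conj hn).1 ?_, (S.orb_conj hn).1 ?_⟩, by group⟩
      · rwa [show n * (n⁻¹ * y * n) * n⁻¹ = y by group]
      · rwa [show n * (C.el v * (n⁻¹ * y * n)) * n⁻¹ = n * C.el v * n⁻¹ * y by group, hne]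
  have hpick := pick_check
  simp only [List.all_eq_true] at hpick
  have hp := hpick t0 (mem _) t1 (mem _) t2 (mem _) t3 (mem _) _ (mem (C.sig 3)) _ (mem (C.sig 12)) _ (mem (C.sig 5))
  rw [beq_iff_eq.2 ht, Bool.not_true, Bool.false_or, Bool.or_eq_true] at hp
  rw [← hM] at hp
  rcases hp with hp | hp
  swap
  · exfalso
    obtain ⟨n, hnmem, hnne⟩ := List.any_eq_true.1 hp
    rw [Bool.not_eq_true'] at hnne
    have hmem2 : ∀ {m}, m ∈ sample M → ∃ v < 2048, M.testBit v = true ∧ m = nbrs M v := by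
      intro m hm
      obtain ⟨v, hv, rfl⟩ := List.mem_map.1 hm
      rw [List.mem_filter] at hv
      obtain ⟨h1, h2⟩ := hv
      refine ⟨v, ?_, ?_, ?_⟩
      · exact (show ∀ x ∈ [2, 42, 44, 46, 128, 512, 640, 641], x < 2048 by decide +kernel) v h1
      · exact h2
      · rfl
    have hex := hmem2 (m := n) hnmem
    obtain ⟨v, hv, hvM, hne'⟩ := hex
    rw [hne'] at hnne hnmem
    cases hs : sample M with
    | nil => rw [hs] at hnmem; exact List.not_mem_nil hnmem
    | cons a l =>
      obtain ⟨w, hw, hwM, hae⟩ := hmem2 (m := a) (by rw [hs]; exact List.mem_cons_self ..)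
      rw [hs, List.headD_cons, hae, hnb v hv w hw hvM hwM, Nat.beq_refl] at hnne
      exact Bool.noConfusion hnne
  simp only [Bool.and_eq_true, Bool.not_eq_true'] at hp
  obtain ⟨hMd, ⟨⟨⟨-, -⟩, hal⟩, hbe⟩, hga⟩ := hp
  have hMD : M = dMask := Nat.eq_of_beq_eq_true hMd
  refine ⟨hal, hbe, hga, h1771, by rw [hcnt, ht], fun v hv => ?_, fun v hv => by rw [hOcand v hv, hMD]; rfl⟩
  rw [hz v hv, show inD v = M.testBit v by rw [hMD]; rfl, hspec _ _ _ _ ht.le v hv, zF]
  by_cases hu0 : cu v = 0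
  · rw [if_pos (show (cu v == 0) = true by rw [hu0]; rfl), if_pos (show (cu v == 0) = true by rw [hu0]; rfl)]
    by_cases hx0 : cx v = 0
    · have e : v = code (cb v) 0 0 := by conv_lhs => rw [← code_parts (v := v), hx0, hu0]
      rw [if_pos (by rw [hx0]; rfl), hx0]
      generalize cb v = b at e ⊢
      subst e
      cases b <;> simp [code, cst]
    · have hv0 : v ≠ 0 := by rintro rfl; exact hx0 rfl
      rw [if_neg (fun h => hx0 (beq_iff_eq.1 h)), bne_iff_ne.2 hx0, Bool.true_and]
      simp [hv0]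
  · have hv0 : v ≠ 0 := by rintro rfl; exact hu0 rfl
    rw [if_neg (fun h => hu0 (beq_iff_eq.1 h)), if_neg (fun h => hu0 (beq_iff_eq.1 h))]
    cases inRange (cu v) (cx v) <;> simp [hv0]

end Adapted

end Cfsg.Lib.JankoFour
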