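import Cfsg.Agent.Lib.JankoFour.Three

/-!
# The eigenspaces of an element of order three and the centralizer of a linear involution
-/

set_option autoImplicit false
set_option linter.style.haveILetI false
set_option linter.unusedSectionVars false

namespace Cfsg.Lib.JankoFour

open Cfsg Cfsg.Lib.Extra Module

namespace Frame

variable {G : Type*} [Group G] [Finite G] {A : Type} [Group A] {I : Subgroup A} (F : Frame G A I)

/-- The fixed space of an element. -/
noncomputable abbrev fix (X : G) : Submodule (ZMod 2) F.V := LinearMap.ker (F.disp X)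

/-- The projection to the fixed space of an element of order three. -/
noncomputable def proj (X : G) : F.V →ₗ[ZMod 2] F.V := LinearMap.id + F.act X + F.act X ∘ₗ F.act X

theorem proj_apply (X : G) (v : F.V) : F.proj X v = v + F.act X v + F.act X (F.act X v) := rfl

theorem act_cube {X : G} (hX : Commute X F.z) (h3 : X ^ 3 = 1) (v : F.V) :
    F.act X (F.act X (F.act X v)) = v := by
  rw [← act_mul F.ctx hX hX, ← act_mul F.ctx (hX.mul_left hX) hX,
    show X * X * X = 1 by rw [← pow_two, ← pow_succ, h3], act_one]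

theorem proj_mem {X : G} (hX : Commute X F.z) (h3 : X ^ 3 = 1) (v : F.V) : F.proj X v ∈ F.fix X :=
  F.mem_ker_disp.2 (by rw [proj_apply, map_add, map_add, F.act_cube hX h3]; abel)

theorem proj_fix {X : G} {v : F.V} (h : v ∈ F.fix X) : F.proj X v = v := by
  rw [proj_apply, F.mem_ker_disp.1 h, F.mem_ker_disp.1 h, bar_self, zero_add]

/-- The fixed space is orthogonal to the displaced space. -/
theorem B_fix_disp {X : G} (hX : Commute X F.z) {u : F.V} (hu : u ∈ F.fix X) (w : F.V) :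
    JankoFour.B F.ctx u (F.disp X w) = 0 := by
  rw [disp_apply, map_add]
  nth_rewrite 1 [← F.mem_ker_disp.1 hu]
  rw [B_act F.ctx hX]
  exact bit_self _

theorem proj_disp {X : G} (hX : Commute X F.z) (h3 : X ^ 3 = 1) (w : F.V) : F.proj X (F.disp X w) = 0 := by
  rw [proj_apply, disp_apply, map_add, map_add, F.act_cube hX h3,
    show F.act X w + w + (F.act X (F.act X w) + F.act X w) + (w + F.act X (F.act X w)) =
      (F.act X w + F.act X w) + (w + w) + (F.act X (F.act X w) + F.act X (F.act X w)) by abel,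
    bar_self, bar_self, add_zero, zero_add, bar_self]

/-- The decomposition into the three eigenspaces. -/
theorem proj_sum {X : G} (hX : X ∈ F.C) (v : F.V) :
    F.proj X v + F.proj (X * F.p) v + F.proj (X * F.p * F.p) v = v := by
  have hX' := F.mem_C.1 hX
  have hc : ∀ w, F.act X (F.act F.p w) = F.act F.p (F.act X w) := fun w => by
    rw [← act_mul F.ctx hX'.1 F.p_comm, hX'.2.eq, act_mul F.ctx F.p_comm hX'.1]
  have h1 : ∀ w, F.act (X * F.p) w = F.act F.p (F.act X w) := fun w => by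
    rw [act_mul F.ctx hX'.1 F.p_comm, hc]
  have h2 : ∀ w, F.act (X * F.p * F.p) w = F.act F.p (F.act F.p (F.act X w)) := fun w => by
    rw [act_mul F.ctx (hX'.1.mul_left F.p_comm) F.p_comm, h1, hc]
  simp only [proj_apply, h1, h2, hc, F.act_p_three]
  have e1 := F.act_p_sum (F.act X v)
  have e2 := F.act_p_sum (F.act X (F.act X v))
  generalize F.act F.p (F.act F.p (F.act X (F.act X v))) = c2 at e2 ⊢
  generalize F.act F.p (F.act X (F.act X v)) = c1 at e2 ⊢
  generalize F.act X (F.act X v) = c0 at e2 ⊢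
  generalize F.act F.p (F.act F.p (F.act X v)) = b2 at e1 ⊢
  generalize F.act F.p (F.act X v) = b1 at e1 ⊢
  generalize F.act X v = b0 at e1 ⊢
  calc v + b0 + c0 + (v + b1 + c2) + (v + b2 + c1) = (v + v) + v + (b0 + b1 + b2) + (c0 + c1 + c2) := by abel
    _ = v := by rw [e1, e2, bar_self, zero_add, add_zero, add_zero]

theorem mul_p_cube {X : G} (hX : X ∈ F.C) (h3 : X ^ 3 = 1) (i : ℕ) : (X * F.p ^ i) ^ 3 = 1 := by
  rw [((F.mem_C.1 hX).2.pow_right i).mul_pow, h3, F.p_pow_six, one_mul]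

/-- A fixed point of a translate is moved by the scalar. -/
theorem fix_mul_p {X : G} (hX : X ∈ F.C) {v : F.V} (h : v ∈ F.fix (X * F.p)) :
    F.act X v = F.act F.p (F.act F.p v) := by
  have hX' := F.mem_C.1 hX
  have h' := F.mem_ker_disp.1 h
  rw [act_mul F.ctx hX'.1 F.p_comm] at h'
  rw [← act_inv_act F.ctx F.p_comm (F.act X v), ← act_mul F.ctx F.p_comm hX'.1, ← hX'.2.eq,
    act_mul F.ctx hX'.1 F.p_comm, h', F.p_inv, pow_two, act_mul F.ctx F.p_comm F.p_comm]

theorem fix_mul_pp {X : G} (hX : X ∈ F.C) {v : F.V} (h : v ∈ F.fix (X * F.p * F.p)) :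
    F.act X v = F.act F.p v := by
  have h1 := F.fix_mul_p (mul_mem hX F.p_mem_C) h
  rw [act_mul F.ctx (F.mem_C.1 hX).1 F.p_comm] at h1
  have hc : ∀ w, F.act X (F.act F.p w) = F.act F.p (F.act X w) := fun w => by
    rw [← act_mul F.ctx (F.mem_C.1 hX).1 F.p_comm, (F.mem_C.1 hX).2.eq,
      act_mul F.ctx F.p_comm (F.mem_C.1 hX).1]
  rw [hc] at h1
  exact act_injective F.ctx F.p_comm h1

theorem fix_inter {X : G} (hX : X ∈ F.C) {v : F.V} (h0 : v ∈ F.fix X) (h1 : v ∈ F.fix (X * F.p)) : v = 0 := by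
  refine F.act_p_eq ?_
  have h := F.fix_mul_p hX h1
  rw [F.mem_ker_disp.1 h0] at h
  conv_lhs => rw [h]
  exact F.act_p_three v

theorem fix_inter' {X : G} (hX : X ∈ F.C) {v : F.V} (h1 : v ∈ F.fix (X * F.p)) (h2 : v ∈ F.fix (X * F.p * F.p)) :
    v = 0 := F.fix_inter (mul_mem hX F.p_mem_C) h1 h2

/-- Dimensions of a subspace split by the three projections. -/
theorem finrank_split {X : G} (hX : X ∈ F.C) (h3 : X ^ 3 = 1) (D : F.V →ₗ[ZMod 2] F.V)
    (hD : ∀ Y ∈ ({X, X * F.p, X * F.p * F.p} : Set G), ∀ v, D (F.act Y v) = F.act Y (D v)) :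
    finrank (ZMod 2) ↥((F.fix X).map D) + finrank (ZMod 2) ↥((F.fix (X * F.p)).map D) +
      finrank (ZMod 2) ↥((F.fix (X * F.p * F.p)).map D) = finrank (ZMod 2) ↥(LinearMap.range D) := by
  haveI : FiniteDimensional (ZMod 2) F.V := Module.Finite.of_finite
  have hX1 : X * F.p ∈ F.C := mul_mem hX F.p_mem_C
  have hX2 : X * F.p * F.p ∈ F.C := mul_mem hX1 F.p_mem_C
  have h31 : (X * F.p) ^ 3 = 1 := by simpa using F.mul_p_cube hX h3 1
  have h32 : (X * F.p * F.p) ^ 3 = 1 := by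
    simpa [pow_two, mul_assoc] using F.mul_p_cube hX h3 2
  have hfix : ∀ Y ∈ ({X, X * F.p, X * F.p * F.p} : Set G), (F.fix Y).map D ≤ F.fix Y := by
    rintro Y hY _ ⟨v, hv, rfl⟩
    exact F.mem_ker_disp.2 (by rw [← hD Y hY, F.mem_ker_disp.1 hv])
  set W0 := (F.fix X).map D
  set W1 := (F.fix (X * F.p)).map D
  set W2 := (F.fix (X * F.p * F.p)).map D
  have w0 : W0 ≤ F.fix X := hfix _ (Or.inl rfl)
  have w1 : W1 ≤ F.fix (X * F.p) := hfix _ (Or.inr (Or.inl rfl))
  have w2 : W2 ≤ F.fix (X * F.p * F.p) := hfix _ (Or.inr (Or.inr rfl))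
  have d01 : W0 ⊓ W1 = ⊥ := (Submodule.eq_bot_iff _).2 fun v hv => F.fix_inter hX (w0 hv.1) (w1 hv.2)
  have d2 : (W0 ⊔ W1) ⊓ W2 = ⊥ := by
    refine (Submodule.eq_bot_iff _).2 fun v hv => ?_
    obtain ⟨a, ha, b, hb, rfl⟩ := Submodule.mem_sup.1 hv.1
    have h := F.proj_fix (w2 hv.2)
    have ka : F.proj (X * F.p * F.p) a = 0 := by
      have hp' : ∀ w, w ∈ F.fix X → F.act (X * F.p * F.p) w = F.act F.p (F.act F.p w) := fun w hw => by
        rw [show X * F.p * F.p = F.p * F.p * X by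
          rw [(F.mem_C.1 hX).2.eq, mul_assoc, (F.mem_C.1 hX).2.eq, ← mul_assoc],
          act_mul F.ctx (F.p_comm.mul_left F.p_comm) (F.mem_C.1 hX).1, act_mul F.ctx F.p_comm F.p_comm,
          F.mem_ker_disp.1 hw]
      have hmemp : F.act F.p (F.act F.p a) ∈ F.fix X := F.mem_ker_disp.2 (by
        rw [← act_mul F.ctx F.p_comm F.p_comm,
          ← act_mul F.ctx (F.mem_C.1 hX).1 (F.p_comm.mul_left F.p_comm),
          ((F.mem_C.1 hX).2.mul_right (F.mem_C.1 hX).2).eq,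
          act_mul F.ctx (F.p_comm.mul_left F.p_comm) (F.mem_C.1 hX).1, F.mem_ker_disp.1 (w0 ha)])
      rw [proj_apply, hp' a (w0 ha), hp' _ hmemp, F.act_p_three]
      rw [← F.act_p_sum a]; abel
    have kb : F.proj (X * F.p * F.p) b = 0 := by
      have hp' : ∀ w, w ∈ F.fix (X * F.p) → F.act (X * F.p * F.p) w = F.act F.p w := fun w hw => by
        rw [(F.mem_C.1 hX1).2.eq, act_mul F.ctx F.p_comm (F.mem_C.1 hX1).1, F.mem_ker_disp.1 hw]
      have hmemp : F.act F.p b ∈ F.fix (X * F.p) := F.mem_ker_disp.2 (by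
        rw [← act_mul F.ctx (F.mem_C.1 hX1).1 F.p_comm, (F.mem_C.1 hX1).2.eq,
          act_mul F.ctx F.p_comm (F.mem_C.1 hX1).1, F.mem_ker_disp.1 (w1 hb)])
      rw [proj_apply, hp' b (w1 hb), hp' _ hmemp]
      exact F.act_p_sum b
    rw [map_add, ka, kb, add_zero] at h
    exact h.symm
  have hsup : W0 ⊔ W1 ⊔ W2 = LinearMap.range D := by
    refine le_antisymm (sup_le (sup_le LinearMap.map_le_range LinearMap.map_le_range) LinearMap.map_le_range) ?_
    rintro _ ⟨v, rfl⟩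
    rw [← F.proj_sum hX v, map_add, map_add]
    refine Submodule.add_mem _ (Submodule.add_mem _ ?_ ?_) ?_
    · exact Submodule.mem_sup_left (Submodule.mem_sup_left ⟨_, F.proj_mem (F.mem_C.1 hX).1 h3 v, rfl⟩)
    · exact Submodule.mem_sup_left (Submodule.mem_sup_right ⟨_, F.proj_mem (F.mem_C.1 hX1).1 h31 v, rfl⟩)
    · exact Submodule.mem_sup_right ⟨_, F.proj_mem (F.mem_C.1 hX2).1 h32 v, rfl⟩
  have e01 := Submodule.finrank_sup_add_finrank_inf_eq W0 W1
  have e2 := Submodule.finrank_sup_add_finrank_inf_eq (W0 ⊔ W1) W2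
  rw [d01, finrank_bot, add_zero] at e01
  rw [d2, finrank_bot, add_zero, hsup] at e2
  omega

/-- Conjugation carries fixed spaces to fixed spaces. -/
theorem finrank_fix_le {d X Y : G} (hd : Commute d F.z) (hX : Commute X F.z) (h : d * X * d⁻¹ = Y) :
    finrank (ZMod 2) ↥(F.fix X) ≤ finrank (ZMod 2) ↥(F.fix Y) := by
  haveI : FiniteDimensional (ZMod 2) F.V := Module.Finite.of_finite
  rw [(Submodule.equivMapOfInjective (F.act d) (act_injective F.ctx hd) (F.fix X)).finrank_eq]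
  refine Submodule.finrank_mono ?_
  rintro _ ⟨v, hv, rfl⟩
  refine F.mem_ker_disp.2 ?_
  subst h
  rw [← act_mul F.ctx ((hd.mul_left hX).mul_left hd.inv_left) hd, inv_mul_cancel_right, act_mul F.ctx hd hX,
    F.mem_ker_disp.1 hv]

theorem finrank_fix_three {X : G} (hX : X ∈ F.C) (h3 : X ^ 3 = 1) (hne : F.img X ≠ 1) :
    finrank (ZMod 2) ↥(F.fix X) = 4 ∧ finrank (ZMod 2) ↥(F.fix (X * F.p)) = 4 ∧
      finrank (ZMod 2) ↥(F.fix (X * F.p * F.p)) = 4 := by
  obtain ⟨d, hd, hdX⟩ := F.exists_shift hX h3 hne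
  have hd' := F.mem_C.1 hd
  have hX' := F.mem_C.1 hX
  have hdp : d * F.p * d⁻¹ = F.p := by rw [hd'.2.eq, mul_inv_cancel_right]
  have e1 : d * (X * F.p) * d⁻¹ = X * F.p * F.p := by
    rw [show d * (X * F.p) * d⁻¹ = d * X * d⁻¹ * (d * F.p * d⁻¹) by group, hdX, hdp]
  have e2 : d * (X * F.p * F.p) * d⁻¹ = X := by
    rw [show d * (X * F.p * F.p) * d⁻¹ = d * (X * F.p) * d⁻¹ * (d * F.p * d⁻¹) by group, e1, hdp, mul_assoc, mul_assoc,
      show F.p * (F.p * F.p) = 1 by rw [← pow_two, ← pow_succ', F.p_cube], mul_one]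
  have l0 := F.finrank_fix_le hd'.1 hX'.1 hdX
  have l1 := F.finrank_fix_le hd'.1 (hX'.1.mul_left F.p_comm) e1
  have l2 := F.finrank_fix_le hd'.1 ((hX'.1.mul_left F.p_comm).mul_left F.p_comm) e2
  have h := F.finrank_split hX h3 LinearMap.id (fun _ _ _ => rfl)
  rw [Submodule.map_id, Submodule.map_id, Submodule.map_id, LinearMap.range_id, finrank_top, F.finrank_V] at h
  omega

/-- In the displaced space of a linear involution every line is moved by its centralizer. -/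
theorem exists_move {c : G} (hc : c ∈ F.C) (hne : F.img c ≠ 1) (h2 : c * c = 1 ∨ c * c = F.z)
    {v : F.V} (hv : v ∈ LinearMap.range (F.disp c)) (hv0 : v ≠ 0) :
    ∃ h ∈ F.C, (∀ w, F.act c (F.act h w) = F.act h (F.act c w)) ∧ F.act h v ≠ v ∧ F.act h v ≠ F.act F.p v ∧
      F.act h v ≠ F.act F.p (F.act F.p v) := by
  haveI : FiniteDimensional (ZMod 2) F.V := Module.Finite.of_finite
  have hc' := F.mem_C.1 hc
  have ht : orderOf (F.img c) = 2 := by
    refine orderOf_eq_prime ?_ hne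
    rw [pow_two, ← F.img_mul _ _ hc'.1 hc'.1]
    rcases h2 with h | h <;> rw [h]
    exacts [F.img_one, F.img_mem F.ctx.mem]
  obtain ⟨x, hx, u, hu, hx3, hu2, hux, htx, htu⟩ := F.facts.invol_three _ (F.mem_I_iff.2 ⟨c, hc, rfl⟩) ht
  obtain ⟨X0, hX0, hX0x, hX03⟩ := F.exists_lift_three hx hx3
  obtain ⟨U, hU, hUu⟩ := F.mem_I_iff.1 hu
  have hU' := F.mem_C.1 hU
  have hX0' := F.mem_C.1 hX0
  -- adjust the lift of order three to be inverted
  set k := U * X0 * U⁻¹ * X0 with hk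
  have hkC : k ∈ F.C := mul_mem (mul_mem (mul_mem hU hX0) (inv_mem hU)) hX0
  have hki : F.img k = 1 := by
    rw [hk, F.img_mul _ _ ((hU'.1.mul_left hX0'.1).mul_left hU'.1.inv_left) hX0'.1, F.img_conj hU'.1 hX0'.1, hX0x,
      hUu, hux, inv_mul_cancel]
  have e1 : U * X0 * U⁻¹ = k * X0⁻¹ := by rw [hk, mul_inv_cancel_right]
  obtain ⟨i, hi⟩ := F.ker_C_cube hkC hki (by
    have h := congrArg (· ^ 3) e1
    simp only [conj_pow, hX03, mul_one, mul_inv_cancel, (F.ker_C_comm hkC hki hX0).inv_right.mul_pow, inv_pow,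
      inv_one] at h
    exact h.symm)
  set X := X0 * F.p ^ i with hXdef
  have hX : X ∈ F.C := mul_mem hX0 (pow_mem F.p_mem_C i)
  have hX' := F.mem_C.1 hX
  have hX3 : X ^ 3 = 1 := F.mul_p_cube hX0 hX03 i
  have hXx : F.img X = x := by rw [hXdef, F.img_mul _ _ hX0'.1 (F.p_comm.pow_left i), F.img_p_pow, mul_one, hX0x]
  have hUX : U * X * U⁻¹ = X⁻¹ := by
    rw [hXdef, show U * (X0 * F.p ^ i) * U⁻¹ = U * X0 * U⁻¹ * (U * F.p ^ i * U⁻¹) by group,
      (hU'.2.pow_right i).eq, mul_inv_cancel_right (F.p ^ i) U, e1, hi]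
    refine eq_inv_of_mul_eq_one_left ?_
    calc F.p ^ i * X0⁻¹ * F.p ^ i * (X0 * F.p ^ i) = F.p ^ i * X0⁻¹ * (F.p ^ i * X0) * F.p ^ i := by group
      _ = F.p ^ i * X0⁻¹ * (X0 * F.p ^ i) * F.p ^ i := by rw [← (hX0'.2.pow_right i).eq]
      _ = (F.p ^ i) ^ 3 := by rw [pow_succ, pow_two]; group
      _ = 1 := F.p_pow_six i
  have hcomm : ∀ g ∈ F.C, Commute (F.img c) (F.img g) → ∀ w, F.act c (F.act g w) = F.act g (F.act c w) := by
    intro g hg hcg w
    have hg' := F.mem_C.1 hg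
    set m := c * g * c⁻¹ * g⁻¹ with hm
    have hmC : m ∈ F.C := mul_mem (mul_mem (mul_mem hc hg) (inv_mem hc)) (inv_mem hg)
    have hmi : F.img m = 1 := by
      rw [hm, F.img_mul _ _ ((hc'.1.mul_left hg'.1).mul_left hc'.1.inv_left) hg'.1.inv_left,
        F.img_conj hc'.1 hg'.1, F.img_inv hg'.1, hcg.eq, mul_inv_cancel_right, mul_inv_cancel]
    have em : c * g * c⁻¹ = m * g := by rw [hm, inv_mul_cancel_right]
    have hcc : c * c * g = g * (c * c) := by
      rcases h2 with h | h <;> rw [h]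
      · simp
      · exact hg'.1.symm.eq
    have hm2 : m * m = 1 := by
      have h : c * (c * g * c⁻¹) * c⁻¹ = c * (m * g) * c⁻¹ := congrArg (fun y => c * y * c⁻¹) em
      have hl : c * (c * g * c⁻¹) * c⁻¹ = g := by
        rw [show c * (c * g * c⁻¹) * c⁻¹ = c * c * g * (c * c)⁻¹ by group, hcc, mul_inv_cancel_right]
      rw [hl, show c * (m * g) * c⁻¹ = c * m * c⁻¹ * (c * g * c⁻¹) by group, em,
        (F.ker_C_comm hmC hmi hc).symm.eq, mul_inv_cancel_right, ← mul_assoc] at h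
      exact mul_eq_right.1 h.symm
    have hmz : m ∈ F.E := by
      obtain ⟨j, e | e⟩ := F.ker_C hmC hmi
      · rw [e, ← pow_add, F.p_pow_eq_one] at hm2
        rw [e, F.p_pow_eq_one.2 (by omega)]
        exact one_mem _
      · rw [e, ← pow_two, (F.p_comm.symm.pow_right j).mul_pow, ← pow_mul, pow_two F.z, F.ctx.sq_z, one_mul,
          F.p_pow_eq_one] at hm2
        rw [e, F.p_pow_eq_one.2 (by omega), mul_one]
        exact F.ctx.mem
    rw [← act_mul F.ctx hc'.1 hg'.1, show c * g = m * (g * c) by rw [← mul_assoc, ← em, inv_mul_cancel_right],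
      act_mul F.ctx (F.comm_of_mem hmz) (hg'.1.mul_left hc'.1), act_of_mem F.ctx hmz, act_mul F.ctx hg'.1 hc'.1]
  have hTX := hcomm X hX (by rw [hXx]; exact htx)
  have hTU := hcomm U hU (by rw [hUu]; exact htu)
  have hTp : ∀ w, F.act c (F.act F.p w) = F.act F.p (F.act c w) := fun w => by
    rw [← act_mul F.ctx hc'.1 F.p_comm, hc'.2.eq, act_mul F.ctx F.p_comm hc'.1]
  set D := F.disp c with hD
  have hX1 : X * F.p ∈ F.C := mul_mem hX F.p_mem_C
  have hX2 : X * F.p * F.p ∈ F.C := mul_mem hX1 F.p_mem_C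
  have hDY : ∀ Y ∈ ({X, X * F.p, X * F.p * F.p} : Set G), ∀ w, D (F.act Y w) = F.act Y (D w) := by
    have a0 : ∀ w, D (F.act X w) = F.act X (D w) := fun w => by
      rw [hD, disp_apply, disp_apply, hTX, map_add]
    have ap : ∀ w, D (F.act F.p w) = F.act F.p (D w) := fun w => by
      rw [hD, disp_apply, disp_apply, hTp, map_add]
    rintro Y (rfl | rfl | rfl) w
    · exact a0 w
    · rw [act_mul F.ctx hX'.1 F.p_comm, a0, ap, act_mul F.ctx hX'.1 F.p_comm]
    · rw [act_mul F.ctx (hX'.1.mul_left F.p_comm) F.p_comm, act_mul F.ctx hX'.1 F.p_comm, a0, ap, ap,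
        act_mul F.ctx (hX'.1.mul_left F.p_comm) F.p_comm, act_mul F.ctx hX'.1 F.p_comm]
  have hsplit := F.finrank_split hX hX3 D hDY
  rw [F.finrank_range_disp hc hne h2] at hsplit
  obtain ⟨f0, f1, f2⟩ := F.finrank_fix_three hX hX3 (by rw [hXx]; intro h; rw [h, orderOf_one] at hx3; omega)
  -- the part in the fixed space of `X`
  have hDD : ∀ w, D (D w) = 0 := fun w => by
    rw [hD, disp_apply, disp_apply, map_add, ← act_mul F.ctx hc'.1 hc'.1, F.act_z_pow h2, add_comm w,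
      bar_self]
  have hle2 : finrank (ZMod 2) ↥((F.fix X).map D) ≤ 2 := by
    have hsub : (F.fix X).map D ≤ F.fix X ⊓ LinearMap.ker D := by
      rintro _ ⟨w, hw, rfl⟩
      exact ⟨F.mem_ker_disp.2 (by rw [← hDY X (Or.inl rfl), F.mem_ker_disp.1 hw]), hDD w⟩
    have h := LinearMap.finrank_range_add_finrank_ker (D.domRestrict (F.fix X))
    rw [LinearMap.range_domRestrict, LinearMap.ker_domRestrict, f0,
      ← Submodule.finrank_map_subtype_eq (F.fix X), Submodule.map_comap_subtype] at h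
    have := Submodule.finrank_mono hsub
    omega
  have hev : ∀ Y ∈ ({X, X * F.p, X * F.p * F.p} : Set G), Y ∈ F.C →
      Even (finrank (ZMod 2) ↥((F.fix Y).map D)) := by
    intro Y hY hYC
    refine F.even_finrank _ ?_
    rintro _ ⟨w, hw, rfl⟩
    refine ⟨F.act F.p w, F.mem_ker_disp.2 ?_, ?_⟩
    · rw [← act_mul F.ctx (F.mem_C.1 hYC).1 F.p_comm, (F.mem_C.1 hYC).2.eq,
        act_mul F.ctx F.p_comm (F.mem_C.1 hYC).1, F.mem_ker_disp.1 hw]
    · rw [hD, disp_apply, disp_apply, hTp, map_add]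
  have hUp : U * F.p * U⁻¹ = F.p := by rw [hU'.2.eq, mul_inv_cancel_right]
  have hswap : ∀ w, w ∈ F.fix (X * F.p) → F.act U w ∈ F.fix (X * F.p * F.p) := by
    intro w hw
    have e : U * (X * F.p) * U⁻¹ = (X * F.p * F.p)⁻¹ := by
      rw [show U * (X * F.p) * U⁻¹ = U * X * U⁻¹ * (U * F.p * U⁻¹) by group, hUX, hUp]
      refine eq_inv_of_mul_eq_one_left ?_
      rw [show X⁻¹ * F.p * (X * F.p * F.p) = X⁻¹ * (F.p * X) * (F.p * F.p) by group, ← hX'.2.eq,
        show X⁻¹ * (X * F.p) * (F.p * F.p) = F.p ^ 3 by rw [pow_succ, pow_two]; group, F.p_cube]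
    have hz1 := (F.mem_C.1 hX1).1
    have hz2 := (F.mem_C.1 hX2).1
    have h := congrArg (fun g => F.act g (F.act U w)) e
    simp only [act_mul F.ctx (hU'.1.mul_left hz1) hU'.1.inv_left, act_inv_act F.ctx hU'.1,
      act_mul F.ctx hU'.1 hz1, F.mem_ker_disp.1 hw] at h
    refine F.mem_ker_disp.2 ?_
    conv_lhs => rw [h]
    rw [← act_mul F.ctx hz2 hz2.inv_left, mul_inv_cancel, act_one]
  have hswap' : ∀ w, w ∈ F.fix (X * F.p * F.p) → F.act U w ∈ F.fix (X * F.p) := by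
    intro w hw
    have e : U * (X * F.p * F.p) * U⁻¹ = (X * F.p)⁻¹ := by
      rw [show U * (X * F.p * F.p) * U⁻¹ = U * X * U⁻¹ * (U * F.p * U⁻¹) * (U * F.p * U⁻¹) by group, hUX, hUp]
      refine eq_inv_of_mul_eq_one_left ?_
      rw [show X⁻¹ * F.p * F.p * (X * F.p) = X⁻¹ * (F.p * F.p * X) * F.p by group,
        ← ((hX'.2.mul_right hX'.2)).eq,
        show X⁻¹ * (X * (F.p * F.p)) * F.p = F.p ^ 3 by rw [pow_succ, pow_two]; group, F.p_cube]
    have hz1 := (F.mem_C.1 hX1).1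
    have hz2 := (F.mem_C.1 hX2).1
    have h := congrArg (fun g => F.act g (F.act U w)) e
    simp only [act_mul F.ctx (hU'.1.mul_left hz2) hU'.1.inv_left, act_inv_act F.ctx hU'.1,
      act_mul F.ctx hU'.1 hz2, F.mem_ker_disp.1 hw] at h
    refine F.mem_ker_disp.2 ?_
    conv_lhs => rw [h]
    rw [← act_mul F.ctx hz1 hz1.inv_left, mul_inv_cancel, act_one]
  have hmapU : ∀ Y Y' : G, (∀ w, w ∈ F.fix Y → F.act U w ∈ F.fix Y') →
      finrank (ZMod 2) ↥((F.fix Y).map D) ≤ finrank (ZMod 2) ↥((F.fix Y').map D) := by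
    intro Y Y' hYY
    rw [(Submodule.equivMapOfInjective (F.act U) (act_injective F.ctx hU'.1) ((F.fix Y).map D)).finrank_eq]
    refine Submodule.finrank_mono ?_
    rintro _ ⟨_, ⟨w, hw, rfl⟩, rfl⟩
    exact ⟨F.act U w, hYY w hw, by rw [hD, disp_apply, disp_apply, hTU, map_add]⟩
  have heq := le_antisymm (hmapU _ _ hswap) (hmapU _ _ hswap')
  obtain ⟨a0, ha0⟩ := hev X (Or.inl rfl) hX
  obtain ⟨a1, ha1⟩ := hev (X * F.p) (Or.inr (Or.inl rfl)) hX1
  have hzero : (F.fix X).map D = ⊥ := Submodule.finrank_eq_zero.1 (by omega)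
  -- the fixed space meets the displaced space trivially
  have hnotfix : v ∉ F.fix X := by
    intro hvX
    obtain ⟨w, rfl⟩ := hv
    refine hv0 ?_
    have h := F.proj_fix hvX
    have hcomm' : F.proj X (D w) = D (F.proj X w) := by
      rw [proj_apply, proj_apply, map_add, map_add, hDY X (Or.inl rfl), hDY X (Or.inl rfl)]
      rw [hDY X (Or.inl rfl)]
    rw [hcomm'] at h
    rw [← h, ← Submodule.mem_bot (ZMod 2), ← hzero]
    exact ⟨_, F.proj_mem hX'.1 hX3 w, rfl⟩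
  by_cases hX0v : F.act X v ≠ F.act F.p v ∧ F.act X v ≠ F.act F.p (F.act F.p v)
  · exact ⟨X, hX, hTX, fun h => hnotfix (F.mem_ker_disp.2 h), hX0v⟩
  refine ⟨U, hU, hTU, ?_⟩
  rw [not_and_or, not_not, not_not] at hX0v
  have key : ∀ (Y Y' : G), Y ∈ F.C → v ∈ F.fix Y → (∀ w, w ∈ F.fix Y → F.act U w ∈ F.fix Y') →
      (∀ w, w ∈ F.fix Y → w ∈ F.fix Y' → w = 0) →
      F.act U v ≠ v ∧ F.act U v ≠ F.act F.p v ∧ F.act U v ≠ F.act F.p (F.act F.p v) := by
    intro Y Y' hY hvY hmap hint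
    have hY' := F.mem_C.1 hY
    have hp' : ∀ w, w ∈ F.fix Y → F.act F.p w ∈ F.fix Y := fun w hw => F.mem_ker_disp.2 (by
      rw [← act_mul F.ctx hY'.1 F.p_comm, hY'.2.eq, act_mul F.ctx F.p_comm hY'.1, F.mem_ker_disp.1 hw])
    have hinj := act_injective F.ctx hU'.1
    have hne0 : F.act U v ≠ 0 := fun h => hv0 (hinj (h.trans (map_zero _).symm))
    exact ⟨fun h => hne0 (hint _ (by rw [h]; exact hvY) (hmap v hvY)),
      fun h => hne0 (hint _ (by rw [h]; exact hp' v hvY) (hmap v hvY)),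
      fun h => hne0 (hint _ (by rw [h]; exact hp' _ (hp' v hvY)) (hmap v hvY))⟩
  rcases hX0v with h | h
  · refine key (X * F.p * F.p) (X * F.p) hX2 ?_ hswap' fun w a b => F.fix_inter' hX b a
    refine F.mem_ker_disp.2 ?_
    rw [act_mul F.ctx (hX'.1.mul_left F.p_comm) F.p_comm, act_mul F.ctx hX'.1 F.p_comm]
    rw [show F.act X (F.act F.p (F.act F.p v)) = F.act F.p (F.act F.p (F.act X v)) by
      rw [← act_mul F.ctx F.p_comm F.p_comm, ← act_mul F.ctx hX'.1 (F.p_comm.mul_left F.p_comm),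
        (hX'.2.mul_right hX'.2).eq, act_mul F.ctx (F.p_comm.mul_left F.p_comm) hX'.1,
        act_mul F.ctx F.p_comm F.p_comm], h, F.act_p_three]
  · refine key (X * F.p) (X * F.p * F.p) hX1 ?_ hswap fun w a b => F.fix_inter' hX a b
    refine F.mem_ker_disp.2 ?_
    rw [hX'.2.eq, act_mul F.ctx F.p_comm hX'.1, h, F.act_p_three]

end Frame

end Cfsg.Lib.JankoFour
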