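import Cfsg.Agent.Lib.JankoFour.Coord

/-!
# The forms of the hexad group
-/

set_option autoImplicit false
set_option linter.style.haveILetI false
set_option linter.unusedSectionVars false

namespace Cfsg.Lib.JankoFour

open Cfsg Cfsg.Lib.Extra Module BitModel

variable {G : Type*} [Group G] [Finite G] {A : Type} [Group A] {I : Subgroup A}

/-- Nine bits as a number. -/
def mk9 (d0 d1 d2 a b a' b' a'' b'' : Bool) : ℕ :=
  cst d0 1 ^^^ cst d1 2 ^^^ cst d2 4 ^^^ cst a 8 ^^^ cst b 16 ^^^ cst a' 32 ^^^ cst b' 64 ^^^ cst a'' 128 ^^^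
    cst b'' 256

theorem mk9_spec : ∀ d0 d1 d2 a b a' b' a'' b'' : Bool,
    mk9 d0 d1 d2 a b a' b' a'' b'' < 512 ∧
    (mk9 d0 d1 d2 a b a' b' a'' b'').testBit 0 = d0 ∧ (mk9 d0 d1 d2 a b a' b' a'' b'').testBit 1 = d1 ∧
    (mk9 d0 d1 d2 a b a' b' a'' b'').testBit 2 = d2 ∧ (mk9 d0 d1 d2 a b a' b' a'' b'').testBit 3 = a ∧
    (mk9 d0 d1 d2 a b a' b' a'' b'').testBit 4 = b ∧ (mk9 d0 d1 d2 a b a' b' a'' b'').testBit 5 = a' ∧
    (mk9 d0 d1 d2 a b a' b' a'' b'').testBit 6 = b' ∧ (mk9 d0 d1 d2 a b a' b' a'' b'').testBit 7 = a'' ∧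
    (mk9 d0 d1 d2 a b a' b' a'' b'').testBit 8 = b'' := by decide +kernel

namespace Adapted

variable {F : Frame G A I} {D : HexData A I} {S : Std F D} (C : Adapted S)

include C in
theorem disp_mem {c : G} (hc : c ∈ S.X) (v : F.V) : F.disp c v ∈ S.W := by
  rw [← S.perp_W]
  intro w hw
  show JankoFour.B F.ctx w (F.disp c v) = 0
  rw [F.disp_apply, map_add]
  nth_rewrite 1 [← (S.mem_W w).1 hw c hc]
  rw [B_act F.ctx (S.X_z hc)]
  exact bit_self _

include C in
theorem disp_W {c : G} (hc : c ∈ S.X) {w : F.V} (hw : w ∈ S.W) : F.disp c w = 0 := by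
  rw [F.disp_apply, (S.mem_W w).1 hw c hc, bar_self]

include C in
theorem disp_symm {c : G} (hc : c ∈ S.X) (v w : F.V) :
    JankoFour.B F.ctx v (F.disp c w) = JankoFour.B F.ctx w (F.disp c v) := by
  have hcz := S.X_z hc
  rw [F.disp_apply, F.disp_apply, map_add, map_add, B_symm F.ctx v w]
  congr 1
  rw [← B_act F.ctx hcz v (F.act c w), ← act_mul F.ctx hcz hcz, S.X_sq hc, act_one, B_symm]

include C in
theorem disp_alt {c : G} (hc : c ∈ S.X) (v : F.V) : JankoFour.B F.ctx v (F.disp c v) = 0 := by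
  rw [F.disp_apply, map_add, B_self, add_zero]
  have h := qf_add F.ctx (F.act c v) v
  rw [qf_act F.ctx (S.X_z hc), ← F.disp_apply, S.qf_W _ (C.disp_mem hc v), bit_self, zero_add] at h
  rw [B_symm]
  exact h.symm

include C in
theorem disp_p {c : G} (hc : c ∈ S.X) (v : F.V) : F.disp c (F.act F.p v) = F.act F.p (F.disp c v) := by
  rw [F.disp_apply, F.disp_apply, map_add, ← act_mul F.ctx (S.X_z hc) F.p_comm, (S.X_p hc).eq,
    act_mul F.ctx F.p_comm (S.X_z hc)]

/-- The form of `c` has member `u`. -/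
def Form (c : G) (u : ℕ) : Prop := ∀ v, F.disp c v = C.cw (app u (C.chi v))

theorem exists_code {c : G} (hc : c ∈ S.X) :
    ∃ k < 512, ∀ v, F.disp c v = C.cw (appF k (C.chi v)) := by
  classical
  have hch : ∀ j : ℕ, ∃ v, j < 3 → C.chi v = 2 <<< (2 * j) := fun j => by
    by_cases hj : j < 3
    · obtain ⟨v, hv⟩ := C.exists_chi (x := 2 <<< (2 * j)) (by
        obtain rfl | rfl | rfl : j = 0 ∨ j = 1 ∨ j = 2 := by omega
        all_goals decide)
      exact ⟨v, fun _ => hv⟩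
    · exact ⟨0, fun h => absurd h hj⟩
  choose f hf using hch
  let β : F.V → F.V → ZMod 2 := fun v w => JankoFour.B F.ctx v (F.disp c w)
  have bsym : ∀ v w, β v w = β w v := fun v w => C.disp_symm hc v w
  have balt : ∀ v, β v v = 0 := fun v => C.disp_alt hc v
  have bp : ∀ v w, β (F.act F.p v) (F.act F.p w) = β v w := fun v w => by
    show JankoFour.B F.ctx _ _ = _
    rw [C.disp_p hc, B_act F.ctx F.p_comm]
  have bmix : ∀ v w, β v (F.act F.p w) = β (F.act F.p v) w + β v w := fun v w => by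
    rw [← bp v (F.act F.p w), F.act_p_sq, ← bp v w]
    show JankoFour.B F.ctx _ _ = _
    rw [map_add, map_add]
  let q : F.V → F.V → Bool := fun v w => decide (β v w = 1)
  let p' := F.act F.p
  obtain ⟨hk, t0, t1, t2, t3, t4, t5, t6, t7, t8⟩ := mk9_spec (q (p' (f 0)) (f 0)) (q (p' (f 1)) (f 1))
    (q (p' (f 2)) (f 2)) (q (f 0) (f 1)) (q (p' (f 0)) (f 1)) (q (f 0) (f 2)) (q (p' (f 0)) (f 2))
    (q (f 1) (f 2)) (q (p' (f 1)) (f 2))
  set k := mk9 (q (p' (f 0)) (f 0)) (q (p' (f 1)) (f 1)) (q (p' (f 2)) (f 2)) (q (f 0) (f 1)) (q (p' (f 0)) (f 1))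
    (q (f 0) (f 2)) (q (p' (f 0)) (f 2)) (q (f 1) (f 2)) (q (p' (f 1)) (f 2))
  -- the vectors dual to the basis
  let un : ℕ → F.V := fun i => if i % 2 = 0 then p' (f (i / 2)) else f (i / 2)
  have hun : ∀ i < 6, C.chi (un i) = 1 <<< i := by
    intro i hi
    obtain rfl | rfl | rfl | rfl | rfl | rfl : i = 0 ∨ i = 1 ∨ i = 2 ∨ i = 3 ∨ i = 4 ∨ i = 5 := by omega
    all_goals simp [un, p', C.chi_p, hf]
    all_goals decide
  have hq : ∀ v w, zb (q v w) = β v w := fun v w => zb_decide _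
  have hdiag : ∀ j, β (f j) (p' (f j)) = β (p' (f j)) (f j) := fun j => bsym _ _
  have entry : ∀ i < 6, ∀ l < 6, β (un i) (un l) = zb (ent k i l) := by
    intro i hi l hl
    obtain rfl | rfl | rfl | rfl | rfl | rfl : i = 0 ∨ i = 1 ∨ i = 2 ∨ i = 3 ∨ i = 4 ∨ i = 5 := by omega
    all_goals
      obtain rfl | rfl | rfl | rfl | rfl | rfl : l = 0 ∨ l = 1 ∨ l = 2 ∨ l = 3 ∨ l = 4 ∨ l = 5 := by omega
      all_goals simp [un, ent, t0, t1, t2, t3, t4, t5, t6, t7, t8, zb_xor, hq, balt, bp, hdiag, p']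
      all_goals try simp [zb]
      all_goals first
        | rfl
        | exact bsym _ _
        | (rw [bmix, add_comm])
        | (rw [bsym, bmix, add_comm])
  refine ⟨k, hk, fun v => ?_⟩
  obtain ⟨x, hx, hxe⟩ := C.exists_cw (C.disp_mem hc v)
  rw [← hxe]
  congr 1
  refine eq_of_bits hx (mk6_lt _) fun i hi => ?_
  rw [appF, testBit_mk6 _ hi]
  -- the coordinates of the vector
  set χ := C.chi v
  let v' := sel1 (χ.testBit 0) (un 0) + sel1 (χ.testBit 1) (un 1) + sel1 (χ.testBit 2) (un 2) +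
    sel1 (χ.testBit 3) (un 3) + sel1 (χ.testBit 4) (un 4) + sel1 (χ.testBit 5) (un 5)
  have hsel : ∀ (b : Bool) (l : ℕ), l < 6 → C.chi (sel1 b (un l)) = cst b (1 <<< l) := fun b l hl => by
    cases b
    · rw [sel1_false, C.chi_eq_zero.2 (zero_mem _)]
      rfl
    · exact hun l hl
  have hv' : C.chi v' = χ := by
    simp only [v', C.chi_add, hsel _ 0 (by decide), hsel _ 1 (by decide), hsel _ 2 (by decide), hsel _ 3 (by decide),
      hsel _ 4 (by decide), hsel _ 5 (by decide)]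
    exact mk6_testBit (C.chi_lt v)
  have hd : F.disp c v = F.disp c v' := by
    have h := C.disp_W hc (C.chi_eq_iff.1 hv'.symm)
    rw [map_add] at h
    exact (add_eq_zero_iff_eq' F.ctx).1 h
  refine zb_inj.1 ?_
  have h1 : JankoFour.B F.ctx (un i) (F.disp c v) = zb (x.testBit i) := by
    rw [← hxe, B_symm, C.B_cw, hun i hi]
    congr 1
    have e : ∀ x < 64, ∀ i < 6, par (x &&& 1 <<< i) = x.testBit i := by decide +kernel
    exact e x hx i hi
  rw [← h1, hd]
  have hs : ∀ (b : Bool) (l : ℕ), l < 6 → β (un i) (sel1 b (un l)) = zb (ent k i l && b) := fun b l hl => by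
    cases b
    · rw [Bool.and_false, sel1_false]
      show JankoFour.B F.ctx _ _ = _
      rw [map_zero, map_zero]
      rfl
    · rw [Bool.and_true, sel1_true]
      exact entry i hi l hl
  have hadd : ∀ u w, β (un i) (u + w) = β (un i) u + β (un i) w := fun u w => by
    show JankoFour.B F.ctx _ _ = _
    rw [map_add, map_add]
  show β (un i) v' = _
  simp only [v', hadd, hs _ 0 (by decide), hs _ 1 (by decide), hs _ 2 (by decide), hs _ 3 (by decide),
    hs _ 4 (by decide), hs _ 5 (by decide), ← zb_xor, par, Nat.testBit_and,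
    testBit_mk6 _ (show 0 < 6 by decide), testBit_mk6 _ (show 1 < 6 by decide), testBit_mk6 _ (show 2 < 6 by decide),
    testBit_mk6 _ (show 3 < 6 by decide), testBit_mk6 _ (show 4 < 6 by decide), testBit_mk6 _ (show 5 < 6 by decide)]

include C in
theorem form_z_mul {c : G} (hc : c ∈ S.X) (v : F.V) : F.disp (F.z * c) v = F.disp c v := by
  rw [F.disp_apply, F.disp_apply, act_mul F.ctx (Commute.refl _) (S.X_z hc), F.act_z_pow (Or.inr rfl)]

theorem form_mul {c d : G} {u w : ℕ} (hc : c ∈ S.X) (hd : d ∈ S.X) (h : C.Form c u) (h' : C.Form d w) :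
    C.Form (c * d) (u ^^^ w) := by
  intro v
  rw [app_xor, C.cw_xor, ← h v, ← h' v]
  have e := C.disp_W hc (C.disp_mem hd v)
  simp only [F.disp_apply, map_add] at e
  rw [F.disp_apply, F.disp_apply, F.disp_apply, act_mul F.ctx (S.X_z hc) (S.X_z hd)]
  calc F.act c (F.act d v) + v
      = F.act c (F.act d v) + v + (F.act c (F.act d v + v) + (F.act d v + v)) := by
        rw [map_add, e, add_zero]
    _ = F.act c v + v + (F.act d v + v) := by
        rw [map_add, show F.act c (F.act d v) + v + (F.act c (F.act d v) + F.act c v + (F.act d v + v)) =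
          (F.act c (F.act d v) + F.act c (F.act d v)) + (F.act c v + v + (F.act d v + v)) by abel, bar_self,
          zero_add]

theorem form_one : C.Form 1 0 := by
  intro v
  rw [F.disp_apply, act_one, bar_self]
  have h0 : ∀ χ < 64, app 0 χ = 0 := by decide +kernel
  rw [h0 _ (C.chi_lt v), C.cw_zero]

/-- Transport of a form by an element normalizing everything. -/
theorem form_conj {c x : G} {u u' : ℕ} {fc fw : ℕ → ℕ} (hx : Commute x F.z) (hc : c ∈ S.X)
    (hchi : ∀ v, C.chi (F.act x v) = fc (C.chi v)) (hw : ∀ y < 64, F.act x (C.cw y) = C.cw (fw y))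
    (hcheck : ∀ y < 64, app u' (fc y) = fw (app u y)) (h : C.Form c u) : C.Form (x * c * x⁻¹) u' := by
  intro v
  have hcz := S.X_z hc
  obtain ⟨v', rfl⟩ : ∃ v', F.act x v' = v := ⟨F.act x⁻¹ v, by
    rw [← act_mul F.ctx hx hx.inv_left, mul_inv_cancel, act_one]⟩
  rw [F.disp_apply, ← act_mul F.ctx ((hx.mul_left hcz).mul_left hx.inv_left) hx, inv_mul_cancel_right,
    act_mul F.ctx hx hcz, ← map_add, ← F.disp_apply, h v', hw _ (app_lt _ _), ← hcheck _ (C.chi_lt v'), hchi]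

include C in
theorem conj_mem_X {x c : G} (hx : x ∈ F.C) (hn : ∀ a ∈ D.T, F.img x * a * (F.img x)⁻¹ ∈ D.T) (hc : c ∈ S.X) :
    x * c * x⁻¹ ∈ S.X := by
  refine (S.mem_X _).2 ⟨mul_mem (mul_mem hx (S.X_C hc)) (inv_mem hx), ?_, ?_⟩
  · rw [F.img_conj (F.mem_C.1 hx).1 (S.X_z hc)]
    exact hn _ (S.X_img hc)
  · rw [show x * c * x⁻¹ * (x * c * x⁻¹) = x * (c * c) * x⁻¹ by group, S.X_sq hc, mul_one, mul_inv_cancel]

include C in
theorem rank_four {c : G} {k : ℕ} (hc : c ∈ S.X) (hne : F.img c ≠ 1)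
    (h : ∀ v, F.disp c v = C.cw (appF k (C.chi v))) :
    ((List.range 64).filter fun x => Nat.beq (appF k x) 0).length = 4 := by
  classical
  haveI : FiniteDimensional (ZMod 2) F.V := Module.Finite.of_finite
  set L := (List.range 64).filter fun x => Nat.beq (appF k x) 0 with hL
  have e := LinearMap.finrank_range_add_finrank_ker (F.disp c)
  rw [F.finrank_range_disp (S.X_C hc) hne (Or.inl (S.X_sq hc)), F.finrank_V] at e
  have hker : Nat.card ↥(LinearMap.ker (F.disp c)) = 256 := by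
    rw [F.card_sub, show finrank (ZMod 2) ↥(LinearMap.ker (F.disp c)) = 8 by omega]
    norm_num
  have hmem : ∀ v, v ∈ LinearMap.ker (F.disp c) ↔ C.chi v ∈ L := fun v => by
    rw [LinearMap.mem_ker, h v, hL, List.mem_filter, List.mem_range]
    constructor
    · intro e0
      refine ⟨C.chi_lt v, ?_⟩
      have h1 := C.cw_inj0 (x := appF k (C.chi v)) (mk6_lt _) e0
      rw [h1]
      rfl
    · intro e0
      rw [Nat.eq_of_beq_eq_true e0.2, C.cw_zero]
  have hr : ∀ x : {x // x ∈ L}, ∃ v, C.chi v = x.1 := fun x =>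
    C.exists_chi (List.mem_range.1 (List.mem_filter.1 x.2).1)
  choose r hr using hr
  let φ : ↥S.W × {x // x ∈ L} → ↥(LinearMap.ker (F.disp c)) := fun p => ⟨(p.1 : F.V) + r p.2, (hmem _).2 (by
    rw [C.chi_add, C.chi_eq_zero.2 p.1.2, Nat.zero_xor, hr]; exact p.2.2)⟩
  have hφ : Function.Bijective φ := by
    constructor
    · rintro ⟨w, x⟩ ⟨w', x'⟩ e'
      have e1 : (w : F.V) + r x = w' + r x' := congrArg Subtype.val e'
      have e2 := congrArg C.chi e1
      rw [C.chi_add, C.chi_add, C.chi_eq_zero.2 w.2, C.chi_eq_zero.2 w'.2, Nat.zero_xor, Nat.zero_xor, hr, hr] at e2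
      obtain rfl : x = x' := Subtype.ext e2
      exact Prod.ext (Subtype.ext (add_right_cancel e1)) rfl
    · rintro ⟨v, hv⟩
      let x : {x // x ∈ L} := ⟨C.chi v, (hmem v).1 hv⟩
      refine ⟨(⟨v + r x, C.chi_eq_iff.1 (hr x).symm⟩, x), Subtype.ext ?_⟩
      show v + r x + r x = v
      rw [add_assoc, bar_self, add_zero]
  have hc' := Nat.card_eq_of_bijective φ hφ
  rw [hker, Nat.card_prod, F.card_sub, S.finrank_W,
    Nat.subtype_card L.toFinset (fun x => by rw [List.mem_toFinset]),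
    List.toFinset_card_of_nodup ((List.nodup_range).filter _)] at hc'
  norm_num at hc'
  rw [hL]
  omega

theorem exists_fixed_form {x : G} {fc : ℕ → ℕ} {M : List ℕ} (hx : x ∈ F.C)
    (hn : ∀ a ∈ D.T, F.img x * a * (F.img x)⁻¹ ∈ D.T) (hchi : ∀ v, C.chi (F.act x v) = fc (C.chi v))
    (hfix : fixedForms fc M = true) (hex : ∃ a ∈ D.T, a ≠ 1 ∧ Commute (F.img x) a) :
    ∃ u ∈ M, ∃ c ∈ S.X, C.Form c u := by
  obtain ⟨a, ha, ha1, hca⟩ := hex
  obtain ⟨c, hc, rfl⟩ := S.lift ha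
  have hx' := F.mem_C.1 hx
  have hcc := C.conj_mem_X hx hn hc
  have himg : F.img (x * c * x⁻¹) = F.img c := by rw [F.img_conj hx'.1 (S.X_z hc), hca.eq, mul_inv_cancel_right]
  have hact : ∀ v, F.disp (x * c * x⁻¹) v = F.disp c v := fun v => by
    rcases S.lift_unique hc hcc himg.symm with e | e <;> rw [e]
    exact C.form_z_mul hc v
  obtain ⟨k, hk, hf⟩ := C.exists_code hc
  have hr := C.rank_four hc ha1 hf
  have hinv : ∀ v v', JankoFour.B F.ctx (F.act x v) (F.disp c (F.act x v')) = JankoFour.B F.ctx v (F.disp c v') := by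
    intro v v'
    rw [← hact (F.act x v'), F.disp_apply,
      ← act_mul F.ctx ((hx'.1.mul_left (S.X_z hc)).mul_left hx'.1.inv_left) hx'.1, inv_mul_cancel_right,
      act_mul F.ctx hx'.1 (S.X_z hc), ← map_add, B_act F.ctx hx'.1, ← F.disp_apply]
  have hu := allLt_spec hfix hk
  rw [Bool.or_eq_true, Bool.or_eq_true] at hu
  rcases hu with (h1 | h2) | h3
  · exfalso
    rw [Bool.not_eq_true'] at h1
    refine Bool.false_ne_true (h1.symm.trans (List.all_eq_true.2 fun i hi => List.all_eq_true.2 fun l hl => ?_))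
    rw [List.mem_range] at hi hl
    have hi' : 1 <<< i < 64 := by
      obtain rfl | rfl | rfl | rfl | rfl | rfl : i = 0 ∨ i = 1 ∨ i = 2 ∨ i = 3 ∨ i = 4 ∨ i = 5 := by omega
      all_goals decide
    have hl' : 1 <<< l < 64 := by
      obtain rfl | rfl | rfl | rfl | rfl | rfl : l = 0 ∨ l = 1 ∨ l = 2 ∨ l = 3 ∨ l = 4 ∨ l = 5 := by omega
      all_goals decide
    obtain ⟨v, hv⟩ := C.exists_chi hi'
    obtain ⟨v', hv'⟩ := C.exists_chi hl'
    have h := hinv v v'
    rw [hf, hf, B_symm, C.B_cw, B_symm F.ctx v, C.B_cw, hchi, hchi, hv, hv', zb_inj, Nat.and_comm,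
      Nat.and_comm (appF k (1 <<< l))] at h
    exact beq_iff_eq.2 h
  · exfalso
    rw [Bool.not_eq_true', beq_eq_false_iff_ne] at h2
    exact h2 hr
  · obtain ⟨u, hu, hrows⟩ := List.any_eq_true.1 h3
    refine ⟨u, hu, c, hc, fun v => ?_⟩
    rw [hf v]
    refine congrArg C.cw (eq_of_bits (mk6_lt _) (app_lt _ _) fun i hi => ?_)
    rw [appF, testBit_mk6 _ hi, app, testBit_mk6 _ hi, Nat.eq_of_beq_eq_true (allLt_spec hrows hi)]

theorem form_Y {c : G} {u : ℕ} (hu : u < 16) (hc : c ∈ S.X) (h : C.Form c u) :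
    C.Form (C.Y * c * C.Y⁻¹) (yu u) := by
  refine C.form_conj C.Y_z hc C.chi_Y (fun _ hy => C.act_Y_cw hy) (fun y hy => ?_) h
  have := allLt_spec yu_spec hu
  rw [Bool.and_eq_true] at this
  exact Nat.eq_of_beq_eq_true (allLt_spec this.2 hy)

theorem form_d {c : G} {u : ℕ} (hu : u < 16) (hc : c ∈ S.X) (h : C.Form c u) :
    C.Form (C.d * c * C.d⁻¹) (su u) := by
  refine C.form_conj C.d_z hc C.chi_d (fun _ hy => C.act_d_cw hy) (fun y hy => ?_) h
  have := allLt_spec su_spec hu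
  rw [Bool.and_eq_true] at this
  exact Nat.eq_of_beq_eq_true (allLt_spec this.2 hy)

include C in
theorem exists_form {u : ℕ} (hu : u < 16) : ∃ c ∈ S.X, C.Form c u := by
  obtain ⟨u1, hu1, c1, hc1, h1⟩ := C.exists_fixed_form C.Y_mem (fun _ => C.Y_T) C.chi_Y
    fixed_yc C.Y_fix
  obtain ⟨u2, hu2, c2, hc2, h2⟩ := C.exists_fixed_form C.d_mem (fun _ => C.d_T) C.chi_d
    fixed_sh C.d_fix
  have hl1 : u1 < 16 ∧ su u1 < 16 ∧ su (su u1) < 16 ∧
      (∀ u < 4, u = 0 ∨ u = u1 ∨ u = su u1 ∨ u = su (su u1)) := by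
    exact (show ∀ u1 ∈ [1, 2, 3], u1 < 16 ∧ su u1 < 16 ∧ su (su u1) < 16 ∧
      (∀ u < 4, u = 0 ∨ u = u1 ∨ u = su u1 ∨ u = su (su u1)) by decide +kernel) u1 hu1
  have hl2 : u2 < 16 ∧ yu u2 < 16 ∧ yu (yu u2) < 16 ∧
      (∀ u < 4, 4 * u = 0 ∨ 4 * u = u2 ∨ 4 * u = yu u2 ∨ 4 * u = yu (yu u2)) := by
    exact (show ∀ u2 ∈ [4, 8, 12], u2 < 16 ∧ yu u2 < 16 ∧ yu (yu u2) < 16 ∧
      (∀ u < 4, 4 * u = 0 ∨ 4 * u = u2 ∨ 4 * u = yu u2 ∨ 4 * u = yu (yu u2)) by decide +kernel) u2 hu2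
  have hd1 := C.conj_mem_X C.d_mem (fun _ => C.d_T) hc1
  have hY2 := C.conj_mem_X C.Y_mem (fun _ => C.Y_T) hc2
  have low : ∀ w < 4, ∃ c ∈ S.X, C.Form c w := fun w hw => by
    rcases hl1.2.2.2 w hw with rfl | rfl | rfl | rfl
    exacts [⟨1, one_mem _, C.form_one⟩, ⟨c1, hc1, h1⟩, ⟨_, hd1, C.form_d hl1.1 hc1 h1⟩,
      ⟨_, C.conj_mem_X C.d_mem (fun _ => C.d_T) hd1, C.form_d hl1.2.1 hd1 (C.form_d hl1.1 hc1 h1)⟩]
  have high : ∀ w < 4, ∃ c ∈ S.X, C.Form c (4 * w) := fun w hw => by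
    rcases hl2.2.2.2 w hw with e | e | e | e <;> rw [e]
    exacts [⟨1, one_mem _, C.form_one⟩, ⟨c2, hc2, h2⟩, ⟨_, hY2, C.form_Y hl2.1 hc2 h2⟩,
      ⟨_, C.conj_mem_X C.Y_mem (fun _ => C.Y_T) hY2, C.form_Y hl2.2.1 hY2 (C.form_Y hl2.1 hc2 h2)⟩]
  obtain ⟨a, ha, fa⟩ := low (u % 4) (by omega)
  obtain ⟨b, hb, fb⟩ := high (u / 4) (by omega)
  refine ⟨a * b, mul_mem ha hb, ?_⟩
  have e : ∀ u < 16, u % 4 ^^^ 4 * (u / 4) = u := by decide
  rw [← e u hu]
  exact C.form_mul ha hb fa fb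

theorem form_unique {c : G} {u w : ℕ} (hu : u < 16) (hw : w < 16) (h : C.Form c u) (h' : C.Form c w) : u = w := by
  have hc := allLt_spec (allLt_spec formInj_check hu) hw
  rw [Bool.or_eq_true] at hc
  rcases hc with hc | hc
  · exact Nat.eq_of_beq_eq_true hc
  · exfalso
    rw [Bool.not_eq_true'] at hc
    refine Bool.false_ne_true (hc.symm.trans (List.all_eq_true.2 fun i hi => ?_))
    rw [List.mem_range] at hi
    have hlt : 1 <<< i < 64 := by
      obtain rfl | rfl | rfl | rfl | rfl | rfl : i = 0 ∨ i = 1 ∨ i = 2 ∨ i = 3 ∨ i = 4 ∨ i = 5 := by omega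
      all_goals decide
    obtain ⟨v, hv⟩ := C.exists_chi hlt
    have := C.cw_inj (app_lt _ _) (app_lt _ _) ((h v).symm.trans (h' v))
    rw [hv] at this
    rw [this]
    exact Nat.beq_refl _

theorem form_eq {c c' : G} {u : ℕ} (hc : c ∈ S.X) (hc' : c' ∈ S.X) (h : C.Form c u) (h' : C.Form c' u) :
    c' = c ∨ c' = F.z * c := by
  refine S.lift_unique hc hc' ?_
  have hcz := S.X_z hc
  have hz : Commute (c⁻¹ * c') F.z := hcz.inv_left.mul_left (S.X_z hc')
  have hE : c⁻¹ * c' ∈ F.E := F.mem_E_of_act hz fun v => by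
    have e := (h' v).trans (h v).symm
    rw [F.disp_apply, F.disp_apply] at e
    rw [act_mul F.ctx hcz.inv_left (S.X_z hc'), add_right_cancel e, act_inv_act F.ctx hcz]
  have := F.img_mem hE
  rw [F.img_mul _ _ hcz.inv_left (S.X_z hc'), F.img_inv hcz, inv_mul_eq_one] at this
  exact this

include C in
theorem form_of_mem {c : G} (hc : c ∈ S.X) : ∃ u < 16, C.Form c u := by
  haveI := F.finite_A
  have hch : ∀ u : Fin 16, ∃ c ∈ S.X, C.Form c u := fun u => C.exists_form u.2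
  choose g hg hgf using hch
  let φ : Fin 16 → ↥D.T := fun u => ⟨F.img (g u), S.X_img (hg u)⟩
  have hφ : Function.Bijective φ := by
    refine Function.Injective.bijective_of_nat_card_le (fun u w e => ?_) (by rw [D.card_T]; simp)
    have e' : F.img (g u) = F.img (g w) := congrArg Subtype.val e
    refine Fin.ext (C.form_unique u.2 w.2 (hgf u) fun v => ?_)
    rcases S.lift_unique (hg u) (hg w) e' with h | h
    · rw [← h]
      exact hgf w v
    · rw [← C.form_z_mul (hg u), ← h]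
      exact hgf w v
  obtain ⟨u, hu⟩ := hφ.2 ⟨F.img c, S.X_img hc⟩
  refine ⟨u, u.2, fun v => ?_⟩
  rcases S.lift_unique (hg u) hc (congrArg Subtype.val hu) with h | h <;> rw [h]
  · exact hgf u v
  · rw [C.form_z_mul (hg u)]
    exact hgf u v

end Adapted

end Cfsg.Lib.JankoFour
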