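import Cfsg.Agent.Lib.JankoFour.Scalar
import Cfsg.Agent.Lib.Extra.LargeFused

/-!
# A conjugate of `z` other than `z` centralizing `p`
-/

set_option autoImplicit false
set_option linter.style.haveILetI false
set_option linter.unusedSectionVars false

namespace Cfsg.Lib.JankoFour

open Cfsg Cfsg.Lib.Extra Module

namespace Frame

variable {G : Type*} [Group G] [Finite G] {A : Type} [Group A] {I : Subgroup A}

/-- A conjugate of `z` in the intersection, moved out of it by `p`, the translate being linear for the second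
frame. -/
theorem exists_translate (F : Frame G A I) (g : G) (h : Fused F (F.conj g)) :
    ∃ k : G, k ∈ F.E ⊓ (F.conj g).E ∧ (∃ m, m * F.z * m⁻¹ = k) ∧
      F.cls k ∉ F.line (F.cls (F.conj g).z) ∧
      Commute (F.p * k * F.p⁻¹) ((F.conj g).p * F.z * (F.conj g).p⁻¹) := by
  haveI : FiniteDimensional (ZMod 2) F.V := Module.Finite.of_finite
  set F' := F.conj g
  set w := F'.p * F.z * F'.p⁻¹ with hwdef
  have hw : w ∈ F.E ⊓ F'.E := h.scalar_z.1
  have hcomm : ∀ {k}, k ∈ F.E → JankoFour.B F.ctx (F.act F.p (F.cls k)) (F.cls w) = 0 →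
      Commute (F.p * k * F.p⁻¹) w := fun hk hB => by
    rw [← B_cls F.ctx (F.conj_mem F.p_comm hk) hw.1, ← act_cls F.ctx F.p_comm hk]
    exact hB
  by_cases hcase : F.cls w ∈ F.line (F.cls F'.z)
  swap
  · refine ⟨w, hw, ⟨F'.p, rfl⟩, hcase, hcomm hw.1 ?_⟩
    have hq : ∀ v, JankoFour.qf F.ctx (F.act F.p v) = JankoFour.qf F.ctx v := fun v => qf_act F.ctx F.p_comm v
    have e := qf_add F.ctx (F.act F.p (F.cls w)) (F.cls w)
    rw [hq, add_comm (F.act F.p (F.cls w)), ← F.act_p_sq, hq, hq,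
      (qf_cls F.ctx hw.1).2 (h.K_sq hw), zero_add, zero_add] at e
    exact e.symm
  -- the translate comes from the centralizer of a linear element
  obtain ⟨f, hfE, hfz, hfI, hfK⟩ := h.symm.exists_linear
  have hfb : Commute f F'.z := F'.comm_of_mem hfE
  have hfsq : f * f ∈ F.E := by
    rcases F'.ctx.sq f hfE with e | e <;> rw [e]
    exacts [one_mem _, h.mem]
  obtain ⟨c, hc, hc2, hci, hact, hrk⟩ := F.finrank_range_disp' hfz hfI
    (fun h1 => hfK (h.symm.mem_E'_of_img hfE hfz h1)) hfsq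
  have hdisp : F.disp c = F.disp f := LinearMap.ext fun v => by rw [disp_apply, disp_apply, hact]
  have hcne : F.img c ≠ 1 := by rw [hci]; exact fun h1 => hfK (h.symm.mem_E'_of_img hfE hfz h1)
  set R := LinearMap.range (F.disp f)
  have hperpR : F.fix f ≤ F.perp R := by
    rintro u hu _ ⟨x, rfl⟩
    show JankoFour.B F.ctx (F.disp f x) u = 0
    rw [B_symm]
    exact F.B_fix_disp hfz hu x
  have hRp : ∀ v ∈ R, F.act F.p v ∈ R := by
    rintro _ ⟨x, rfl⟩
    exact ⟨F.act F.p x, by rw [disp_apply, disp_apply, F.act_p_comm hfz hfI, map_add]⟩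
  set b := F.cls F'.z
  have hbR : b ∈ R := by
    obtain ⟨k, hk, hkB⟩ : ∃ k ∈ F'.E ⊓ F.E, JankoFour.B F'.ctx (F'.cls f) (F'.cls k) = 1 := by
      by_contra hcon
      push Not at hcon
      refine hfK ((h.symm.cls_K_iff hfE).1 ?_).2
      rw [← h.symm.perp_K, mem_perp]
      rintro _ ⟨k, hk, rfl⟩
      rw [B_symm]
      exact (bit _).resolve_right (hcon k hk)
    refine ⟨F.cls k, ?_⟩
    rw [disp_apply, h.symm.act_K hfE hfz hk, hkB, one_smul, add_comm, ← add_assoc, bar_self, zero_add]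
  set KV := F.clsSub (F.E ⊓ F'.E) inf_le_left
  have hLK : F.line b ≤ KV :=
    Submodule.span_le.2 (by
      rintro _ (rfl | rfl)
      · exact ⟨_, h.b_mem, rfl⟩
      · exact ⟨_, h.scalar_b.1, (act_cls F.ctx F.p_comm h.mem).symm⟩)
  have hLR : F.line b ≤ R := F.line_le hbR hRp
  set Wb := F.perp (Submodule.span (ZMod 2) {b}) with hWb
  have hbne : b ≠ 0 := h.b_cls_ne
  have hkerW : F.fix f ≤ Wb := fun u hu => by
    rw [hWb, mem_perp]
    intro x hx
    obtain ⟨a, rfl⟩ := Submodule.mem_span_singleton.1 hx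
    rw [map_smul, LinearMap.smul_apply, hperpR hu b hbR, smul_zero]
  have himg : Wb.map (F.disp f) ≤ KV ⊓ R := by
    rintro _ ⟨v, hv, rfl⟩
    obtain ⟨e, he, rfl⟩ := cls_surj F.ctx v
    refine ⟨⟨f * e * f⁻¹ * e⁻¹, ⟨F.E.mul_mem (F.conj_mem hfz he) (F.E.inv_mem he), ?_⟩, ?_⟩, LinearMap.mem_range_self _ _⟩
    · have heb : Commute e F'.z := ((B_cls F.ctx h.mem he).1 (hv b (Submodule.mem_span_singleton_self _))).symm
      have := F'.E.mul_mem hfE (F'.conj_mem heb (F'.E.inv_mem hfE))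
      rwa [show f * (e * f⁻¹ * e⁻¹) = f * e * f⁻¹ * e⁻¹ by group] at this
    · rw [disp_apply, cls_mul F.ctx (F.conj_mem hfz he) (inv_mem he), cls_inv F.ctx he, ← act_cls F.ctx hfz he]
  have h3 : finrank (ZMod 2) ↥(Wb.map (F.disp f)) = 3 := by
    have e1 := LinearMap.finrank_range_add_finrank_ker ((F.disp f).domRestrict Wb)
    rw [LinearMap.range_domRestrict, LinearMap.ker_domRestrict, ← Submodule.finrank_map_subtype_eq Wb,
      Submodule.map_comap_subtype, inf_eq_right.2 hkerW, hWb, F.finrank_perp, finrank_span_singleton hbne] at e1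
    have e2 : finrank (ZMod 2) ↥R + finrank (ZMod 2) ↥(F.fix f) = finrank (ZMod 2) F.V :=
      LinearMap.finrank_range_add_finrank_ker (F.disp f)
    rw [hrk, F.finrank_V] at e2
    rw [hWb]
    omega
  obtain ⟨r, ⟨hrK, hrR⟩, hrL⟩ : ∃ r ∈ KV ⊓ R, r ∉ F.line b := by
    refine SetLike.not_le_iff_exists.1 fun hle => ?_
    have := Submodule.finrank_mono (himg.trans hle)
    rw [h3, F.finrank_line hbne] at this
    omega
  obtain ⟨t, htC, htc, ht1, ht2, ht3⟩ := F.exists_move hc hcne hc2 (v := b) (by rw [hdisp]; exact hbR) hbne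
  have ht := F.mem_C.1 htC
  set u := F.act t b with hu
  have hu0 : u ≠ 0 := fun h0 => hbne (act_injective F.ctx ht.1 (h0.trans (map_zero _).symm))
  have huL : u ∉ F.line b := fun h0 => by
    rcases F.mem_line.1 h0 with e | e | e | e
    exacts [hu0 e, ht1 e, ht2 e, ht3 e]
  have huR : u ∈ R := by
    obtain ⟨x, hx⟩ := hbR
    refine ⟨F.act t x, ?_⟩
    rw [hu, ← hx, disp_apply, disp_apply, map_add, ← hact, ← hact, htc]
  have hLu : F.line u ≤ R := F.line_le huR hRp
  have hdisj : F.line b ⊓ F.line u = ⊥ := by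
    refine Submodule.finrank_eq_zero.1 ?_
    obtain ⟨j, hj⟩ := F.even_finrank (F.line b ⊓ F.line u) fun w hw =>
      ⟨F.line_invariant hw.1, F.line_invariant hw.2⟩
    by_contra hne
    have h1 := Submodule.finrank_mono (inf_le_left : F.line b ⊓ F.line u ≤ F.line b)
    rw [F.finrank_line hbne] at h1
    have h2 : F.line b ⊓ F.line u = F.line u := Submodule.eq_of_le_of_finrank_le inf_le_right (by
      rw [F.finrank_line hu0]; omega)
    exact huL (inf_eq_right.1 h2 (F.self_mem_line u))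
  have hsup : F.line b ⊔ F.line u = R := by
    refine Submodule.eq_of_le_of_finrank_le (sup_le hLR hLu) ?_
    have e1 := Submodule.finrank_sup_add_finrank_inf_eq (F.line b) (F.line u)
    rw [hdisj, finrank_bot, add_zero, F.finrank_line hbne, F.finrank_line hu0] at e1
    rw [e1, hrk]
  obtain ⟨l, hl, m, hm, rfl⟩ := Submodule.mem_sup.1 (hsup.symm ▸ hrR : r ∈ F.line b ⊔ F.line u)
  have hmK : m ∈ KV := by
    have := add_mem (hLK hl) hrK
    rwa [← add_assoc, bar_self, zero_add] at this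
  have hmL : m ∉ F.line b := fun hm' => hrL (add_mem hl hm')
  obtain ⟨q, hqz, hqm⟩ : ∃ q, Commute q F.z ∧ F.act q b = m := by
    rcases F.mem_line.1 hm with e | e | e | e
    · exact absurd (e ▸ zero_mem _) hmL
    · exact ⟨t, ht.1, e.symm⟩
    · exact ⟨F.p * t, F.p_comm.mul_left ht.1, by rw [e, act_mul F.ctx F.p_comm ht.1]⟩
    · exact ⟨F.p * (F.p * t), F.p_comm.mul_left (F.p_comm.mul_left ht.1), by
        rw [e, act_mul F.ctx F.p_comm (F.p_comm.mul_left ht.1), act_mul F.ctx F.p_comm ht.1]⟩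
  rw [act_cls F.ctx hqz h.mem] at hqm
  have hkK : q * F'.z * q⁻¹ ∈ F.E ⊓ F'.E := (h.cls_K_iff (F.conj_mem hqz h.mem)).1 (show JankoFour.cls F.ctx _ ∈ KV by rw [hqm]; exact hmK)
  refine ⟨q * F'.z * q⁻¹, hkK, ⟨q * g, ?_⟩, (show JankoFour.cls F.ctx _ ∉ F.line b by rw [hqm]; exact hmL), hcomm hkK.1 ?_⟩
  · show q * g * F.z * (q * g)⁻¹ = q * (g * F.z * g⁻¹) * q⁻¹
    group
  rw [show F.cls (q * F'.z * q⁻¹) = m from hqm]
  have hiso : ∀ a ∈ KV, ∀ a' ∈ KV, JankoFour.B F.ctx a a' = 0 := fun a ha a' ha' => by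
    have : a' ∈ F.perp KV := by rw [h.perp_K]; exact ha'
    exact this a ha
  obtain ⟨x, hx, hxe⟩ : ∃ x ∈ F.line b, F.act F.p x = F.cls w := by
    refine ⟨F.act F.p (F.act F.p (F.cls w)), F.line_invariant (F.line_invariant hcase), F.act_p_three _⟩
  rw [← hxe, B_act F.ctx F.p_comm]
  exact hiso m hmK x (hLK hx)

/-- With no quotient of order two there is a conjugate of `z` other than `z` in `C(z) ∩ C(p)`. -/
theorem exists_conj_C (F : Frame G A I) (hres : Cfsg.pResidual 2 G = ⊤) :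
    ∃ t ∈ F.C, t ≠ F.z ∧ ∃ m, m * F.z * m⁻¹ = t := by
  classical
  haveI := F.facts.normal
  have hidx := F.facts_index
  have hmem : ∀ {x : G}, x ∈ Subgroup.centralizer ({F.z} : Set G) → Commute x F.z := fun hx =>
    Subgroup.mem_centralizer_singleton_iff.1 hx
  let φ : ↥(Subgroup.centralizer ({F.z} : Set G)) →* Multiplicative (ZMod 2) :=
    MonoidHom.mk' (fun x => if F.img x ∈ I then 1 else Multiplicative.ofAdd 1) fun x y => by
      show (if F.img ((x : G) * y) ∈ I then (1 : Multiplicative (ZMod 2)) else Multiplicative.ofAdd 1) = _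
      rw [F.img_mul _ _ (hmem x.2) (hmem y.2), Subgroup.mul_mem_iff_of_index_two hidx]
      by_cases hx : F.img x ∈ I <;> by_cases hy : F.img y ∈ I <;> simp [hx, hy] <;> decide
  have hφ : Function.Surjective φ := by
    obtain ⟨a, ha⟩ := SetLike.exists_not_mem_of_ne_top I (fun e => by rw [e, Subgroup.index_top] at hidx; omega) rfl
    obtain ⟨x, hx, rfl⟩ := F.img_surj a
    intro y
    rcases (show y = 1 ∨ y = Multiplicative.ofAdd 1 by revert y; decide) with rfl | rfl
    · exact ⟨1, map_one φ⟩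
    · exact ⟨⟨x, Subgroup.mem_centralizer_singleton_iff.2 hx.eq⟩, if_neg ha⟩
  obtain ⟨g, hg, hgne⟩ := F.ctx.exists_fused (by rw [F.card_E]; norm_num) hres
    (by rw [Nat.card_eq_fintype_card]; rfl) φ hφ
  set F' := F.conj g with hF'
  have h : Fused F F' := ⟨hgne, hg, F.ctx.mem_symm hg⟩
  obtain ⟨k, hkK, ⟨m, hm⟩, hkL, hkw⟩ := exists_translate F g h
  set x := F.p * k * F.p⁻¹ with hxdef
  have hxE : x ∈ F.E := F.conj_mem F.p_comm hkK.1
  have hclsx : F.cls x = F.act F.p (F.cls k) := (act_cls F.ctx F.p_comm hkK.1).symm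
  have hxK : x ∉ F.E ⊓ F'.E := fun hx => hkL (h.scalar_b.2 k hkK hx)
  have hiso : ∀ a ∈ F.clsSub (F.E ⊓ F'.E) inf_le_left, ∀ a' ∈ F.clsSub (F.E ⊓ F'.E) inf_le_left,
      JankoFour.B F.ctx a a' = 0 := fun a ha a' ha' => by
    have : a' ∈ F.perp (F.clsSub (F.E ⊓ F'.E) inf_le_left) := by rw [h.perp_K]; exact ha'
    exact this a ha
  have hxb : Commute x F'.z := by
    rw [← B_cls F.ctx hxE h.mem]
    show JankoFour.B F.ctx (F.cls x) (F.cls F'.z) = 0
    rw [hclsx, ← F.act_p_three (F.cls F'.z), B_act F.ctx F.p_comm]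
    refine hiso _ ⟨k, hkK, rfl⟩ _ ?_
    show F.act F.p (F.act F.p (F.cls F'.z)) ∈ _
    rw [F.act_p_sq]
    refine add_mem ⟨_, h.b_mem, rfl⟩ ?_
    show F.act F.p (F.cls F'.z) ∈ _
    rw [act_cls F.ctx F.p_comm h.mem]
    exact ⟨_, h.scalar_b.1, rfl⟩
  have hxI : F'.img x ∈ I := (h.linear_iff hxE hxb).2 hkw
  have hx2 : x * x = 1 := by
    rw [hxdef, show F.p * k * F.p⁻¹ * (F.p * k * F.p⁻¹) = F.p * (k * k) * F.p⁻¹ by group, h.K_sq hkK,
      mul_one, mul_inv_cancel]
  -- the translate is not moved by `b` in the second group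
  have hnofix : ∀ f ∈ F'.E, f * x * f⁻¹ ≠ F'.z * x := by
    intro f hf e
    by_cases hfz : Commute f F.z
    · have ek : ∃ ε : ZMod 2, F.act f (F.cls k) = F.cls k + ε • F.cls F'.z := ⟨_, h.symm.act_K hf hfz ⟨hkK.2, hkK.1⟩⟩
      obtain ⟨ε, hε⟩ := ek
      have e1 : F.act f (F.cls x) = F.cls F'.z + F.cls x := by
        rw [act_cls F.ctx hfz hxE, e, cls_mul F.ctx h.mem hxE]
      rw [hclsx] at e1
      have hb := h.b_cls_ne
      by_cases hfI : F.img f ∈ I
      · rw [F.act_p_comm hfz hfI, hε, map_add, map_smul, add_comm (F.cls F'.z)] at e1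
        have e2 := add_left_cancel e1
        rcases bit ε with rfl | rfl
        · rw [zero_smul] at e2; exact hb e2.symm
        · rw [one_smul] at e2; exact hb (F.act_p_eq e2)
      · rw [F.act_p_inv hfz hfI, hε, map_add, map_add, map_smul, map_smul] at e1
        refine hkL ?_
        have e3 : F.cls k = F.cls F'.z + ε • F.act F.p (F.act F.p (F.cls F'.z)) := by
          rw [F.act_p_sq (F.cls k)] at e1
          calc F.cls k = F.cls k + F.act F.p (F.cls k) + ε • F.act F.p (F.act F.p (F.cls F'.z)) +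
                (F.act F.p (F.cls k) + ε • F.act F.p (F.act F.p (F.cls F'.z))) := by
                rw [show F.cls k + F.act F.p (F.cls k) + ε • F.act F.p (F.act F.p (F.cls F'.z)) +
                  (F.act F.p (F.cls k) + ε • F.act F.p (F.act F.p (F.cls F'.z))) = F.cls k +
                  (F.act F.p (F.cls k) + F.act F.p (F.cls k)) + (ε • F.act F.p (F.act F.p (F.cls F'.z)) +
                    ε • F.act F.p (F.act F.p (F.cls F'.z))) by abel, bar_self, bar_self, add_zero, add_zero]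
            _ = F.cls F'.z + F.act F.p (F.cls k) +
                (F.act F.p (F.cls k) + ε • F.act F.p (F.act F.p (F.cls F'.z))) := by rw [e1]
            _ = _ := by
                rw [show F.cls F'.z + F.act F.p (F.cls k) +
                  (F.act F.p (F.cls k) + ε • F.act F.p (F.act F.p (F.cls F'.z))) = F.cls F'.z +
                  (F.act F.p (F.cls k) + F.act F.p (F.cls k)) + ε • F.act F.p (F.act F.p (F.cls F'.z)) by abel,
                  bar_self, add_zero]
        rw [e3]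
        exact add_mem (F.self_mem_line _)
          (Submodule.smul_mem _ _ (F.line_invariant (F.line_invariant (F.self_mem_line _))))
    · have hfz' : f * F.z * f⁻¹ = F'.z * F.z := by
        rcases F'.ctx.comm f hf F.z h.mem' with e1 | e1
        · exact absurd (mul_inv_eq_iff_eq_mul.1 (mul_inv_eq_one.1 e1)) hfz
        · exact mul_inv_eq_iff_eq_mul.1 e1
      obtain ⟨y, hy, hyb⟩ : ∃ y ∈ F.E, y * F'.z * y⁻¹ = F.z * F'.z := by
        by_contra hcon
        push Not at hcon
        rcases F.ctx.cent F'.z (fun a ha => by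
          rcases F.ctx.comm a ha F'.z h.mem with e1 | e1
          · exact (mul_inv_eq_iff_eq_mul.1 (mul_inv_eq_one.1 e1) : Commute a F'.z).symm
          · exact absurd (mul_inv_eq_iff_eq_mul.1 e1) (hcon a ha)) with e1 | e1
        exacts [F'.ctx.ne_one e1, hgne e1]
      have hE : (F.conj f).E = (F.conj (y * g)).E := F.conj_E_eq (by
        rw [hfz', ← (F.ctx.central F'.z h.mem).eq, ← hyb]
        show y * (g * F.z * g⁻¹) * y⁻¹ = y * g * F.z * (y * g)⁻¹
        group)
      have hm1 : F'.z * x ∈ (F.conj f).E := F.mem_conj_E.2 (by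
        rw [← e, show f⁻¹ * (f * x * f⁻¹) * f = x by group]; exact hxE)
      rw [hE, F.mem_conj_E] at hm1
      have hm2 : y⁻¹ * (F'.z * x) * y ∈ F.E ⊓ F'.E := by
        refine ⟨?_, F.mem_conj_E.2 ?_⟩
        · exact F.E.mul_mem (F.E.mul_mem (F.E.inv_mem hy) (F.E.mul_mem h.mem hxE)) hy
        · rwa [show g⁻¹ * (y⁻¹ * (F'.z * x) * y) * g = (y * g)⁻¹ * (F'.z * x) * (y * g) by group]
      refine hxK ((h.cls_K_iff hxE).1 ?_)
      have e2 : F.cls (y⁻¹ * (F'.z * x) * y) = F.cls F'.z + F.cls x := by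
        show JankoFour.cls F.ctx _ = JankoFour.cls F.ctx _ + JankoFour.cls F.ctx _
        rw [cls_mul F.ctx (mul_mem (inv_mem hy) (mul_mem h.mem hxE)) hy,
          cls_mul F.ctx (inv_mem hy) (mul_mem h.mem hxE), cls_mul F.ctx h.mem hxE, cls_inv F.ctx hy,
          add_comm (JankoFour.cls F.ctx y), add_assoc, bar_self, add_zero]
      have hm3 := (h.cls_K_iff hm2.1).2 hm2
      rw [e2] at hm3
      have := add_mem (⟨_, h.b_mem, rfl⟩ : F.cls F'.z ∈ F.clsSub (F.E ⊓ F'.E) inf_le_left) hm3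
      rwa [← add_assoc, bar_self, zero_add] at this
  -- so it is conjugate into `C(p')` inside the second group
  have hxne : F'.img x ≠ 1 := fun h1 => hxK ⟨hxE, h.mem_E'_of_img hxE hxb h1⟩
  obtain ⟨c, hc, hc2, hci, hact, -⟩ := F'.finrank_range_disp' hxb hxI hxne (by rw [hx2]; exact one_mem _)
  have hc' := F'.mem_C.1 hc
  obtain ⟨e, hedef⟩ : ∃ e, e = c⁻¹ * x := ⟨_, rfl⟩
  have hce : x = c * e := by rw [hedef, mul_inv_cancel_left]
  have heE : e ∈ F'.E := hedef ▸ F'.mem_E_of_act (hc'.1.inv_left.mul_left hxb) fun v => by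
    rw [act_mul F'.ctx hc'.1.inv_left hxb, ← hact, act_inv_act F'.ctx hc'.1]
  have hcne : F'.img c ≠ 1 := by rw [hci]; exact hxne
  have hperp : F'.cls e ∈ F'.perp (F'.fix c) := by
    intro u hu
    obtain ⟨y, hy, rfl⟩ := cls_surj F'.ctx u
    have hcy := F'.commute_of_fixed hc hy (F'.mem_ker_disp.1 hu)
    rw [B_symm, B_cls F'.ctx heE hy]
    by_contra hne
    refine hnofix y hy ?_
    have e1 : e * y * e⁻¹ = F'.z * y := by
      rcases F'.ctx.comm e heE y hy with e1 | e1
      · exact absurd (mul_inv_eq_iff_eq_mul.1 (mul_inv_eq_one.1 e1)) hne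
      · exact mul_inv_eq_iff_eq_mul.1 e1
    have e2 : e * y = F'.z * y * e := mul_inv_eq_iff_eq_mul.1 e1
    have e3 : y * e = F'.z * (e * y) := by rw [e2, ← mul_assoc, ← mul_assoc, F'.ctx.sq_z, one_mul]
    rw [hce]
    calc y * (c * e) * y⁻¹ = (y * c) * e * y⁻¹ := by group
      _ = c * (y * e) * y⁻¹ := by rw [← hcy.eq]; group
      _ = (c * F'.z) * e := by rw [e3]; group
      _ = F'.z * (c * e) := by rw [hc'.1.eq, mul_assoc]
  rw [(F'.perp_range_disp hc hcne hc2).2] at hperp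
  obtain ⟨v, hv⟩ := hperp
  obtain ⟨y, hy, rfl⟩ := cls_surj F'.ctx v
  have hyz : Commute y F'.z := F'.comm_of_mem hy
  set e0 := c⁻¹ * y * c * y⁻¹ with he0
  have hcy : c⁻¹ * y * c ∈ F'.E := by
    have := F'.conj_mem hc'.1.inv_left hy
    rwa [inv_inv] at this
  have he0E : e0 ∈ F'.E := mul_mem hcy (inv_mem hy)
  have hclse : F'.cls e = F'.cls e0 := by
    rw [← hv, he0]
    show _ = JankoFour.cls F'.ctx (c⁻¹ * y * c * y⁻¹)
    rw [cls_mul F'.ctx hcy (inv_mem hy), cls_inv F'.ctx hy, disp_apply]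
    congr 1
    have hinv : ∀ v, F'.act c⁻¹ v = F'.act c v := fun v => by
      conv_lhs => rw [← F'.act_z_pow hc2 v, act_mul F'.ctx hc'.1 hc'.1]
      exact act_inv_act F'.ctx hc'.1 _
    rw [← hinv]
    show JankoFour.act F'.ctx c⁻¹ _ = _
    rw [act_cls F'.ctx hc'.1.inv_left hy, inv_inv]
  set q := y * F'.p * y⁻¹ with hqdef
  have hbq : Commute F'.z q := by
    have hy' : y * F'.z * y⁻¹ = F'.z := by rw [hyz.eq, mul_inv_cancel_right]
    have := F'.p_comm.symm.map (MulAut.conj y).toMonoidHom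
    simpa [MulAut.conj_apply, hy', hqdef] using this
  have hxq : Commute x q := by
    have hconj : c * e0 = y * c * y⁻¹ := by rw [he0]; group
    have hyq : Commute (y * c * y⁻¹) q := (hc'.2.map (MulAut.conj y).toMonoidHom :)
    rw [hce]
    rcases (cls_eq_iff F'.ctx heE he0E).1 hclse with e1 | e1 <;> rw [e1]
    · rw [hconj]; exact hyq
    · rw [← mul_assoc, hc'.1.eq, mul_assoc, hconj]
      exact hbq.mul_left hyq
  set g' := y * g with hg'
  have hgz : g' * F.z * g'⁻¹ = F'.z := by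
    calc g' * F.z * g'⁻¹ = y * F'.z * y⁻¹ := by
          show _ = y * (g * F.z * g⁻¹) * y⁻¹
          rw [hg']; group
      _ = F'.z := by rw [hyz.eq, mul_inv_cancel_right]
  have hgp : g' * F.p * g'⁻¹ = q := by
    show _ = y * (g * F.p * g⁻¹) * y⁻¹
    rw [hg']; group
  refine ⟨g'⁻¹ * x * g', F.mem_C.2 ⟨commute_conj.2 (by rw [hgz]; exact hxb),
    commute_conj.2 (by rw [hgp]; exact hxq)⟩, fun e1 => hxK ?_, g'⁻¹ * F.p * m, ?_⟩
  · have : x = F'.z := by rw [← hgz, ← e1]; group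
    rw [this]; exact h.b_mem
  · rw [hxdef, ← hm]; group

end Frame

end Cfsg.Lib.JankoFour
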