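import Cfsg.Agent.Lib.JankoFour.Std

/-!
# Conjugacy of the groups of order `2¹¹` and fusion in the standard one
-/

set_option autoImplicit false
set_option linter.style.haveILetI false
set_option linter.unusedSectionVars false

namespace Cfsg.Lib.JankoFour

open Cfsg Cfsg.Lib.Extra Module

variable {G : Type*} [Group G] [Finite G] {A : Type} [Group A] {I : Subgroup A}

/-- An elementary abelian group of order `2¹¹`. -/
def IsBig (V : Subgroup G) : Prop := (∀ x ∈ V, x * x = 1) ∧ Nat.card ↥V = 2 ^ 11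

theorem isBig_map {V : Subgroup G} (h : IsBig V) (g : G) : IsBig (V.map (MulAut.conj g).toMonoidHom) := by
  refine ⟨?_, (Subgroup.card_map_of_injective (MulAut.conj g).injective).trans h.2⟩
  rintro _ ⟨x, hx, rfl⟩
  rw [← map_mul, h.1 x hx, map_one]

theorem isBig_pGroup {V : Subgroup G} (h : IsBig V) : IsPGroup 2 ↥V := by
  haveI : Fact (Nat.Prime 2) := ⟨Nat.prime_two⟩
  exact IsPGroup.of_card h.2

theorem mem_normalizer_of_map {V : Subgroup G} {n : G} (e : V.map (MulAut.conj n).toMonoidHom = V) :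
    n ∈ Subgroup.normalizer (V : Set G) := by
  refine Subgroup.mem_normalizer_iff.2 fun y => ⟨fun hy => e.le ⟨y, hy, rfl⟩, fun hy => ?_⟩
  obtain ⟨w, hw, hwy⟩ := e.ge hy
  rwa [← (MulAut.conj n).injective hwy]

theorem map_of_mem_normalizer {V : Subgroup G} {n : G} (h : n ∈ Subgroup.normalizer (V : Set G)) :
    V.map (MulAut.conj n).toMonoidHom = V := by
  refine le_antisymm ?_ fun y hy => ⟨n⁻¹ * y * n, ?_, show n * (n⁻¹ * y * n) * n⁻¹ = y by group⟩
  · rintro _ ⟨y, hy, rfl⟩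
    exact (Subgroup.mem_normalizer_iff.1 h y).1 hy
  · refine (Subgroup.mem_normalizer_iff.1 h _).2 ?_
    rwa [show n * (n⁻¹ * y * n) * n⁻¹ = y by group]

namespace Std

variable {F : Frame G A I} {D : HexData A I} (S : Std F D)

include S

theorem isBig : IsBig S.Vb := ⟨fun _ h => S.Vb_sq h, S.card_Vb⟩

theorem two_group_unique {P V V' : Subgroup G} (hP : IsPGroup 2 ↥P) (hV : IsBig V) (hV' : IsBig V') (h : V ≤ P)
    (h' : V' ≤ P) : V = V' := by
  obtain ⟨Q, hQ⟩ := hP.exists_le_sylow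
  obtain ⟨W, -, huniq⟩ := F.existsUnique_eleven S.six S.hres Q
  have key : ∀ U : Subgroup G, IsBig U → U ≤ P → U = W := fun U hU hUP => huniq U ⟨hUP.trans hQ, ⟨⟨⟨fun a b =>
    Subtype.ext (commute_of_sq hU.1 a.2 b.2).eq⟩⟩, fun x hx => by rw [pow_two]; exact hU.1 x hx⟩, hU.2⟩
  rw [key V hV h, key V' hV' h']

/-- Two groups of order `2¹¹` in a subgroup are conjugate in it. -/
theorem conj_in {H V V' : Subgroup G} (hV : IsBig V) (hV' : IsBig V') (h : V ≤ H) (h' : V' ≤ H) :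
    ∃ d ∈ H, V.map (MulAut.conj d).toMonoidHom = V' := by
  haveI : Fact (Nat.Prime 2) := ⟨Nat.prime_two⟩
  obtain ⟨P, hP⟩ := ((isBig_pGroup hV).of_equiv (Subgroup.subgroupOfEquivOfLe h).symm :
    IsPGroup 2 ↥(V.subgroupOf H)).exists_le_sylow
  obtain ⟨Q, hQ⟩ := ((isBig_pGroup hV').of_equiv (Subgroup.subgroupOfEquivOfLe h').symm :
    IsPGroup 2 ↥(V'.subgroupOf H)).exists_le_sylow
  obtain ⟨d, hd⟩ := MulAction.exists_smul_eq (↥H) P Q
  refine ⟨d, d.2, S.two_group_unique (Q.isPGroup'.map H.subtype) (isBig_map hV _) hV' ?_ ?_⟩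
  · rintro _ ⟨x, hx, rfl⟩
    refine ⟨d * ⟨x, h hx⟩ * d⁻¹, ?_, rfl⟩
    rw [← hd]
    exact ⟨⟨x, h hx⟩, hP (Subgroup.mem_subgroupOf.2 hx), rfl⟩
  · exact fun x hx => ⟨⟨x, h' hx⟩, hQ (Subgroup.mem_subgroupOf.2 hx), rfl⟩

/-- All of them are conjugate. -/
theorem conj_big {V : Subgroup G} (hV : IsBig V) : ∃ g : G, V.map (MulAut.conj g).toMonoidHom = S.Vb := by
  obtain ⟨g, -, hg⟩ := S.conj_in hV S.isBig (H := ⊤) le_top le_top
  exact ⟨g, hg⟩

/-- Those centralizing `z` are conjugate in its centralizer. -/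
theorem conj_eleven {V : Subgroup G} (hV : F.IsEleven V) :
    ∃ d, Commute d F.z ∧ V.map (MulAut.conj d).toMonoidHom = S.Vb := by
  obtain ⟨d, hd, he⟩ := S.conj_in ⟨hV.2.1, hV.2.2⟩ S.isBig (H := Subgroup.centralizer ({F.z} : Set G))
    (fun x hx => F.centralizer_z_iff.2 (hV.1 x hx)) (fun x hx => F.centralizer_z_iff.2 (S.Vb_z hx))
  exact ⟨d, F.centralizer_z_iff.1 hd, he⟩

/-- Conjugate elements of the standard group are conjugate in its normalizer. -/
theorem fusion {x y g : G} (hx : x ∈ S.Vb) (hy : y ∈ S.Vb) (hg : g * x * g⁻¹ = y) :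
    ∃ n ∈ Subgroup.normalizer (S.Vb : Set G), n * x * n⁻¹ = y := by
  have hmem : ∀ {u : G}, u ∈ Subgroup.centralizer ({y} : Set G) ↔ Commute u y := fun {u} =>
    Subgroup.mem_centralizer_singleton_iff
  obtain ⟨d, hd, he⟩ := S.conj_in (isBig_map S.isBig g) S.isBig (H := Subgroup.centralizer ({y} : Set G)) (by
    rintro _ ⟨u, hu, rfl⟩
    refine hmem.2 ?_
    rw [← hg]
    exact (S.Vb_comm hu hx).map (MulAut.conj g).toMonoidHom) (fun u hu => hmem.2 (S.Vb_comm hu hy))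
  refine ⟨d * g, mem_normalizer_of_map ?_, ?_⟩
  · rw [map_mul]
    rw [Subgroup.map_map] at he
    exact he
  · rw [show d * g * x * (d * g)⁻¹ = d * (g * x * g⁻¹) * d⁻¹ by group, hg, (hmem.1 hd).eq, mul_inv_cancel_right]

end Std

end Cfsg.Lib.JankoFour
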