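import Cfsg.Agent.Lib.JankoFour.Space

/-!
# The Gauss sum of the squaring form and semiregular groups of order fifteen
-/

set_option autoImplicit false
set_option linter.style.haveILetI false
set_option linter.unusedSectionVars false

namespace Cfsg.Lib.JankoFour

open Cfsg Cfsg.Lib.Extra Module

/-- The sign of a bit. -/
def sg (a : ZMod 2) : ℤ := if a = 0 then 1 else -1

theorem sg_add : ∀ a b : ZMod 2, sg (a + b) = sg a * sg b := by decide

theorem sg_zero : sg 0 = 1 := rfl

/-- A permutation of order fifteen without fixed points in the subgroups of order three and five splits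
a finite set in orbits of length fifteen. -/
theorem fifteen_dvd_sum {α : Type*} [Fintype α] [DecidableEq α] (g : Equiv.Perm α) (f : α → ℤ)
    (hinv : ∀ x, f (g x) = f x) (h15 : g ^ 15 = 1) (h3 : ∀ x, (g ^ 3) x ≠ x) (h5 : ∀ x, (g ^ 5) x ≠ x) :
    (15 : ℤ) ∣ ∑ x, f x := by
  classical
  let S := Subgroup.zpowers g
  letI : Fintype ↥S := Fintype.ofFinite _
  let r := MulAction.orbitRel ↥S α
  letI : DecidableRel r.r := Classical.decRel _
  have hpow : ∀ (k : ℕ) (x : α), f ((g ^ k) x) = f x := by
    intro k
    induction k with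
    | zero => simp
    | succ n ih =>
      intro x
      rw [pow_succ', Equiv.Perm.mul_apply, hinv, ih]
  have hconst : ∀ (s : ↥S) (x : α), f (s • x) = f x := by
    rintro ⟨s, hs⟩ x
    obtain ⟨k, rfl⟩ := (isOfFinOrder_of_finite g).mem_powers_iff_mem_zpowers.2 hs
    exact hpow k x
  rw [← Finset.sum_fiberwise (Finset.univ : Finset α) (fun x => (Quotient.mk r x)) f]
  refine Finset.dvd_sum fun q _ => ?_
  obtain ⟨x, rfl⟩ := Quotient.mk_surjective q
  have hset : (Finset.univ.filter fun y => Quotient.mk r y = Quotient.mk r x) =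
      (Finset.univ.image fun k : Fin 15 => (g ^ (k : ℕ)) x) := by
    ext y
    simp only [Finset.mem_filter, Finset.mem_univ, true_and, Finset.mem_image]
    rw [Quotient.eq]
    constructor
    · rintro ⟨⟨s, hs⟩, rfl⟩
      obtain ⟨k, rfl⟩ := (isOfFinOrder_of_finite g).mem_powers_iff_mem_zpowers.2 hs
      refine ⟨⟨k % 15, Nat.mod_lt _ (by norm_num)⟩, ?_⟩
      show (g ^ (k % 15)) x = (g ^ k) x
      conv_rhs => rw [← Nat.mod_add_div k 15, pow_add, pow_mul, h15, one_pow, mul_one]
    · rintro ⟨k, rfl⟩
      exact ⟨⟨g ^ (k : ℕ), Subgroup.npow_mem_zpowers g k⟩, rfl⟩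
  have hinj : Function.Injective fun k : Fin 15 => (g ^ (k : ℕ)) x := by
    intro a b h
    by_contra hab
    wlog hlt : (a : ℕ) < b generalizing a b
    · exact this h.symm (Ne.symm hab) (by
        have : (a : ℕ) ≠ b := fun e => hab (Fin.ext e)
        omega)
    have hd : (g ^ ((b : ℕ) - a)) x = x := by
      refine (g ^ (a : ℕ)).injective ?_
      rw [← Equiv.Perm.mul_apply, ← pow_add, Nat.add_sub_cancel' hlt.le]
      exact h.symm
    set d := (b : ℕ) - a with hd'
    have hdpos : 0 < d ∧ d < 15 := ⟨by omega, by omega⟩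
    have hmul : ∀ n : ℕ, (g ^ (d * n)) x = x := fun n => by
      induction n with
      | zero => simp
      | succ n ih => rw [Nat.mul_succ, pow_add, Equiv.Perm.mul_apply, hd, ih]
    have key : ∀ m n : ℕ, d * n % 15 = m → (g ^ m) x = x := fun m n hm => by
      have := hmul n
      rwa [← Nat.mod_add_div (d * n) 15, pow_add, pow_mul, h15, one_pow, mul_one, hm] at this
    have hd3 : ∃ n < 15, d * n % 15 = 3 ∨ d * n % 15 = 5 := by
      have : ∀ d < 15, 0 < d → ∃ n < 15, d * n % 15 = 3 ∨ d * n % 15 = 5 := by decide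
      exact this d hdpos.2 hdpos.1
    obtain ⟨n, -, hn | hn⟩ := hd3
    exacts [h3 x (key _ n hn), h5 x (key _ n hn)]
  rw [hset, Finset.sum_image fun a _ b _ h => hinj h]
  simp only [hpow, Finset.sum_const, Finset.card_univ, Fintype.card_fin, nsmul_eq_mul]
  exact dvd_mul_right _ _

namespace Frame

variable {G : Type*} [Group G] [Finite G] {A : Type} [Group A] {I : Subgroup A} (F : Frame G A I)

/-- The square of the Gauss sum. -/
theorem gauss_sq [Fintype F.V] :
    (∑ v : F.V, sg (JankoFour.qf F.ctx v)) ^ 2 = 4096 := by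
  classical
  have hd : ∀ d : F.V, d ≠ 0 → ∑ a : F.V, sg (JankoFour.B F.ctx a d) = 0 := by
    intro d hd0
    obtain ⟨w, hw⟩ : ∃ w, JankoFour.B F.ctx w d = 1 := by
      by_contra h
      push Not at h
      exact hd0 ((B_nondegenerate F.ctx).2 d fun w => (bit _).resolve_right (h w))
    have e : ∑ a : F.V, sg (JankoFour.B F.ctx a d) = ∑ a : F.V, - sg (JankoFour.B F.ctx a d) := by
      conv_lhs => rw [← Equiv.sum_comp (Equiv.addRight w) (fun a => sg (JankoFour.B F.ctx a d))]
      refine Finset.sum_congr rfl fun a _ => ?_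
      show sg (JankoFour.B F.ctx (a + w) d) = _
      rw [map_add, LinearMap.add_apply, sg_add, hw]
      simp [sg]
    rw [Finset.sum_neg_distrib] at e
    omega
  calc (∑ v : F.V, sg (JankoFour.qf F.ctx v)) ^ 2
      = ∑ a : F.V, ∑ d : F.V, sg (JankoFour.qf F.ctx a) * sg (JankoFour.qf F.ctx (a + d)) := by
        rw [pow_two, Finset.sum_mul]
        refine Finset.sum_congr rfl fun a _ => ?_
        rw [Finset.mul_sum, ← Equiv.sum_comp (Equiv.addLeft a)]
        rfl
    _ = ∑ d : F.V, ∑ a : F.V, sg (JankoFour.qf F.ctx d) * sg (JankoFour.B F.ctx a d) := by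
        rw [Finset.sum_comm]
        refine Finset.sum_congr rfl fun d _ => Finset.sum_congr rfl fun a _ => ?_
        rw [← sg_add, qf_add, add_assoc (JankoFour.qf F.ctx a) (JankoFour.qf F.ctx d), ← add_assoc,
          bit_self, zero_add, sg_add]
    _ = ∑ d : F.V, if d = 0 then (4096 : ℤ) else 0 := by
        refine Finset.sum_congr rfl fun d _ => ?_
        rw [← Finset.mul_sum]
        by_cases h : d = 0
        · subst h
          rw [if_pos rfl, qf_zero, sg_zero, one_mul]
          simp only [map_zero, sg_zero, Finset.sum_const, Finset.card_univ, nsmul_eq_mul, mul_one]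
          rw [← Nat.card_eq_fintype_card, F.card_V]
          norm_num
        · rw [if_neg h, hd d h, mul_zero]
    _ = 4096 := by simp

end Frame

end Cfsg.Lib.JankoFour
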