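import Cfsg.Agent.Lib.JankoFour.AutM22.Sixteen

/-!
# The normalizer of the hexad group: what is used for the large elementary abelian subgroup
-/

set_option autoImplicit false

namespace Cfsg.Lib.JankoFour

/-- `x` or `1`. -/
def pickB {A : Type*} [One A] (b : Bool) (x : A) : A := if b then x else 1

/-- A hexad group with elements of its normalizer in `A`. -/
structure HexData (A : Type) [Group A] (I : Subgroup A) where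
  /-- The hexad group. -/
  T : Subgroup A
  /-- A group of order nine normalizing it. -/
  R : Subgroup A
  /-- An element moving it. -/
  g : A
  /-- An element of order five. -/
  five : A
  /-- Outer involutions normalizing `T` and its translate. -/
  s : Fin 4 → A
  T_le : T ≤ I
  R_le : R ≤ I
  card_T : Nat.card ↥T = 16
  T_sq : ∀ a ∈ T, a * a = 1
  card_R : Nat.card ↥R = 9
  R_T : ∀ r ∈ R, ∀ a ∈ T, r * a * r⁻¹ ∈ T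
  five_mem : five ∈ I
  five_ord : orderOf five = 5
  five_T : ∀ a ∈ T, five * a * five⁻¹ ∈ T
  trans : ∀ a ∈ T, a ≠ 1 → ∀ b ∈ T, b ≠ 1 → ∃ h ∈ I, (∀ t ∈ T, h * t * h⁻¹ ∈ T) ∧ h * a * h⁻¹ = b
  g_mem : g ∈ I
  R_conj : ∀ r ∈ R, ∀ a ∈ T, g⁻¹ * (r * (g * a * g⁻¹) * r⁻¹) * g ∈ T
  meet : ∀ a ∈ T, g * a * g⁻¹ ∈ T → a = 1
  s_out : ∀ i, s i ∉ I
  s_sq : ∀ i, s i * s i = 1
  s_T : ∀ i, ∀ a ∈ T, s i * a * (s i)⁻¹ ∈ T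
  s_conj_T : ∀ i, ∀ a ∈ T, g⁻¹ * (s i * (g * a * g⁻¹) * (s i)⁻¹) * g ∈ T
  s_conj : ∀ i, ∃ h, h * s 0 * h⁻¹ = s i
  s_coset : ∀ a ∈ T, s 0 * a * (s 0 * a) = 1 → ∃ b ∈ T, b * s 0 * b⁻¹ = s 0 * a
  comm12 : Commute (s 1) (s 2)
  comm3 : ∀ i, Commute (s 3) (s i)
  comm_conj : Commute (s 0) (s 1 * s 2 * s 0 * (s 1 * s 2)⁻¹)
  R_fix : ∃ y₁ ∈ R, ∃ y₂ ∈ R, y₁ ≠ 1 ∧ y₂ ≠ 1 ∧ (∀ n : ℕ, y₂ ≠ y₁ ^ n) ∧
    (∃ u ∈ T, u ≠ 1 ∧ Commute y₁ u) ∧ ∃ u ∈ T, u ≠ 1 ∧ Commute y₂ u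
  cent_gen : ∃ t ∈ I, orderOf t = 2 ∧ ∃ Q : Subgroup A, Q ≤ I ∧ Nat.card ↥Q = 128 ∧
    (∀ a ∈ Q, Commute t a) ∧ Q ≤ Subgroup.closure {a | a ∈ Q ∧ a * a = 1}
  s_meet : ∀ i j k l : Bool, pickB i (s 0) * pickB j (s 1 * s 2 * s 0 * (s 1 * s 2)⁻¹) * pickB k (s 3) *
    pickB l (s 1 * s 2) ∈ T → i = false ∧ j = false ∧ k = false ∧ l = false

end Cfsg.Lib.JankoFour
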