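import Cfsg.Agent.Lib.JankoFour.SylowThree
import Cfsg.Agent.Lib.JankoFour.AutM22.Sixteen

/-!
# The lift of a hexad group and its fixed space

An elementary abelian subgroup of order sixteen of `I` normalized by a group of order nine lifts to
involutions of `C` with an isotropic six-dimensional fixed space on `E/⟨z⟩`.
-/

set_option autoImplicit false
set_option linter.style.haveILetI false
set_option linter.unusedSectionVars false

namespace Cfsg.Lib.JankoFour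

open Cfsg Cfsg.Lib.Extra Module

namespace Frame

variable {G : Type*} [Group G] [Finite G] {A : Type} [Group A] {I : Subgroup A} (F : Frame G A I)

theorem p_pow_sq {i : ℕ} (h : F.p ^ i * F.p ^ i = 1 ∨ F.p ^ i * F.p ^ i = F.z) : F.p ^ i = 1 := by
  rw [← pow_add] at h
  rcases h with h | h
  · refine F.p_pow_eq_one.2 ?_
    have := F.p_pow_eq_one.1 h
    omega
  · exact absurd h.symm (F.z_ne_p_pow _)

/-- A kernel element of `C` with square in `⟨z⟩` lies in `⟨z⟩`. -/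
theorem ker_C_sq {k : G} (hk : k ∈ F.C) (h : F.img k = 1) (h2 : k * k = 1 ∨ k * k = F.z) :
    k = 1 ∨ k = F.z := by
  obtain ⟨i, e | e⟩ := F.ker_C hk h <;> subst e
  · exact Or.inl (F.p_pow_sq h2)
  · refine Or.inr ?_
    have hc : Commute F.z (F.p ^ i) := F.p_comm.symm.pow_right i
    rw [show F.z * F.p ^ i * (F.z * F.p ^ i) = F.z * F.z * (F.p ^ i * F.p ^ i) by
      rw [mul_assoc, ← mul_assoc (F.p ^ i), ← hc.eq]; group, F.ctx.sq_z, one_mul] at h2
    rw [F.p_pow_sq h2, mul_one]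

/-- With no quotient of order two the involutions of `I` lift to involutions of `C`. -/
theorem sq_one (hres : Cfsg.pResidual 2 G = ⊤) {c : G} (hc : c ∈ F.C) (h2 : c * c = 1 ∨ c * c = F.z) :
    c * c = 1 := by
  have hc' := F.mem_C.1 hc
  by_cases hi : F.img c = 1
  · rcases F.ker_C_sq hc hi h2 with e | e <;> rw [e]
    exacts [one_mul _, F.ctx.sq_z]
  obtain ⟨t, ht, htne, m, hm⟩ := F.exists_conj_C hres
  have ht' := F.mem_C.1 ht
  have ht2 : t * t = 1 := by
    rw [← hm, show m * F.z * m⁻¹ * (m * F.z * m⁻¹) = m * (F.z * F.z) * m⁻¹ by group, F.ctx.sq_z]; group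
  have hti : F.img t ≠ 1 := fun h => by
    rcases F.ker_C_sq ht h (Or.inl ht2) with e | e
    · rw [e, conj_eq_one_iff] at hm
      exact F.ctx.ne_one hm
    · exact htne e
  have hor : ∀ {x : G}, Commute x F.z → F.img x ≠ 1 → (x * x = 1 ∨ x * x = F.z) → orderOf (F.img x) = 2 :=
    fun {x} hx hne hx2 => by
      refine orderOf_eq_prime ?_ hne
      rw [pow_two, ← F.img_mul _ _ hx hx]
      rcases hx2 with e | e <;> rw [e]
      exacts [F.img_one, F.img_mem F.ctx.mem]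
  obtain ⟨g, hg, hgt⟩ := F.facts.invol_conj _ _ (F.mem_I_iff.2 ⟨t, ht, rfl⟩) (F.mem_I_iff.2 ⟨c, hc, rfl⟩)
    (hor ht'.1 hti (Or.inl ht2)) (hor hc'.1 hi h2)
  obtain ⟨d, hd, rfl⟩ := F.mem_I_iff.1 hg
  have hd' := F.mem_C.1 hd
  set c1 := d * t * d⁻¹ with hc1
  have hc1C : c1 ∈ F.C := mul_mem (mul_mem hd ht) (inv_mem hd)
  have hc1sq : c1 * c1 = 1 := by
    rw [hc1, show d * t * d⁻¹ * (d * t * d⁻¹) = d * (t * t) * d⁻¹ by group, ht2]; group
  set k := c1⁻¹ * c with hk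
  have hkC : k ∈ F.C := mul_mem (inv_mem hc1C) hc
  have hki : F.img k = 1 := by
    rw [hk, F.img_mul _ _ (F.mem_C.1 hc1C).1.inv_left hc'.1, F.img_inv (F.mem_C.1 hc1C).1, hc1,
      F.img_conj hd'.1 ht'.1, hgt, inv_mul_cancel]
  have e : c * c = k * k := by
    have hcomm := F.ker_C_comm hkC hki hc1C
    rw [show c = c1 * k by rw [hk, mul_inv_cancel_left]]
    calc c1 * k * (c1 * k) = c1 * (k * c1) * k := by group
      _ = c1 * c1 * (k * k) := by rw [hcomm.eq]; group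
      _ = k * k := by rw [hc1sq, one_mul]
  rw [e] at h2 ⊢
  rcases F.ker_C_sq hkC hki h2 with e' | e' <;> rw [e']
  exacts [one_mul _, F.ctx.sq_z]

/-- The involutions over an elementary abelian subgroup form a subgroup. -/
theorem exists_hat (hres : Cfsg.pResidual 2 G = ⊤) {T : Subgroup A} (h2 : ∀ a ∈ T, a * a = 1) :
    ∃ X : Subgroup G, ∀ c, c ∈ X ↔ c ∈ F.C ∧ F.img c ∈ T ∧ c * c = 1 := by
  refine ⟨{ carrier := {c | c ∈ F.C ∧ F.img c ∈ T ∧ c * c = 1}
            one_mem' := ⟨one_mem _, by rw [F.img_one]; exact one_mem _, one_mul _⟩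
            mul_mem' := ?_
            inv_mem' := ?_ }, fun c => Iff.rfl⟩
  · rintro c d ⟨hc, hcT, hc2⟩ ⟨hd, hdT, hd2⟩
    have hcz := (F.mem_C.1 hc).1
    have hdz := (F.mem_C.1 hd).1
    have hi : F.img (c * d) = F.img c * F.img d := F.img_mul _ _ hcz hdz
    have hT : F.img (c * d) ∈ T := hi ▸ T.mul_mem hcT hdT
    have hcd : c * d ∈ F.C := F.C.mul_mem hc hd
    refine ⟨hcd, hT, F.sq_one hres hcd ?_⟩
    set k := c * d * (c * d) with hk
    have hkC : k ∈ F.C := F.C.mul_mem hcd hcd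
    have hki : F.img k = 1 := by rw [hk, F.img_mul _ _ (hcz.mul_left hdz) (hcz.mul_left hdz), h2 _ hT]
    have hcomm := F.ker_C_comm hkC hki hc
    refine F.ker_C_sq hkC hki (Or.inl ?_)
    have einv : k⁻¹ = d * c * (d * c) := by
      rw [hk]
      simp only [mul_inv_rev, inv_eq_of_mul_eq_one_right hc2, inv_eq_of_mul_eq_one_right hd2]
    have e2 : c * k * c = d * c * (d * c) := by
      calc c * k * c = c * c * d * c * d * c := by rw [hk]; group
        _ = d * c * (d * c) := by rw [hc2]; group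
    rw [← hcomm.eq, mul_assoc, hc2, mul_one] at e2
    calc k * k = k * k⁻¹ := by rw [einv, ← e2]
      _ = 1 := mul_inv_cancel k
  · rintro c ⟨hc, hcT, hc2⟩
    rw [inv_eq_of_mul_eq_one_right hc2]
    exact ⟨hc, hcT, hc2⟩

/-- Commuting involutions fix a nonzero vector of an invariant nonzero subspace. -/
theorem exists_fixed {X : Subgroup G} (hX : ∀ c ∈ X, Commute c F.z) (h2 : ∀ c ∈ X, c * c = 1)
    {U : Submodule (ZMod 2) F.V} (hU : U ≠ ⊥) (hinv : ∀ c ∈ X, ∀ u ∈ U, F.act c u ∈ U) :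
    ∃ v ∈ U, v ≠ 0 ∧ ∀ c ∈ X, F.act c v = v := by
  classical
  haveI : Fintype ↥X := Fintype.ofFinite _
  have key : ∀ s : Finset ↥X, ∃ v ∈ U, v ≠ 0 ∧ ∀ c ∈ s, F.act (c : G) v = v := by
    intro s
    induction s using Finset.induction_on with
    | empty =>
      obtain ⟨v, hv, hv0⟩ := (Submodule.ne_bot_iff U).1 hU
      exact ⟨v, hv, hv0, fun c hc => absurd hc (Finset.notMem_empty c)⟩
    | insert c s _ ih =>
      obtain ⟨v, hv, hv0, hfix⟩ := ih
      by_cases hcv : F.act (c : G) v = v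
      · refine ⟨v, hv, hv0, fun d hd => ?_⟩
        rcases Finset.mem_insert.1 hd with rfl | hd
        exacts [hcv, hfix d hd]
      · refine ⟨F.act (c : G) v + v, add_mem (hinv c c.2 v hv) hv,
          fun e => hcv ((add_eq_zero_iff_eq' F.ctx).1 e), fun d hd => ?_⟩
        have hcz := hX c c.2
        rcases Finset.mem_insert.1 hd with rfl | hd
        · rw [map_add, ← act_mul F.ctx hcz hcz, h2 _ d.2, act_one, add_comm]
        · have hdz := hX d d.2
          have hcd : (d : G) * c = c * d := by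
            rw [← inv_eq_of_mul_eq_one_right (h2 _ (X.mul_mem d.2 c.2)), mul_inv_rev,
              inv_eq_of_mul_eq_one_right (h2 _ d.2), inv_eq_of_mul_eq_one_right (h2 _ c.2)]
          rw [map_add, ← act_mul F.ctx hdz hcz, hcd, act_mul F.ctx hcz hdz, hfix d hd]
  obtain ⟨v, hv, hv0, hfix⟩ := key Finset.univ
  exact ⟨v, hv, hv0, fun c hc => hfix ⟨c, hc⟩ (Finset.mem_univ _)⟩

/-- An invariant subspace on which a shift cycles the three eigenspaces has dimension divisible by six. -/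
theorem six_dvd {X d : G} (hX : X ∈ F.C) (h3 : X ^ 3 = 1) (hd : d ∈ F.C) (hdX : d * X * d⁻¹ = X * F.p)
    {U : Submodule (ZMod 2) F.V} (hUp : ∀ u ∈ U, F.act F.p u ∈ U) (hUX : ∀ u ∈ U, F.act X u ∈ U)
    (hUd : ∀ u ∈ U, F.act d u ∈ U) : 6 ∣ finrank (ZMod 2) ↥U := by
  haveI : FiniteDimensional (ZMod 2) F.V := Module.Finite.of_finite
  have hX' := F.mem_C.1 hX
  have hd' := F.mem_C.1 hd
  set Y : Fin 3 → G := ![X, X * F.p, X * F.p * F.p]
  have hYC : ∀ i, Y i ∈ F.C := by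
    intro i; fin_cases i
    exacts [hX, mul_mem hX F.p_mem_C, mul_mem (mul_mem hX F.p_mem_C) F.p_mem_C]
  have hY3 : ∀ i, Y i ^ 3 = 1 := by
    intro i; fin_cases i
    · exact h3
    · show (X * F.p) ^ 3 = 1
      simpa using F.mul_p_cube hX h3 1
    · show (X * F.p * F.p) ^ 3 = 1
      simpa [pow_two, mul_assoc] using F.mul_p_cube hX h3 2
  have hYU : ∀ i, ∀ u ∈ U, F.act (Y i) u ∈ U := by
    intro i u hu; fin_cases i
    · exact hUX u hu
    · show F.act (X * F.p) u ∈ U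
      rw [act_mul F.ctx hX'.1 F.p_comm]; exact hUX _ (hUp u hu)
    · show F.act (X * F.p * F.p) u ∈ U
      rw [act_mul F.ctx (hX'.1.mul_left F.p_comm) F.p_comm, act_mul F.ctx hX'.1 F.p_comm]
      exact hUX _ (hUp _ (hUp u hu))
  set W : Fin 3 → Submodule (ZMod 2) F.V := fun i => F.fix (Y i) ⊓ U
  have hproj : ∀ i, ∀ u ∈ U, F.proj (Y i) u ∈ W i := fun i u hu =>
    ⟨F.proj_mem (F.mem_C.1 (hYC i)).1 (hY3 i) u, by
      rw [proj_apply]; exact add_mem (add_mem hu (hYU i _ hu)) (hYU i _ (hYU i _ hu))⟩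
  have hsup : W 0 ⊔ W 1 ⊔ W 2 = U := by
    refine le_antisymm (sup_le (sup_le inf_le_right inf_le_right) inf_le_right) fun u hu => ?_
    rw [← F.proj_sum hX u]
    exact Submodule.add_mem _ (Submodule.add_mem _
      (Submodule.mem_sup_left (Submodule.mem_sup_left (hproj 0 u hu)))
      (Submodule.mem_sup_left (Submodule.mem_sup_right (hproj 1 u hu)))) (Submodule.mem_sup_right (hproj 2 u hu))
  have d01 : W 0 ⊓ W 1 = ⊥ := (Submodule.eq_bot_iff _).2 fun v hv => F.fix_inter hX hv.1.1 hv.2.1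
  have d2 : (W 0 ⊔ W 1) ⊓ W 2 = ⊥ := by
    refine (Submodule.eq_bot_iff _).2 fun v hv => ?_
    obtain ⟨a, ha, b, hb, rfl⟩ := Submodule.mem_sup.1 hv.1
    have hXa : F.act X a = a := F.mem_ker_disp.1 ha.1
    have hXb : F.act X b = F.act F.p (F.act F.p b) := F.fix_mul_p hX hb.1
    have h := F.fix_mul_pp hX hv.2.1
    rw [map_add, map_add, hXa, hXb, F.act_p_sq] at h
    have hb' : b = a + F.act F.p a := by
      have h0 := (add_eq_zero_iff_eq' F.ctx).2 h
      refine ((add_eq_zero_iff_eq' F.ctx).1 ?_).symm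
      calc a + F.act F.p a + b = a + (b + F.act F.p b) + (F.act F.p a + F.act F.p b) := by
            rw [show a + (b + F.act F.p b) + (F.act F.p a + F.act F.p b) =
              a + F.act F.p a + b + (F.act F.p b + F.act F.p b) by abel, bar_self, add_zero]
        _ = 0 := h0
    have hpa : F.act F.p a ∈ F.fix X := F.mem_ker_disp.2 (by
      rw [← act_mul F.ctx hX'.1 F.p_comm, hX'.2.eq, act_mul F.ctx F.p_comm hX'.1, hXa])
    have hb0 : b = 0 := F.fix_inter hX (by rw [hb']; exact add_mem ha.1 hpa) hb.1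
    have ha0 : a = 0 := by
      refine F.act_p_eq ?_
      rw [hb0] at hb'
      exact ((add_eq_zero_iff_eq' F.ctx).1 hb'.symm).symm
    rw [ha0, hb0, add_zero]
  have e01 := Submodule.finrank_sup_add_finrank_inf_eq (W 0) (W 1)
  have e2 := Submodule.finrank_sup_add_finrank_inf_eq (W 0 ⊔ W 1) (W 2)
  rw [d01, finrank_bot, add_zero] at e01
  rw [d2, finrank_bot, add_zero, hsup] at e2
  have hle : ∀ i j, d * Y i * d⁻¹ = Y j → finrank (ZMod 2) ↥(W i) ≤ finrank (ZMod 2) ↥(W j) := by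
    intro i j hij
    rw [(Submodule.equivMapOfInjective (F.act d) (act_injective F.ctx hd'.1) (W i)).finrank_eq]
    refine Submodule.finrank_mono ?_
    rintro _ ⟨v, hv, rfl⟩
    refine ⟨F.mem_ker_disp.2 ?_, hUd v hv.2⟩
    have hYz := (F.mem_C.1 (hYC i)).1
    rw [← hij, ← act_mul F.ctx ((hd'.1.mul_left hYz).mul_left hd'.1.inv_left) hd'.1, inv_mul_cancel_right,
      act_mul F.ctx hd'.1 hYz, F.mem_ker_disp.1 hv.1]
  have hdp : d * F.p * d⁻¹ = F.p := by rw [hd'.2.eq, mul_inv_cancel_right]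
  have l0 := hle 0 1 hdX
  have l1 := hle 1 2 (show d * (X * F.p) * d⁻¹ = X * F.p * F.p by
    rw [show d * (X * F.p) * d⁻¹ = d * X * d⁻¹ * (d * F.p * d⁻¹) by group, hdX, hdp])
  have l2 := hle 2 0 (show d * (X * F.p * F.p) * d⁻¹ = X by
    rw [show d * (X * F.p * F.p) * d⁻¹ = d * X * d⁻¹ * (d * F.p * d⁻¹) * (d * F.p * d⁻¹) by group, hdX, hdp,
      mul_assoc, mul_assoc, show F.p * (F.p * F.p) = 1 by rw [← pow_two, ← pow_succ', F.p_cube], mul_one])
  obtain ⟨k, hk⟩ := F.even_finrank (W 0) fun w hw =>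
    ⟨F.mem_ker_disp.2 (by
      have h0 := F.mem_C.1 (hYC 0)
      rw [← act_mul F.ctx h0.1 F.p_comm, h0.2.eq, act_mul F.ctx F.p_comm h0.1, F.mem_ker_disp.1 hw.1]),
      hUp w hw.2⟩
  exact ⟨k, by omega⟩

/-- A lift of a given hexad group with its fixed space and a Sylow 3-subgroup over its group of order nine. -/
theorem hexad_of (hres : Cfsg.pResidual 2 G = ⊤) {T R : Subgroup A} (hTI : T ≤ I) (hRI : R ≤ I)
    (hT : Nat.card ↥T = 16) (hT2 : ∀ a ∈ T, a * a = 1) (hR : Nat.card ↥R = 9)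
    (hRT : ∀ r ∈ R, ∀ a ∈ T, r * a * r⁻¹ ∈ T) :
    ∃ (X : Subgroup G) (W : Submodule (ZMod 2) F.V) (R' : Sylow 3 ↥F.C),
      (∀ r ∈ R', F.img (r : G) ∈ R) ∧ (∀ c, c ∈ X ↔ c ∈ F.C ∧ F.img c ∈ T ∧ c * c = 1) ∧
      finrank (ZMod 2) ↥W = 6 ∧ F.perp W = W ∧ (∀ w ∈ W, JankoFour.qf F.ctx w = 0) ∧
      ∀ v, v ∈ W ↔ ∀ c ∈ X, F.act c v = v := by
  classical
  haveI : FiniteDimensional (ZMod 2) F.V := Module.Finite.of_finite
  haveI : Fact (Nat.Prime 3) := ⟨Nat.prime_three⟩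
  haveI := F.finite_A
  obtain ⟨X, hX⟩ := F.exists_hat hres hT2
  have hXz : ∀ c ∈ X, Commute c F.z := fun c hc => (F.mem_C.1 ((hX c).1 hc).1).1
  have hXp : ∀ c ∈ X, Commute c F.p := fun c hc => (F.mem_C.1 ((hX c).1 hc).1).2
  have hX2 : ∀ c ∈ X, c * c = 1 := fun c hc => ((hX c).1 hc).2.2
  set W : Submodule (ZMod 2) F.V := ⨅ c : ↥X, F.fix (c : G)
  have hW : ∀ v, v ∈ W ↔ ∀ c ∈ X, F.act c v = v := fun v => by
    simp only [W, Submodule.mem_iInf, Subtype.forall]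
    exact ⟨fun h c hc => F.mem_ker_disp.1 (h c hc), fun h c hc => F.mem_ker_disp.2 (h c hc)⟩
  -- a Sylow subgroup over `R`
  let P : Subgroup ↥F.C := R.comap F.imgC
  have hP : Nat.card ↥P = 54 := by
    have h := (F.imgC.domRestrict P).ker.index_mul_card
    rw [Subgroup.index_ker, MonoidHom.domRestrict_range, MonoidHom.ker_domRestrict,
      Subgroup.map_comap_eq_self (show R ≤ F.imgC.range by rw [F.imgC_range]; exact hRI), hR,
      Nat.card_congr (Subgroup.subgroupOfEquivOfLe (show F.imgC.ker ≤ P from fun k hk => by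
        show F.imgC k ∈ R
        rw [MonoidHom.mem_ker.1 hk]; exact one_mem _)).toEquiv, F.card_ker_imgC] at h
    exact h.symm
  obtain ⟨Q, hQ⟩ := Sylow.exists_subgroup_card_pow_prime 3 (G := ↥P) (n := 3) (by rw [hP]; norm_num)
  obtain ⟨R0⟩ := (inferInstance : Nonempty (Sylow 3 ↥F.C))
  let R' : Sylow 3 ↥F.C := Sylow.ofCard (Q.map P.subtype) (by
    rw [Subgroup.card_map_of_injective P.subtype_injective, hQ, ← Sylow.card_eq_multiplicity R0]
    exact (F.card_sylow R0).symm)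
  have hR' : ∀ r ∈ R', F.img (r : G) ∈ R := by
    rintro r ⟨q, -, rfl⟩; exact q.2
  have hrX : ∀ r : ↥F.C, r ∈ R' → ∀ c ∈ X, (r : G) * c * (r : G)⁻¹ ∈ X := by
    intro r hr c hc
    obtain ⟨hcC, hcT, hc2⟩ := (hX c).1 hc
    refine (hX _).2 ⟨F.C.mul_mem (F.C.mul_mem r.2 hcC) (F.C.inv_mem r.2), ?_, ?_⟩
    · rw [F.img_conj (F.mem_C.1 r.2).1 (F.mem_C.1 hcC).1]
      exact hRT _ (hR' r hr) _ hcT
    · rw [show (r : G) * c * (r : G)⁻¹ * ((r : G) * c * (r : G)⁻¹) = (r : G) * (c * c) * (r : G)⁻¹ by group, hc2]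
      group
  -- invariance of the fixed space
  have hrW : ∀ r : ↥F.C, r ∈ R' → ∀ w ∈ W, F.act (r : G) w ∈ W := by
    intro r hr w hw
    rw [hW] at hw ⊢
    intro c hc
    have hrz := (F.mem_C.1 r.2).1
    have h1 := hrX r⁻¹ (R'.inv_mem hr) c hc
    simp only [Subgroup.coe_inv, inv_inv] at h1
    rw [← act_mul F.ctx (hXz c hc) hrz,
      show c * (r : G) = (r : G) * ((r : G)⁻¹ * c * r) by group, act_mul F.ctx hrz (hXz _ h1), hw _ h1]
  have hpW : ∀ w ∈ W, F.act F.p w ∈ W := by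
    intro w hw
    rw [hW] at hw ⊢
    intro c hc
    rw [← act_mul F.ctx (hXz c hc) F.p_comm, (hXp c hc).eq, act_mul F.ctx F.p_comm (hXz c hc), hw c hc]
  -- a shift inside the Sylow subgroup
  obtain ⟨Y, hY, hYne⟩ : ∃ Y ∈ R', F.img (Y : G) ≠ 1 := by
    by_contra hcon
    push Not at hcon
    have h9 := F.card_sylow_map R'
    have hbot : (R' : Subgroup ↥F.C).map F.imgC = ⊥ := by
      refine (Subgroup.eq_bot_iff_forall _).2 ?_
      rintro _ ⟨r, hr, rfl⟩
      exact hcon r hr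
    rw [hbot, Subgroup.card_bot] at h9
    omega
  have hY3 := F.sylow_cube R' hY
  obtain ⟨d, hd, hdY⟩ : ∃ d ∈ R', (d : G) * Y * (d : G)⁻¹ = Y * F.p := by
    obtain ⟨r, hr, hrY⟩ := F.exists_not_commute R' hY hYne
    have hab := (F.facts.sylow_three _ (F.card_sylow_map R')).1 (F.imgC r) ⟨r, hr, rfl⟩ (F.imgC Y) ⟨Y, hY, rfl⟩
    have hr' := F.mem_C.1 r.2
    have hY' := F.mem_C.1 Y.2
    set k := (r : G) * Y * (r : G)⁻¹ * (Y : G)⁻¹ with hk
    have hkC : k ∈ F.C := mul_mem (mul_mem (mul_mem r.2 Y.2) (inv_mem r.2)) (inv_mem Y.2)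
    have hki : F.img k = 1 := by
      rw [hk, F.img_mul _ _ ((hr'.1.mul_left hY'.1).mul_left hr'.1.inv_left) hY'.1.inv_left,
        F.img_conj hr'.1 hY'.1, F.img_inv hY'.1]
      have e : F.img r * F.img Y = F.img Y * F.img r := hab.eq
      rw [e, mul_inv_cancel_right, mul_inv_cancel]
    have e1 : (r : G) * Y * (r : G)⁻¹ = Y * k := by
      rw [← (F.ker_C_comm hkC hki Y.2).eq, hk, inv_mul_cancel_right]
    obtain ⟨i, hi⟩ := F.ker_C_cube hkC hki (by
      have h := congrArg (· ^ 3) e1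
      simp only [conj_pow, hY3, mul_one, mul_inv_cancel, (F.ker_C_comm hkC hki Y.2).symm.mul_pow, one_mul] at h
      exact h.symm)
    have hmod : F.p ^ i = F.p ^ (i % 3) := by rw [← F.p_ord, pow_mod_orderOf]
    rw [hi, hmod] at e1
    rcases (show i % 3 = 0 ∨ i % 3 = 1 ∨ i % 3 = 2 by omega) with e | e | e <;> rw [e] at e1
    · rw [pow_zero, mul_one] at e1
      exact absurd (Subtype.ext (mul_inv_eq_iff_eq_mul.1 e1)) hrY
    · exact ⟨r, hr, by rw [e1, pow_one]⟩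
    · refine ⟨r⁻¹, R'.inv_mem hr, ?_⟩
      simp only [Subgroup.coe_inv, inv_inv]
      calc (r : G)⁻¹ * Y * r = (r : G)⁻¹ * ((Y : G) * F.p ^ 2 * F.p) * r := by
            rw [mul_assoc (Y : G), ← pow_succ, F.p_cube, mul_one]
        _ = (r : G)⁻¹ * ((r : G) * Y * (r : G)⁻¹ * F.p) * r := by rw [e1]
        _ = Y * ((r : G)⁻¹ * F.p * r) := by group
        _ = Y * F.p := by rw [mul_assoc (r : G)⁻¹, ← hr'.2.eq, inv_mul_cancel_left]
  have h6d : ∀ U : Submodule (ZMod 2) F.V, (∀ u ∈ U, F.act F.p u ∈ U) →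
      (∀ r : ↥F.C, r ∈ R' → ∀ u ∈ U, F.act (r : G) u ∈ U) → 6 ∣ finrank (ZMod 2) ↥U := fun U hUp hUr =>
    F.six_dvd Y.2 hY3 d.2 hdY hUp (hUr Y hY) (hUr d hd)
  -- the dimension
  have hW0 : W ≠ ⊥ := by
    haveI : Nontrivial F.V := Finite.one_lt_card_iff_nontrivial.1 (by rw [F.card_V]; norm_num)
    obtain ⟨v, -, hv0, hv⟩ := F.exists_fixed hXz hX2 (U := ⊤) top_ne_bot (fun _ _ _ _ => Submodule.mem_top)
    exact (Submodule.ne_bot_iff W).2 ⟨v, (hW v).2 hv, hv0⟩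
  obtain ⟨a, haT, ha1⟩ : ∃ a ∈ T, a ≠ 1 := by
    refine T.ne_bot_iff_exists_ne_one.1 (fun e => by rw [e, Subgroup.card_bot] at hT; omega) |>.elim
      fun a ha => ⟨a, a.2, fun e => ha (Subtype.ext e)⟩
  obtain ⟨c, hcC, hci, hc2⟩ := F.exists_lift_two (hTI haT) (hT2 a haT)
  have hcX : c ∈ X := (hX c).2 ⟨hcC, hci.symm ▸ haT, F.sq_one hres hcC hc2⟩
  have hWd : finrank (ZMod 2) ↥W = 6 := by
    have h1 : W ≤ F.fix c := fun w hw => F.mem_ker_disp.2 ((hW w).1 hw c hcX)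
    have h2 : finrank (ZMod 2) ↥(LinearMap.range (F.disp c)) + finrank (ZMod 2) ↥(F.fix c) =
        finrank (ZMod 2) F.V := LinearMap.finrank_range_add_finrank_ker (F.disp c)
    rw [F.finrank_range_disp hcC (by rw [hci]; exact ha1) hc2, F.finrank_V] at h2
    have := Submodule.finrank_mono h1
    obtain ⟨k, hk⟩ := h6d W hpW hrW
    have : finrank (ZMod 2) ↥W ≠ 0 := fun e => hW0 (Submodule.finrank_eq_zero.1 e)
    omega
  -- the fixed space is its own orthogonal space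
  have hperp : ∀ g : G, Commute g F.z → (∀ w ∈ W, F.act g⁻¹ w ∈ W) → ∀ v ∈ F.perp W, F.act g v ∈ F.perp W := by
    intro g hg hgW v hv w hw
    show JankoFour.B F.ctx w (F.act g v) = 0
    have e : F.act g (F.act g⁻¹ w) = w := by rw [← act_mul F.ctx hg hg.inv_left, mul_inv_cancel, act_one]
    rw [← e, B_act F.ctx hg]
    exact hv _ (hgW w hw)
  have hWW : F.perp W = W := by
    have hd' : finrank (ZMod 2) ↥(F.perp W) = 6 := by rw [F.finrank_perp, hWd]
    obtain ⟨v, hv, hv0, hvfix⟩ := F.exists_fixed hXz hX2 (U := F.perp W)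
      (fun e => by rw [e, finrank_bot] at hd'; omega)
      (fun g hg => hperp g (hXz g hg) fun w hw => by
        rw [(hW w).1 hw _ (X.inv_mem hg)]; exact hw)
    obtain ⟨k, hk⟩ := h6d (W ⊓ F.perp W)
      (fun u hu => ⟨hpW u hu.1, hperp F.p F.p_comm (fun w hw => by
        rw [F.p_inv, pow_two, act_mul F.ctx F.p_comm F.p_comm]; exact hpW _ (hpW w hw)) u hu.2⟩)
      (fun r hr u hu => ⟨hrW r hr u hu.1, hperp _ (F.mem_C.1 r.2).1 (fun w hw => by
        have := hrW r⁻¹ (R'.inv_mem hr) w hw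
        rwa [Subgroup.coe_inv] at this) u hu.2⟩)
    have h0 : finrank (ZMod 2) ↥(W ⊓ F.perp W) ≠ 0 := fun e => hv0 (by
      have : v ∈ W ⊓ F.perp W := ⟨(hW v).2 hvfix, hv⟩
      rwa [Submodule.finrank_eq_zero.1 e, Submodule.mem_bot] at this)
    have hle := Submodule.finrank_mono (inf_le_left : W ⊓ F.perp W ≤ W)
    have hk6 : finrank (ZMod 2) ↥(W ⊓ F.perp W) = 6 := by omega
    have e1 : W ⊓ F.perp W = W := Submodule.eq_of_le_of_finrank_le inf_le_left (by omega)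
    exact (Submodule.eq_of_le_of_finrank_le (inf_eq_left.1 e1) (by omega)).symm
  refine ⟨X, W, R', hR', hX, hWd, hWW, fun w hw => ?_, hW⟩
  have hB : JankoFour.B F.ctx w (F.act F.p w) = 0 := by
    have h : F.act F.p w ∈ F.perp W := by rw [hWW]; exact hpW w hw
    exact h w hw
  have e := qf_add F.ctx w (F.act F.p w)
  rw [← F.act_p_sq, qf_act F.ctx F.p_comm, qf_act F.ctx F.p_comm, hB, add_zero, bit_self] at e
  exact e

/-- A lift of a hexad group with its fixed space. -/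
theorem exists_hexad (h6 : Sixteen A I) (hres : Cfsg.pResidual 2 G = ⊤) :
    ∃ (T : Subgroup A) (X : Subgroup G) (W : Submodule (ZMod 2) F.V), T ≤ I ∧ Nat.card ↥T = 16 ∧
      (∀ a ∈ T, a * a = 1) ∧ (∀ c, c ∈ X ↔ c ∈ F.C ∧ F.img c ∈ T ∧ c * c = 1) ∧
      finrank (ZMod 2) ↥W = 6 ∧ F.perp W = W ∧ (∀ w ∈ W, JankoFour.qf F.ctx w = 0) ∧
      ∀ v, v ∈ W ↔ ∀ c ∈ X, F.act c v = v := by
  obtain ⟨T, R, hTI, hRI, hT, hT2, hR, hRT⟩ := h6.hexad
  obtain ⟨X, W, -, -, h⟩ := F.hexad_of hres hTI hRI hT hT2 hR hRT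
  exact ⟨T, X, W, hTI, hT, hT2, h⟩

end Frame

end Cfsg.Lib.JankoFour
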