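import Cfsg.Agent.Lib.JankoFour.Hexad

/-!
# Involutions inverting the element of order three
-/

set_option autoImplicit false
set_option linter.style.haveILetI false
set_option linter.unusedSectionVars false

namespace Cfsg.Lib.JankoFour

open Cfsg Cfsg.Lib.Extra Module

variable {G : Type*} [Group G] [Finite G] {A : Type} [Group A] {I : Subgroup A}

namespace Frame

variable (F : Frame G A I)

/-- An element of the centralizer inverting `p`. -/
def Inverts (F : Frame G A I) (x : G) : Prop := Commute x F.z ∧ x * F.p * x⁻¹ = F.p⁻¹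

theorem inverts_p_pow {x : G} (h : F.Inverts x) (i : ℕ) : x * F.p ^ i * x⁻¹ = (F.p ^ i)⁻¹ := by
  rw [← conj_pow, h.2, inv_pow]

theorem inverts_conj {x y : G} (hx : Commute x F.z) (hn : Commute x F.p ∨ x * F.p * x⁻¹ = F.p⁻¹)
    (hy : F.Inverts y) : F.Inverts (x * y * x⁻¹) := by
  refine ⟨(hx.mul_left hy.1).mul_left hx.inv_left, ?_⟩
  have key : x⁻¹ * F.p * x = F.p ∨ x⁻¹ * F.p * x = F.p⁻¹ := by
    rcases hn with h | h
    · exact Or.inl (by rw [mul_assoc, ← h.eq, inv_mul_cancel_left])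
    · refine Or.inr ?_
      have e : x⁻¹ * F.p⁻¹ * x = F.p := by rw [← h]; group
      calc x⁻¹ * F.p * x = (x⁻¹ * F.p⁻¹ * x)⁻¹ := by group
        _ = F.p⁻¹ := by rw [e]
  rw [show x * y * x⁻¹ * F.p * (x * y * x⁻¹)⁻¹ = x * (y * (x⁻¹ * F.p * x) * y⁻¹) * x⁻¹ by group]
  rcases key with h | h <;> rw [h]
  · rw [hy.2, show x * F.p⁻¹ * x⁻¹ = (x * F.p * x⁻¹)⁻¹ by group]
    rcases hn with h' | h'
    · rw [h'.eq, mul_inv_cancel_right]
    · exfalso
      have e : x⁻¹ * F.p * x = F.p⁻¹ := by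
        have e' : x⁻¹ * F.p⁻¹ * x = F.p := by rw [← h']; group
        calc x⁻¹ * F.p * x = (x⁻¹ * F.p⁻¹ * x)⁻¹ := by group
          _ = F.p⁻¹ := by rw [e']
      rw [e] at h
      have h3 := F.p_cube
      have h2 : F.p * F.p = 1 := by nth_rewrite 1 [← h]; exact inv_mul_cancel _
      rw [pow_succ, pow_two, h2, one_mul] at h3
      exact F.not_mem_p (h3 ▸ one_mem _)
  · rw [show y * F.p⁻¹ * y⁻¹ = (y * F.p * y⁻¹)⁻¹ by group, hy.2, inv_inv]
    rcases hn with h' | h'
    · exfalso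
      rw [mul_assoc, ← h'.eq, inv_mul_cancel_left] at h
      have h3 := F.p_cube
      have h2 : F.p * F.p = 1 := by nth_rewrite 1 [h]; exact inv_mul_cancel _
      rw [pow_succ, pow_two, h2, one_mul] at h3
      exact F.not_mem_p (h3 ▸ one_mem _)
    · exact h'

theorem inverts_mul_p {w : G} (hw : F.Inverts w) (j : ℕ) : F.Inverts (w * F.p ^ j) :=
  ⟨hw.1.mul_left (F.p_comm.pow_left j), by
    rw [show w * F.p ^ j * F.p * (w * F.p ^ j)⁻¹ = w * (F.p ^ j * F.p * (F.p ^ j)⁻¹) * w⁻¹ by group, ← pow_succ,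
      pow_succ', mul_inv_cancel_right, hw.2]⟩

theorem inverts_mul {x y : G} (hx : F.Inverts x) (hy : F.Inverts y) : x * y ∈ F.C :=
  F.mem_C.2 ⟨hx.1.mul_left hy.1, mul_inv_eq_iff_eq_mul.1 (by
    rw [show x * y * F.p * (x * y)⁻¹ = x * (y * F.p * y⁻¹) * x⁻¹ by group, hy.2,
      show x * F.p⁻¹ * x⁻¹ = (x * F.p * x⁻¹)⁻¹ by group, hx.2, inv_inv])⟩

/-- An involution outside the linear part gives an involution inverting `p`. -/
theorem exists_inverter {i : G} (hi : Commute i F.z) (h2 : i * i = 1) (hI : F.img i ∉ I) :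
    ∃ e ∈ F.E, F.Inverts (e * i) ∧ e * i * (e * i) = 1 := by
  obtain ⟨e, he, h⟩ := F.exists_normalizing hi
  have hez := F.comm_of_mem he
  have hinv : F.Inverts (e * i) := by
    refine ⟨hez.mul_left hi, h.resolve_left fun h => hI ?_⟩
    have hm : F.img (e * i) ∈ I := F.mem_I_iff.2 ⟨e * i, F.mem_C.2 ⟨hez.mul_left hi, h⟩, rfl⟩
    rwa [F.img_mul _ _ hez hi, F.img_mem he, one_mul] at hm
  refine ⟨e, he, hinv, ?_⟩
  have hii : i⁻¹ = i := inv_eq_of_mul_eq_one_right h2
  set c := e * (i * e * i⁻¹) with hc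
  have hyy : e * i * (e * i) = c := by rw [hc, hii]; simp [mul_assoc]
  have hcE : c ∈ F.E := mul_mem he (F.conj_mem hi he)
  have hcp : Commute c F.p := by
    rw [← hyy]
    exact (F.mem_C.1 (F.inverts_mul hinv hinv)).2
  set w := F.cls e with hw
  have hsum : w + F.act i w = 0 := by
    have h0 : JankoFour.cls F.ctx c = 0 := by
      rcases F.fixed c hcE hcp with h | h <;> rw [h]
      exacts [cls_one F.ctx, cls_z F.ctx]
    rw [hc, cls_mul F.ctx he (F.conj_mem hi he), ← act_cls F.ctx hi he] at h0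
    exact h0
  have hfix : F.act i w = w := ((add_eq_zero_iff_eq' F.ctx).1 hsum).symm
  set a := F.p * e * F.p⁻¹
  have ha : a ∈ F.E := F.conj_mem F.p_comm he
  set b := i * a * i⁻¹ with hb
  have hbE : b ∈ F.E := F.conj_mem hi ha
  have hcls : JankoFour.cls F.ctx e = JankoFour.cls F.ctx (a * b) := by
    rw [cls_mul F.ctx ha hbE, hb, ← act_cls F.ctx hi ha,
      show JankoFour.cls F.ctx a = F.act F.p w from (act_cls F.ctx F.p_comm he).symm]
    show w = F.act F.p w + F.act i (F.act F.p w)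
    rw [F.act_p_inv hi hI, hfix, F.act_p_sq, add_left_comm, bar_self, add_zero]
  have hba : i * b * i⁻¹ = a := by
    rw [hb, hii, show i * (i * a * i) * i = i * i * a * (i * i) by group, h2, one_mul, mul_one]
  have key : a * b * (i * (a * b) * i⁻¹) = 1 := by
    rw [show i * (a * b) * i⁻¹ = i * a * i⁻¹ * (i * b * i⁻¹) by group, ← hb, hba]
    have hbb : b * b = a * a := by
      rw [hb, show i * a * i⁻¹ * (i * a * i⁻¹) = i * (a * a) * i⁻¹ by group]
      rcases F.ctx.sq a ha with h | h <;> rw [h]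
      · group
      · rw [hi.eq, mul_inv_cancel_right]
    have hac : a * a * (a * a) = 1 := by
      rcases F.ctx.sq a ha with h | h <;> rw [h]
      exacts [one_mul _, F.ctx.sq_z]
    calc a * b * (b * a) = a * (b * b) * a := by group
      _ = a * a * (a * a) := by rw [hbb]; group
      _ = 1 := hac
  rw [hyy, hc]
  rcases (cls_eq_iff F.ctx he (mul_mem ha hbE)).1 hcls with h | h <;> rw [h]
  · exact key
  · rw [show i * (F.z * (a * b)) * i⁻¹ = i * F.z * i⁻¹ * (i * (a * b) * i⁻¹) by group, hi.eq, mul_inv_cancel_right,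
      show F.z * (a * b) * (F.z * (i * (a * b) * i⁻¹)) = F.z * ((a * b) * F.z) * (i * (a * b) * i⁻¹) by group,
      (F.comm_of_mem (mul_mem ha hbE)).eq, ← mul_assoc F.z F.z, F.ctx.sq_z, one_mul, key]

/-- Inverters with the same image have the same square. -/
theorem inverts_sq {y y' : G} (hy : F.Inverts y) (hy' : F.Inverts y') (h : F.img y = F.img y') (h2 : y * y = 1) :
    y' * y' = 1 := by
  have hk : Commute (y⁻¹ * y') F.z := hy.1.inv_left.mul_left hy'.1
  have hyi : y⁻¹ = y := inv_eq_of_mul_eq_one_right h2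
  obtain ⟨j, hj⟩ := F.ker_commute hk (by rw [F.img_mul _ _ hy.1.inv_left hy'.1, F.img_inv hy.1, h, inv_mul_cancel])
    (Or.inl (by rw [hyi]; exact (F.mem_C.1 (F.inverts_mul hy hy')).2))
  have e : y' = y * (y⁻¹ * y') := (mul_inv_cancel_left _ _).symm
  have hp := F.inverts_p_pow hy j
  rw [hyi] at hp
  rcases hj with hj | hj <;> rw [e, hj]
  · calc y * F.p ^ j * (y * F.p ^ j) = y * F.p ^ j * y * F.p ^ j := by group
      _ = 1 := by rw [hp, inv_mul_cancel]
  · have hzp : Commute F.z (F.p ^ j) := (F.p_comm.pow_left j).symm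
    calc y * (F.z * F.p ^ j) * (y * (F.z * F.p ^ j))
        = (y * F.z) * F.p ^ j * (y * F.z) * F.p ^ j := by group
      _ = F.z * (y * F.p ^ j * F.z * y) * F.p ^ j := by rw [hy.1.eq]; group
      _ = F.z * F.z * (y * F.p ^ j * y) * F.p ^ j := by
        rw [show y * F.p ^ j * F.z = F.z * (y * F.p ^ j) from ((hy.1.mul_left hzp.symm)).eq]; group
      _ = 1 := by rw [F.ctx.sq_z, hp, one_mul, inv_mul_cancel]

/-- An inverter can be moved to commute with another one. -/
theorem exists_commuting (hres : Cfsg.pResidual 2 G = ⊤) {r w : G} (hr : F.Inverts r) (hr2 : r * r = 1)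
    (hw : F.Inverts w) (hw2 : w * w = 1) (hc : Commute (F.img r) (F.img w)) :
    ∃ w', F.Inverts w' ∧ F.img w' = F.img w ∧ w' * w' = 1 ∧ Commute r w' := by
  have hx := F.inverts_mul hr hw
  obtain ⟨hxz, hxp⟩ := F.mem_C.1 hx
  have hi : F.img (r * w * (r * w)) = 1 := by
    rw [F.img_mul _ _ hxz hxz, F.img_mul _ _ hr.1 hw.1, hc.symm.mul_mul_mul_comm,
      ← F.img_mul _ _ hr.1 hr.1, ← F.img_mul _ _ hw.1 hw.1, hr2, hw2, F.img_one, one_mul]
  obtain ⟨j, hj⟩ := F.ker_commute (hxz.mul_left hxz) hi (Or.inl (hxp.mul_left hxp))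
  set w' := w * F.p ^ j
  have hw' : F.Inverts w' := F.inverts_mul_p hw j
  have himg : F.img w' = F.img w := by rw [F.img_mul _ _ hw.1 (F.p_comm.pow_left j), F.img_p_pow, mul_one]
  have hw'2 := F.inverts_sq hw hw' himg.symm hw2
  refine ⟨w', hw', himg, hw'2, ?_⟩
  have hsq : r * w' * (r * w') = r * w * (r * w) * (F.p ^ j * F.p ^ j) := by
    rw [show r * w' * (r * w') = r * w * (F.p ^ j * (r * w)) * F.p ^ j by simp only [w']; group,
      (hxp.pow_right j).symm.eq]
    group
  have h1 : r * w' * (r * w') = 1 := by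
    refine F.sq_one hres (F.inverts_mul hr hw') ?_
    rw [hsq]
    rcases hj with h | h <;> rw [h]
    · exact Or.inl (by rw [← pow_add, ← pow_add, F.p_pow_eq_one]; omega)
    · exact Or.inr (by rw [mul_assoc, ← pow_add, ← pow_add, F.p_pow_eq_one.2 (by omega), mul_one])
  show r * w' = w' * r
  rw [← inv_eq_of_mul_eq_one_right h1, mul_inv_rev, inv_eq_of_mul_eq_one_right hr2, inv_eq_of_mul_eq_one_right hw'2]

end Frame

end Cfsg.Lib.JankoFour
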