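import Cfsg.Agent.Lib.JankoFour.Fuse
import Cfsg.Agent.Lib.ZStar.Main

/-!
# The involution `z` is isolated in `C(p)`
-/

set_option autoImplicit false
set_option linter.style.haveILetI false
set_option linter.unusedSectionVars false

namespace Cfsg.Lib.JankoFour

open Cfsg Cfsg.Lib.Extra Module

namespace Frame

variable {G : Type*} [Group G] [Finite G] {A : Type} [Group A] {I : Subgroup A} (F : Frame G A I)

theorem C_E_trivial {a : G} (haE : a ∈ F.E) (ha : Commute a F.p) : a = 1 ∨ a = F.z := F.fixed a haE ha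

theorem z_mul_z_ne {a : G} (ha : a = 1 ∨ a = F.z) (h : a ^ 3 = 1) : a = 1 :=
  F.eq_one_of_cube (by rcases ha with rfl | rfl; exacts [one_mem _, F.ctx.mem]) h

/-- `z` is isolated in `C(p)`. -/
theorem eq_of_commute {k : G} (hk : Commute k F.p) (hu : Commute (k * F.z * k⁻¹) F.z) :
    k * F.z * k⁻¹ = F.z := by
  classical
  haveI : FiniteDimensional (ZMod 2) F.V := Module.Finite.of_finite
  by_contra hne
  set F' := F.conj k
  set u := k * F.z * k⁻¹ with hudef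
  have hp : F'.p = F.p := by
    show k * F.p * k⁻¹ = F.p
    rw [hk.eq, mul_inv_cancel_right]
  have hu1 : u ≠ 1 := F'.ctx.ne_one
  have hup : Commute u F.p := hp ▸ F'.p_comm.symm
  have hu2 : u * u = 1 := F'.ctx.sq_z
  have huC : u ∈ F.C := F.mem_C.2 ⟨hu, hup⟩
  have huE : u ∉ F.E := fun h => by
    rcases F.fixed u h hup with e | e
    exacts [hu1 e, hne e]
  have huimg : F.img u ≠ 1 := fun h => huE (F.mem_E_of_two hu h (n := 1) (by rw [pow_one, pow_two, hu2]))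
  have hzE : F.z ∉ F'.E := fun h => by
    rcases F'.fixed F.z h (hp.symm ▸ F.p_comm.symm) with e | e
    exacts [F.ctx.ne_one e, hne e.symm]
  set K := F.E ⊓ F'.E
  have hsq : ∀ a ∈ K, a * a = 1 := fun a ha =>
    (F.ctx.sq a ha.1).resolve_right fun e => hzE (e ▸ F'.E.mul_mem ha.2 ha.2)
  have hcom : ∀ a ∈ K, ∀ b ∈ K, Commute a b := fun a ha b hb => by
    refine mul_inv_eq_iff_eq_mul.1 (mul_inv_eq_one.1 ((F.ctx.comm a ha.1 b hb.1).resolve_right fun e => hzE ?_))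
    exact e ▸ F'.E.mul_mem (F'.E.mul_mem (F'.E.mul_mem ha.2 hb.2) (F'.E.inv_mem ha.2)) (F'.E.inv_mem hb.2)
  set KV := F.clsSub K inf_le_left
  -- the whole fixed space comes from the intersection
  have hle : F.fix u ≤ KV := by
    intro v hv
    set v1 := F.act F.p v
    have hv' : ∃ w ∈ F.fix u, w + F.act F.p w = v := by
      refine ⟨v1, F.mem_ker_disp.2 ?_, ?_⟩
      · rw [show v1 = F.act F.p v from rfl, ← act_mul F.ctx hu F.p_comm, hup.eq, act_mul F.ctx F.p_comm hu,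
          F.mem_ker_disp.1 hv]
      · rw [F.act_p_sq v, ← add_assoc, add_comm v1 v, add_assoc, bar_self, add_zero]
    obtain ⟨w, hw, rfl⟩ := hv'
    obtain ⟨e, he, rfl⟩ := cls_surj F.ctx w
    have hue : Commute u e := F.commute_of_fixed huC he (F.mem_ker_disp.1 hw)
    set m := F.p * e * F.p⁻¹ * e⁻¹ with hm
    have hmE : m ∈ F.E := F.E.mul_mem (F.conj_mem F.p_comm he) (F.E.inv_mem he)
    have hmu : Commute m u := ((hup.symm.mul_left hue.symm).mul_left hup.symm.inv_left).mul_left hue.symm.inv_left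
    have hpu : Commute F.p F'.z := hup.symm
    have heu : Commute e F'.z := hue.symm
    have hmimg : F'.img m = 1 := by
      rw [hm, F'.img_mul _ _ ((hpu.mul_left heu).mul_left hpu.inv_left) heu.inv_left, F'.img_conj hpu heu,
        F'.img_inv heu, show F'.img F.p = 1 from hp ▸ F'.img_p]
      simp
    have hm4 : m ^ 2 ^ 2 = 1 := by
      rcases F.ctx.sq m hmE with e2 | e2
      · rw [show (2 : ℕ) ^ 2 = 2 * 2 from rfl, pow_mul, pow_two m, e2, one_pow]
      · rw [show (2 : ℕ) ^ 2 = 2 * 2 from rfl, pow_mul, pow_two m, e2, pow_two, F.ctx.sq_z]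
    refine ⟨m, ⟨hmE, F'.mem_E_of_two hmu hmimg hm4⟩, ?_⟩
    rw [hm, cls_mul F.ctx (F.conj_mem F.p_comm he) (inv_mem he), cls_inv F.ctx he, add_comm]
    exact congrArg _ (act_cls F.ctx F.p_comm he).symm
  have hiso : F.fix u ≤ F.perp (F.fix u) := by
    intro v hv w hw
    obtain ⟨a, ha, rfl⟩ := hle hv
    obtain ⟨b, hb, rfl⟩ := hle hw
    exact (B_cls F.ctx hb.1 ha.1).2 (hcom b hb a ha)
  have h1 := Submodule.finrank_mono hiso
  have h2 : finrank (ZMod 2) ↥(LinearMap.range (F.disp u)) + finrank (ZMod 2) ↥(F.fix u) =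
      finrank (ZMod 2) F.V := LinearMap.finrank_range_add_finrank_ker _
  rw [F.finrank_range_disp huC huimg (Or.inl hu2), F.finrank_V] at h2
  rw [F.finrank_perp] at h1
  omega

/-- The odd core of `C(p)`. -/
noncomputable def O : Subgroup G :=
  (Cfsg.oddCore ↥(Subgroup.centralizer ({F.p} : Set G))).map (Subgroup.centralizer ({F.p} : Set G)).subtype

theorem O_comm {o : G} (ho : o ∈ F.O) : Commute o F.p := by
  obtain ⟨o', -, rfl⟩ := ho
  exact Subgroup.mem_centralizer_singleton_iff.1 o'.2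

theorem O_odd : Odd (Nat.card ↥F.O) := by
  rw [O, Subgroup.card_map_of_injective (Subgroup.subtype_injective _)]
  exact Lib.ZStar.odd_card_oddCore

theorem O_conj {o x : G} (ho : o ∈ F.O) (hx : Commute x F.p) : x * o * x⁻¹ ∈ F.O := by
  obtain ⟨o', ho', rfl⟩ := ho
  exact ⟨⟨x, Subgroup.mem_centralizer_singleton_iff.2 hx.eq⟩ * o' *
    (⟨x, Subgroup.mem_centralizer_singleton_iff.2 hx.eq⟩)⁻¹,
    (inferInstance : (Cfsg.oddCore ↥(Subgroup.centralizer ({F.p} : Set G))).Normal).conj_mem o' ho' _, rfl⟩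

theorem p_mem_O : F.p ∈ F.O := by
  set S := Subgroup.centralizer ({F.p} : Set G)
  have hp : F.p ∈ S := Subgroup.mem_centralizer_singleton_iff.2 rfl
  haveI : (Subgroup.zpowers (⟨F.p, hp⟩ : ↥S)).Normal := ⟨fun n hn g => by
    obtain ⟨i, rfl⟩ := Subgroup.mem_zpowers_iff.1 hn
    have hc : Commute g (⟨F.p, hp⟩ : ↥S) := Subtype.ext (Subgroup.mem_centralizer_singleton_iff.1 g.2)
    rw [(hc.zpow_right i).eq, mul_inv_cancel_right]
    exact Subgroup.mem_zpowers_iff.2 ⟨i, rfl⟩⟩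
  refine ⟨⟨F.p, hp⟩, Lib.ZStar.le_oddCore inferInstance ?_ (Subgroup.mem_zpowers _), rfl⟩
  rw [Nat.card_zpowers, Subgroup.orderOf_mk, F.p_ord]
  decide

/-- Glauberman's theorem in `C(p)`. -/
theorem exists_decomp {x : G} (hx : Commute x F.p) : ∃ c ∈ F.C, ∃ o ∈ F.O, x = c * o := by
  set S := Subgroup.centralizer ({F.p} : Set G)
  have hz : F.z ∈ S := Subgroup.mem_centralizer_singleton_iff.2 F.p_comm.symm.eq
  have hiso : IsIsolatedInvolution (⟨F.z, hz⟩ : ↥S) := by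
    refine ⟨?_, fun g hg => Subtype.ext ?_⟩
    · rw [Subgroup.orderOf_mk]
      exact orderOf_eq_prime (by rw [pow_two, F.ctx.sq_z]) F.ctx.ne_one
    · exact F.eq_of_commute (k := (g : G)) (Subgroup.mem_centralizer_singleton_iff.1 g.2)
        (congrArg Subtype.val hg.symm.eq : (g : G) * F.z * (g : G)⁻¹ * F.z = F.z * ((g : G) * F.z * (g : G)⁻¹))
  set g : ↥S := ⟨x, Subgroup.mem_centralizer_singleton_iff.2 hx.eq⟩
  set u : ↥S := ⟨F.z, hz⟩
  have hu2 : u * u = 1 := Subtype.ext F.ctx.sq_z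
  have hui : u⁻¹ = u := inv_eq_of_mul_eq_one_right hu2
  set o := u * g * u⁻¹ * g⁻¹ with ho
  have hoO : o ∈ Cfsg.oddCore ↥S := Lib.ZStar.zStarHolds ↥S u hiso g
  have hinv : u * o * u⁻¹ = o⁻¹ := by
    rw [ho, hui]
    calc u * (u * g * u * g⁻¹) * u = (u * u) * (g * u * g⁻¹ * u) := by group
      _ = (u * g * u * g⁻¹)⁻¹ := by
        rw [hu2, one_mul, mul_inv_rev, mul_inv_rev, mul_inv_rev, hui, inv_inv]; group
  obtain ⟨j, hj⟩ := (Lib.ZStar.odd_card_oddCore (G := ↥S))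
  set w := o ^ (j + 1)
  have hwO : w ∈ Cfsg.oddCore ↥S := pow_mem hoO _
  have hww : w * w = o := by
    have h1 : o ^ Nat.card ↥(Cfsg.oddCore ↥S) = 1 :=
      congrArg Subtype.val (pow_card_eq_one' (x := (⟨o, hoO⟩ : ↥(Cfsg.oddCore ↥S))))
    rw [← pow_add, show j + 1 + (j + 1) = 2 * j + 1 + 1 by ring, pow_succ, ← hj, h1, one_mul]
  have hwu : u * w * u⁻¹ = w⁻¹ := by
    show u * o ^ (j + 1) * u⁻¹ = (o ^ (j + 1))⁻¹
    rw [← conj_pow, hinv, inv_pow]
  set c := w * g with hc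
  have hcu : Commute u c := by
    refine mul_inv_eq_iff_eq_mul.1 ?_
    calc u * (w * g) * u⁻¹ = (u * w * u⁻¹) * (u * g * u⁻¹ * g⁻¹) * g := by group
      _ = w * g := by rw [hwu, ← ho, ← hww]; group
  refine ⟨c, F.mem_C.2 ⟨congrArg Subtype.val hcu.symm.eq, Subgroup.mem_centralizer_singleton_iff.1 c.2⟩,
    ((c⁻¹ * w⁻¹ * c : ↥S) : G), ⟨c⁻¹ * w⁻¹ * c, ?_, rfl⟩, ?_⟩
  · have := (inferInstance : (Cfsg.oddCore ↥S).Normal).conj_mem w⁻¹ (inv_mem hwO) c⁻¹
    rwa [inv_inv] at this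
  · show x = ((c * (c⁻¹ * w⁻¹ * c) : ↥S) : G)
    rw [show c * (c⁻¹ * w⁻¹ * c) = g by rw [hc]; group]

/-- A conjugation fixing `⟨p⟩` and moving `z` into its centralizer fixes `z`. -/
theorem eq_of_normalize {k : G} (hk : k * F.p * k⁻¹ = F.p ∨ k * F.p * k⁻¹ = F.p⁻¹)
    (hu : Commute (k * F.z * k⁻¹) F.z) : k * F.z * k⁻¹ = F.z := by
  rcases hk with h | h
  · exact F.eq_of_commute (mul_inv_eq_iff_eq_mul.1 h) hu
  · obtain ⟨s, hs, hsp⟩ := F.inverter
    have e : k * s * F.z * (k * s)⁻¹ = k * F.z * k⁻¹ := by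
      rw [show k * s * F.z * (k * s)⁻¹ = k * (s * F.z * s⁻¹) * k⁻¹ by group, hs.eq, mul_inv_cancel_right]
    rw [← e] at hu ⊢
    refine F.eq_of_commute (mul_inv_eq_iff_eq_mul.1 ?_) hu
    rw [show k * s * F.p * (k * s)⁻¹ = k * (s * F.p * s⁻¹) * k⁻¹ by group, hsp,
      show k * F.p⁻¹ * k⁻¹ = (k * F.p * k⁻¹)⁻¹ by group, h, inv_inv]

end Frame

end Cfsg.Lib.JankoFour
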