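import Cfsg.Agent.Lib.Concrete.MathieuOut
import Cfsg.Agent.Lib.Concrete.SporMathieu
import Cfsg.Agent.Lib.Concrete.Classes

/-!
# The automorphism group of M22 as the stabiliser of a pair of points in M24
-/

set_option autoImplicit false

namespace Cfsg.Lib.JankoFour

open Cfsg Cfsg.Lib.Concrete MulAction

/-- The two distinguished points. -/
abbrev ptA : GolayPt := none

/-- The second distinguished point. -/
abbrev ptB : GolayPt := some 0

/-- Elements of M24 preserving the pair. -/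
def Pair : Subgroup (Equiv.Perm GolayPt) where
  carrier := {g | g ∈ M24 ∧ ((g ptA = ptA ∧ g ptB = ptB) ∨ (g ptA = ptB ∧ g ptB = ptA))}
  one_mem' := ⟨one_mem _, Or.inl ⟨rfl, rfl⟩⟩
  mul_mem' := by
    rintro a b ⟨ha, ha'⟩ ⟨hb, hb'⟩
    refine ⟨mul_mem ha hb, ?_⟩
    rcases ha' with ⟨a1, a2⟩ | ⟨a1, a2⟩ <;> rcases hb' with ⟨b1, b2⟩ | ⟨b1, b2⟩ <;>
      simp [Equiv.Perm.mul_apply, a1, a2, b1, b2]
  inv_mem' := by
    rintro a ⟨ha, ha'⟩
    refine ⟨inv_mem ha, ?_⟩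
    rcases ha' with ⟨a1, a2⟩ | ⟨a1, a2⟩
    · exact Or.inl ⟨Equiv.Perm.inv_eq_iff_eq.2 a1.symm, Equiv.Perm.inv_eq_iff_eq.2 a2.symm⟩
    · exact Or.inr ⟨Equiv.Perm.inv_eq_iff_eq.2 a2.symm, Equiv.Perm.inv_eq_iff_eq.2 a1.symm⟩

theorem mem_Pair {g : Equiv.Perm GolayPt} : g ∈ Pair ↔
    g ∈ M24 ∧ ((g ptA = ptA ∧ g ptB = ptB) ∨ (g ptA = ptB ∧ g ptB = ptA)) := Iff.rfl

theorem Pair_le : Pair ≤ M24 := fun _ h => h.1

theorem mem_sporM22 {g : Equiv.Perm GolayPt} :
    g ∈ Spor.M22 ↔ g ∈ M24 ∧ g ptA = ptA ∧ g ptB = ptB :=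
  ⟨fun h => ⟨sporM22_le h, h.1.2, h.2⟩, fun h => ⟨⟨h.1, h.2.1⟩, h.2.2⟩⟩

theorem sporM22_le_Pair : Spor.M22 ≤ Pair := fun _ h =>
  ⟨(mem_sporM22.1 h).1, Or.inl (mem_sporM22.1 h).2⟩

theorem mem_sporM22_of_fix {g : Equiv.Perm GolayPt} (hg : g ∈ Pair) (h : g ptA = ptA) :
    g ∈ Spor.M22 := by
  rcases hg.2 with h' | h'
  · exact mem_sporM22.2 ⟨hg.1, h'⟩
  · exact absurd (h.symm.trans h'.1) none_ne_zeroPt

theorem conj_mem_sporM22 {g m : Equiv.Perm GolayPt} (hg : g ∈ Pair) (hm : m ∈ Spor.M22) :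
    g * m * g⁻¹ ∈ Spor.M22 := by
  obtain ⟨hmM, m1, m2⟩ := mem_sporM22.1 hm
  refine mem_sporM22.2 ⟨mul_mem (mul_mem hg.1 hmM) (inv_mem hg.1), ?_⟩
  rcases hg.2 with ⟨a1, a2⟩ | ⟨a1, a2⟩
  · simp [Equiv.Perm.mul_apply, Equiv.Perm.inv_eq_iff_eq.2 a1.symm, Equiv.Perm.inv_eq_iff_eq.2 a2.symm,
      a1, a2, m1, m2]
  · simp [Equiv.Perm.mul_apply, Equiv.Perm.inv_eq_iff_eq.2 a2.symm, Equiv.Perm.inv_eq_iff_eq.2 a1.symm,
      a1, a2, m1, m2]

/-- M24 moves any four distinct points to any other four. -/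
theorem exists_map_four {a b c d a' b' c' d' : GolayPt} (h : [a, b, c, d].Nodup)
    (h' : [a', b', c', d'].Nodup) :
    ∃ m ∈ M24, m a = a' ∧ m b = b' ∧ m c = c' ∧ m d = d' := by
  haveI := M24_pretransitive_le 4 (by norm_num)
  let mk : ∀ x y z w : GolayPt, [x, y, z, w].Nodup → (Fin 4 ↪ GolayPt) := fun x y z w hn =>
    ⟨[x, y, z, w].get, List.nodup_iff_injective_get.1 hn⟩
  obtain ⟨m, hm⟩ := MulAction.exists_smul_eq M24 (mk a b c d h) (mk a' b' c' d' h')
  have hi : ∀ i, (m : Equiv.Perm GolayPt) ((mk a b c d h) i) = (mk a' b' c' d' h') i := fun i =>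
    DFunLike.congr_fun hm i
  exact ⟨m, m.2, hi 0, hi 1, hi 2, hi 3⟩

theorem exists_ne_four (a b c d : GolayPt) : ∃ z, z ∉ ({a, b, c, d} : Finset GolayPt) := by
  by_contra h
  push Not at h
  have h1 := Finset.card_le_card (fun z _ => h z : (Finset.univ : Finset GolayPt) ⊆ {a, b, c, d})
  have h2 : ({a, b, c, d} : Finset GolayPt).card ≤ 4 := Finset.card_le_four
  have h24 : Fintype.card GolayPt = 24 := rfl
  rw [Finset.card_univ] at h1
  omega

/-- Only the identity of M24 commutes with M22. -/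
theorem eq_one_of_commute {g : Equiv.Perm GolayPt} (hg : g ∈ M24)
    (h : ∀ m ∈ Spor.M22, g * m = m * g) : g = 1 := by
  by_contra hne
  have key : ∀ y, y ≠ ptA → y ≠ ptB → g y = y := by
    intro y hA hB
    by_contra hy
    have hc : ∀ m ∈ Spor.M22, g (m y) = m (g y) := fun m hm => by
      have := congrArg (fun e : Equiv.Perm GolayPt => e y) (h m hm)
      simpa [Equiv.Perm.mul_apply] using this
    obtain ⟨z, hz⟩ := exists_ne_four (ptA) (ptB) (y) (g y)
    simp only [Finset.mem_insert, Finset.mem_singleton, not_or] at hz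
    by_cases h' : g y = ptA ∨ g y = ptB
    · obtain ⟨w, hw⟩ := exists_ne_four (ptA) (ptB) (y) (z)
      simp only [Finset.mem_insert, Finset.mem_singleton, not_or] at hw
      obtain ⟨m, hm, m1, m2, m3, -⟩ := exists_map_four (a := ptA) (b := ptB) (c := y) (d := w)
        (a' := ptA) (b' := ptB) (c' := z) (d' := w)
        (by simp [none_ne_zeroPt, Ne.symm hA, Ne.symm hB, Ne.symm hw.1, Ne.symm hw.2.1, Ne.symm hw.2.2.1])
        (by simp [none_ne_zeroPt, Ne.symm hz.1, Ne.symm hz.2.1, Ne.symm hw.1, Ne.symm hw.2.1, Ne.symm hw.2.2.2])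
      have e := hc m (mem_sporM22.2 ⟨hm, m1, m2⟩)
      rw [m3] at e
      have e' : m (g y) = g y := by rcases h' with h' | h' <;> rw [h'] <;> assumption
      exact hz.2.2.1 (g.injective (e.trans e'))
    · rw [not_or] at h'
      obtain ⟨m, hm, m1, m2, m3, m4⟩ := exists_map_four (a := ptA) (b := ptB) (c := y) (d := g y)
        (a' := ptA) (b' := ptB) (c' := y) (d' := z)
        (by simp [none_ne_zeroPt, Ne.symm hA, Ne.symm hB, Ne.symm h'.1, Ne.symm h'.2, Ne.symm hy])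
        (by simp [none_ne_zeroPt, Ne.symm hA, Ne.symm hB, Ne.symm hz.1, Ne.symm hz.2.1, Ne.symm hz.2.2.1])
      have e := hc m (mem_sporM22.2 ⟨hm, m1, m2⟩)
      rw [m3, m4] at e
      exact hz.2.2.2 e.symm
  have hle := fixed_card_le hg hne
  have hsub : (Finset.univ.filter fun p : GolayPt => p ≠ ptA ∧ p ≠ ptB) ⊆
      Finset.univ.filter fun p => g p = p := fun p hp => by
    simp only [Finset.mem_filter, Finset.mem_univ, true_and] at hp ⊢
    exact key p hp.1 hp.2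
  have h22 : (Finset.univ.filter fun p : GolayPt => p ≠ ptA ∧ p ≠ ptB).card = 22 := by decide +kernel
  have := Finset.card_le_card hsub
  omega

theorem exists_swap : ∃ t ∈ Pair, t ptA = ptB := by
  obtain ⟨z, w, hzw, hz, hw⟩ : ∃ z w : GolayPt, z ≠ w ∧ (z ≠ ptA ∧ z ≠ ptB) ∧ w ≠ ptA ∧ w ≠ ptB :=
    ⟨some 1, some 2, by decide, by decide, by decide⟩
  obtain ⟨m, hm, m1, m2, -, -⟩ := exists_map_four (a := ptA) (b := ptB) (c := z) (d := w)
    (a' := ptB) (b' := ptA) (c' := z) (d' := w)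
    (by simp [none_ne_zeroPt, Ne.symm hz.1, Ne.symm hz.2, Ne.symm hw.1, Ne.symm hw.2, hzw])
    (by simp [Ne.symm none_ne_zeroPt, Ne.symm hz.1, Ne.symm hz.2, Ne.symm hw.1, Ne.symm hw.2, hzw])
  exact ⟨m, ⟨hm, Or.inr ⟨m1, m2⟩⟩, m1⟩

theorem index_sporM22 : (Spor.M22.subgroupOf Pair).index = 2 := by
  obtain ⟨t, ht, hta⟩ := exists_swap
  refine Subgroup.index_eq_two_iff.2 ⟨⟨t, ht⟩, fun b => ?_⟩
  simp only [Subgroup.mem_subgroupOf, Subgroup.coe_mul]
  have hb := b.2.2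
  have hfix : ∀ g : Equiv.Perm GolayPt, g ∈ Pair → (g ∈ Spor.M22 ↔ g ptA = ptA) := fun g hg =>
    ⟨fun h => (mem_sporM22.1 h).2.1, mem_sporM22_of_fix hg⟩
  rw [hfix _ (mul_mem b.2 ht), hfix _ b.2, Equiv.Perm.mul_apply, hta]
  rcases hb with ⟨b1, b2⟩ | ⟨b1, b2⟩
  · rw [b1, b2]; exact Or.inr ⟨rfl, none_ne_zeroPt ∘ Eq.symm⟩
  · rw [b1, b2]; exact Or.inl ⟨rfl, none_ne_zeroPt ∘ Eq.symm⟩

theorem card_Pair : Nat.card Pair = 887040 := by
  have h := (Spor.M22.subgroupOf Pair).card_mul_index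
  rw [index_sporM22, Nat.card_congr (Subgroup.subgroupOfEquivOfLe sporM22_le_Pair).toEquiv,
    card_sporM22] at h
  omega

theorem center_sporM22 : Subgroup.center ↥Spor.M22 = ⊥ := by
  rw [Subgroup.eq_bot_iff_forall]
  intro g hg
  exact Subtype.ext (eq_one_of_commute (sporM22_le g.2) fun m hm =>
    congrArg Subtype.val (Subgroup.mem_center_iff.1 hg ⟨m, hm⟩).symm)

theorem card_mulAut_sporM22 : Nat.card (MulAut ↥Spor.M22) = 887040 := by
  have hi : Nat.card (Inn ↥Spor.M22) = 443520 := by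
    rw [show Nat.card (Inn ↥Spor.M22) = Nat.card ↥Spor.M22 from ?_, card_sporM22]
    refine (Nat.card_congr (MonoidHom.ofInjective (f := (MulAut.conj : ↥Spor.M22 →* _)) ?_).toEquiv).symm
    refine (injective_iff_map_eq_one _).2 fun g hg => ?_
    have : g ∈ Subgroup.center ↥Spor.M22 := Subgroup.mem_center_iff.2 fun m => by
      have e := DFunLike.congr_fun hg m
      simp only [MulAut.conj_apply, MulAut.one_apply, mul_inv_eq_iff_eq_mul] at e
      exact e.symm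
    rwa [center_sporM22, Subgroup.mem_bot] at this
  rw [Subgroup.card_eq_card_quotient_mul_card_subgroup (Inn ↥Spor.M22), hi]
  show Nat.card (Cfsg.Out ↥Spor.M22) * 443520 = 887040
  rw [card_out_sporM22]

/-- Conjugation by an element preserving the pair. -/
def conjM22 : Pair →* MulAut ↥Spor.M22 where
  toFun g :=
    { toFun := fun m => ⟨g.1 * m.1 * g.1⁻¹, conj_mem_sporM22 g.2 m.2⟩
      invFun := fun m => ⟨g.1⁻¹ * m.1 * g.1, by
        simpa using conj_mem_sporM22 (inv_mem g.2) m.2⟩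
      left_inv := fun m => Subtype.ext (by simp [mul_assoc])
      right_inv := fun m => Subtype.ext (by simp [mul_assoc])
      map_mul' := fun a b => Subtype.ext (by simp [mul_assoc]) }
  map_one' := MulEquiv.ext fun m => Subtype.ext (by simp)
  map_mul' a b := MulEquiv.ext fun m => Subtype.ext (by simp [mul_assoc])

theorem conjM22_apply (g : Pair) (m : ↥Spor.M22) :
    ((conjM22 g m : ↥Spor.M22) : Equiv.Perm GolayPt) = g.1 * m.1 * g.1⁻¹ := rfl

theorem conjM22_injective : Function.Injective conjM22 := by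
  refine (injective_iff_map_eq_one _).2 fun g hg => Subtype.ext ?_
  refine eq_one_of_commute g.2.1 fun m hm => ?_
  have e := congrArg Subtype.val (DFunLike.congr_fun hg ⟨m, hm⟩)
  rw [conjM22_apply, MulAut.one_apply] at e
  exact mul_inv_eq_iff_eq_mul.1 e

/-- Aut M22 is the stabiliser of the pair. -/
noncomputable def pairEquiv : Pair ≃* MulAut ↥Spor.M22 :=
  MulEquiv.ofBijective conjM22 (by
    haveI : Finite (MulAut ↥Spor.M22) := Nat.finite_of_card_ne_zero (by rw [card_mulAut_sporM22]; norm_num)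
    exact (Nat.bijective_iff_injective_and_card conjM22).2
      ⟨conjM22_injective, by rw [card_Pair, card_mulAut_sporM22]⟩)

theorem pairEquiv_of_mem {g : Pair} (hg : g.1 ∈ Spor.M22) :
    pairEquiv g = MulAut.conj ⟨g.1, hg⟩ :=
  MulEquiv.ext fun m => Subtype.ext (by simp [pairEquiv, conjM22_apply])

theorem mem_Inn_iff {g : Pair} : pairEquiv g ∈ Inn ↥Spor.M22 ↔ g.1 ∈ Spor.M22 := by
  refine ⟨?_, fun h => ⟨⟨g.1, h⟩, (pairEquiv_of_mem h).symm⟩⟩
  rintro ⟨m, hm⟩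
  have e : g = ⟨m.1, sporM22_le_Pair m.2⟩ :=
    pairEquiv.injective (hm.symm.trans (pairEquiv_of_mem (g := ⟨m.1, sporM22_le_Pair m.2⟩) m.2).symm)
  rw [e]
  exact m.2

end Cfsg.Lib.JankoFour
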