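import Cfsg.Agent.Lib.JankoFour.M22Aut
import Cfsg.Agent.Lib.MathieuBlock.Norm
import Cfsg.Agent.Lib.FusionSys.MathieuCert

/-!
# Certified lists of transporters inside the stabiliser of the pair
-/

set_option autoImplicit false

namespace Cfsg.Lib.JankoFour.M22Cert

open Cfsg Cfsg.Lib.Concrete
open Cfsg.Lib.MathieuBlock (bAt bImg enumAll exists_mem_enumAll gidx_bp' piter_rep)
open Cfsg.Lib.FusionSys.MathieuCert (pack pcode toPerm toPerm_eq chk pmul incr nodup_of_incr)

/-- A packed permutation lies in the stabiliser of the pair. -/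
def inPair (p : ℕ) : Bool :=
  (Nat.beq (pget p 23) 23 && Nat.beq (pget p 0) 0) || (Nat.beq (pget p 23) 0 && Nat.beq (pget p 0) 23)

/-- A packed permutation fixes both points. -/
def inM22 (p : ℕ) : Bool := Nat.beq (pget p 23) 23 && Nat.beq (pget p 0) 0

/-- The packed form is the standard one. -/
def canon (p : ℕ) : Bool := Nat.beq (pack (pget p)) p

/-- An element of M24 with its inverse. -/
def elemOk (e : ℕ × ℕ) : Bool := elemCheck 0 16777215 e.1 e.2 && canon e.1

theorem pack_congr {f f' : ℕ → ℕ} (h : ∀ i ∈ bits24, f i = f' i) : pack f = pack f' :=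
  congrArg (fun l : List ℕ => l.foldr (fun x acc => x + 32 * acc) 0) (List.map_congr_left h)

theorem canon_spec {g : Equiv.Perm GolayPt} {p : ℕ} (hc : canon p = true) (hg : Rep g p) : p = pcode g :=
  (Nat.eq_of_beq_eq_true hc).symm.trans <| pack_congr fun i hi => by
    rw [hg, gidx_gpt, Fin.val_ofNat, Nat.mod_eq_of_lt (mem_bits24.1 hi)]

theorem elem_spec {e : ℕ × ℕ} (h : elemOk e = true) :
    toPerm e.1 ∈ M24 ∧ Rep (toPerm e.1) e.1 ∧ Rep (toPerm e.1)⁻¹ e.2 ∧ pcode (toPerm e.1) = e.1 := by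
  simp only [elemOk, Bool.and_eq_true] at h
  obtain ⟨g, hg, hr, hri⟩ := exists_of_elemCheck (by norm_num) h.1
  rw [toPerm_eq hr]
  exact ⟨mSub_le_M24 _ _ hg, hr, hri, (canon_spec h.2 hr).symm⟩

theorem gidx_ptA : (gidx ptA).val = 23 := by decide

theorem gidx_ptB : (gidx ptB).val = 0 := by decide

theorem inPair_iff {g : Equiv.Perm GolayPt} {p : ℕ} (hg : g ∈ M24) (hp : Rep g p) :
    inPair p = true ↔ g ∈ Pair := by
  have e : ∀ x y : GolayPt, g x = y ↔ pget p (gidx x).val = (gidx y).val := fun x y => by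
    rw [← hp x]
    exact ⟨fun h => by rw [h], fun h => gidx_injective (Fin.ext h)⟩
  simp only [mem_Pair, hg, true_and, e, gidx_ptA, gidx_ptB, inPair, Bool.or_eq_true, Bool.and_eq_true,
    Nat.beq_eq]

theorem inM22_iff {g : Equiv.Perm GolayPt} {p : ℕ} (hg : g ∈ M24) (hp : Rep g p) :
    inM22 p = true ↔ g ∈ Spor.M22 := by
  have e : ∀ x y : GolayPt, g x = y ↔ pget p (gidx x).val = (gidx y).val := fun x y => by
    rw [← hp x]
    exact ⟨fun h => by rw [h], fun h => gidx_injective (Fin.ext h)⟩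
  simp only [mem_sporM22, hg, true_and, e, gidx_ptA, gidx_ptB, inM22, Bool.and_eq_true, Nat.beq_eq]

/-- The elements of a list, as permutations. -/
def listSet (L : List ℕ) : Set (Equiv.Perm GolayPt) := {g | ∃ p ∈ L, Rep g p}

theorem ncard_listSet {L : List ℕ} (hnd : L.Nodup)
    (h : ∀ p ∈ L, ∃ q, elemOk (p, q) = true) : (listSet L).ncard = L.length := by
  classical
  have hs : listSet L = toPerm '' (L.toFinset : Set ℕ) := by
    ext g
    simp only [listSet, Set.mem_ofPred_eq, Set.mem_image, Finset.mem_coe, List.mem_toFinset]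
    constructor
    · rintro ⟨p, hp, hg⟩
      exact ⟨p, hp, toPerm_eq hg⟩
    · rintro ⟨p, hp, rfl⟩
      obtain ⟨q, hq⟩ := h p hp
      exact ⟨p, hp, (elem_spec hq).2.1⟩
  rw [hs, Set.InjOn.ncard_image, Set.ncard_coe_finset, List.toFinset_card_of_nodup hnd]
  intro a ha b hb hab
  simp only [Finset.mem_coe, List.mem_toFinset] at ha hb
  obtain ⟨qa, hqa⟩ := h a ha
  obtain ⟨qb, hqb⟩ := h b hb
  exact (elem_spec hqa).2.2.2.symm.trans ((congrArg pcode hab).trans (elem_spec hqb).2.2.2)

/-- `g` carries `x` to `y`. -/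
def moves (x y g : ℕ) : Bool := bits24.all fun i => Nat.beq (pget g (pget x i)) (pget y (pget g i))

theorem moves_iff {x y g : Equiv.Perm GolayPt} {p q r : ℕ} (hx : Rep x p) (hy : Rep y q) (hg : Rep g r) :
    moves p q r = true ↔ g * x = y * g := by
  simp only [moves, List.all_eq_true, Nat.beq_eq]
  constructor
  · intro h
    refine Equiv.ext fun z => gidx_injective (Fin.ext ?_)
    rw [Equiv.Perm.mul_apply, Equiv.Perm.mul_apply, hg, hx, hy, hg]
    exact h _ (mem_bits24.2 (gidx z).isLt)
  · intro h i hi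
    have e := congrArg (fun e : Equiv.Perm GolayPt => (gidx (e (gpt ⟨i, mem_bits24.1 hi⟩))).val) h
    simp only [Equiv.Perm.mul_apply] at e
    rw [hg, hx, hy, hg, gidx_gpt] at e
    exact e

/-- A transporter certificate: the two elements, linked base points and the expected list. -/
structure TransCert where
  x : ℕ × ℕ
  y : ℕ × ℕ
  links : List (ℕ × ℕ × ℕ)
  elems : List (ℕ × ℕ)

variable (c : TransCert)

/-- The condition on images of base points. -/
def TransCert.ok (j : ℕ) (f : ℕ → ℕ) : Bool :=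
  (!Nat.blt j 2 || Nat.beq (f j) 23 || Nat.beq (f j) 0) &&
    c.links.all fun t =>
      !Nat.beq t.1 j || !Nat.ble t.2.1 j || Nat.beq (f j) (piter c.y.1 t.2.2 (f t.2.1))

/-- The transporting elements. -/
def TransCert.keys : List ℕ := c.elems.map Prod.fst

/-- The checks. -/
def TransCert.check : Bool :=
  elemOk c.x && elemOk c.y &&
    (c.links.all fun t => Nat.blt t.1 7 && Nat.ble t.2.1 t.1 &&
      Nat.beq (piter c.x.1 t.2.2 (bAt t.2.1)) (bAt t.1)) &&
    (c.elems.all fun e => elemOk e && inPair e.1 && moves c.x.1 c.y.1 e.1) && incr c.keys &&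
    ((enumAll c.ok).filter fun g => inPair g && moves c.x.1 c.y.1 g).all fun g =>
      c.keys.any fun k => bits24.all fun i => Nat.beq (pget g i) (pget k i)

variable {c}

theorem TransCert.set_eq (h : c.check = true) :
    {g : Equiv.Perm GolayPt | g ∈ Pair ∧ g * toPerm c.x.1 = toPerm c.y.1 * g} = listSet c.keys := by
  simp only [TransCert.check, Bool.and_eq_true, List.all_eq_true, Nat.beq_eq] at h
  obtain ⟨⟨⟨⟨⟨hx, hy⟩, hl⟩, he⟩, -⟩, hen⟩ := h
  obtain ⟨-, hxr, -, -⟩ := elem_spec hx
  obtain ⟨-, hyr, -, -⟩ := elem_spec hy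
  ext g
  simp only [Set.mem_ofPred_eq, listSet]
  constructor
  · rintro ⟨hg, hgx⟩
    have hpow : ∀ e : ℕ, g * toPerm c.x.1 ^ e = toPerm c.y.1 ^ e * g := fun e =>
      (SemiconjBy.pow_right (show SemiconjBy g _ _ from hgx) e).eq
    have hok : ∀ j < 7, ∀ f f' : ℕ → ℕ, (∀ i ≤ j, f i = f' i) → c.ok j f = c.ok j f' := by
      intro j _ f f' hf
      unfold TransCert.ok
      rw [hf j le_rfl]
      congr 1
      apply Bool.eq_iff_iff.2
      simp only [List.all_eq_true, Bool.or_eq_true]
      refine forall₂_congr fun t _ => ?_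
      by_cases ht : t.2.1 ≤ j
      · rw [hf _ ht]
      · have hb : Nat.ble t.2.1 j = false := by
          by_contra hb
          exact ht (Nat.le_of_ble_eq_true (by simpa using hb))
        simp [hb]
    have hgood : ∀ j < 7, c.ok j (bImg g) = true := by
      intro j hj
      unfold TransCert.ok
      simp only [Bool.and_eq_true, Bool.or_eq_true, List.all_eq_true]
      refine ⟨?_, fun t ht => ?_⟩
      · by_cases hj2 : j < 2
        · have hb0 : bp 0 = ptA ∧ bp 1 = ptB := by decide +kernel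
          simp only [bImg, Nat.beq_eq]
          interval_cases j
          · rw [hb0.1]
            rcases hg.2 with h' | h' <;> rw [h'.1] <;> simp [gidx_ptA, gidx_ptB]
          · rw [hb0.2]
            rcases hg.2 with h' | h' <;> rw [h'.2] <;> simp [gidx_ptA, gidx_ptB]
        · left; left
          have : Nat.blt j 2 = false := by
            by_contra hb
            exact hj2 (Nat.lt_of_succ_le (Nat.le_of_ble_eq_true (by simpa [Nat.blt] using hb)))
          simp [this]
      · obtain ⟨⟨h1, h2⟩, h3⟩ := hl t ht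
        have h1 : t.1 < 7 := Nat.lt_of_succ_le (Nat.le_of_ble_eq_true h1)
        have h2 : t.2.1 ≤ t.1 := Nat.le_of_ble_eq_true h2
        by_cases htj : t.1 = j
        · right
          subst htj
          have e : (toPerm c.x.1 ^ t.2.2) (bp t.2.1) = bp t.1 := gidx_injective (Fin.ext (by
            rw [piter_rep hxr, gidx_bp' (by omega), h3, gidx_bp' h1]))
          rw [bImg, ← e, ← Equiv.Perm.mul_apply, hpow, Equiv.Perm.mul_apply, piter_rep hyr]
          exact Nat.beq_refl _
        · left; left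
          have : Nat.beq t.1 j = false := by
            by_contra hb
            exact htj (Nat.eq_of_beq_eq_true (by simpa using hb))
          simp [this]
    obtain ⟨p, hp, hpr⟩ := exists_mem_enumAll (ok := c.ok) hok hg.1 hgood
    obtain ⟨k, hk, hk'⟩ := List.any_eq_true.1 (hen p (List.mem_filter.2 ⟨hp, Bool.and_eq_true_iff.2
      ⟨(inPair_iff hg.1 hpr).2 hg, (moves_iff hxr hyr hpr).2 hgx⟩⟩))
    refine ⟨k, hk, fun z => ?_⟩
    simp only [List.all_eq_true, Nat.beq_eq] at hk'
    rw [hpr, hk' _ (mem_bits24.2 (gidx z).isLt)]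
  · rintro ⟨p, hp, hg⟩
    obtain ⟨e, hee, rfl⟩ := List.mem_map.1 hp
    obtain ⟨⟨he1, he2⟩, he3⟩ := he e hee
    obtain ⟨hM, hr, -, -⟩ := elem_spec he1
    rw [← toPerm_eq hg]
    exact ⟨(inPair_iff hM hr).1 he2, (moves_iff hxr hyr hr).1 he3⟩

theorem TransCert.ncard_eq (h : c.check = true) :
    {g : Equiv.Perm GolayPt | g ∈ Pair ∧ g * toPerm c.x.1 = toPerm c.y.1 * g}.ncard = c.elems.length := by
  rw [TransCert.set_eq h]
  simp only [TransCert.check, Bool.and_eq_true, List.all_eq_true] at h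
  rw [ncard_listSet ((nodup_of_incr h.1.2).imp fun hab => hab.ne) fun p hp => ?_]
  · simp [TransCert.keys]
  · obtain ⟨e, he, rfl⟩ := List.mem_map.1 hp
    exact ⟨e.2, (h.1.1.2 e he).1.1⟩

/-- Decidable properties checked on the list hold for all transporting elements. -/
theorem TransCert.forall_of_all (h : c.check = true) {P : Equiv.Perm GolayPt → Prop} (f : ℕ → Bool)
    (hf : ∀ g p, g ∈ Pair → Rep g p → f p = true → P g) (hall : c.keys.all f = true)
    {g : Equiv.Perm GolayPt} (hg : g ∈ Pair) (hgx : g * toPerm c.x.1 = toPerm c.y.1 * g) : P g := by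
  obtain ⟨p, hp, hr⟩ : g ∈ listSet c.keys := TransCert.set_eq h ▸ (show g ∈ {g | _} from ⟨hg, hgx⟩)
  exact hf g p hg hr (List.all_eq_true.1 hall p hp)

end Cfsg.Lib.JankoFour.M22Cert
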