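import Cfsg.Agent.Lib.JankoFour.M22Data
import Cfsg.Agent.Lib.FusionSys.MathieuCheckM22

/-!
Kernel checks of the transporter certificates for M22.
-/

set_option autoImplicit false

open Cfsg.Lib.Concrete

namespace Cfsg.Lib.JankoFour.M22Cert

/-- The certificates for order 3. -/
def transThrees : List TransCert := [transThree0, transThree1, transThree2, transThree3, transThree4, transThree5, transThree6, transThree7]

theorem transThree0_check : transThree0.check = true := by decide +kernel

theorem transThree1_check : transThree1.check = true := by decide +kernel

theorem transThree2_check : transThree2.check = true := by decide +kernel

theorem transThree3_check : transThree3.check = true := by decide +kernel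

theorem transThree4_check : transThree4.check = true := by decide +kernel

theorem transThree5_check : transThree5.check = true := by decide +kernel

theorem transThree6_check : transThree6.check = true := by decide +kernel

theorem transThree7_check : transThree7.check = true := by decide +kernel

theorem transThrees_check : transThrees.all TransCert.check = true := by
  simp only [transThrees, List.all_cons, List.all_nil, Bool.and_true, transThree0_check, transThree1_check, transThree2_check, transThree3_check, transThree4_check, transThree5_check, transThree6_check, transThree7_check]

/-- The certificates for order 5. -/
def transFives : List TransCert := [transFive1, transFive2, transFive3, transFive4]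

theorem transFive1_check : transFive1.check = true := by decide +kernel

theorem transFive2_check : transFive2.check = true := by decide +kernel

theorem transFive3_check : transFive3.check = true := by decide +kernel

theorem transFive4_check : transFive4.check = true := by decide +kernel

theorem transFives_check : transFives.all TransCert.check = true := by
  simp only [transFives, List.all_cons, List.all_nil, Bool.and_true, transFive1_check, transFive2_check, transFive3_check, transFive4_check]

/-- The certificates for order 7. -/
def transSevens : List TransCert := [transSeven1, transSeven2, transSeven3, transSeven4, transSeven5, transSeven6]

theorem transSeven1_check : transSeven1.check = true := by decide +kernel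

theorem transSeven2_check : transSeven2.check = true := by decide +kernel

theorem transSeven3_check : transSeven3.check = true := by decide +kernel

theorem transSeven4_check : transSeven4.check = true := by decide +kernel

theorem transSeven5_check : transSeven5.check = true := by decide +kernel

theorem transSeven6_check : transSeven6.check = true := by decide +kernel

theorem transSevens_check : transSevens.all TransCert.check = true := by
  simp only [transSevens, List.all_cons, List.all_nil, Bool.and_true, transSeven1_check, transSeven2_check, transSeven3_check, transSeven4_check, transSeven5_check, transSeven6_check]

/-- Conjugator checks. -/
def witOk (t : ℕ) (w : (ℕ × ℕ) × (ℕ × ℕ)) : Bool :=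
  elemOk w.1 && elemOk w.2 && inM22 w.2.1 && moves w.1.1 t w.2.1

theorem invWit_check : invWit.all (witOk invRep.1) = true := by decide +kernel

theorem threeWit_check : threeWit.all (witOk transThree0.x.1) = true := by decide +kernel

/-- Every involution of the Sylow 2-subgroup is listed. -/
theorem invWit_complete :
    (FusionSys.MathieuCert.certM22.keys.all fun p =>
      !(bits24.all fun i => Nat.beq (pget p (pget p i)) i) || (bits24.all fun i => Nat.beq (pget p i) i) ||
        invWit.any fun w => bits24.all fun i => Nat.beq (pget p i) (pget w.1.1 i)) = true := by decide +kernel

end Cfsg.Lib.JankoFour.M22Cert
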