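import Cfsg.Agent.Lib.JankoFour.M22Checks

/-!
Counting the elements of the stabiliser of the pair that normalise given small subgroups.
-/

set_option autoImplicit false

namespace Cfsg.Lib.JankoFour.M22Cert

open Cfsg Cfsg.Lib.Concrete
open Cfsg.Lib.FusionSys.MathieuCert (toPerm toPerm_eq pcode)

theorem TransCert.check_y {c : TransCert} (h : c.check = true) : elemOk c.y = true := by
  simp only [TransCert.check, Bool.and_eq_true] at h
  exact h.1.1.1.1.2

theorem TransCert.check_x {c : TransCert} (h : c.check = true) : elemOk c.x = true := by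
  simp only [TransCert.check, Bool.and_eq_true] at h
  exact h.1.1.1.1.1

/-- Transporters to one of several elements, cut by a predicate, form the filtered concatenation. -/
theorem transUnion {L : List TransCert} (hL : L.all TransCert.check = true) {x : ℕ}
    (hx : (L.all fun c => Nat.beq c.x.1 x) = true) (f : ℕ → Bool)
    (Q : Equiv.Perm GolayPt → Prop) (hf : ∀ g p, g ∈ Pair → Rep g p → (f p = true ↔ Q g))
    (hnd : ((L.flatMap TransCert.keys).filter f).Nodup) :
    {g : Equiv.Perm GolayPt | g ∈ Pair ∧ (∃ c ∈ L, g * toPerm x = toPerm c.y.1 * g) ∧ Q g}.ncard =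
      ((L.flatMap TransCert.keys).filter f).length := by
  simp only [List.all_eq_true, Nat.beq_eq] at hL hx
  have hs : {g : Equiv.Perm GolayPt | g ∈ Pair ∧ (∃ c ∈ L, g * toPerm x = toPerm c.y.1 * g) ∧ Q g} =
      listSet ((L.flatMap TransCert.keys).filter f) := by
    ext g
    simp only [Set.mem_ofPred_eq, listSet, List.mem_filter, List.mem_flatMap]
    constructor
    · rintro ⟨hg, ⟨c, hc, hgx⟩, hQ⟩
      obtain ⟨p, hp, hr⟩ : g ∈ listSet c.keys := TransCert.set_eq (hL c hc) ▸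
        (show g ∈ {g | _} from ⟨hg, by rw [hx c hc]; exact hgx⟩)
      exact ⟨p, ⟨⟨c, hc, hp⟩, (hf g p hg hr).2 hQ⟩, hr⟩
    · rintro ⟨p, ⟨⟨c, hc, hp⟩, hfp⟩, hr⟩
      have hm : g ∈ {g | g ∈ Pair ∧ g * toPerm c.x.1 = toPerm c.y.1 * g} := by
        rw [TransCert.set_eq (hL c hc)]; exact ⟨p, hp, hr⟩
      exact ⟨hm.1, ⟨c, hc, hx c hc ▸ hm.2⟩, (hf g p hm.1 hr).1 hfp⟩
  rw [hs, ncard_listSet hnd fun p hp => ?_]
  obtain ⟨c, hc, hp⟩ := List.mem_flatMap.1 (List.mem_filter.1 hp).1
  obtain ⟨e, he, rfl⟩ := List.mem_map.1 hp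
  have h := hL c hc
  simp only [TransCert.check, Bool.and_eq_true, List.all_eq_true] at h
  exact ⟨e.2, (h.1.1.2 e he).1.1⟩

theorem rep_pcode {g : Equiv.Perm GolayPt} {e : ℕ × ℕ} (h : elemOk e = true) :
    g = toPerm e.1 ↔ Rep g e.1 :=
  ⟨fun h' => h' ▸ (elem_spec h).2.1, fun hr => (toPerm_eq hr).symm⟩

/-- Equality of packed permutations on all positions. -/
def sameP (p q : ℕ) : Bool := bits24.all fun i => Nat.beq (pget p i) (pget q i)

theorem sameP_iff {g h : Equiv.Perm GolayPt} {p q : ℕ} (hg : Rep g p) (hh : Rep h q) :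
    sameP p q = true ↔ g = h := by
  simp only [sameP, List.all_eq_true, Nat.beq_eq]
  refine ⟨fun e => Equiv.ext fun z => gidx_injective (Fin.ext ?_), fun e i hi => ?_⟩
  · rw [hg, hh]
    exact e _ (mem_bits24.2 (gidx z).isLt)
  · subst e
    rw [← hg.apply ⟨i, mem_bits24.1 hi⟩, ← hh.apply ⟨i, mem_bits24.1 hi⟩]

end Cfsg.Lib.JankoFour.M22Cert
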