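import Cfsg.Agent.Lib.JankoFour.Into
import Cfsg.Agent.Lib.JankoFour.BitModel.NoEleven

/-!
# No group of order `2¹¹` contains certain pairs

A conjugate `j` of `z` in `E` outside the standard group and a member of the second class which it centralizes.
-/

set_option autoImplicit false
set_option linter.style.haveILetI false
set_option linter.unusedSectionVars false

namespace Cfsg.Lib.JankoFour

open Cfsg Cfsg.Lib.Extra Module BitModel

variable {G : Type*} [Group G] [Finite G] {A : Type} [Group A] {I : Subgroup A}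

namespace Adapted

variable {F : Frame G A I} {D : HexData A I} {S : Std F D} (C : Adapted S)

include C in
/-- Groups with elements of the same nontrivial image agree. -/
theorem eleven_img_eq {U U' : Subgroup G} (hU : F.IsEleven U) (hU' : F.IsEleven U') {x y : G} (hx : x ∈ U)
    (hy : y ∈ U') (he : F.img x = F.img y) (hne : F.img x ≠ 1) : U = U' := by
  obtain ⟨-, -, -, -, -, hcls, -⟩ := C.model
  obtain ⟨d, hd, hde⟩ := S.conj_eleven hU
  obtain ⟨T, W, hTI, -, -, hT, -⟩ := F.eleven_data hU.1 hU.2.1 hU.2.2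
  obtain ⟨v, hv, hve⟩ := C.exists_el (x := d * x * d⁻¹) (hde ▸ mem_map_conj.2 hx)
  have hv128 : ¬ v < 128 := fun h => by
    have hm := F.img_mem (C.el_mem_K h).1
    rw [hve, F.img_conj hd (hU.1 x hx)] at hm
    exact hne (conj_eq_one_iff.1 hm)
  have h := allLt_spec comm_any hv
  rw [Bool.or_eq_true, Nat.blt_eq] at h
  obtain ⟨c, hc, hcD⟩ := List.any_eq_true.1 (h.resolve_left hv128)
  obtain ⟨e, he', hec⟩ := C.exists_e (List.mem_range.1 hc)
  -- the commutator
  set a := d⁻¹ * e * d with ha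
  have haE : a ∈ F.E := by simpa [ha] using F.conj_mem hd.inv_left he'
  have hlt : eAct c v ^^^ v < 2048 := Nat.xor_lt_two_pow (n := 11) (C.eAct_lt c hv) hv
  have hconj : d * (a * x * a⁻¹ * x) * d⁻¹ = C.el (eAct c v ^^^ v) := by
    rw [C.el_xor, ← hec, ← C.el_eAct he' hv, hve, ha]
    group
  set w := a * x * a⁻¹ * x
  have hwU : w ∈ U := mul_mem ((Subgroup.mem_normalizer_iff.1 (S.eleven_E hU haE) x).1 hx) hx
  have hwD : w ≠ 1 ∧ ¬ IsConj F.z w := by
    have hv0 : eAct c v ^^^ v ≠ 0 := fun h0 => by rw [h0, inD_zero] at hcD; exact Bool.false_ne_true hcD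
    refine ⟨fun h1 => hv0 (C.el_eq_one hlt ?_), fun hz => ?_⟩
    · rw [← hconj, h1, mul_one, mul_inv_cancel]
    · rw [← isConj_conj_iff (g := d), hconj, hcls _ hlt, hcD] at hz
      exact Bool.noConfusion hz.2
  have hxz := hU.1 x hx
  have hyz := hU'.1 y hy
  have hact := F.act_eq_of_img hxz hyz (hTI ((hT _).2 ⟨x, hx, rfl⟩)) he
    (by rw [hU.2.1 x hx]; exact one_mem _) (by rw [hU'.2.1 y hy]; exact one_mem _)
  set w' := a * y * a⁻¹ * y
  have hw'U : w' ∈ U' := mul_mem ((Subgroup.mem_normalizer_iff.1 (S.eleven_E hU' haE) y).1 hy) hy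
  have hrew : ∀ {u : G}, u * u = 1 → a * u * a⁻¹ * u = a * (u * a⁻¹ * u⁻¹) := fun h => by
    rw [inv_eq_of_mul_eq_one_right h]; simp [mul_assoc]
  have e1 : JankoFour.cls F.ctx w = F.cls a + F.act x (F.cls a⁻¹) := by
    show JankoFour.cls F.ctx (a * x * a⁻¹ * x) = _
    rw [hrew (hU.2.1 x hx), cls_mul F.ctx haE (F.conj_mem hxz (inv_mem haE)), ← act_cls F.ctx hxz (inv_mem haE)]
  have e2 : JankoFour.cls F.ctx w' = F.cls a + F.act y (F.cls a⁻¹) := by
    show JankoFour.cls F.ctx (a * y * a⁻¹ * y) = _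
    rw [hrew (hU'.2.1 y hy), cls_mul F.ctx haE (F.conj_mem hyz (inv_mem haE)), ← act_cls F.ctx hyz (inv_mem haE)]
  have hwE : ∀ {u : G}, Commute u F.z → u * u = 1 → a * u * a⁻¹ * u ∈ F.E := fun hu h => by
    rw [hrew h]
    exact mul_mem haE (F.conj_mem hu (inv_mem haE))
  refine C.uniq hU hU' hwU ?_ hwD.1 hwD.2
  rcases (cls_eq_iff F.ctx (hwE hxz (hU.2.1 x hx)) (hwE hyz (hU'.2.1 y hy))).1
    (by rw [e1, e2, hact]) with h | h <;> rw [show w = _ from h]
  exacts [hw'U, mul_mem (S.eleven_z hU') hw'U]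

include C in
/-- A group through a conjugate of `z` of `E` meets both extraspecial groups in 32 elements. -/
theorem meet_both {j k : G} (hjE : j ∈ F.E) (hj : k * F.z * k⁻¹ = j) (hjz : j ≠ F.z) {V : Subgroup G}
    (hV : F.IsEleven V) (hjV : j ∈ V) :
    F.p * j * F.p⁻¹ ∈ (F.conj k).E ∧ Nat.card ↥(V ⊓ F.E ⊓ (F.conj k).E) = 32 := by
  obtain ⟨-, -, -, -, -, hcls, -⟩ := C.model
  obtain ⟨d1, hd1, hd1e⟩ := S.conj_eleven hV
  obtain ⟨v, hv, hve⟩ := C.exists_el (x := d1 * j * d1⁻¹) (hd1e ▸ mem_map_conj.2 hjV)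
  have hj1 : j ≠ 1 := fun e => F.ctx.ne_one (by
    rw [show F.z = k⁻¹ * j * k by rw [← hj]; group, e]; group)
  have hv128 : v < 128 := (C.el_mem_E_iff hv).1 (hve ▸ F.conj_mem hd1 hjE)
  have hz' : IsConj F.z (C.el v) := by
    rw [hve, isConj_conj_iff]
    exact isConj_iff.2 ⟨k, hj⟩
  obtain ⟨hv0, hvD⟩ := (hcls v hv).1 hz'
  have hv1 : v ≠ 1 := by
    rintro rfl
    rw [C.el_one] at hve
    exact hjz (by
      calc j = d1⁻¹ * (d1 * j * d1⁻¹) * d1 := by group
        _ = F.z := by rw [← hve, hd1.inv_left.eq, inv_mul_cancel_right])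
  obtain ⟨n1, hn1, hn1z, hn1e⟩ := C.orbit_fixed hv128 (by omega)
  obtain ⟨n2, hn2, hn2z, hn2e⟩ := C.orbit_fixed (show 56 < 128 by norm_num) (by norm_num)
  rw [hvD] at hn1e
  rw [show inD 56 = false by decide +kernel] at hn2e
  simp only [Bool.false_eq_true, if_false] at hn1e hn2e
  set d := n2 * n1⁻¹ * d1
  have hd : Commute d F.z := (hn2z.mul_left hn1z.inv_left).mul_left hd1
  have hdj : d * j * d⁻¹ = C.el 56 := by
    rw [show d * j * d⁻¹ = n2 * (n1⁻¹ * (d1 * j * d1⁻¹) * n1) * n2⁻¹ by simp only [d]; group, ← hve, ← hn1e,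
      show n1⁻¹ * (n1 * C.el 10 * n1⁻¹) * n1 = C.el 10 by group, hn2e]
  have hdV : V.map (MulAut.conj d).toMonoidHom = S.Vb := by
    rw [show d = n2 * n1⁻¹ * d1 from rfl, map_mul]
    have e := map_of_mem_normalizer (mul_mem hn2 (inv_mem hn1))
    rw [← hd1e] at e
    rw [Subgroup.map_map] at e
    exact e.trans hd1e
  obtain ⟨n, hn, hne⟩ := C.exists_conj_seven (Or.inl rfl)
  have hs1 : seven.getD 1 0 = 56 := by decide +kernel
  have hEE : (F.conj (d * k)).E = (F.conj n).E := F.conj_E_eq (by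
    rw [hne, hs1, ← hdj, ← hj]; group)
  have hmem : ∀ {x : G}, x ∈ (F.conj k).E ↔ n⁻¹ * (d * x * d⁻¹) * n ∈ F.E := fun {x} => by
    rw [← F.mem_conj_E (g := n), ← hEE, F.mem_conj_E, F.mem_conj_E,
      show (d * k)⁻¹ * (d * x * d⁻¹) * (d * k) = k⁻¹ * x * k by group]
  have hm := meet_fifty_six
  rw [Bool.and_eq_true] at hm
  refine ⟨?_, ?_⟩
  · -- the translate
    have hall := hm.2
    simp only [List.all_eq_true] at hall
    have hb : ∀ (b : Bool), ∀ y ∈ [rot 28, rot (rot 28), 28], n⁻¹ * C.el (code b y 0) * n ∈ F.E := fun b y hy =>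
      C.mem_of_mask (by norm_num) hn hne (code_lt (by
        have : ∀ y ∈ [rot 28, rot (rot 28), 28], y < 64 := by decide +kernel
        exact this y hy) (by norm_num)) (hall b (by cases b <;> simp) y hy)
    rw [hmem]
    have hpz : Commute (d * F.p * d⁻¹) F.z := (hd.mul_left F.p_comm).mul_left hd.inv_left
    obtain ⟨e, he, i, hei⟩ := (F.img_ker _ hpz).1
      (by rw [F.img_conj hd F.p_comm, F.img_p, mul_one, mul_inv_cancel])
    rw [show d * (F.p * j * F.p⁻¹) * d⁻¹ = d * F.p * d⁻¹ * (d * j * d⁻¹) * (d * F.p * d⁻¹)⁻¹ by group, hei, hdj,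
      show e * F.p ^ i * C.el 56 * (e * F.p ^ i)⁻¹ = e * (F.p ^ i * C.el 56 * (F.p ^ i)⁻¹) * e⁻¹ by group]
    have hpow : ∀ i : ℕ, ∃ y ∈ [rot 28, rot (rot 28), 28],
        F.p ^ i * C.el 56 * (F.p ^ i)⁻¹ = C.el (code false y 0) := by
      intro i
      induction i with
      | zero =>
        refine ⟨28, by simp, ?_⟩
        rw [pow_zero, inv_one, one_mul, mul_one, show code false 28 0 = 56 by decide +kernel]
      | succ i ih =>
        obtain ⟨y, hy, he⟩ := ih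
        have hy2 := (show ∀ y ∈ [rot 28, rot (rot 28), 28], y < 64 ∧ rot y ∈ [rot 28, rot (rot 28), 28] by
          decide +kernel) y hy
        refine ⟨rot y, hy2.2, ?_⟩
        rw [show F.p ^ (i + 1) * C.el 56 * (F.p ^ (i + 1))⁻¹ = F.p * (F.p ^ i * C.el 56 * (F.p ^ i)⁻¹) * F.p⁻¹ by
          rw [pow_succ']; group, he, C.el_p false hy2.1]
    obtain ⟨y, hy, hye⟩ := hpow i
    have hy64 : y < 64 := (show ∀ y ∈ [rot 28, rot (rot 28), 28], y < 64 by decide +kernel) y hy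
    rw [hye, C.el_eAct he (code_lt hy64 (by norm_num)), C.eAct_code _ hy64,
      show app 0 (C.chi (F.cls e)) = 0 from (show ∀ c < 64, app 0 c = 0 by decide +kernel) _ (C.chi_lt _),
      Nat.xor_zero]
    exact hb _ y hy
  · classical
    rw [show Nat.card ↥(V ⊓ F.E ⊓ (F.conj k).E) = ((V ⊓ F.E ⊓ (F.conj k).E : Subgroup G) : Set G).ncard from
      (Nat.card_coe_set_eq _), ← Set.ncard_image_of_injective _ (MulAut.conj d).injective,
      C.ncard_codes (P := fun w => Nat.blt w 128 && (kMasks.getD 1 0).testBit w) ?_ fun w hw => ?_]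
    · have h := Nat.eq_of_beq_eq_true hm.1
      exact h
    · rintro _ ⟨x, hx, rfl⟩
      exact hdV ▸ ⟨x, hx.1.1, rfl⟩
    · rw [Bool.and_eq_true, Nat.blt_eq]
      constructor
      · rintro ⟨x, ⟨⟨-, hxE⟩, hxk⟩, hxw⟩
        rw [MulAut.conj_apply] at hxw
        exact ⟨(C.el_mem_E_iff hw).1 (hxw ▸ F.conj_mem hd hxE),
          C.mask_of_mem (Or.inl rfl) hn hne hw (hxw ▸ hmem.1 hxk)⟩
      · rintro ⟨hw128, hb⟩
        refine ⟨d⁻¹ * C.el w * d, ⟨⟨?_, ?_⟩, hmem.2 ?_⟩, show d * (d⁻¹ * C.el w * d) * d⁻¹ = C.el w by group⟩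
        · show d⁻¹ * C.el w * d ∈ V
          rw [← mem_map_conj (d := d), hdV, show d * (d⁻¹ * C.el w * d) * d⁻¹ = C.el w by group]
          exact C.el_mem w
        · simpa using F.conj_mem hd.inv_left (C.el_mem_K hw128).1
        · rw [show d * (d⁻¹ * C.el w * d) * d⁻¹ = C.el w by group]
          exact C.mem_of_mask (by norm_num) hn hne hw hb

include C in
/-- No group of order `2¹¹` contains such a pair. -/
theorem no_eleven {j t : G} (hjE : j ∈ F.E) (hjK : j ∉ S.K) (hj : IsConj F.z j) (ht : t ∈ S.K) (ht1 : t ≠ 1)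
    (htnc : ¬ IsConj F.z t) (hc : Commute j t) {V' : Subgroup G} (hV' : IsBig V') (hjV' : j ∈ V') :
    t ∉ V' := by
  classical
  intro htV'
  letI := Fintype.ofFinite G
  obtain ⟨k, hk⟩ := isConj_iff.1 hj
  have hjz : j ≠ F.z := fun e => hjK (e ▸ S.z_mem_K)
  have hj2 : j * j = 1 := hV'.1 j hjV'
  -- the five groups
  have h5 : {V | F.IsEleven V ∧ j ∈ V}.ncard = 5 := by
    obtain ⟨d, hd, hdK⟩ := C.fused_E hjE hj2
    obtain ⟨v, hv, hve⟩ := C.exists_el (S.K_le hdK)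
    obtain ⟨-, -, -, -, -, hcls, -⟩ := C.model
    obtain ⟨hv0, hvD⟩ := (hcls v hv).1 (by rw [hve, isConj_conj_iff]; exact hj)
    have hv128 : v < 128 := (C.el_mem_E_iff hv).1 (hve ▸ hdK.1)
    have hv1 : v ≠ 1 := by
      rintro rfl
      rw [C.el_one] at hve
      exact hjz (by
        calc j = d⁻¹ * (d * j * d⁻¹) * d := by group
          _ = F.z := by rw [← hve, hd.inv_left.eq, inv_mul_cancel_right])
    have h := C.containing_fixed hv128 (by omega)
    rw [hvD, if_neg Bool.false_ne_true, C.incidence.1, hve, S.ncard_containing hd] at h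
    exact h
  set F' := F.conj k
  have hz' : F'.z = j := hk
  have hf : Frame.Fused F F' := ⟨by rw [hz']; exact hjz, by rw [hz']; exact hjE,
    F.ctx.mem_symm (g := k) (by rw [hk]; exact hjE)⟩
  obtain ⟨S'⟩ := exists_std F' D S.six S.hres
  obtain ⟨C'⟩ := exists_adapted S'
  set W := {V | F.IsEleven V ∧ j ∈ V}.toFinset
  have hW : W.card = 5 := by rw [← Set.ncard_eq_toFinset_card', h5]
  have hW' : ∀ {V}, V ∈ W → F.IsEleven V ∧ j ∈ V ∧ F'.IsEleven V := fun {V} hV => by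
    obtain ⟨h1, h2⟩ := Set.mem_toFinset.1 hV
    exact ⟨h1, h2, fun x hx => hz'.symm ▸ commute_of_sq h1.2.1 hx h2, h1.2.1, h1.2.2⟩
  have hnoV : ∀ {V}, V ∈ W → t ∉ V := fun {V} hV htV => by
    obtain ⟨h1, h2, -⟩ := hW' hV
    exact hjK (S.Vb_inf_E ▸ ⟨(C.uniq h1 S.isEleven htV (S.K_le ht) ht1 htnc) ▸ h2, hjE⟩)
  -- the part common to all
  set J := F.clsPre (F.line (F.cls j))
  have hJc : Nat.card ↥J = 8 := by
    rw [F.card_clsPre, F.finrank_line fun e => ?_]
    · norm_num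
    · rcases (cls_eq_zero F.ctx hjE).1 e with h | h
      · exact F.ctx.ne_one (conj_eq_one_iff.1 (hk.trans h))
      · exact hjz h
  have hJ : ∀ {V}, V ∈ W → J ≤ V ⊓ F.E ⊓ F'.E := fun {V} hV => by
    obtain ⟨h1, h2, -⟩ := hW' hV
    have hp := C.meet_both hjE hk hjz h1 h2
    have hj' : j ∈ V ⊓ F.E ⊓ F'.E := ⟨⟨h2, hjE⟩, hz' ▸ F'.ctx.mem⟩
    have hzz : F.z ∈ V ⊓ F.E ⊓ F'.E := ⟨⟨S.eleven_z h1, F.ctx.mem⟩, hf.mem'⟩
    have hpj : F.p * j * F.p⁻¹ ∈ V ⊓ F.E ⊓ F'.E :=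
      ⟨⟨(Subgroup.mem_normalizer_iff.1 (S.eleven_p h1) j).1 h2, F.conj_mem F.p_comm hjE⟩, hp.1⟩
    intro a ha
    obtain ⟨haE, hal⟩ := ha
    have key : ∀ b ∈ V ⊓ F.E ⊓ F'.E, F.cls a = F.cls b → a ∈ V ⊓ F.E ⊓ F'.E := fun b hb e => by
      rcases (cls_eq_iff F.ctx haE hb.1.2).1 e with h | h <;> rw [h]
      exacts [hb, mul_mem hzz hb]
    have ecls : F.cls (F.p * j * F.p⁻¹) = F.act F.p (F.cls j) := (act_cls F.ctx F.p_comm hjE).symm
    rcases F.mem_line.1 hal with h | h | h | h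
    · exact key 1 (one_mem _) (h.trans (cls_one F.ctx).symm)
    · exact key j hj' h
    · exact key _ hpj (h.trans ecls.symm)
    · refine key _ (mul_mem hj' hpj) (h.trans ?_)
      show _ = JankoFour.cls F.ctx (j * (F.p * j * F.p⁻¹))
      rw [cls_mul F.ctx hjE hpj.1.2, show JankoFour.cls F.ctx (F.p * j * F.p⁻¹) = _ from ecls, F.act_p_sq]
  by_cases htE : t ∈ F'.E
  · -- the intersections cover
    set P : Subgroup G → Finset G := fun V => ((V ⊓ F.E ⊓ F'.E : Subgroup G) : Set G).toFinset \ (J : Set G).toFinset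
    have hP : ∀ V ∈ W, (P V).card = 24 := fun V hV => by
      obtain ⟨h1, h2, -⟩ := hW' hV
      rw [Finset.card_sdiff_of_subset (Set.toFinset_subset_toFinset.2 (hJ hV)), ← Set.ncard_eq_toFinset_card',
        ← Set.ncard_eq_toFinset_card', ← Nat.card_coe_set_eq, ← Nat.card_coe_set_eq]
      change Nat.card ↥(V ⊓ F.E ⊓ F'.E) - Nat.card ↥J = 24
      rw [(C.meet_both hjE hk hjz h1 h2).2, hJc]
    have hdis : (W : Set (Subgroup G)).PairwiseDisjoint P := by
      intro V hV U hU hne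
      refine Finset.disjoint_left.2 fun a ha ha' => ?_
      simp only [P, Finset.mem_sdiff, Set.mem_toFinset] at ha ha'
      refine ha.2 ?_
      have hle : J ≤ V ⊓ U ⊓ F.E := fun b hb => ⟨⟨(hJ hV hb).1.1, (hJ hU hb).1.1⟩, hb.1⟩
      rw [Subgroup.eq_of_le_of_card_ge hle (by
        rw [hJc]; exact S.meet_le (hW' hV).1 (hW' hU).1 hne)]
      exact ⟨⟨ha.1.1.1, ha'.1.1.1⟩, ha.1.1.2⟩
    have hsub : W.biUnion P ⊆ ((F.E ⊓ F'.E : Subgroup G) : Set G).toFinset \ (J : Set G).toFinset := fun a ha => by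
      obtain ⟨V, -, haV⟩ := Finset.mem_biUnion.1 ha
      simp only [P, Finset.mem_sdiff, Set.mem_toFinset] at haV ⊢
      exact ⟨⟨haV.1.1.2, haV.1.2⟩, haV.2⟩
    obtain ⟨V1, hV1⟩ := Finset.card_pos.1 (show 0 < W.card by omega)
    have heq := Finset.eq_of_subset_of_card_le hsub (le_of_eq (by
      rw [Finset.card_biUnion hdis, Finset.sum_congr rfl hP, Finset.sum_const, hW,
        Finset.card_sdiff_of_subset (Set.toFinset_subset_toFinset.2 (show J ≤ F.E ⊓ F'.E from fun a ha => ⟨ha.1, (hJ hV1 ha).2⟩)),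
        ← Set.ncard_eq_toFinset_card', ← Set.ncard_eq_toFinset_card', ← Nat.card_coe_set_eq, ← Nat.card_coe_set_eq]
      change Nat.card ↥(F.E ⊓ F'.E) - Nat.card ↥J = 5 • 24
      rw [hf.card_K, hJc]
      norm_num))
    by_cases htJ : t ∈ J
    · exact hnoV hV1 (hJ hV1 htJ).1.1
    · have hm : t ∈ W.biUnion P := by
        rw [heq, Finset.mem_sdiff, Set.mem_toFinset, Set.mem_toFinset]
        exact ⟨⟨ht.1, htE⟩, htJ⟩
      obtain ⟨V, hV, hm⟩ := Finset.mem_biUnion.1 hm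
      simp only [P, Finset.mem_sdiff, Set.mem_toFinset] at hm
      exact hnoV hV hm.1.1.1
  · -- the images cover
    haveI := F.finite_A
    letI : Fintype A := Fintype.ofFinite A
    have hV'e : F'.IsEleven V' := ⟨fun x hx => hz'.symm ▸ commute_of_sq hV'.1 hx hjV', hV'.1, hV'.2⟩
    have htne : F'.img t ≠ 1 := fun h => htE (hf.mem_E'_of_img ht.1 (hz'.symm ▸ hc.symm) h)
    set T2 := I ⊓ hf.theta.range
    have hT2 : Nat.card ↥T2 ≤ 16 := by
      have hsplit : Nat.card ↥hf.theta.range = I.relIndex hf.theta.range * Nat.card ↥T2 := by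
        rw [← Subgroup.inf_relIndex_right, ← Subgroup.relIndex_mul_relIndex ⊥ (I ⊓ hf.theta.range) hf.theta.range
          bot_le inf_le_right |>.trans (Subgroup.relIndex_bot_left _), Subgroup.relIndex_bot_left, mul_comm]
      obtain ⟨-, -, h2, h32⟩ := hf.card_data
      rw [h2, h32] at hsplit
      omega
    have hin : ∀ {U : Subgroup G} {x : G}, F'.IsEleven U → x ∈ U → x ∈ F.E → F'.img x ∈ T2 := fun {U x} hU hx hxE => by
      obtain ⟨T, W0, hTI, -, -, hT, -⟩ := F'.eleven_data hU.1 hU.2.1 hU.2.2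
      exact ⟨hTI ((hT _).2 ⟨x, hx, rfl⟩), ⟨⟨x, hxE, Subgroup.mem_centralizer_singleton_iff.2 (hU.1 x hx)⟩, rfl⟩⟩
    set P : Subgroup G → Finset A := fun V => (F'.img '' ((V ⊓ F.E : Subgroup G) : Set G)).toFinset.erase 1
    have hP : ∀ V ∈ W, (P V).card = 3 := fun V hV => by
      obtain ⟨h1, h2, h1'⟩ := hW' hV
      rw [Finset.card_erase_of_mem (by
        rw [Set.mem_toFinset]
        exact ⟨1, one_mem (V ⊓ F.E), F'.img_one⟩), ← Set.ncard_eq_toFinset_card']
      have hcz : ∀ {x}, x ∈ V → Commute x F'.z := fun {x} hx => h1'.1 x hx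
      have hcount := ncard_image_mul_card (H := V ⊓ F.E) (K := V ⊓ F.E ⊓ F'.E) inf_le_left F'.img
        fun x hx y hy => by
          rw [show F'.img x = F'.img y ↔ F'.img (x⁻¹ * y) = 1 by
            rw [F'.img_mul _ _ (hcz hx.1).inv_left (hcz hy.1), F'.img_inv (hcz hx.1), inv_mul_eq_one]]
          refine ⟨fun h => ⟨(V ⊓ F.E).mul_mem ((V ⊓ F.E).inv_mem hx) hy, hf.mem_E'_of_img (F.E.mul_mem (F.E.inv_mem hx.2) hy.2)
            ((hcz hx.1).inv_left.mul_left (hcz hy.1)) h⟩, fun h => F'.img_mem h.2⟩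
      obtain ⟨T, U, -, -, -, -, hU6, -, -, hVE⟩ := F.eleven_data h1.1 h1.2.1 h1.2.2
      rw [(C.meet_both hjE hk hjz h1 h2).2, show Nat.card ↥(V ⊓ F.E) = 128 by
        rw [hVE, F.card_clsPre, hU6]; norm_num] at hcount
      omega
    have hdis : (W : Set (Subgroup G)).PairwiseDisjoint P := by
      intro V hV U hU hne
      refine Finset.disjoint_left.2 fun a ha ha' => hne ?_
      simp only [P, Finset.mem_erase, Set.mem_toFinset] at ha ha'
      obtain ⟨ha1, x, hx, rfl⟩ := ha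
      obtain ⟨-, y, hy, hxy⟩ := ha'
      exact C'.eleven_img_eq (hW' hV).2.2 (hW' hU).2.2 hx.1 hy.1 hxy.symm ha1
    have hsub : W.biUnion P ⊆ ((T2 : Set A).toFinset.erase 1) := fun a ha => by
      obtain ⟨V, hV, haV⟩ := Finset.mem_biUnion.1 ha
      simp only [P, Finset.mem_erase, Set.mem_toFinset] at haV ⊢
      obtain ⟨ha1, x, hx, rfl⟩ := haV
      exact ⟨ha1, hin (hW' hV).2.2 hx.1 hx.2⟩
    have heq := Finset.eq_of_subset_of_card_le hsub (by
      rw [Finset.card_biUnion hdis, Finset.sum_congr rfl hP, Finset.sum_const, hW,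
        Finset.card_erase_of_mem (Set.mem_toFinset.2 (one_mem T2)), ← Set.ncard_eq_toFinset_card',
        ← Nat.card_coe_set_eq]
      change Nat.card ↥T2 - 1 ≤ 5 • 3
      norm_num
      rw [← Nat.card_eq_fintype_card]
      omega)
    have hm : F'.img t ∈ W.biUnion P := by
      rw [heq, Finset.mem_erase, Set.mem_toFinset]
      exact ⟨htne, hin hV'e htV' ht.1⟩
    obtain ⟨V, hV, hm⟩ := Finset.mem_biUnion.1 hm
    simp only [P, Finset.mem_erase, Set.mem_toFinset] at hm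
    obtain ⟨-, x, hx, hxt⟩ := hm
    refine hnoV hV ?_
    rw [C'.eleven_img_eq (hW' hV).2.2 hV'e hx.1 htV' hxt (hxt ▸ htne)]
    exact htV'

end Adapted

end Cfsg.Lib.JankoFour
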