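import Cfsg.Agent.Lib.JankoFour.Center

/-!
# The odd core of `C(p)` is `⟨p⟩`
-/

set_option autoImplicit false
set_option linter.style.haveILetI false
set_option linter.unusedSectionVars false

namespace Cfsg.Lib.JankoFour

open Cfsg Cfsg.Lib.Extra Module
open scoped commutatorElement

namespace Frame

variable {G : Type*} [Group G] [Finite G] {A : Type} [Group A] {I : Subgroup A} (F : Frame G A I)

/-- The part of the odd core centralizing the other involution is `⟨p⟩`. -/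
theorem O_other {k : G} (hXC : F.p ∈ (F.conj k).C) (hX1 : (F.conj k).img F.p ≠ 1) {o : G} (ho : o ∈ F.O)
    (hot : Commute o (F.conj k).z) : o ∈ Subgroup.zpowers F.p := by
  haveI : FiniteDimensional (ZMod 2) (F.conj k).V := Module.Finite.of_finite
  set F' := F.conj k
  have hop := F.O_comm ho
  have hpt := (F'.mem_C.1 hXC).1
  have hfix : ∀ v ∈ F'.fix F.p, F'.act o v = v := by
    intro v hv
    obtain ⟨q, hq, rfl⟩ := cls_surj F'.ctx v
    have hpq : Commute F.p q := F'.commute_of_fixed hXC hq (F'.mem_ker_disp.1 hv)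
    have h1 : o * q * o⁻¹ * q⁻¹ = 1 := by
      refine F.eq_one_O_E (F' := F') ?_ (F'.E.mul_mem (F'.conj_mem hot hq) (F'.E.inv_mem hq))
      rw [show o * q * o⁻¹ * q⁻¹ = o * (q * o⁻¹ * q⁻¹) by group]
      exact F.O.mul_mem ho (F.O_conj (F.O.inv_mem ho) hpq.symm)
    show F'.act o (F'.cls q) = F'.cls q
    rw [act_cls F'.ctx hot hq, mul_inv_eq_one.1 h1]
  obtain ⟨j, hj⟩ := F'.img_mem_powers hXC F.p_cube hX1 hot hop F.O_odd (F.pow_card_O ho)
  have hpj : Commute (F.p ^ j) F'.z := hpt.pow_left j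
  set m := (F.p ^ j)⁻¹ * o with hm
  have hmz : Commute m F'.z := hpj.inv_left.mul_left hot
  obtain ⟨e, he, i, hmi⟩ := (F'.img_ker m hmz).1
    (by rw [hm, F'.img_mul _ _ hpj.inv_left hot, F'.img_inv hpj, F'.img_pow hpt, hj, inv_mul_cancel])
  obtain ⟨v, hv, hv0⟩ : ∃ v ∈ F'.fix F.p, v ≠ 0 := by
    refine (Submodule.ne_bot_iff _).1 fun h => ?_
    have := (F'.finrank_fix_three hXC F.p_cube hX1).1
    rw [h, finrank_bot] at this
    omega
  have hi : F'.act (F'.p ^ i) v = v := by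
    have hpi : Commute (F'.p ^ i) F'.z := F'.p_comm.pow_left i
    have h1 : F'.act m v = F'.act (F'.p ^ i) v := by
      rw [hmi, act_mul F'.ctx (F'.comm_of_mem he) hpi, act_of_mem F'.ctx he]
    have hfj : F'.act (F.p ^ j) v = v := F'.act_pow_fix hpt (F'.mem_ker_disp.1 hv) j
    rw [← h1, hm, act_mul F'.ctx hpj.inv_left hot, hfix v hv]
    conv_lhs => rw [← hfj]
    exact act_inv_act F'.ctx hpj v
  have hi3 : 3 ∣ i := by
    by_contra h
    have hmod : F'.p ^ i = F'.p ^ (i % 3) := by rw [← F'.p_ord, pow_mod_orderOf]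
    rw [hmod] at hi
    rcases (show i % 3 = 1 ∨ i % 3 = 2 by omega) with e1 | e1 <;> rw [e1] at hi
    · exact hv0 (F'.act_p_eq (by rwa [pow_one] at hi))
    · have h3 := F'.act_pow_fix (F'.p_comm.pow_left 2) hi 2
      rw [← pow_mul, show F'.p ^ (2 * 2) = F'.p by
        rw [show 2 * 2 = 3 + 1 from rfl, pow_succ, F'.p_cube, one_mul]] at h3
      exact hv0 (F'.act_p_eq h3)
  rw [F'.p_pow_eq_one.2 hi3, mul_one] at hmi
  have hmO : m ∈ F.O := F.O.mul_mem (F.O.inv_mem (pow_mem F.p_mem_O j)) ho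
  have h1 := F.eq_one_O_E hmO (hmi ▸ he)
  rw [hm, inv_mul_eq_one] at h1
  rw [← h1]
  exact pow_mem (Subgroup.mem_zpowers _) j

theorem zpowers_eq_pow {x : G} (h : x ∈ Subgroup.zpowers F.p) : ∃ i : ℕ, x = F.p ^ i := by
  obtain ⟨i, hi⟩ := mem_powers_iff_mem_zpowers.2 h
  exact ⟨i, hi.symm⟩

theorem zpowers_inv_two {x : G} (h : x ∈ Subgroup.zpowers F.p) (h2 : x * x = 1) : x = 1 := by
  obtain ⟨i, rfl⟩ := F.zpowers_eq_pow h
  rw [← pow_add, F.p_pow_eq_one] at h2
  exact F.p_pow_eq_one.2 (by omega)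

/-- An involution with trivial centralizer on `O/⟨p⟩` inverts it. -/
theorem inverted {s : G} (hs : Commute s F.p) (hs2 : s * s = 1)
    (hfix : ∀ o ∈ F.O, Commute o s → o ∈ Subgroup.zpowers F.p) {x : G} (hx : x ∈ F.O) :
    x * (s * x * s⁻¹) ∈ Subgroup.zpowers F.p := by
  classical
  have hpO : Subgroup.zpowers F.p ≤ F.O := Subgroup.zpowers_le.2 F.p_mem_O
  set Z := (Subgroup.zpowers F.p).subgroupOf F.O with hZ
  haveI : Z.Normal := ⟨fun n hn g => by
    rw [hZ, Subgroup.mem_subgroupOf] at hn ⊢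
    obtain ⟨i, hi⟩ := F.zpowers_eq_pow hn
    show (g : G) * (n : G) * (g : G)⁻¹ ∈ Subgroup.zpowers F.p
    rw [hi, ((F.O_comm g.2).pow_right i).eq, mul_inv_cancel_right]
    exact pow_mem (Subgroup.mem_zpowers _) i⟩
  let σ : ↥F.O →* ↥F.O :=
    { toFun := fun o => ⟨s * o * s⁻¹, F.O_conj o.2 hs⟩
      map_one' := Subtype.ext (by simp)
      map_mul' := fun a b => Subtype.ext (by simp [mul_assoc]) }
  have hσ : Z ≤ Z.comap σ := fun n hn => by
    rw [Subgroup.mem_comap, hZ, Subgroup.mem_subgroupOf] at *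
    obtain ⟨i, hi⟩ := F.zpowers_eq_pow hn
    show s * (n : G) * s⁻¹ ∈ _
    rw [hi, (hs.pow_right i).eq, mul_inv_cancel_right]
    exact pow_mem (Subgroup.mem_zpowers _) i
  let φ : ↥F.O ⧸ Z →* ↥F.O ⧸ Z := QuotientGroup.map Z Z σ hσ
  have hss : ∀ y : G, s * (s * y * s⁻¹) * s⁻¹ = y := fun y => by
    rw [show s * (s * y * s⁻¹) * s⁻¹ = (s * s) * y * (s * s)⁻¹ by group, hs2]; simp
  have hff : MonoidHom.FixedPointFree φ := by
    intro q hq
    obtain ⟨o, rfl⟩ := QuotientGroup.mk_surjective q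
    rw [QuotientGroup.map_mk, eq_comm, QuotientGroup.eq, hZ, Subgroup.mem_subgroupOf] at hq
    have hk : (o : G)⁻¹ * (s * o * s⁻¹) ∈ Subgroup.zpowers F.p := hq
    obtain ⟨i, hi⟩ := F.zpowers_eq_pow hk
    have e1 : s * (o : G) * s⁻¹ = o * F.p ^ i := by rw [← hi, mul_inv_cancel_left]
    have e2 := congrArg (fun y => s * y * s⁻¹) e1
    simp only [hss] at e2
    rw [show s * ((o : G) * F.p ^ i) * s⁻¹ = s * o * s⁻¹ * (s * F.p ^ i * s⁻¹) by group, e1,
      (hs.pow_right i).eq, mul_inv_cancel_right, mul_assoc] at e2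
    rw [F.zpowers_inv_two (pow_mem (Subgroup.mem_zpowers _) i) (left_eq_mul.1 e2), mul_one] at e1
    rw [QuotientGroup.eq_one_iff, hZ, Subgroup.mem_subgroupOf]
    exact hfix o o.2 (mul_inv_eq_iff_eq_mul.1 e1).symm
  have hinv : Function.Involutive φ := fun q => by
    obtain ⟨o, rfl⟩ := QuotientGroup.mk_surjective q
    rw [QuotientGroup.map_mk, QuotientGroup.map_mk]
    exact congrArg _ (Subtype.ext (hss o))
  have h := congrFun (hff.coe_eq_inv_of_involutive hinv) (QuotientGroup.mk ⟨x, hx⟩)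
  rw [QuotientGroup.map_mk, ← QuotientGroup.mk_inv, eq_comm, QuotientGroup.eq, hZ, Subgroup.mem_subgroupOf] at h
  exact (by simpa using h : x * ((σ ⟨x, hx⟩ : ↥F.O) : G) ∈ Subgroup.zpowers F.p)

/-- Elements of the other group centralizing `p` centralize `z`. -/
theorem other_fixed_mem_C {F' : Frame G A I} (hzt : Commute F.z F'.z) {q : G} (hq : q ∈ F'.E)
    (hqp : Commute q F.p) : q ∈ F.C := by
  obtain ⟨c, hc, o, ho, hqe⟩ := F.exists_decomp hqp
  have hc' := F.mem_C.1 hc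
  refine F.mem_C.2 ⟨?_, hqp⟩
  have h1 : q * F.z * q⁻¹ * F.z⁻¹ = c * (o * (F.z * o⁻¹ * F.z⁻¹)) * c⁻¹ := by
    rw [hqe]
    calc c * o * F.z * (c * o)⁻¹ * F.z⁻¹ = c * (o * F.z * o⁻¹) * (c⁻¹ * F.z⁻¹) := by group
      _ = c * (o * F.z * o⁻¹) * (F.z⁻¹ * c⁻¹) := by rw [hc'.1.inv_left.inv_right.eq]
      _ = _ := by group
  have hO : q * F.z * q⁻¹ * F.z⁻¹ ∈ F.O := by
    rw [h1]
    exact F.O_conj (F.O.mul_mem ho (F.O_conj (F.O.inv_mem ho) F.p_comm.symm)) hc'.2
  have hE : q * F.z * q⁻¹ * F.z⁻¹ ∈ F'.E := by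
    rw [show q * F.z * q⁻¹ * F.z⁻¹ = q * (F.z * q⁻¹ * F.z⁻¹) by group]
    exact F'.E.mul_mem hq (F'.conj_mem hzt (F'.E.inv_mem hq))
  exact mul_inv_eq_iff_eq_mul.1 (mul_inv_eq_one.1 (F.eq_one_O_E hO hE))

/-- The centralizer of `p` lies in the centralizer of `z`. -/
theorem commute_z_of_commute_p (hres : Cfsg.pResidual 2 G = ⊤) {x : G} (hx : Commute x F.p) : Commute x F.z := by
  obtain ⟨t, ht, hne, m, hm⟩ := F.exists_conj_C hres
  obtain ⟨k, hk, hXC, hX1⟩ := F.exists_other ht hne hm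
  haveI : FiniteDimensional (ZMod 2) (F.conj k).V := Module.Finite.of_finite
  set F' := F.conj k with hF'
  have hzk : F'.z = t := hk
  obtain ⟨htz, htp⟩ := F.mem_C.1 ht
  have ht2 : t * t = 1 := hzk ▸ F'.ctx.sq_z
  have ht1 : t ≠ 1 := hzk ▸ F'.ctx.ne_one
  have hti : F.img t ≠ 1 := fun h => by
    rcases F.fixed t (F.mem_E_of_two htz h (n := 1) (by rw [pow_one, pow_two, ht2])) htp with e | e
    exacts [ht1 e, hne e]
  -- the product of the two involutions centralizes the odd core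
  have htO : ∀ o ∈ F.O, Commute (t * F.z) o := by
    intro o ho
    have h1 := F.inverted F.p_comm.symm F.ctx.sq_z (fun a ha hac => F.O_center ha hac) ho
    have h2 := F.inverted htp ht2 (fun a ha hac => F.O_other hXC hX1 ha (hzk.symm ▸ hac)) ho
    obtain ⟨i, hi⟩ := F.zpowers_eq_pow h1
    obtain ⟨j, hj⟩ := F.zpowers_eq_pow h2
    have e1 : F.z * o * F.z⁻¹ = o⁻¹ * F.p ^ i := by rw [← hi, inv_mul_cancel_left]
    have e2 : t * o * t⁻¹ = o⁻¹ * F.p ^ j := by rw [← hj, inv_mul_cancel_left]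
    have hoi : ∀ n, Commute (F.p ^ n) o := fun n => (F.O_comm ho).symm.pow_left n
    set w := t * F.z
    have hwp : Commute w F.p := htp.mul_left F.p_comm.symm
    have e3 : w * o * w⁻¹ = ((F.p ^ j)⁻¹ * F.p ^ i) * o := by
      calc w * o * w⁻¹ = t * (F.z * o * F.z⁻¹) * t⁻¹ := by show t * F.z * o * (t * F.z)⁻¹ = _; group
        _ = (t * o * t⁻¹)⁻¹ * (t * F.p ^ i * t⁻¹) := by rw [e1]; group
        _ = (F.p ^ j)⁻¹ * o * F.p ^ i := by rw [e2, (htp.pow_right i).eq, mul_inv_cancel_right]; group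
        _ = _ := by rw [mul_assoc, ← (hoi i).eq, mul_assoc]
    set d := (F.p ^ j)⁻¹ * F.p ^ i
    have hd : d ∈ Subgroup.zpowers F.p :=
      mul_mem (inv_mem (pow_mem (Subgroup.mem_zpowers _) j)) (pow_mem (Subgroup.mem_zpowers _) i)
    have hwd : Commute w d := by
      exact ((hwp.pow_right j).inv_right).mul_right (hwp.pow_right i)
    have hww : w * w = 1 := by
      show t * F.z * (t * F.z) = 1
      rw [show t * F.z * (t * F.z) = t * (F.z * t) * F.z by group, ← htz.eq, ← mul_assoc, ht2, one_mul, F.ctx.sq_z]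
    have e4 : o = d * d * o := by
      have e5 : w * (w * o * w⁻¹) * w⁻¹ = o := by
        rw [show w * (w * o * w⁻¹) * w⁻¹ = (w * w) * o * (w * w)⁻¹ by group, hww]; simp
      rw [e3, show w * (d * o) * w⁻¹ = w * d * w⁻¹ * (w * o * w⁻¹) by group, hwd.eq, mul_inv_cancel_right, e3,
        ← mul_assoc] at e5
      exact e5.symm
    rw [F.zpowers_inv_two hd (right_eq_mul.1 e4), one_mul] at e3
    exact mul_inv_eq_iff_eq_mul.1 e3
  -- the elements of `C` centralizing the odd core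
  set N := F.C ⊓ Subgroup.centralizer (F.O : Set G)
  have mN : ∀ {a}, a ∈ N → ∀ o ∈ F.O, Commute a o := fun ha o ho =>
    (Subgroup.mem_centralizer_iff.1 ha.2 o ho).symm
  have hNn : ∀ c ∈ F.C, ∀ n ∈ N, c * n * c⁻¹ ∈ N := fun c hc n hn =>
    ⟨F.C.mul_mem (F.C.mul_mem hc hn.1) (F.C.inv_mem hc), Subgroup.mem_centralizer_iff.2 fun o ho => by
      have h1 := mN hn (c⁻¹ * o * c) (by
        have := F.O_conj ho (F.C.inv_mem hc |> fun h => (F.mem_C.1 h).2)
        rwa [inv_inv] at this)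
      have h2 := h1.map (MulAut.conj c).toMonoidHom
      simp only [MulEquiv.coe_toMonoidHom, MulAut.conj_apply] at h2
      rw [show c * (c⁻¹ * o * c) * c⁻¹ = o by group] at h2
      exact h2.symm.eq⟩
  have hwN : t * F.z ∈ N :=
    ⟨F.C.mul_mem ht F.z_mem_C, Subgroup.mem_centralizer_iff.2 fun o ho => (htO o ho).symm.eq⟩
  have hcomm := F.commutator_le_of_normal hNn hwN hwN.1
    (by rwa [F.img_mul _ _ htz (Commute.refl _), F.img_mem F.ctx.mem, mul_one])
  -- the fixed part of the other group is not abelian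
  have hdim := (F'.finrank_fix_three hXC F.p_cube hX1).1
  have hXz := (F'.mem_C.1 hXC).1
  obtain ⟨v, hv, w, hw, hvw⟩ : ∃ v ∈ F'.fix F.p, ∃ w ∈ F'.fix F.p, JankoFour.B F'.ctx v w = 1 := by
    by_contra hcon
    push Not at hcon
    obtain ⟨v, hv, hv0⟩ := (Submodule.ne_bot_iff _).1
      (fun h => by rw [h, finrank_bot] at hdim; omega : F'.fix F.p ≠ ⊥)
    refine hv0 ((B_nondegenerate F'.ctx).1 v fun u => ?_)
    have hu : u = F'.proj F.p u + F'.disp F.p (F'.act F.p u) := by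
      rw [proj_apply, disp_apply, show u + F'.act F.p u + F'.act F.p (F'.act F.p u) +
        (F'.act F.p (F'.act F.p u) + F'.act F.p u) = u + (F'.act F.p u + F'.act F.p u) +
        (F'.act F.p (F'.act F.p u) + F'.act F.p (F'.act F.p u)) by abel, bar_self, bar_self, add_zero, add_zero]
    rw [hu, map_add, (bit _).resolve_right (hcon v hv _ (F'.proj_mem hXz F.p_cube u)), zero_add]
    exact F'.B_fix_disp hXz hv _
  obtain ⟨q1, hq1, rfl⟩ := cls_surj F'.ctx v
  obtain ⟨q2, hq2, rfl⟩ := cls_surj F'.ctx w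
  have hc1 := (F'.commute_of_fixed hXC hq1 (F'.mem_ker_disp.1 hv)).symm
  have hc2 := (F'.commute_of_fixed hXC hq2 (F'.mem_ker_disp.1 hw)).symm
  have hzt : Commute F.z F'.z := hzk.symm ▸ htz.symm
  have hC1 := F.other_fixed_mem_C hzt hq1 hc1
  have hC2 := F.other_fixed_mem_C hzt hq2 hc2
  have htN : t ∈ N := by
    refine hcomm ?_
    have e := Subgroup.commutator_mem_commutator hC1 hC2
    rwa [commutatorElement_def, (Bf_cls_one F'.ctx hq1 hq2).1 hvw, mul_inv_cancel_right, hzk] at e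
  have hzN : F.z ∈ N := by
    have := N.mul_mem htN hwN
    rwa [← mul_assoc, ht2, one_mul] at this
  obtain ⟨c, hc, o, ho, rfl⟩ := F.exists_decomp hx
  exact (F.mem_C.1 hc).1.mul_left (mN hzN o ho).symm

end Frame

end Cfsg.Lib.JankoFour
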