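import Cfsg.Agent.Lib.JankoFour.Mathieu
import Cfsg.Agent.Lib.JankoFour.BitModel.Planes
import Mathlib.Combinatorics.Enumerative.DoubleCounting

/-!
# The groups of order `2¹¹` in the centralizer of `z`

There are 77 of them; the involutions of `E` in the standard one form two orbits of its normalizer in `C(z)`.
-/

set_option autoImplicit false
set_option linter.style.haveILetI false
set_option linter.unusedSectionVars false

namespace Cfsg.Lib.JankoFour

open Cfsg Cfsg.Lib.Extra Module BitModel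

variable {G : Type*} [Group G] [Finite G] {A : Type} [Group A] {I : Subgroup A}

/-- Fibres that are cosets. -/
theorem ncard_image_mul_card {α : Type*} {H K : Subgroup G} (hK : K ≤ H) (f : G → α)
    (hf : ∀ a ∈ H, ∀ b ∈ H, f a = f b ↔ a⁻¹ * b ∈ K) : (f '' (H : Set G)).ncard * Nat.card ↥K = Nat.card ↥H := by
  let g : ↥H ⧸ K.subgroupOf H → (f '' (H : Set G) : Set α) :=
    Quotient.lift (fun a : ↥H => (⟨f a, a, a.2, rfl⟩ : (f '' (H : Set G) : Set α))) fun a b hab =>
      Subtype.ext ((hf a a.2 b b.2).2 (Subgroup.mem_subgroupOf.1 (QuotientGroup.leftRel_apply.1 hab)))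
  have hg : Function.Bijective g := by
    refine ⟨?_, ?_⟩
    · rintro ⟨a⟩ ⟨b⟩ e
      exact QuotientGroup.eq.2 (Subgroup.mem_subgroupOf.2 ((hf a a.2 b b.2).1 (congrArg Subtype.val e)))
    · rintro ⟨_, a, ha, rfl⟩
      exact ⟨QuotientGroup.mk ⟨a, ha⟩, rfl⟩
  rw [← Nat.card_coe_set_eq, ← Nat.card_eq_of_bijective g hg,
    ← Nat.card_congr (Subgroup.subgroupOfEquivOfLe hK).toEquiv,
    ← Subgroup.card_eq_card_quotient_mul_card_subgroup]

/-- Counting pairs in two ways. -/
theorem ncard_double {α β : Type*} [Finite α] [Finite β] {O : Set α} {W : Set β} (R : α → β → Prop) {k N : ℕ}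
    (h1 : ∀ a ∈ O, {b | b ∈ W ∧ R a b}.ncard = k) (h2 : ∀ b ∈ W, {a | a ∈ O ∧ R a b}.ncard = N) :
    O.ncard * k = W.ncard * N := by
  classical
  letI := Fintype.ofFinite α
  letI := Fintype.ofFinite β
  rw [Set.ncard_eq_toFinset_card', Set.ncard_eq_toFinset_card']
  refine Finset.card_mul_eq_card_mul R (fun a ha => ?_) fun b hb => ?_
  · rw [← h1 a (Set.mem_toFinset.1 ha), ← Set.ncard_coe_finset]
    congr 1
    ext b
    simp
  · rw [← h2 b (Set.mem_toFinset.1 hb), ← Set.ncard_coe_finset]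
    congr 1
    ext a
    simp

theorem mem_map_conj {V : Subgroup G} {d x : G} :
    d * x * d⁻¹ ∈ V.map (MulAut.conj d).toMonoidHom ↔ x ∈ V :=
  Subgroup.mem_map_iff_mem (MulAut.conj d).injective

namespace Frame

/-- The conjugates of an element under the centralizer of `z`. -/
def zOrb (F : Frame G A I) (a : G) : Set G := {b | ∃ d, Commute d F.z ∧ d * a * d⁻¹ = b}

theorem card_zOrb (F : Frame G A I) (a : G) :
    (F.zOrb a).ncard * Nat.card ↥(Subgroup.centralizer ({F.z} : Set G) ⊓ Subgroup.centralizer ({a} : Set G)) =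
      2 ^ 13 * 3 * 887040 := by
  rw [← F.card_centralizer_z]
  convert ncard_image_mul_card (H := Subgroup.centralizer ({F.z} : Set G))
    (K := Subgroup.centralizer ({F.z} : Set G) ⊓ Subgroup.centralizer ({a} : Set G)) inf_le_left
    (fun d => d * a * d⁻¹) (fun x hx y hy => ?_) using 3
  · ext b
    exact ⟨fun ⟨d, hd, e⟩ => ⟨d, F.centralizer_z_iff.2 hd, e⟩, fun ⟨d, hd, e⟩ => ⟨d, F.centralizer_z_iff.1 hd, e⟩⟩
  rw [Subgroup.mem_inf, and_iff_right (mul_mem (inv_mem hx) hy), Subgroup.mem_centralizer_singleton_iff]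
  constructor
  · intro e
    calc x⁻¹ * y * a = x⁻¹ * (y * a * y⁻¹) * y := by group
      _ = a * (x⁻¹ * y) := by rw [← e]; group
  · intro e
    calc x * a * x⁻¹ = x * (a * (x⁻¹ * y)) * y⁻¹ := by group
      _ = y * a * y⁻¹ := by rw [← e]; group

end Frame

namespace Std

variable {F : Frame G A I} {D : HexData A I} (S : Std F D)

include S

theorem eleven_z {V : Subgroup G} (hV : F.IsEleven V) : F.z ∈ V := by
  obtain ⟨d, hd, he⟩ := S.conj_eleven hV
  refine (mem_map_conj (d := d)).1 ?_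
  rw [hd.eq, mul_inv_cancel_right, he]
  exact S.z_mem

theorem eleven_normalizes {V : Subgroup G} (hV : F.IsEleven V) {x : G} (hx : Commute x F.z) (h1 : F.img x = 1) :
    x ∈ Subgroup.normalizer (V : Set G) := by
  obtain ⟨d, hd, he⟩ := S.conj_eleven hV
  have hN : d * x * d⁻¹ ∈ S.NV := S.normalizes ((hd.mul_left hx).mul_left hd.inv_left) fun a ha => by
    rw [F.img_conj hd hx, h1, mul_one, mul_inv_cancel, one_mul, inv_one, mul_one]
    exact ha
  have key : ∀ y, y ∈ V ↔ d * y * d⁻¹ ∈ S.Vb := fun y => by rw [← he, mem_map_conj]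
  refine Subgroup.mem_normalizer_iff.2 fun y => ?_
  rw [key, key, show d * (x * y * x⁻¹) * d⁻¹ = d * x * d⁻¹ * (d * y * d⁻¹) * (d * x * d⁻¹)⁻¹ by group]
  exact Subgroup.mem_normalizer_iff.1 hN _

theorem eleven_E {V : Subgroup G} (hV : F.IsEleven V) {e : G} (he : e ∈ F.E) :
    e ∈ Subgroup.normalizer (V : Set G) :=
  S.eleven_normalizes hV (F.comm_of_mem he) (F.img_mem he)

theorem eleven_p {V : Subgroup G} (hV : F.IsEleven V) : F.p ∈ Subgroup.normalizer (V : Set G) :=
  S.eleven_normalizes hV F.p_comm F.img_p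

/-- The number of groups containing an element is invariant. -/
theorem ncard_containing {a d : G} (hd : Commute d F.z) :
    {V | F.IsEleven V ∧ d * a * d⁻¹ ∈ V}.ncard = {V | F.IsEleven V ∧ a ∈ V}.ncard := by
  rw [← Set.ncard_image_of_injective {V | F.IsEleven V ∧ a ∈ V}
    (Subgroup.map_injective (f := (MulAut.conj d).toMonoidHom) (MulAut.conj d).injective)]
  congr 1
  ext V
  constructor
  · rintro ⟨hV, ha⟩
    have e : (V.map (MulAut.conj d⁻¹).toMonoidHom).map (MulAut.conj d).toMonoidHom = V := by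
      rw [Subgroup.map_map]
      ext x
      simp [Subgroup.mem_map, mul_assoc]
    refine ⟨V.map (MulAut.conj d⁻¹).toMonoidHom, ⟨F.isEleven_conj hd.inv_left hV, ?_⟩, e⟩
    rwa [← mem_map_conj (d := d), e]
  · rintro ⟨V', ⟨hV', ha⟩, rfl⟩
    exact ⟨F.isEleven_conj hd hV', mem_map_conj.2 ha⟩

theorem ncard_inside {a : G} {V : Subgroup G} (hV : F.IsEleven V) :
    {b | b ∈ F.zOrb a ∧ b ∈ V}.ncard = {b | b ∈ F.zOrb a ∧ b ∈ S.Vb}.ncard := by
  obtain ⟨d, hd, he⟩ := S.conj_eleven hV
  rw [← Set.ncard_image_of_injective {b | b ∈ F.zOrb a ∧ b ∈ V} (MulAut.conj d).injective]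
  congr 1
  ext b
  constructor
  · rintro ⟨y, ⟨⟨k, hk, rfl⟩, hy⟩, rfl⟩
    exact ⟨⟨d * k, hd.mul_left hk, by simp [mul_assoc]⟩, he ▸ mem_map_conj.2 hy⟩
  · rintro ⟨⟨k, hk, rfl⟩, hb⟩
    refine ⟨d⁻¹ * k * a * (d⁻¹ * k)⁻¹, ⟨⟨d⁻¹ * k, hd.inv_left.mul_left hk, rfl⟩, ?_⟩, by simp [mul_assoc]⟩
    rw [← mem_map_conj (d := d), he]
    convert hb using 1
    group

end Std

namespace Adapted

variable {F : Frame G A I} {D : HexData A I} {S : Std F D} (C : Adapted S)

include C in
theorem card_NV_inf :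
    1771 * Nat.card ↥(S.NV ⊓ Subgroup.centralizer ({F.z} : Set G)) = 2 ^ 11 * 244823040 := by
  obtain ⟨-, -, -, h1771, -⟩ := C.model
  rw [← C.card_NV, ← h1771]
  convert ncard_image_mul_card (H := S.NV) (K := S.NV ⊓ Subgroup.centralizer ({F.z} : Set G)) inf_le_left
    (fun d => d * F.z * d⁻¹) (fun x hx y hy => ?_) using 3
  · rfl
  rw [Subgroup.mem_inf, and_iff_right (mul_mem (inv_mem hx) hy), Subgroup.mem_centralizer_singleton_iff]
  constructor
  · intro e
    calc x⁻¹ * y * F.z = x⁻¹ * (y * F.z * y⁻¹) * y := by group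
      _ = F.z * (x⁻¹ * y) := by rw [← e]; group
  · intro e
    calc x * F.z * x⁻¹ = x * (F.z * (x⁻¹ * y)) * y⁻¹ := by group
      _ = y * F.z * y⁻¹ := by rw [← e]; group

include C in
/-- There are 77 of them. -/
theorem ncard_elevens : {V | F.IsEleven V}.ncard = 77 := by
  have h1 := C.card_NV_inf
  set K := S.NV ⊓ Subgroup.centralizer ({F.z} : Set G)
  have h2 : {V | F.IsEleven V}.ncard * Nat.card ↥K = 2 ^ 13 * 3 * 887040 := by
    rw [← F.card_centralizer_z]
    convert ncard_image_mul_card (H := Subgroup.centralizer ({F.z} : Set G)) (K := K) inf_le_right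
      (fun d => S.Vb.map (MulAut.conj d).toMonoidHom) (fun x hx y hy => ?_) using 3
    · ext V
      constructor
      · intro hV
        obtain ⟨d, hd, he⟩ := S.conj_eleven hV
        refine ⟨d⁻¹, inv_mem (F.centralizer_z_iff.2 hd), ?_⟩
        show Subgroup.map _ S.Vb = V
        rw [← he, Subgroup.map_map]
        ext x
        simp [Subgroup.mem_map, mul_assoc]
      · rintro ⟨d, hd, rfl⟩
        exact F.isEleven_conj (F.centralizer_z_iff.1 hd) S.isEleven
    have hcomp : ∀ g h : G, (S.Vb.map (MulAut.conj h).toMonoidHom).map (MulAut.conj g).toMonoidHom =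
        S.Vb.map (MulAut.conj (g * h)).toMonoidHom := fun g h => by
      rw [Subgroup.map_map, map_mul]
      rfl
    rw [Subgroup.mem_inf, and_iff_left (mul_mem (inv_mem hx) hy)]
    constructor
    · intro e
      refine mem_normalizer_of_map ?_
      rw [← hcomp, ← e, hcomp, inv_mul_cancel]
      ext g
      simp [Subgroup.mem_map]
    · intro e
      conv_lhs => rw [← map_of_mem_normalizer e]
      rw [hcomp, mul_inv_cancel_left]
  have h3 : {V | F.IsEleven V}.ncard * (1771 * Nat.card ↥K) = 1771 * (2 ^ 13 * 3 * 887040) := by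
    rw [← h2]; ring
  rw [h1] at h3
  omega

theorem el_mem_K {v : ℕ} (hv : v < 128) : C.el v ∈ S.K := by
  have h : cu v = 0 := Nat.div_eq_of_lt hv
  rw [el, h, C.cL_zero, mul_one]
  exact mul_mem (pickB_mem S.z_mem_K _) (C.w0_mem _)

theorem el_mem_E_iff {v : ℕ} (hv : v < 2048) : C.el v ∈ F.E ↔ v < 128 := by
  refine ⟨fun h => ?_, fun h => (C.el_mem_K h).1⟩
  by_contra h'
  refine C.cL_img_ne (cu_lt hv) (by unfold cu; omega) ?_
  rw [← C.img_el (cb v) (cx_lt v), code_parts, F.img_mem h]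

include C in
/-- The generators act inside the normalizer in the centralizer. -/
theorem kGen_conj {w : ℕ} (hw : w < 128) {y : ℕ} (hy : y ∈ kGen w) :
    ∃ n ∈ S.NV, Commute n F.z ∧ n * C.el w * n⁻¹ = C.el y := by
  obtain ⟨h3, h12, -⟩ := C.model
  have hu : cu w = 0 := Nat.div_eq_of_lt hw
  have hx := cx_lt w
  have hw' : w < 2048 := by omega
  have hE : ∀ k < 64, ∃ n ∈ S.NV, Commute n F.z ∧ n * C.el w * n⁻¹ = C.el (eAct k w) := fun k hk => by
    obtain ⟨e, he, hec⟩ := C.exists_e hk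
    exact ⟨e, S.E_normalizes he, F.comm_of_mem he, by rw [C.el_eAct he hw', hec]⟩
  have hcode : code (cb w) (cx w) 0 = w := by rw [← hu, code_parts]
  simp only [kGen, List.mem_cons, List.not_mem_nil, or_false] at hy
  rcases hy with rfl | rfl | rfl | rfl | rfl | rfl | rfl | rfl | rfl | rfl
  iterate 6 exact hE _ (by norm_num)
  · exact ⟨F.p, S.p_normalizes, F.p_comm, by rw [← C.el_p _ hx, hcode]⟩
  · refine ⟨C.d, C.normalizer_d, C.d_z, ?_⟩
    conv_lhs => rw [← hcode, C.el_d _ hx (by norm_num), h3]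
    rw [Bool.false_and, Bool.xor_false]
    rfl
  · refine ⟨C.Y, C.normalizer_Y, C.Y_z, ?_⟩
    conv_lhs => rw [← hcode, C.el_Y _ hx (by norm_num), h12]
    rw [Bool.false_and, Bool.xor_false]
    rfl
  · obtain ⟨n, hn, hne⟩ := C.exists_of_map mix_ok
    refine ⟨n, hn, mul_inv_eq_iff_eq_mul.1 ?_, hne w hw'⟩
    rw [← C.el_one, hne 1 (by norm_num)]
    rfl

include C in
/-- In the fixed part there are only two orbits. -/
theorem orbit_fixed {v : ℕ} (hv : v < 128) (h2 : 2 ≤ v) :
    ∃ n ∈ S.NV, Commute n F.z ∧ n * C.el (if inD v then 2 else 10) * n⁻¹ = C.el v := by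
  have key : ∀ r, ∀ xs, chain [r] xs = true → ∀ x ∈ r :: xs, ∃ n ∈ S.NV, Commute n F.z ∧
      n * C.el r * n⁻¹ = C.el x := by
    intro r xs hc x hx
    have h0 : ∃ n ∈ S.NV, Commute n F.z ∧ n * C.el r * n⁻¹ = C.el r :=
      ⟨1, one_mem _, Commute.one_left _, by group⟩
    rcases List.mem_cons.1 hx with rfl | hx
    · exact h0
    refine chain_spec (P := fun x => ∃ n ∈ S.NV, Commute n F.z ∧ n * C.el r * n⁻¹ = C.el x)
      (fun w hw ⟨n, hn, hnz, hne⟩ y hy => ?_) xs [r]
      (fun w hw => by rw [List.mem_singleton.1 hw]; exact h0) hc x hx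
    obtain ⟨m, hm, hmz, hme⟩ := C.kGen_conj hw hy
    exact ⟨m * n, mul_mem hm hn, hmz.mul_left hnz, by rw [← hme, ← hne]; group⟩
  have h := allLt_spec chain_cover hv
  simp only [Bool.or_eq_true] at h
  rcases h with (h | h) | h
  · have := Nat.eq_of_beq_eq_true h; omega
  · have := Nat.eq_of_beq_eq_true h; omega
  · cases hD : inD v <;> rw [hD] at h <;>
      simp only [Bool.false_eq_true, if_false, if_true] at h ⊢ <;>
      obtain ⟨w, hw, hwv⟩ := List.any_eq_true.1 h <;> obtain rfl := Nat.eq_of_beq_eq_true hwv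
    exacts [key 10 zChain zChain_ok v hw, key 2 dChain dChain_ok v hw]

include C in
/-- The members of an orbit in the standard group. -/
theorem inside_fixed {r : ℕ} (hr : r = 10 ∨ r = 2) {v : ℕ} (hv : v < 2048) :
    C.el v ∈ F.zOrb (C.el r) ↔ (Nat.ble 2 v && Nat.blt v 128 && (inD v == inD r)) = true := by
  obtain ⟨-, -, -, -, -, hcls, -⟩ := C.model
  have hr' : r < 128 ∧ 2 ≤ r ∧ (if inD r then 2 else 10) = r := by
    rcases hr with rfl | rfl <;> decide +kernel
  simp only [Bool.and_eq_true, Nat.ble_eq, Nat.blt_eq, beq_iff_eq]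
  constructor
  · rintro ⟨d, hd, he⟩
    have hE : C.el v ∈ F.E := he ▸ F.conj_mem hd (C.el_mem_K hr'.1).1
    have hv0 : v ≠ 0 := by
      rintro rfl
      rw [C.el_zero, conj_eq_one_iff] at he
      have := C.el_eq_one (by omega) he
      omega
    have hv1 : v ≠ 1 := by
      rintro rfl
      rw [C.el_one] at he
      have e : C.el r = F.z := by
        calc C.el r = d⁻¹ * (d * C.el r * d⁻¹) * d := by group
          _ = F.z := by rw [he, hd.inv_left.eq, inv_mul_cancel_right]
      have := C.el_inj (v := r) (w := 1) (by omega) (by norm_num) (e.trans C.el_one.symm)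
      omega
    refine ⟨⟨by omega, (C.el_mem_E_iff hv).1 hE⟩, ?_⟩
    have h1 := hcls v hv
    rw [← he, isConj_conj_iff, hcls r (by omega)] at h1
    simp only [ne_eq, hv0, show r ≠ 0 by omega, not_false_eq_true, true_and] at h1
    revert h1
    cases inD v <;> cases inD r <;> simp
  · rintro ⟨⟨h2, h128⟩, hD⟩
    obtain ⟨n, -, hnz, hne⟩ := C.orbit_fixed h128 h2
    rw [hD, hr'.2.2] at hne
    exact ⟨n, hnz, hne⟩

include C in
theorem zOrb_mul_containing {r : ℕ} (hr : r = 10 ∨ r = 2) {N : ℕ}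
    (hN : Nat.beq ((List.range 2048).filter fun v => Nat.ble 2 v && Nat.blt v 128 && (inD v == inD r)).length N = true) :
    (F.zOrb (C.el r)).ncard * {V | F.IsEleven V ∧ C.el r ∈ V}.ncard = 77 * N := by
  rw [← C.ncard_elevens]
  refine ncard_double (fun (b : G) (V : Subgroup G) => b ∈ V) ?_ fun V hV => ?_
  · rintro _ ⟨d, hd, rfl⟩
    exact S.ncard_containing hd
  · refine (S.ncard_inside hV).trans ?_
    rw [C.ncard_codes (fun x hx => hx.2) (fun v hv => ?_)]
    · exact Nat.eq_of_beq_eq_true hN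
    · exact (and_iff_left (C.el_mem v)).trans (C.inside_fixed hr hv)

end Adapted

end Cfsg.Lib.JankoFour
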