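import Cfsg.Agent.Lib.JankoFour.Conj

/-!
# Two frames whose involutions lie in each other's extraspecial group
-/

set_option autoImplicit false
set_option linter.style.haveILetI false
set_option linter.unusedSectionVars false

namespace Cfsg.Lib.JankoFour

open Cfsg Cfsg.Lib.Extra Module

namespace Frame

variable {G : Type*} [Group G] [Finite G] {A : Type} [Group A] {I : Subgroup A} (F : Frame G A I)

/-- The line over the field of four elements through a class. -/
noncomputable def line (v : F.V) : Submodule (ZMod 2) F.V := Submodule.span (ZMod 2) {v, F.act F.p v}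

theorem mem_line {v w : F.V} :
    w ∈ F.line v ↔ w = 0 ∨ w = v ∨ w = F.act F.p v ∨ w = F.act F.p (F.act F.p v) := by
  rw [line, Submodule.mem_span_pair]
  constructor
  · rintro ⟨a, b, rfl⟩
    rcases bit a with rfl | rfl <;> rcases bit b with rfl | rfl
    · simp
    · simp
    · simp
    · exact Or.inr (Or.inr (Or.inr (by rw [one_smul, one_smul, F.act_p_sq])))
  · rintro (rfl | rfl | rfl | rfl)
    · exact ⟨0, 0, by simp⟩
    · exact ⟨1, 0, by simp⟩
    · exact ⟨0, 1, by simp⟩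
    · exact ⟨1, 1, by rw [one_smul, one_smul, F.act_p_sq]⟩

theorem self_mem_line (v : F.V) : v ∈ F.line v := Submodule.subset_span (Set.mem_insert _ _)

theorem line_invariant {v w : F.V} (h : w ∈ F.line v) : F.act F.p w ∈ F.line v := by
  rcases F.mem_line.1 h with rfl | rfl | rfl | rfl
  · rw [map_zero]; exact zero_mem _
  · exact F.mem_line.2 (Or.inr (Or.inr (Or.inl rfl)))
  · exact F.mem_line.2 (Or.inr (Or.inr (Or.inr rfl)))
  · rw [F.act_p_three]; exact F.self_mem_line v

theorem line_le {v : F.V} {W : Submodule (ZMod 2) F.V} (hv : v ∈ W) (hW : ∀ w ∈ W, F.act F.p w ∈ W) :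
    F.line v ≤ W :=
  Submodule.span_le.2 (by rintro _ (rfl | rfl); exacts [hv, hW _ hv])

theorem finrank_line {v : F.V} (hv : v ≠ 0) : finrank (ZMod 2) ↥(F.line v) = 2 := by
  classical
  haveI : FiniteDimensional (ZMod 2) F.V := Module.Finite.of_finite
  have h2 : finrank (ZMod 2) ↥(F.line v) ≤ 2 := by
    refine (finrank_span_le_card _).trans ?_
    rw [Set.toFinset_card, ← Nat.card_eq_fintype_card, Nat.card_coe_set_eq]
    exact Set.ncard_insert_le _ _ |>.trans (by simp)
  obtain ⟨k, hk⟩ := F.even_finrank (F.line v) fun w hw => F.line_invariant hw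
  have h0 : finrank (ZMod 2) ↥(F.line v) ≠ 0 := fun h => hv (by
    have := F.self_mem_line v
    rwa [Submodule.finrank_eq_zero.1 h, Submodule.mem_bot] at this)
  omega

theorem cls_ne_zero {a : G} (ha : a ∈ F.E) (h1 : a ≠ 1) (hz : a ≠ F.z) : F.cls a ≠ 0 := fun h => by
  rcases (cls_eq_zero F.ctx ha).1 h with e | e
  exacts [h1 e, hz e]

theorem cls_z_zero : F.cls F.z = 0 := cls_z F.ctx

/-- Two frames whose involutions lie in each other's group. -/
structure Fused (F F' : Frame G A I) : Prop where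
  ne : F'.z ≠ F.z
  mem : F'.z ∈ F.E
  mem' : F.z ∈ F'.E

namespace Fused

variable {F} {F' : Frame G A I}

theorem symm (h : Fused F F') : Fused F' F := ⟨h.ne.symm, h.mem', h.mem⟩

/-- The other map on the centralizer. -/
def theta (_h : Fused F F') : ↥(F.E ⊓ Subgroup.centralizer ({F'.z} : Set G)) →* A where
  toFun x := F'.img x
  map_one' := F'.img_one
  map_mul' x y := F'.img_mul _ _ (Subgroup.mem_centralizer_singleton_iff.1 x.2.2)
    (Subgroup.mem_centralizer_singleton_iff.1 y.2.2)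

variable (h : Fused F F')
include h

theorem b_cls_ne : F.cls F'.z ≠ 0 := F.cls_ne_zero h.mem F'.ctx.ne_one h.ne

theorem K_sq {a : G} (ha : a ∈ F.E ⊓ F'.E) : a * a = 1 := by
  rcases F.ctx.sq a ha.1 with e | e
  · exact e
  · rcases F'.ctx.sq a ha.2 with e' | e'
    · exact e'
    · exact absurd (e'.symm.trans e) h.ne

theorem K_comm {a b : G} (ha : a ∈ F.E ⊓ F'.E) (hb : b ∈ F.E ⊓ F'.E) : Commute a b := by
  refine mul_inv_eq_iff_eq_mul.1 (mul_inv_eq_one.1 ?_)
  rcases F.ctx.comm a ha.1 b hb.1 with e | e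
  · exact e
  · rcases F'.ctx.comm a ha.2 b hb.2 with e' | e'
    · exact e'
    · exact absurd (e'.symm.trans e) h.ne

theorem z_mem : F.z ∈ F.E ⊓ F'.E := ⟨F.ctx.mem, h.mem'⟩

theorem b_mem : F'.z ∈ F.E ⊓ F'.E := ⟨h.mem, F'.ctx.mem⟩

theorem K_le : F.E ⊓ F'.E ≤ F.E ⊓ Subgroup.centralizer ({F'.z} : Set G) := fun a ha =>
  ⟨ha.1, Subgroup.mem_centralizer_singleton_iff.2 (F'.comm_of_mem ha.2).eq⟩

/-- The centralizer of the other involution. -/
theorem card_centralizer : Nat.card ↥(F.E ⊓ Subgroup.centralizer ({F'.z} : Set G)) = 2 ^ 12 := by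
  haveI : FiniteDimensional (ZMod 2) F.V := Module.Finite.of_finite
  set S := F.E ⊓ Subgroup.centralizer ({F'.z} : Set G)
  have hz : F.z ∈ S := h.K_le h.z_mem
  have e : F.clsSub S inf_le_left = F.perp (Submodule.span (ZMod 2) {F.cls F'.z}) := by
    ext v
    rw [mem_clsSub, mem_perp]
    constructor
    · rintro ⟨a, ha, rfl⟩ w hw
      obtain ⟨c, rfl⟩ := Submodule.mem_span_singleton.1 hw
      rw [map_smul, LinearMap.smul_apply,
        (B_cls F.ctx h.mem ha.1).2 (Commute.symm (Subgroup.mem_centralizer_singleton_iff.1 ha.2)), smul_zero]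
    · intro hv
      obtain ⟨a, ha, rfl⟩ := cls_surj F.ctx v
      refine ⟨a, ⟨ha, Subgroup.mem_centralizer_singleton_iff.2 ?_⟩, rfl⟩
      exact ((B_cls F.ctx h.mem ha).1 (hv _ (Submodule.mem_span_singleton_self _))).eq.symm
  rw [← F.card_clsSub inf_le_left hz, e, F.card_sub, F.finrank_perp, finrank_span_singleton h.b_cls_ne]
  norm_num

theorem mem_E'_of_img {e : G} (he : e ∈ F.E) (hc : Commute e F'.z) (h1 : F'.img e = 1) : e ∈ F'.E := by
  refine F'.mem_E_of_two hc h1 (n := 2) ?_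
  rcases F.ctx.sq e he with e2 | e2
  · rw [show (2 : ℕ) ^ 2 = 2 * 2 from rfl, pow_mul, pow_two e, e2, one_pow]
  · rw [show (2 : ℕ) ^ 2 = 2 * 2 from rfl, pow_mul, pow_two e, e2, pow_two, F.ctx.sq_z]

theorem ker_theta : h.theta.ker = (F.E ⊓ F'.E).subgroupOf (F.E ⊓ Subgroup.centralizer ({F'.z} : Set G)) := by
  ext x
  show F'.img x = 1 ↔ (x : G) ∈ F.E ⊓ F'.E
  exact ⟨fun e => ⟨x.2.1, h.mem_E'_of_img x.2.1 (Subgroup.mem_centralizer_singleton_iff.1 x.2.2) e⟩,
    fun e => F'.img_mem e.2⟩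

/-- The intersection has order 128; half of the centralizer maps into `I`. -/
theorem card_data : Nat.card ↥(F.E ⊓ F'.E) = 2 ^ 7 ∧
    F.perp (F.clsSub (F.E ⊓ F'.E) inf_le_left) = F.clsSub (F.E ⊓ F'.E) inf_le_left ∧
    I.relIndex h.theta.range = 2 ∧ Nat.card ↥h.theta.range = 32 := by
  haveI : Finite A := Nat.finite_of_card_ne_zero (by rw [F.facts.card_A]; omega)
  haveI : FiniteDimensional (ZMod 2) F.V := Module.Finite.of_finite
  haveI := F.facts.normal
  set K := F.E ⊓ F'.E
  set W := F.clsSub K inf_le_left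
  have hW : W ≤ F.perp W := by
    rintro _ ⟨a, ha, rfl⟩ _ ⟨b, hb, rfl⟩
    exact (B_cls F.ctx hb.1 ha.1).2 (h.K_comm hb ha)
  have hd : finrank (ZMod 2) ↥W ≤ 6 := by
    have := Submodule.finrank_mono hW
    rw [F.finrank_perp] at this
    omega
  have hK : Nat.card ↥K = 2 ^ (finrank (ZMod 2) ↥W + 1) := by
    rw [← F.card_clsSub (S := K) inf_le_left h.z_mem, F.card_sub, pow_succ, mul_comm]
  have hKle : Nat.card ↥K ≤ 2 ^ 7 := hK ▸ Nat.pow_le_pow_right (by norm_num) (by omega)
  have h16 : Nat.card ↥(I ⊓ h.theta.range) ≤ 16 := by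
    refine F.facts.elem _ inf_le_left ?_ ?_
    · rintro _ ⟨-, x, rfl⟩
      show h.theta x * h.theta x = 1
      rw [← map_mul]
      show F'.img ((x : G) * x) = 1
      rcases F.ctx.sq x x.2.1 with e | e <;> rw [e]
      exacts [F'.img_one, F'.img_mem h.mem']
    · rintro _ ⟨-, x, rfl⟩ _ ⟨-, y, rfl⟩
      refine mul_inv_eq_iff_eq_mul.1 (mul_inv_eq_one.1 ?_)
      rw [← map_inv, ← map_inv, ← map_mul, ← map_mul, ← map_mul]
      show F'.img ((x : G) * y * (x : G)⁻¹ * (y : G)⁻¹) = 1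
      rcases F.ctx.comm x x.2.1 y y.2.1 with e | e <;> rw [e]
      exacts [F'.img_one, F'.img_mem h.mem']
  have hrel : I.relIndex h.theta.range ≤ 2 :=
    Nat.le_of_dvd (by norm_num) (F.facts_index ▸ Subgroup.relIndex_dvd_index_of_normal _ _)
  have hsplit : Nat.card ↥h.theta.range = I.relIndex h.theta.range * Nat.card ↥(I ⊓ h.theta.range) := by
    rw [← Subgroup.inf_relIndex_right, ← Subgroup.relIndex_mul_relIndex ⊥ (I ⊓ h.theta.range) h.theta.range bot_le
      inf_le_right |>.trans (Subgroup.relIndex_bot_left _), Subgroup.relIndex_bot_left, mul_comm]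
  have hcard : Nat.card ↥K * Nat.card ↥h.theta.range = 2 ^ 12 := by
    rw [← h.card_centralizer, ← h.theta.ker.index_mul_card, Subgroup.index_ker, h.ker_theta,
      Nat.card_congr (Subgroup.subgroupOfEquivOfLe h.K_le).toEquiv, mul_comm]
  have hr : Nat.card ↥h.theta.range ≤ 32 := by
    rw [hsplit]; exact (Nat.mul_le_mul hrel h16)
  have hK7 : Nat.card ↥K = 2 ^ 7 := by
    refine le_antisymm hKle ?_
    by_contra hlt
    have := Nat.mul_le_mul (Nat.le_of_lt_succ (show Nat.card ↥K < 2 ^ 7 by omega)) hr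
    nlinarith [hcard]
  have hr32 : Nat.card ↥h.theta.range = 32 := by
    rw [hK7] at hcard
    omega
  have hd6 : finrank (ZMod 2) ↥W = 6 := by
    rw [hK7] at hK
    have := Nat.pow_right_injective (le_refl 2) hK
    omega
  refine ⟨hK7, (Submodule.eq_of_le_of_finrank_le hW ?_).symm, ?_, hr32⟩
  · rw [F.finrank_perp, hd6]
  · by_contra hne
    have : I.relIndex h.theta.range ≤ 1 := by omega
    have := Nat.mul_le_mul this h16
    omega

theorem card_K : Nat.card ↥(F.E ⊓ F'.E) = 2 ^ 7 := h.card_data.1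

theorem perp_K : F.perp (F.clsSub (F.E ⊓ F'.E) inf_le_left) = F.clsSub (F.E ⊓ F'.E) inf_le_left :=
  h.card_data.2.1

theorem cls_K_iff {a : G} (ha : a ∈ F.E) :
    F.cls a ∈ F.clsSub (F.E ⊓ F'.E) inf_le_left ↔ a ∈ F.E ⊓ F'.E :=
  F.cls_mem_clsSub h.z_mem ha

/-- A linear element of the centralizer outside the intersection. -/
theorem exists_linear : ∃ e ∈ F.E, Commute e F'.z ∧ F'.img e ∈ I ∧ e ∉ F'.E := by
  by_contra hcon
  push Not at hcon
  obtain ⟨-, -, h2, h32⟩ := h.card_data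
  have hb : I ⊓ h.theta.range = ⊥ := by
    refine (Subgroup.eq_bot_iff_forall _).2 ?_
    rintro _ ⟨hI, x, rfl⟩
    exact F'.img_mem (hcon x x.2.1 (Subgroup.mem_centralizer_singleton_iff.1 x.2.2) hI)
  rw [← Subgroup.inf_relIndex_right, hb, Subgroup.relIndex_bot_left, h32] at h2
  omega

/-- The action of the centralizer on the intersection. -/
theorem act_K {e k : G} (he : e ∈ F.E) (heb : Commute e F'.z) (hk : k ∈ F.E ⊓ F'.E) :
    F'.act e (F'.cls k) = F'.cls k + JankoFour.B F.ctx (F.cls e) (F.cls k) • F'.cls F.z := by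
  rw [act_cls F'.ctx heb hk.2]
  rcases bit (JankoFour.B F.ctx (F.cls e) (F.cls k)) with e0 | e0
  · rw [e0, zero_smul, add_zero, ((B_cls F.ctx he hk.1).1 e0).eq, mul_inv_cancel_right]
  · rw [e0, one_smul, (Bf_cls_one F.ctx he hk.1).1 e0]
    show JankoFour.cls F'.ctx (F.z * k) = _
    rw [cls_mul F'.ctx h.mem' hk.2, add_comm]

end Fused

end Frame

end Cfsg.Lib.JankoFour
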