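import Cfsg.Agent.Lib.JankoFour.OddCore

/-!
# `C(z) ∩ C(p)` is perfect
-/

set_option autoImplicit false
set_option linter.style.haveILetI false
set_option linter.unusedSectionVars false

namespace Cfsg.Lib.JankoFour

open Cfsg Cfsg.Lib.Extra Module
open scoped commutatorElement

theorem eight_center {T : Type*} [Group T] [Finite T] (h8 : Nat.card T = 8) {a b : T} (hab : ¬ Commute a b) {c : T}
    (hc : c ∈ Subgroup.center T) : c = 1 ∨ c = a * b * a⁻¹ * b⁻¹ := by
  classical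
  haveI : Fact (Nat.Prime 2) := ⟨Nat.prime_two⟩
  have hp : IsPGroup 2 T := IsPGroup.of_card (n := 3) h8
  haveI : Nontrivial T := Finite.one_lt_card_iff_nontrivial.1 (by omega)
  haveI := hp.center_nontrivial
  have hz1 : 1 < Nat.card ↥(Subgroup.center T) := Finite.one_lt_card
  have hcom : ∀ x y : T ⧸ Subgroup.center T, x * y = y * x → True := fun _ _ _ => trivial
  have hmul := (Subgroup.center T).card_eq_card_quotient_mul_card_subgroup
  rw [h8] at hmul
  have hd : Nat.card ↥(Subgroup.center T) ∣ 2 ^ 3 := ⟨_, by rw [mul_comm]; exact hmul⟩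
  obtain ⟨i, hi, ei⟩ := (Nat.dvd_prime_pow Nat.prime_two).1 hd
  have h2 : Nat.card ↥(Subgroup.center T) = 2 := by
    by_contra hne
    have hq : Nat.card (T ⧸ Subgroup.center T) ∣ 2 := by
      rw [ei] at hmul hne hz1
      refine (Nat.dvd_prime Nat.prime_two).2 ?_
      interval_cases i <;> omega
    haveI : IsCyclic (T ⧸ Subgroup.center T) := by
      rcases (Nat.dvd_prime Nat.prime_two).1 hq with h | h
      · haveI := (Nat.card_eq_one_iff_unique.1 h).1
        exact isCyclic_of_subsingleton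
      · exact isCyclic_of_prime_card h
    haveI := MonoidHom.isMulCommutative_of_isCyclic_of_ker_le_center (QuotientGroup.mk' (Subgroup.center T))
      (QuotientGroup.ker_mk' _).le
    exact hab (mul_comm' a b)
  set d := a * b * a⁻¹ * b⁻¹
  have hdZ : d ∈ Subgroup.center T := by
    rw [← QuotientGroup.eq_one_iff]
    have h4 : Nat.card (T ⧸ Subgroup.center T) = 2 ^ 2 := by rw [h2] at hmul; omega
    haveI := IsPGroup.isMulCommutative_of_card_eq_prime_sq h4
    simp only [d, QuotientGroup.mk_mul, QuotientGroup.mk_inv]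
    rw [mul_comm' (a : T ⧸ Subgroup.center T) (b : T ⧸ Subgroup.center T), mul_inv_cancel_right, mul_inv_cancel]
  have hd1 : d ≠ 1 := fun h => hab (mul_inv_eq_iff_eq_mul.1 (mul_inv_eq_one.1 h))
  by_contra hne
  push Not at hne
  have h3 : ({1, d, c} : Finset T).card = 3 := by
    rw [Finset.card_insert_of_notMem (by simp [hd1.symm, Ne.symm hne.1]),
      Finset.card_pair (Ne.symm hne.2)]
  letI : Fintype ↥(Subgroup.center T) := Fintype.ofFinite _
  have hsub : ({1, d, c} : Finset T) ⊆ (Finset.univ : Finset ↥(Subgroup.center T)).map ⟨Subtype.val, Subtype.val_injective⟩ := by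
    intro x hx
    simp only [Finset.mem_insert, Finset.mem_singleton] at hx
    refine Finset.mem_map.2 ⟨⟨x, ?_⟩, Finset.mem_univ _, rfl⟩
    rcases hx with rfl | rfl | rfl
    exacts [one_mem _, hdZ, hc]
  have := Finset.card_le_card hsub
  rw [h3, Finset.card_map, Finset.card_univ, ← Nat.card_eq_fintype_card, h2] at this
  omega

namespace Frame

variable {G : Type*} [Group G] [Finite G] {A : Type} [Group A] {I : Subgroup A} (F : Frame G A I)

/-- The elements centralizing `z` and `X` normalizing `⟨p⟩`. -/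
noncomputable def J (X : G) : Subgroup G :=
  Subgroup.centralizer ({F.z} : Set G) ⊓ Subgroup.centralizer ({X} : Set G) ⊓
    Subgroup.normalizer (Subgroup.zpowers F.p : Set G)

theorem mem_J {X g : G} : g ∈ F.J X ↔ Commute g F.z ∧ Commute g X ∧
    (Commute g F.p ∨ g * F.p * g⁻¹ = F.p⁻¹) := by
  rw [J, Subgroup.mem_inf, Subgroup.mem_inf, Subgroup.mem_centralizer_singleton_iff,
    Subgroup.mem_centralizer_singleton_iff, and_assoc]
  refine and_congr Iff.rfl (and_congr Iff.rfl ?_)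
  rw [Subgroup.mem_normalizer_iff]
  constructor
  · intro h
    obtain ⟨i, hi⟩ := F.zpowers_eq_pow ((h F.p).1 (Subgroup.mem_zpowers _))
    have hmod : F.p ^ i = F.p ^ (i % 3) := by rw [← F.p_ord, pow_mod_orderOf]
    rw [hmod] at hi
    rcases (show i % 3 = 0 ∨ i % 3 = 1 ∨ i % 3 = 2 by omega) with e | e | e <;> rw [e] at hi
    · rw [pow_zero, conj_eq_one_iff] at hi
      exact absurd (hi ▸ one_mem _) F.not_mem_p
    · rw [pow_one] at hi
      exact Or.inl (mul_inv_eq_iff_eq_mul.1 hi)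
    · exact Or.inr (by rw [hi, F.p_inv])
  · intro h x
    have key : ∀ g : G, (Commute g F.p ∨ g * F.p * g⁻¹ = F.p⁻¹) → ∀ x ∈ Subgroup.zpowers F.p,
        g * x * g⁻¹ ∈ Subgroup.zpowers F.p := fun g h x hx => by
      obtain ⟨i, rfl⟩ := F.zpowers_eq_pow hx
      rw [← conj_pow]
      refine pow_mem ?_ i
      rcases h with h | h
      · rw [h.eq, mul_inv_cancel_right]; exact Subgroup.mem_zpowers _
      · rw [h]; exact inv_mem (Subgroup.mem_zpowers _)
    refine ⟨key g h x, fun hx => ?_⟩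
    have h' : Commute g⁻¹ F.p ∨ g⁻¹ * F.p * g⁻¹⁻¹ = F.p⁻¹ := h.imp (fun h => h.inv_left) fun h => by
      rw [inv_inv, ← inv_inj, inv_inv]
      calc (g⁻¹ * F.p * g)⁻¹ = g⁻¹ * F.p⁻¹ * g := by group
        _ = F.p := by rw [← h]; group
    have := key g⁻¹ h' _ hx
    rwa [show g⁻¹ * (g * x * g⁻¹) * g⁻¹⁻¹ = x by group] at this

/-- The image of `J X` has index dividing three in the centralizer of the image of `X`. -/
theorem exists_eight {X : G} (hX : X ∈ F.C) (h3 : X ^ 3 = 1) (hne : F.img X ≠ 1) :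
    ∃ T : Subgroup A, Nat.card ↥T = 8 ∧ T ≤ Subgroup.centralizer ({F.img X} : Set A) ∧
      ∀ a ∈ T, ∃ g ∈ F.J X, F.img g = a := by
  haveI := F.finite_A
  haveI : Fact (Nat.Prime 3) := ⟨Nat.prime_three⟩
  haveI : Fact (Nat.Prime 2) := ⟨Nat.prime_two⟩
  have hX' := F.mem_C.1 hX
  have hxo : orderOf (F.img X) = 3 := orderOf_eq_prime (by rw [← F.img_pow hX'.1, h3, F.img_one]) hne
  set CA := Subgroup.centralizer ({F.img X} : Set A)
  have hJz : ∀ {g}, g ∈ F.J X → Commute g F.z := fun hg => (F.mem_J.1 hg).1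
  let θ : ↥(F.J X) →* A :=
    { toFun := fun g => F.img g
      map_one' := F.img_one
      map_mul' := fun a b => F.img_mul _ _ (hJz a.2) (hJz b.2) }
  set M := θ.range
  have hM : M ≤ CA := by
    rintro _ ⟨g, rfl⟩
    obtain ⟨hgz, hgX, -⟩ := F.mem_J.1 g.2
    refine Subgroup.mem_centralizer_singleton_iff.2 ?_
    show F.img g * F.img X = F.img X * F.img g
    rw [← F.img_mul _ _ hgz hX'.1, hgX.eq, F.img_mul _ _ hX'.1 hgz]
  obtain ⟨d, hd, hdX⟩ := F.exists_shift hX h3 hne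
  obtain ⟨hdz, hdp⟩ := F.mem_C.1 hd
  have hdpow : ∀ n : ℕ, d ^ n * X * (d ^ n)⁻¹ = X * F.p ^ n := by
    intro n
    induction n with
    | zero => simp
    | succ n ih =>
      calc d ^ (n + 1) * X * (d ^ (n + 1))⁻¹ = d * (d ^ n * X * (d ^ n)⁻¹) * d⁻¹ := by rw [pow_succ']; group
        _ = d * X * d⁻¹ * (d * F.p ^ n * d⁻¹) := by rw [ih]; group
        _ = X * (F.p * F.p ^ n) := by rw [hdX, (hdp.pow_right n).eq, mul_inv_cancel_right, mul_assoc]
        _ = _ := by rw [← pow_succ']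
  have hcov : ∀ a ∈ CA, ∃ n : ℕ, ∃ g ∈ F.J X, a = F.img d ^ n * F.img g := by
    intro a ha
    obtain ⟨g0, hg0, rfl⟩ := F.img_surj a
    obtain ⟨e, he, hn⟩ := F.exists_normalizing hg0
    set g := e * g0
    have hgz : Commute g F.z := (F.comm_of_mem he).mul_left hg0
    have hgi : F.img g = F.img g0 := by rw [F.img_mul _ _ (F.comm_of_mem he) hg0, F.img_mem he, one_mul]
    have ha' : Commute (F.img g) (F.img X) := by rw [hgi]; exact Subgroup.mem_centralizer_singleton_iff.1 ha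
    set k := g * X * g⁻¹ * X⁻¹ with hk
    have hgXp : Commute (g * X * g⁻¹) F.p := by
      rcases hn with h | h
      · exact ((h.mul_left hX'.2).mul_left h.inv_left)
      · have := (hX'.2.inv_right).map (MulAut.conj g).toMonoidHom
        simp only [MulEquiv.coe_toMonoidHom, MulAut.conj_apply] at this
        rwa [show g * F.p⁻¹ * g⁻¹ = F.p by rw [show g * F.p⁻¹ * g⁻¹ = (g * F.p * g⁻¹)⁻¹ by group, h, inv_inv]]
          at this
    have hgXC : g * X * g⁻¹ ∈ F.C := F.mem_C.2 ⟨(hgz.mul_left hX'.1).mul_left hgz.inv_left, hgXp⟩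
    have hkC : k ∈ F.C := F.C.mul_mem hgXC (F.C.inv_mem hX)
    have hki : F.img k = 1 := by
      rw [hk, F.img_mul _ _ ((hgz.mul_left hX'.1).mul_left hgz.inv_left) hX'.1.inv_left, F.img_conj hgz hX'.1,
        F.img_inv hX'.1, ha'.eq, mul_inv_cancel_right, mul_inv_cancel]
    obtain ⟨j, hj⟩ := F.ker_C_cube hkC hki (by
      have e1 : g * X * g⁻¹ = k * X := by rw [hk, inv_mul_cancel_right]
      have e2 := congrArg (· ^ 3) e1
      simp only [conj_pow, h3, mul_one, mul_inv_cancel, (F.ker_C_comm hkC hki hX).mul_pow] at e2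
      exact e2.symm)
    have hgX : g * X * g⁻¹ = X * F.p ^ j := by
      rw [← hj, ← (F.ker_C_comm hkC hki hX).eq, hk, inv_mul_cancel_right]
    refine ⟨j, (d ^ j)⁻¹ * g, F.mem_J.2 ⟨(hdz.pow_left j).inv_left.mul_left hgz, ?_, ?_⟩, ?_⟩
    · refine mul_inv_eq_iff_eq_mul.1 ?_
      rw [show (d ^ j)⁻¹ * g * X * ((d ^ j)⁻¹ * g)⁻¹ = (d ^ j)⁻¹ * (g * X * g⁻¹) * d ^ j by group, hgX, ← hdpow]
      group
    · have hdc : Commute (d ^ j)⁻¹ F.p := (hdp.pow_left j).inv_left
      rcases hn with h | h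
      · exact Or.inl (hdc.mul_left h)
      · refine Or.inr ?_
        rw [show (d ^ j)⁻¹ * g * F.p * ((d ^ j)⁻¹ * g)⁻¹ = (d ^ j)⁻¹ * (g * F.p * g⁻¹) * ((d ^ j)⁻¹)⁻¹ by group, h,
          (hdc.inv_right).eq, mul_inv_cancel_right]
    · rw [← F.img_pow hdz, ← F.img_mul _ _ (hdz.pow_left j) ((hdz.pow_left j).inv_left.mul_left hgz),
        mul_inv_cancel_left]
      exact hgi.symm
  have hd3 : d ^ 3 ∈ F.J X := F.mem_J.2 ⟨hdz.pow_left 3,
    mul_inv_eq_iff_eq_mul.1 (by rw [hdpow, F.p_cube, mul_one]), Or.inl (hdp.pow_left 3)⟩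
  set M' := M.subgroupOf CA
  have hdA : F.img d ∈ CA := by
    refine Subgroup.mem_centralizer_singleton_iff.2 (mul_inv_eq_iff_eq_mul.1 ?_)
    rw [← F.img_conj hdz hX'.1, hdX, F.img_mul _ _ hX'.1 F.p_comm, F.img_p, mul_one]
  have hd3M : (⟨F.img d, hdA⟩ : ↥CA) ^ 3 ∈ M' := by
    rw [Subgroup.mem_subgroupOf]
    exact ⟨⟨d ^ 3, hd3⟩, F.img_pow hdz 3⟩
  have hidx : M'.index ≤ 3 := by
    letI : Fintype (↥CA ⧸ M') := Fintype.ofFinite _
    rw [Subgroup.index, Nat.card_eq_fintype_card]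
    refine le_trans (Fintype.card_le_of_surjective
      (fun i : Fin 3 => (((⟨F.img d, hdA⟩ : ↥CA) ^ (i : ℕ) : ↥CA) : ↥CA ⧸ M')) ?_) (by simp)
    intro q
    obtain ⟨a, rfl⟩ := QuotientGroup.mk_surjective q
    obtain ⟨n, g, hg, e⟩ := hcov a a.2
    refine ⟨⟨n % 3, Nat.mod_lt _ (by norm_num)⟩, ?_⟩
    rw [QuotientGroup.eq]
    have e1 : ((⟨F.img d, hdA⟩ : ↥CA) ^ n)⁻¹ * a ∈ M' := by
      rw [Subgroup.mem_subgroupOf]
      refine ⟨⟨g, hg⟩, ?_⟩
      show F.img g = ((F.img d) ^ n)⁻¹ * (a : A)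
      rw [e, inv_mul_cancel_left]
    have e2 : ((⟨F.img d, hdA⟩ : ↥CA) ^ (n % 3))⁻¹ * (⟨F.img d, hdA⟩ : ↥CA) ^ n ∈ M' := by
      conv => arg 2; arg 2; rw [← Nat.mod_add_div n 3, pow_add, pow_mul]
      rw [inv_mul_cancel_left]
      exact pow_mem hd3M _
    have e12 := M'.mul_mem e2 e1
    rwa [mul_assoc, mul_inv_cancel_left] at e12
  have hne2 : M'.index ≠ 2 := by
    intro h2
    have hdM : (⟨F.img d, hdA⟩ : ↥CA) ∈ M' := by
      have := M'.mul_mem hd3M (M'.inv_mem (Subgroup.mul_self_mem_of_index_two h2 ⟨F.img d, hdA⟩))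
      rwa [pow_succ', pow_two, mul_inv_cancel_right] at this
    have htop : M' = ⊤ := by
      refine eq_top_iff.2 fun a _ => ?_
      obtain ⟨n, g, hg, e⟩ := hcov a a.2
      have : a = (⟨F.img d, hdA⟩ : ↥CA) ^ n * ⟨F.img g, hM ⟨⟨g, hg⟩, rfl⟩⟩ := Subtype.ext e
      rw [this]
      exact M'.mul_mem (pow_mem hdM n) (Subgroup.mem_subgroupOf.2 ⟨⟨g, hg⟩, rfl⟩)
    rw [htop, Subgroup.index_top] at h2
    omega
  have h8 : 8 ∣ Nat.card ↥M := by
    have h := M'.card_mul_index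
    rw [Nat.card_congr (Subgroup.subgroupOfEquivOfLe hM).toEquiv, (F.facts.three_cent _ hxo).1] at h
    have h0 : M'.index ≠ 0 := Subgroup.index_ne_zero_of_finite
    rcases (show M'.index = 1 ∨ M'.index = 3 by omega) with e | e <;> rw [e] at h <;>
      [exact ⟨9, by omega⟩; exact ⟨3, by omega⟩]
  obtain ⟨T, hT⟩ := Sylow.exists_subgroup_card_pow_prime (G := ↥M) 2 (n := 3) (by simpa using h8)
  refine ⟨T.map M.subtype, by rw [Subgroup.card_map_of_injective M.subtype_injective, hT]; norm_num,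
    (Subgroup.map_subtype_le _).trans hM, fun a ha => ?_⟩
  obtain ⟨g, hg⟩ := Subgroup.map_subtype_le _ ha
  exact ⟨g, g.2, hg⟩

theorem z_mem_commutator (hres : Cfsg.pResidual 2 G = ⊤) : F.z ∈ ⁅F.C, F.C⁆ := by
  haveI := F.finite_A
  haveI : Fact (Nat.Prime 2) := ⟨Nat.prime_two⟩
  haveI : Fact (Nat.Prime 3) := ⟨Nat.prime_three⟩
  have hCz : ∀ {x}, Commute x F.p → x ∈ F.C := fun hx => F.mem_C.2 ⟨F.commute_z_of_commute_p hres hx, hx⟩
  have hzc : ∀ {x}, Commute x F.p → Commute F.z x := fun hx => (F.commute_z_of_commute_p hres hx).symm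
  obtain ⟨t, ht, hne, m, hm⟩ := F.exists_conj_C hres
  obtain ⟨k, hk, hXC, hX1⟩ := F.exists_other ht hne hm
  haveI : FiniteDimensional (ZMod 2) (F.conj k).V := Module.Finite.of_finite
  set F' := F.conj k
  set D := ⁅F.C, F.C⁆
  have hD : ∀ {a b}, a ∈ F.C → b ∈ F.C → a * b * a⁻¹ * b⁻¹ ∈ D := fun ha hb =>
    Subgroup.commutator_mem_commutator ha hb
  have hzk : F'.z = t := hk
  obtain ⟨htz, htp⟩ := F.mem_C.1 ht
  obtain ⟨hXz, hXp⟩ := F'.mem_C.1 hXC
  have hzt : Commute F.z F'.z := hzk.symm ▸ htz.symm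
  have hQ : ∀ {q}, q ∈ F'.E → Commute q F.p → Commute F.z q := fun _ h => hzc h
  -- `z` lies outside the other group
  have hE1 : F.z ∉ F'.E := by
    intro hzE
    have hzfix : F'.cls F.z ∈ F'.fix F.p := F'.mem_ker_disp.2 (by
      rw [act_cls F'.ctx hXz hzE, F.p_comm.eq, mul_inv_cancel_right])
    refine F'.cls_ne_zero hzE F.ctx.ne_one (fun e => hne (by rw [← hzk, ← e]))
      ((B_nondegenerate F'.ctx).1 _ fun u => ?_)
    obtain ⟨q, hq, hqe⟩ := cls_surj F'.ctx (F'.proj F.p u)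
    have hu : u = F'.proj F.p u + F'.disp F.p (F'.act F.p u) := by
      rw [proj_apply, disp_apply, show u + F'.act F.p u + F'.act F.p (F'.act F.p u) +
        (F'.act F.p (F'.act F.p u) + F'.act F.p u) = u + (F'.act F.p u + F'.act F.p u) +
        (F'.act F.p (F'.act F.p u) + F'.act F.p (F'.act F.p u)) by abel, bar_self, bar_self, add_zero, add_zero]
    rw [hu, map_add, F'.B_fix_disp hXz hzfix, add_zero, ← hqe, B_cls F'.ctx hzE hq]
    exact hQ hq (F'.commute_of_fixed hXC hq (F'.mem_ker_disp.1 (show JankoFour.cls F'.ctx q ∈ F'.fix F.p by rw [hqe]; exact F'.proj_mem hXz F.p_cube u))).symm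
  -- the fixed part of the other group lies in the commutators
  have hpC : F'.p ∈ F.C := hCz hXp.symm
  have hqC : ∀ {q}, q ∈ F'.E → Commute q F.p → q ∈ F.C := fun _ h => hCz h
  have htD : t ∈ D := by
    obtain ⟨v, hv, hv0⟩ := (Submodule.ne_bot_iff _).1 (fun h => by
      have := (F'.finrank_fix_three hXC F.p_cube hX1).1
      rw [h, finrank_bot] at this
      omega : F'.fix F.p ≠ ⊥)
    obtain ⟨u, hu⟩ : ∃ u, JankoFour.B F'.ctx v u = 1 := by
      by_contra hcon
      push Not at hcon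
      exact hv0 ((B_nondegenerate F'.ctx).1 v fun u => (bit _).resolve_right (hcon u))
    obtain ⟨a, ha, rfl⟩ := cls_surj F'.ctx v
    obtain ⟨b, hb, hbe⟩ := cls_surj F'.ctx (F'.proj F.p u)
    have hu' : u = F'.proj F.p u + F'.disp F.p (F'.act F.p u) := by
      rw [proj_apply, disp_apply, show u + F'.act F.p u + F'.act F.p (F'.act F.p u) +
        (F'.act F.p (F'.act F.p u) + F'.act F.p u) = u + (F'.act F.p u + F'.act F.p u) +
        (F'.act F.p (F'.act F.p u) + F'.act F.p (F'.act F.p u)) by abel, bar_self, bar_self, add_zero, add_zero]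
    rw [hu', map_add, F'.B_fix_disp hXz hv, add_zero, ← hbe] at hu
    have h1 := hD (hqC ha (F'.commute_of_fixed hXC ha (F'.mem_ker_disp.1 hv)).symm)
      (hqC hb (F'.commute_of_fixed hXC hb (F'.mem_ker_disp.1 (show JankoFour.cls F'.ctx b ∈ F'.fix F.p by rw [hbe]; exact F'.proj_mem hXz F.p_cube u))).symm)
    rwa [(Bf_cls_one F'.ctx ha hb).1 hu, mul_inv_cancel_right, hzk] at h1
  have hqD : ∀ {q}, q ∈ F'.E → Commute q F.p → q ∈ D := by
    intro q hq hqp
    set v := F'.cls q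
    have hv : v ∈ F'.fix F.p := F'.mem_ker_disp.2 (by
      show F'.act F.p (F'.cls q) = F'.cls q
      rw [act_cls F'.ctx hXz hq, hqp.symm.eq, mul_inv_cancel_right])
    obtain ⟨b, hb, hbe⟩ := cls_surj F'.ctx (F'.act F'.p v)
    have hbfix : F'.act F.p (F'.cls b) = F'.cls b := by
      show F'.act F.p (JankoFour.cls F'.ctx b) = JankoFour.cls F'.ctx b
      rw [hbe, ← act_mul F'.ctx hXz F'.p_comm, hXp.eq, act_mul F'.ctx F'.p_comm hXz, F'.mem_ker_disp.1 hv]
    have h1 := hD hpC (hqC hb (F'.commute_of_fixed hXC hb hbfix).symm)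
    have h1E : F'.p * b * F'.p⁻¹ * b⁻¹ ∈ F'.E := F'.E.mul_mem (F'.conj_mem F'.p_comm hb) (F'.E.inv_mem hb)
    have h2 : F'.cls (F'.p * b * F'.p⁻¹ * b⁻¹) = F'.cls q := by
      show JankoFour.cls F'.ctx _ = v
      rw [cls_mul F'.ctx (F'.conj_mem F'.p_comm hb) (F'.E.inv_mem hb), cls_inv F'.ctx hb,
        ← act_cls F'.ctx F'.p_comm hb, hbe, F'.act_p_sq, add_assoc, bar_self, add_zero]
    rcases (cls_eq_iff F'.ctx hq h1E).1 h2.symm with e | e <;> rw [e]
    · exact h1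
    · exact D.mul_mem (hzk.symm ▸ htD) h1
  obtain ⟨T, hT8, hTc, hTl⟩ := F'.exists_eight hXC F.p_cube hX1
  have hxo : orderOf (F'.img F.p) = 3 :=
    orderOf_eq_prime (by rw [← F'.img_pow hXz, F.p_cube, F'.img_one]) hX1
  have hlift : ∀ a ∈ T, ∃ g ∈ F.C, Commute g F'.z ∧ (Commute g F'.p ∨ g * F'.p * g⁻¹ = F'.p⁻¹) ∧
      F'.img g = a := fun a ha => by
    obtain ⟨g, hg, rfl⟩ := hTl a ha
    obtain ⟨h1, h2, h3⟩ := F'.mem_J.1 hg
    exact ⟨g, hCz h2, h1, h3, rfl⟩
  -- `p` of the other frame is a commutator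
  have hpD : F'.p ∈ D := by
    obtain ⟨a, haT, haI⟩ : ∃ a ∈ T, a ∉ I := by
      by_contra hcon
      push Not at hcon
      have hle : T ≤ I ⊓ Subgroup.centralizer ({F'.img F.p} : Set A) := le_inf (fun a ha => hcon a ha) hTc
      have h := Subgroup.card_dvd_of_le hle
      rw [hT8, (F.facts.three_cent _ hxo).2.1] at h
      omega
    obtain ⟨g, hgC, hgz, hgn, rfl⟩ := hlift a haT
    have hgi : g * F'.p * g⁻¹ = F'.p⁻¹ := hgn.resolve_left fun h =>
      haI (F'.mem_I_iff.2 ⟨g, F'.mem_C.2 ⟨hgz, h⟩, rfl⟩)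
    have h1 := hD hgC hpC
    rwa [hgi, ← pow_two, inv_pow, ← F'.p_inv, inv_inv] at h1
  -- the image of `z`
  set ζ := F'.img F.z with hζ
  have hζ1 : ζ ≠ 1 := fun h => hE1 (F'.mem_E_of_two hzt h (n := 1) (by rw [pow_one, pow_two, F.ctx.sq_z]))
  have hζ2 : ζ * ζ = 1 := by rw [hζ, ← F'.img_mul _ _ hzt hzt, F.ctx.sq_z, F'.img_one]
  have hζc : ∀ a ∈ T, Commute a ζ := fun a ha => by
    obtain ⟨g, hgC, hgz, -, rfl⟩ := hlift a ha
    show F'.img g * F'.img F.z = F'.img F.z * F'.img g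
    rw [← F'.img_mul _ _ hgz hzt, (F.mem_C.1 hgC).1.eq, F'.img_mul _ _ hzt hgz]
  have hζT : ζ ∈ T := by
    have hP : IsPGroup 2 ↥(Subgroup.zpowers ζ) := IsPGroup.of_card (n := 1) (by
      rw [Nat.card_zpowers, pow_one]; exact orderOf_eq_prime (by rw [pow_two, hζ2]) hζ1)
    have hTp : IsPGroup 2 ↥T := IsPGroup.of_card (n := 3) hT8
    have hnorm : T ≤ Subgroup.normalizer (Subgroup.zpowers ζ : Set A) := fun a ha => by
      refine Subgroup.mem_normalizer_iff.2 fun y => ?_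
      constructor
      · intro hy
        obtain ⟨i, rfl⟩ := Subgroup.mem_zpowers_iff.1 hy
        rw [((hζc a ha).zpow_right i).eq, mul_inv_cancel_right]; exact hy
      · intro hy
        obtain ⟨i, hi⟩ := Subgroup.mem_zpowers_iff.1 hy
        refine Subgroup.mem_zpowers_iff.2 ⟨i, ?_⟩
        calc ζ ^ i = a⁻¹ * ζ ^ i * a := by rw [mul_assoc, ← ((hζc a ha).zpow_right i).eq, inv_mul_cancel_left]
          _ = y := by rw [hi]; group
    have hU := IsPGroup.to_sup_of_normal_right' hTp hP hnorm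
    obtain ⟨n, hn⟩ := IsPGroup.iff_card.1 hU
    have hUle : T ⊔ Subgroup.zpowers ζ ≤ Subgroup.centralizer ({F'.img F.p} : Set A) :=
      sup_le hTc (Subgroup.zpowers_le.2 (Subgroup.mem_centralizer_singleton_iff.2 (by
        rw [hζ, ← F'.img_mul _ _ hzt hXz, F.p_comm.symm.eq, F'.img_mul _ _ hXz hzt])))
    have hd := Subgroup.card_dvd_of_le hUle
    rw [(F.facts.three_cent _ hxo).1, hn] at hd
    have hn3 : n ≤ 3 := by
      by_contra h
      have h16 : 2 ^ 4 ∣ 72 := (pow_dvd_pow 2 (by omega)).trans hd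
      norm_num at h16
    have e : T = T ⊔ Subgroup.zpowers ζ := Subgroup.eq_of_le_of_card_ge le_sup_left (by
      rw [hn, hT8, show 8 = 2 ^ 3 from rfl]; exact Nat.pow_le_pow_right (by norm_num) hn3)
    rw [e]
    exact Subgroup.mem_sup_right (Subgroup.mem_zpowers ζ)
  obtain ⟨a, ha, b, hb, hab⟩ := (F.facts.three_cent _ hxo).2.2 T hTc hT8
  have hζval : ζ = a * b * a⁻¹ * b⁻¹ := by
    have h := eight_center (T := ↥T) hT8 (a := ⟨a, ha⟩) (b := ⟨b, hb⟩)
      (fun h => hab (congrArg Subtype.val h.eq)) (c := ⟨ζ, hζT⟩)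
      (Subgroup.mem_center_iff.2 fun y => Subtype.ext (hζc y y.2).eq)
    rcases h with h | h
    · exact absurd (congrArg Subtype.val h) hζ1
    · exact congrArg Subtype.val h
  obtain ⟨ga, hgaC, hgaz, -, rfl⟩ := hlift a ha
  obtain ⟨gb, hgbC, hgbz, -, rfl⟩ := hlift b hb
  set c := ga * gb * ga⁻¹ * gb⁻¹
  have hcD : c ∈ D := hD hgaC hgbC
  have hcC : c ∈ F.C := F.C.mul_mem (F.C.mul_mem (F.C.mul_mem hgaC hgbC) (F.C.inv_mem hgaC)) (F.C.inv_mem hgbC)
  have hcz : Commute c F'.z := ((hgaz.mul_left hgbz).mul_left hgaz.inv_left).mul_left hgbz.inv_left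
  have hci : F'.img c = ζ := by
    rw [F'.img_mul _ _ ((hgaz.mul_left hgbz).mul_left hgaz.inv_left) hgbz.inv_left, F'.img_conj hgaz hgbz,
      F'.img_inv hgbz, hζval]
  obtain ⟨e, he, i, hw⟩ := (F'.img_ker (c⁻¹ * F.z) (hcz.inv_left.mul_left hzt)).1
    (by rw [F'.img_mul _ _ hcz.inv_left hzt, F'.img_inv hcz, hci, ← hζ, inv_mul_cancel])
  have hwp : Commute (c⁻¹ * F.z) F.p := (F.mem_C.1 hcC).2.inv_left.mul_left F.p_comm.symm
  have hep : Commute e F.p := by
    have := hwp.mul_left ((hXp.symm.pow_left i).inv_left)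
    rwa [hw, mul_inv_cancel_right] at this
  have hz : F.z = c * (e * F'.p ^ i) := by rw [← hw, mul_inv_cancel_left]
  rw [hz]
  exact D.mul_mem hcD (D.mul_mem (hqD he hep) (pow_mem hpD i))

/-- `C(z) ∩ C(p)` is perfect. -/
theorem C_perfect (hres : Cfsg.pResidual 2 G = ⊤) : ⁅F.C, F.C⁆ = F.C := by
  refine le_antisymm (Subgroup.commutator_le.2 fun a ha b hb =>
    F.C.mul_mem (F.C.mul_mem (F.C.mul_mem ha hb) (F.C.inv_mem ha)) (F.C.inv_mem hb)) ?_
  have hI : (commutator ↥F.C).map F.imgC = I := by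
    refine (F.imgC_normal _).resolve_left fun h => ?_
    haveI := F.facts.simple
    have hcomm : ∀ a b : ↥I, a * b = b * a := by
      intro a b
      obtain ⟨x, hx⟩ : (a : A) ∈ F.imgC.range := (SetLike.ext_iff.1 F.imgC_range _).2 a.2
      obtain ⟨y, hy⟩ : (b : A) ∈ F.imgC.range := (SetLike.ext_iff.1 F.imgC_range _).2 b.2
      refine Subtype.ext ?_
      have hm : F.imgC ⁅x, y⁆ ∈ (commutator ↥F.C).map F.imgC :=
        ⟨_, Subgroup.commutator_mem_commutator (Subgroup.mem_top x) (Subgroup.mem_top y), rfl⟩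
      rw [h, Subgroup.mem_bot, map_commutatorElement, hx, hy, commutatorElement_eq_one_iff_commute] at hm
      exact hm.eq
    letI : CommGroup ↥I := { (inferInstance : Group ↥I) with mul_comm := hcomm }
    haveI := F.finite_A
    have hp := IsSimpleGroup.prime_card (α := ↥I)
    rw [F.facts.card_I] at hp
    norm_num at hp
  intro c hc
  have hm : F.imgC ⟨c, hc⟩ ∈ (commutator ↥F.C).map F.imgC := by
    rw [hI]; exact (SetLike.ext_iff.1 F.imgC_range _).1 ⟨_, rfl⟩
  obtain ⟨n, hn, hne⟩ := hm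
  have hnD : (n : G) ∈ ⁅F.C, F.C⁆ := by
    rw [← Subgroup.map_subtype_commutator]; exact ⟨n, hn, rfl⟩
  have e' : F.img (n : G) = F.img c := hne
  obtain ⟨i, hi⟩ := F.ker_C (F.C.mul_mem (F.C.inv_mem n.2) hc) (by
    rw [F.img_mul _ _ (F.mem_C.1 n.2).1.inv_left (F.mem_C.1 hc).1, F.img_inv (F.mem_C.1 n.2).1, e', inv_mul_cancel])
  have hk : (n : G)⁻¹ * c ∈ ⁅F.C, F.C⁆ := by
    rcases hi with e | e <;> rw [e]
    exacts [pow_mem F.perfect i, mul_mem (F.z_mem_commutator hres) (pow_mem F.perfect i)]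
  have := mul_mem hnD hk
  rwa [mul_inv_cancel_left] at this

end Frame

end Cfsg.Lib.JankoFour
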