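import Cfsg.Agent.Lib.JankoFour.Meet

/-!
# The plane structure of `C(z)`

A conjugate of `z` in `E` besides `z` lies in five of the groups of order `2¹¹`, any other involution in one, and
every involution of `E` is conjugate in `C(z)` into the standard group.
-/

set_option autoImplicit false
set_option linter.style.haveILetI false
set_option linter.unusedSectionVars false

namespace Cfsg.Lib.JankoFour

open Cfsg Cfsg.Lib.Extra Module BitModel

variable {G : Type*} [Group G] [Finite G] {A : Type} [Group A] {I : Subgroup A}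

namespace Adapted

variable {F : Frame G A I} {D : HexData A I} {S : Std F D} (C : Adapted S)

include C in
theorem el_rep_ne {r : ℕ} (hr : 2 ≤ r) (hr' : r < 128) : C.el r ≠ 1 ∧ C.el r ≠ F.z := by
  refine ⟨fun e => ?_, fun e => ?_⟩
  · have := C.el_eq_one (by omega) e
    omega
  · have := C.el_inj (v := r) (w := 1) (by omega) (by norm_num) (e.trans C.el_one.symm)
    omega

include C in
theorem zOrb_sub {r : ℕ} (hr : r = 10 ∨ r = 2) :
    F.zOrb (C.el r) ⊆ {a | a ∈ F.E ∧ a * a = 1 ∧ a ≠ 1 ∧ a ≠ F.z} := by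
  have hr' : r < 128 ∧ 2 ≤ r := by omega
  obtain ⟨h1, hz⟩ := C.el_rep_ne hr'.2 hr'.1
  rintro _ ⟨d, hd, rfl⟩
  refine ⟨F.conj_mem hd (C.el_mem_K hr'.1).1, Frame.conj_sq_one (S.Vb_sq (C.el_mem r)),
    fun e => h1 (conj_eq_one_iff.1 e), fun e => hz ?_⟩
  calc C.el r = d⁻¹ * (d * C.el r * d⁻¹) * d := by group
    _ = F.z := by rw [e, hd.inv_left.eq, inv_mul_cancel_right]

include C in
theorem eighteen_dvd {r : ℕ} (hr : r = 10 ∨ r = 2) : 18 ∣ (F.zOrb (C.el r)).ncard := by
  classical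
  letI := Fintype.ofFinite G
  have hr' : r < 128 ∧ 2 ≤ r := by omega
  obtain ⟨h1, hz⟩ := C.el_rep_ne hr'.2 hr'.1
  refine (Nat.Coprime.mul_dvd_of_dvd_of_dvd (by norm_num) ?_ (S.nine_dvd (C.el_mem_K hr'.1).1 h1 hz) :
    2 * 9 ∣ (F.zOrb (C.el r)).ncard)
  set O := F.zOrb (C.el r)
  obtain ⟨c, hc, hce⟩ : ∃ c < 64, eAct c r = r ^^^ 1 := by
    have h := List.all_eq_true.1 flip_rep r (by rcases hr with rfl | rfl <;> simp)
    obtain ⟨c, hc, hc'⟩ := List.any_eq_true.1 h
    exact ⟨c, List.mem_range.1 hc, Nat.eq_of_beq_eq_true hc'⟩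
  obtain ⟨e, he, hec⟩ := C.exists_e hc
  have hflip : e * C.el r * e⁻¹ = F.z * C.el r := by
    rw [C.el_eAct he (by omega), hec, hce, C.el_xor, C.el_one, (S.Vb_z (C.el_mem r)).eq]
  have hmem : ∀ b ∈ O, F.z * b ∈ O := by
    rintro _ ⟨d, hd, rfl⟩
    refine ⟨d * e, hd.mul_left (F.comm_of_mem he), ?_⟩
    rw [show d * e * C.el r * (d * e)⁻¹ = d * (e * C.el r * e⁻¹) * d⁻¹ by group, hflip, ← mul_assoc d, hd.eq]
    group
  have h0 : ∑ _b ∈ O.toFinset, (1 : ZMod 2) = 0 := by
    refine Finset.sum_involution (fun b _ => F.z * b) (fun _ _ => by decide) (fun b _ _ => ?_)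
      (fun b hb => Set.mem_toFinset.2 (hmem b (Set.mem_toFinset.1 hb))) fun b _ => ?_
    · exact fun e => F.ctx.ne_one (mul_eq_right.1 e)
    · show F.z * (F.z * b) = b
      rw [← mul_assoc, F.ctx.sq_z, one_mul]
  rw [Finset.sum_const, nsmul_eq_mul, mul_one, ZMod.natCast_eq_zero_iff_even, ← Set.ncard_eq_toFinset_card'] at h0
  exact even_iff_two_dvd.1 h0

include C in
/-- Every member of a type in the fixed part lies in as many groups as the representative. -/
theorem containing_fixed {v : ℕ} (hv : v < 128) (h2 : 2 ≤ v) :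
    {V | F.IsEleven V ∧ C.el v ∈ V}.ncard =
      {V | F.IsEleven V ∧ C.el (if inD v then 2 else 10) ∈ V}.ncard := by
  obtain ⟨n, -, hnz, hne⟩ := C.orbit_fixed hv h2
  rw [← hne]
  exact S.ncard_containing hnz

include C in
/-- The incidence numbers are five and one, and the two orbits cover the involutions. -/
theorem incidence : {V | F.IsEleven V ∧ C.el 10 ∈ V}.ncard = 5 ∧ {V | F.IsEleven V ∧ C.el 2 ∈ V}.ncard = 1 ∧
    (F.zOrb (C.el 10)).ncard = 1386 ∧ (F.zOrb (C.el 2)).ncard = 2772 := by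
  classical
  letI := Fintype.ofFinite G
  letI : Fintype (Subgroup G) := Fintype.ofFinite _
  have e1 := C.zOrb_mul_containing (Or.inl rfl) (N := 90) (by decide +kernel)
  have e2 := C.zOrb_mul_containing (Or.inr rfl) (N := 36) (by decide +kernel)
  obtain ⟨m1, hm1⟩ := C.eighteen_dvd (Or.inl rfl)
  obtain ⟨m2, hm2⟩ := C.eighteen_dvd (Or.inr rfl)
  have hsum : (F.zOrb (C.el 10)).ncard + (F.zOrb (C.el 2)).ncard ≤ 4158 := by
    refine le_trans (le_of_eq (Set.ncard_union_eq ?_).symm)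
      ((Set.ncard_le_ncard (Set.union_subset (C.zOrb_sub (Or.inl rfl)) (C.zOrb_sub (Or.inr rfl)))).trans C.ncard_invol)
    obtain ⟨-, -, -, -, -, hcls, -⟩ := C.model
    refine Set.disjoint_left.2 ?_
    rintro _ ⟨d, -, rfl⟩ ⟨d', -, he⟩
    have h1 : IsConj F.z (C.el 10) := (hcls 10 (by norm_num)).2 (by decide +kernel)
    have h2 : ¬ IsConj F.z (C.el 2) := fun h => by
      have := ((hcls 2 (by norm_num)).1 h).2
      revert this
      decide +kernel
    rw [← isConj_conj_iff (g := d), ← he, isConj_conj_iff] at h1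
    exact h2 h1
  set k1 := {V | F.IsEleven V ∧ C.el 10 ∈ V}.ncard
  set k2 := {V | F.IsEleven V ∧ C.el 2 ∈ V}.ncard
  -- meetings with the standard group
  set W := ({V | F.IsEleven V}.toFinset).erase S.Vb
  have hW : W.card = 76 := by
    rw [Finset.card_erase_of_mem (by rw [Set.mem_toFinset]; exact S.isEleven), ← Set.ncard_eq_toFinset_card',
      C.ncard_elevens]
  set P : Bool → Finset G := fun b =>
    (((List.range 128).filter fun v => Nat.ble 2 v && (inD v == b)).toFinset).image C.el with hP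
  have hcount : ∀ V ∈ W, ((P false ∪ P true).filter fun b => b ∈ V).card ≤ 6 := by
    intro V hV
    rw [Finset.mem_erase, Set.mem_toFinset] at hV
    have hle := S.meet_le hV.2 S.isEleven hV.1
    set M := V ⊓ S.Vb ⊓ F.E
    have hz : F.z ∈ M := ⟨⟨S.eleven_z hV.2, S.z_mem⟩, F.ctx.mem⟩
    have hsub : ((P false ∪ P true).filter fun b => b ∈ V) ⊆ ((M : Set G).toFinset.erase 1).erase F.z := by
      intro b hb
      obtain ⟨hb, hbV⟩ := Finset.mem_filter.1 hb
      obtain ⟨v, hv, hv2, rfl⟩ : ∃ v, v < 128 ∧ 2 ≤ v ∧ C.el v = b := by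
        simp only [hP, Finset.mem_union, Finset.mem_image, List.mem_toFinset, List.mem_filter, List.mem_range,
          Bool.and_eq_true, Nat.ble_eq] at hb
        rcases hb with ⟨v, ⟨hv, hv2, -⟩, rfl⟩ | ⟨v, ⟨hv, hv2, -⟩, rfl⟩ <;> exact ⟨v, hv, hv2, rfl⟩
      obtain ⟨h1, hvz⟩ := C.el_rep_ne hv2 hv
      exact Finset.mem_erase.2 ⟨hvz, Finset.mem_erase.2 ⟨h1, Set.mem_toFinset.2
        ⟨⟨hbV, C.el_mem v⟩, (C.el_mem_K hv).1⟩⟩⟩
    refine (Finset.card_le_card hsub).trans ?_
    rw [Finset.card_erase_of_mem (Finset.mem_erase.2 ⟨F.ctx.ne_one, Set.mem_toFinset.2 hz⟩),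
      Finset.card_erase_of_mem (Set.mem_toFinset.2 (one_mem M)), ← Set.ncard_eq_toFinset_card',
      ← Nat.card_coe_set_eq]
    change Nat.card ↥M - 1 - 1 ≤ 6
    omega
  have hside : ∀ b : Bool, ∑ x ∈ P b, (W.filter fun V => x ∈ V).card =
      ((List.range 128).filter fun v => Nat.ble 2 v && (inD v == b)).length * ((if b then k2 else k1) - 1) := by
    intro b
    rw [hP, Finset.sum_image, Finset.sum_congr rfl (g := fun _ => (if b then k2 else k1) - 1) fun v hv => ?_,
      Finset.sum_const, List.toFinset_card_of_nodup (List.nodup_range.filter _), smul_eq_mul]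
    · simp only [List.mem_toFinset, List.mem_filter, List.mem_range, Bool.and_eq_true, Nat.ble_eq, beq_iff_eq] at hv
      obtain ⟨hv, hv2, hD⟩ := hv
      rw [show W.filter (fun V => C.el v ∈ V) = ({V | F.IsEleven V ∧ C.el v ∈ V}.toFinset).erase S.Vb by
        ext V; simp [W, and_assoc], Finset.card_erase_of_mem, ← Set.ncard_eq_toFinset_card', C.containing_fixed hv hv2,
        hD]
      · cases b <;> rfl
      · rw [Set.mem_toFinset]
        exact ⟨S.isEleven, C.el_mem v⟩
    · intro v hv w hw e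
      simp only [List.mem_toFinset, List.mem_filter, List.mem_range, Finset.mem_coe] at hv hw
      exact C.el_inj (by omega) (by omega) e
  have hdisj : Disjoint (P false) (P true) := by
    refine Finset.disjoint_left.2 fun x hx hx' => ?_
    simp only [hP, Finset.mem_image, List.mem_toFinset, List.mem_filter, List.mem_range, Bool.and_eq_true,
      beq_iff_eq] at hx hx'
    obtain ⟨v, ⟨hv, -, hD⟩, rfl⟩ := hx
    obtain ⟨w, ⟨hw, -, hD'⟩, e⟩ := hx'
    rw [C.el_inj (by omega) (by omega) e, hD] at hD'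
    exact Bool.noConfusion hD'
  have hswap : ∑ x ∈ P false ∪ P true, (W.filter fun V => x ∈ V).card ≤ 76 * 6 := by
    rw [← hW]
    simp only [Finset.card_filter]
    rw [Finset.sum_comm]
    simp only [← Finset.card_filter]
    exact (Finset.sum_le_card_nsmul _ _ 6 hcount).trans (le_of_eq (smul_eq_mul ..))
  rw [Finset.sum_union hdisj, hside, hside, show ((List.range 128).filter fun v => Nat.ble 2 v && (inD v == false)).length = 90
    by decide +kernel, show ((List.range 128).filter fun v => Nat.ble 2 v && (inD v == true)).length = 36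
    by decide +kernel, if_pos rfl, if_neg Bool.false_ne_true] at hswap
  rw [hm1] at e1 hsum
  rw [hm2] at e2 hsum
  have hk1p : 1 ≤ k1 := (Set.ncard_pos).2 ⟨S.Vb, S.isEleven, C.el_mem 10⟩
  have hk2p : 1 ≤ k2 := (Set.ncard_pos).2 ⟨S.Vb, S.isEleven, C.el_mem 2⟩
  have d1 : k1 ∣ 385 := ⟨m1, by nlinarith⟩
  have d2 : k2 ∣ 154 := ⟨m2, by nlinarith⟩
  have hne2 : k2 ≠ 2 := by
    intro h2
    obtain ⟨V, V', hne, hset⟩ := Set.ncard_eq_two.1 h2
    obtain ⟨U, hU, hUne⟩ : ∃ U, {V | F.IsEleven V ∧ C.el 2 ∈ V} = {S.Vb, U} ∧ U ≠ S.Vb := by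
      have hb : S.Vb ∈ ({V, V'} : Set (Subgroup G)) := hset ▸ ⟨S.isEleven, C.el_mem 2⟩
      rcases hb with e | e
      · exact ⟨V', by rw [hset, e], fun h => hne (e.symm.trans h.symm)⟩
      · rw [Set.mem_singleton_iff] at e
        exact ⟨V, by rw [hset, e, Set.pair_comm], fun h => hne (h.trans e)⟩
    have hUm : F.IsEleven U ∧ C.el 2 ∈ U := hU.symm.le (Set.mem_insert_of_mem _ rfl)
    -- the standard group normalizes the other one
    have hnorm : S.Vb ≤ Subgroup.normalizer (U : Set G) := by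
      intro x hx
      have hxz := S.Vb_z hx
      have hm : U.map (MulAut.conj x).toMonoidHom ∈ ({S.Vb, U} : Set (Subgroup G)) := by
        rw [← hU]
        refine ⟨F.isEleven_conj hxz hUm.1, ?_⟩
        have := (mem_map_conj (d := x)).2 hUm.2
        rwa [(S.Vb_comm hx (C.el_mem 2)).eq, mul_inv_cancel_right] at this
      rcases hm with e | e
      · exfalso
        refine hUne (Subgroup.map_injective (f := (MulAut.conj x).toMonoidHom) (MulAut.conj x).injective
          (e.trans (map_of_mem_normalizer (Subgroup.le_normalizer hx)).symm))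
      · exact mem_normalizer_of_map e
    have hp : IsPGroup 2 ↥(S.Vb ⊔ U) :=
      IsPGroup.to_sup_of_normal_right' (isBig_pGroup S.isBig) (isBig_pGroup ⟨hUm.1.2.1, hUm.1.2.2⟩) hnorm
    exact hUne (S.two_group_unique hp ⟨hUm.1.2.1, hUm.1.2.2⟩ S.isBig le_sup_right le_sup_left)
  have hk1u : k1 ≤ 7 := by omega
  have hk2u : k2 ≤ 14 := by omega
  have f1 : k1 = 5 := by
    interval_cases k1 <;> omega
  rw [f1] at hswap e1
  have f2 : k2 = 1 := by
    interval_cases k2 <;> omega
  rw [f2] at e2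
  refine ⟨f1, f2, ?_, ?_⟩ <;> omega

include C in
/-- An element of the second class lies in one group only. -/
theorem unique_std {V : Subgroup G} (hV : F.IsEleven V) {v : ℕ} (hv : v < 2048) (hD : inD v = true)
    (hm : C.el v ∈ V) : V = S.Vb := by
  have key : ∀ w < 128, inD w = true → C.el w ∈ V → V = S.Vb := by
    intro w hw hwD hwm
    have hw2 : 2 ≤ w := by
      by_contra h
      interval_cases w <;> revert hwD <;> decide +kernel
    have h1 := C.containing_fixed hw hw2
    rw [hwD, if_pos rfl, C.incidence.2.1] at h1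
    obtain ⟨U, hU⟩ := Set.ncard_eq_one.1 h1
    have a : V ∈ ({U} : Set (Subgroup G)) := hU ▸ (⟨hV, hwm⟩ : F.IsEleven V ∧ C.el w ∈ V)
    have b : S.Vb ∈ ({U} : Set (Subgroup G)) := hU ▸ (⟨S.isEleven, C.el_mem w⟩ : F.IsEleven S.Vb ∧ C.el w ∈ S.Vb)
    exact (Set.mem_singleton_iff.1 a).trans (Set.mem_singleton_iff.1 b).symm
  by_cases h128 : v < 128
  · exact key v h128 hD hm
  have h := allLt_spec comm_into hv
  rw [hD, Bool.or_eq_true, Bool.or_eq_true, Bool.not_true, Nat.blt_eq] at h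
  obtain ⟨c, hc, hc'⟩ := List.any_eq_true.1 ((h.resolve_left fun h => h.elim h128 Bool.false_ne_true))
  rw [Bool.and_eq_true, Nat.blt_eq] at hc'
  obtain ⟨e, he, hec⟩ := C.exists_e (List.mem_range.1 hc)
  refine key _ hc'.1 hc'.2 ?_
  rw [C.el_xor, ← hec, ← C.el_eAct he hv]
  exact mul_mem ((Subgroup.mem_normalizer_iff.1 (S.eleven_E hV he) _).1 hm) hm

include C in
/-- Two groups through an element not conjugate to `z` agree. -/
theorem uniq {V V' : Subgroup G} (hV : F.IsEleven V) (hV' : F.IsEleven V') {t : G} (ht : t ∈ V) (ht' : t ∈ V')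
    (h1 : t ≠ 1) (hnc : ¬ IsConj F.z t) : V = V' := by
  obtain ⟨d, hd, he⟩ := S.conj_eleven hV
  obtain ⟨-, -, -, -, -, hcls, -⟩ := C.model
  have hm : d * t * d⁻¹ ∈ S.Vb := he ▸ mem_map_conj.2 ht
  obtain ⟨v, hv, hve⟩ := C.exists_el hm
  have hD : inD v = true := by
    by_contra h
    rw [Bool.not_eq_true] at h
    by_cases hv0 : v = 0
    · subst hv0
      rw [C.el_zero] at hve
      exact h1 (conj_eq_one_iff.1 hve.symm)
    · have := (hcls v hv).2 ⟨hv0, h⟩
      rw [hve, isConj_conj_iff] at this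
      exact hnc this
  refine Subgroup.map_injective (f := (MulAut.conj d).toMonoidHom) (MulAut.conj d).injective ?_
  rw [he]
  exact (C.unique_std (F.isEleven_conj hd hV') hv hD (hve ▸ mem_map_conj.2 ht')).symm

include C in
/-- An involution of `E` is conjugate in `C(z)` into the standard group. -/
theorem fused_E {a : G} (ha : a ∈ F.E) (h2 : a * a = 1) : ∃ d, Commute d F.z ∧ d * a * d⁻¹ ∈ S.K := by
  by_cases h1 : a = 1
  · exact ⟨1, Commute.one_left _, by simp [h1, one_mem]⟩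
  by_cases hz : a = F.z
  · exact ⟨1, Commute.one_left _, by simp [hz, S.z_mem_K]⟩
  obtain ⟨-, -, o1, o2⟩ := C.incidence
  have hsub := Set.union_subset (C.zOrb_sub (Or.inl rfl)) (C.zOrb_sub (Or.inr rfl))
  have hdis : Disjoint (F.zOrb (C.el 10)) (F.zOrb (C.el 2)) := by
    obtain ⟨-, -, -, -, -, hcls, -⟩ := C.model
    refine Set.disjoint_left.2 ?_
    rintro _ ⟨d, -, rfl⟩ ⟨d', -, he⟩
    have h10 : IsConj F.z (C.el 10) := (hcls 10 (by norm_num)).2 (by decide +kernel)
    rw [← isConj_conj_iff (g := d), ← he, isConj_conj_iff] at h10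
    have := ((hcls 2 (by norm_num)).1 h10).2
    revert this
    decide +kernel
  have heq := Set.eq_of_subset_of_ncard_le hsub (by rw [Set.ncard_union_eq hdis, o1, o2]; exact C.ncard_invol)
  rcases heq.symm.le (⟨ha, h2, h1, hz⟩ : a ∈ F.E ∧ a * a = 1 ∧ a ≠ 1 ∧ a ≠ F.z) with ⟨d, hd, e⟩ | ⟨d, hd, e⟩ <;>
    refine ⟨d⁻¹, hd.inv_left, ?_⟩ <;> rw [← e]
  · rw [show d⁻¹ * (d * C.el 10 * d⁻¹) * d⁻¹⁻¹ = C.el 10 by group]
    exact C.el_mem_K (by norm_num)
  · rw [show d⁻¹ * (d * C.el 2 * d⁻¹) * d⁻¹⁻¹ = C.el 2 by group]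
    exact C.el_mem_K (by norm_num)

end Adapted

end Cfsg.Lib.JankoFour
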