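import Cfsg.Agent.Lib.Extra.LargeTwoCore
import Mathlib.Algebra.Module.ZMod
import Mathlib.LinearAlgebra.BilinearForm.Orthogonal
import Mathlib.LinearAlgebra.FiniteDimensional.Basic

/-!
# The quadratic space of an extraspecial 2-subgroup normal in the centralizer of its centre

`Bar hQ` is the group modulo its centre, as a vector space over the field with two elements;
`B` is the commutator form, `qf` the squaring form and `act` the action of the centralizer.
-/

set_option autoImplicit false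
set_option linter.style.haveILetI false

namespace Cfsg.Lib.JankoFour

open Cfsg Cfsg.Lib.Extra

variable {G : Type*} [Group G] {Q : Subgroup G} {z : G}

theorem bit : ∀ a : ZMod 2, a = 0 ∨ a = 1 := by decide

theorem bit_self : ∀ a : ZMod 2, a + a = 0 := by decide

/-- `Q` modulo its centre, written additively. -/
def Bar (_hQ : Ctx Q z) : Type _ := Additive (↥Q ⧸ Subgroup.center ↥Q)

variable (hQ : Ctx Q z)

include hQ

theorem mem_center_iff' (a : ↥Q) : a ∈ Subgroup.center ↥Q ↔ (a : G) = 1 ∨ (a : G) = z := by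
  rw [Subgroup.mem_center_iff]
  constructor
  · intro h
    exact hQ.cent a fun b hb => (congrArg Subtype.val (h ⟨b, hb⟩)).symm
  · intro h b
    refine Subtype.ext ?_
    rcases h with h | h <;> simp only [Subgroup.coe_mul, h]
    · simp
    · exact (hQ.central b b.2).eq.symm

theorem mk_comm (a b : ↥Q) :
    (QuotientGroup.mk (a * b) : ↥Q ⧸ Subgroup.center ↥Q) = QuotientGroup.mk (b * a) := by
  rw [QuotientGroup.eq, mem_center_iff' hQ]
  have hab : (((a * b)⁻¹ * (b * a) : ↥Q) : G) =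
      (b : G)⁻¹ * (a : G)⁻¹ * ((b : G)⁻¹)⁻¹ * ((a : G)⁻¹)⁻¹ := by
    simp only [Subgroup.coe_mul, Subgroup.coe_inv]; group
  rw [hab]
  exact hQ.comm _ (inv_mem b.2) _ (inv_mem a.2)

noncomputable instance : AddCommGroup (Bar hQ) :=
  letI : CommGroup (↥Q ⧸ Subgroup.center ↥Q) :=
    { (inferInstance : Group (↥Q ⧸ Subgroup.center ↥Q)) with
      mul_comm := fun x y => by
        obtain ⟨a, rfl⟩ := QuotientGroup.mk_surjective x
        obtain ⟨b, rfl⟩ := QuotientGroup.mk_surjective y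
        exact mk_comm hQ a b }
  (inferInstance : AddCommGroup (Additive (↥Q ⧸ Subgroup.center ↥Q)))

/-- The class of an element of `Q`. -/
noncomputable def cls (a : G) : Bar hQ := by
  classical exact if h : a ∈ Q then Additive.ofMul (QuotientGroup.mk (⟨a, h⟩ : ↥Q)) else 0

theorem cls_def {a : G} (h : a ∈ Q) : cls hQ a = Additive.ofMul (QuotientGroup.mk (⟨a, h⟩ : ↥Q)) := by
  unfold cls
  exact dif_pos h

theorem cls_mul {a b : G} (ha : a ∈ Q) (hb : b ∈ Q) : cls hQ (a * b) = cls hQ a + cls hQ b := by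
  rw [cls_def hQ ha, cls_def hQ hb, cls_def hQ (mul_mem ha hb)]
  rfl

theorem cls_surj (v : Bar hQ) : ∃ a ∈ Q, cls hQ a = v := by
  obtain ⟨a, ha⟩ := QuotientGroup.mk_surjective (Additive.toMul v)
  refine ⟨a, a.2, ?_⟩
  rw [cls_def hQ a.2]
  exact congrArg Additive.ofMul ha

theorem cls_eq_zero {a : G} (ha : a ∈ Q) : cls hQ a = 0 ↔ a = 1 ∨ a = z := by
  rw [cls_def hQ ha, ← mem_center_iff' hQ ⟨a, ha⟩]
  exact (QuotientGroup.eq_one_iff (N := Subgroup.center ↥Q) (⟨a, ha⟩ : ↥Q))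

theorem cls_one : cls hQ (1 : G) = 0 := (cls_eq_zero hQ (one_mem _)).2 (Or.inl rfl)

theorem cls_z : cls hQ z = 0 := (cls_eq_zero hQ hQ.mem).2 (Or.inr rfl)

theorem cls_inv {a : G} (ha : a ∈ Q) : cls hQ a⁻¹ = cls hQ a := by
  rcases hQ.sq a ha with h | h
  · rw [inv_eq_of_mul_eq_one_right h]
  · have : a⁻¹ = z * a := inv_eq_of_mul_eq_one_left (by rw [mul_assoc, h, hQ.sq_z])
    rw [this, cls_mul hQ hQ.mem ha, cls_z, zero_add]

theorem cls_eq_iff {a b : G} (ha : a ∈ Q) (hb : b ∈ Q) : cls hQ a = cls hQ b ↔ a = b ∨ a = z * b := by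
  have e : cls hQ (a * b⁻¹) = cls hQ a + cls hQ b := by rw [cls_mul hQ ha (inv_mem hb), cls_inv hQ hb]
  have hself : ∀ v : Bar hQ, v + v = 0 := fun v => by
    obtain ⟨c, hc, rfl⟩ := cls_surj hQ v
    rw [← cls_mul hQ hc hc, cls_eq_zero hQ (mul_mem hc hc)]
    exact hQ.sq c hc
  constructor
  · intro h
    rw [h, hself] at e
    rcases (cls_eq_zero hQ (mul_mem ha (inv_mem hb))).1 e with h' | h'
    · exact Or.inl (mul_inv_eq_one.1 h')
    · exact Or.inr (mul_inv_eq_iff_eq_mul.1 h')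
  · rintro (rfl | rfl)
    · rfl
    · rw [cls_mul hQ hQ.mem hb, cls_z, zero_add]

theorem bar_self (v : Bar hQ) : v + v = 0 := by
  obtain ⟨c, hc, rfl⟩ := cls_surj hQ v
  rw [← cls_mul hQ hc hc, cls_eq_zero hQ (mul_mem hc hc)]
  exact hQ.sq c hc

noncomputable instance : Module (ZMod 2) (Bar hQ) :=
  AddCommGroup.zmodModule (n := 2) fun v => by rw [two_nsmul, bar_self]

theorem neg_eq_self (v : Bar hQ) : -v = v := neg_eq_of_add_eq_zero_left (bar_self hQ v)

theorem add_eq_zero_iff_eq' {v w : Bar hQ} : v + w = 0 ↔ v = w := by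
  rw [add_eq_zero_iff_eq_neg, neg_eq_self]

instance [Finite G] : Finite (Bar hQ) :=
  inferInstanceAs (Finite (Additive (↥Q ⧸ Subgroup.center ↥Q)))

theorem card_bar [Finite G] (hc : Nat.card ↥(Subgroup.center ↥Q) = 2) :
    2 * Nat.card (Bar hQ) = Nat.card ↥Q := by
  rw [Subgroup.card_eq_card_quotient_mul_card_subgroup (Subgroup.center ↥Q), hc, mul_comm]
  rfl

/-- A lift of a class. -/
noncomputable def rep (v : Bar hQ) : G := (cls_surj hQ v).choose

theorem rep_mem (v : Bar hQ) : rep hQ v ∈ Q := (cls_surj hQ v).choose_spec.1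

theorem cls_rep (v : Bar hQ) : cls hQ (rep hQ v) = v := (cls_surj hQ v).choose_spec.2

theorem eq_rep {a : G} (ha : a ∈ Q) : a = rep hQ (cls hQ a) ∨ a = z * rep hQ (cls hQ a) :=
  (cls_eq_iff hQ ha (rep_mem hQ _)).1 (cls_rep hQ _).symm

/-- The commutator form. -/
noncomputable def Bf (v w : Bar hQ) : ZMod 2 := by
  classical exact if Commute (rep hQ v) (rep hQ w) then 0 else 1

theorem commute_z_mul {a b : G} (hb : b ∈ Q) : Commute (z * a) b ↔ Commute a b := by
  constructor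
  · intro h
    have h' := (hQ.central b hb).mul_left h
    rwa [← mul_assoc, hQ.sq_z, one_mul] at h'
  · exact fun h => (hQ.central b hb).mul_left h

theorem Bf_cls {a b : G} (ha : a ∈ Q) (hb : b ∈ Q) : Bf hQ (cls hQ a) (cls hQ b) = 0 ↔ Commute a b := by
  classical
  have hr : Commute (rep hQ (cls hQ a)) (rep hQ (cls hQ b)) ↔ Commute a b := by
    have ea : Commute a b ↔ Commute (rep hQ (cls hQ a)) b := by
      rcases eq_rep hQ ha with e | e
      · rw [← e]
      · conv_lhs => rw [e]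
        exact commute_z_mul hQ hb
    rw [ea]
    rcases eq_rep hQ hb with e | e
    · rw [← e]
    · conv_rhs => rw [e]
      rw [Commute.symm_iff (a := rep hQ (cls hQ a)) (b := z * _), commute_z_mul hQ (rep_mem hQ _),
        Commute.symm_iff]
  unfold Bf
  rw [← hr]
  by_cases h : Commute (rep hQ (cls hQ a)) (rep hQ (cls hQ b)) <;> simp [h]

theorem Bf_cls_one {a b : G} (ha : a ∈ Q) (hb : b ∈ Q) :
    Bf hQ (cls hQ a) (cls hQ b) = 1 ↔ a * b * a⁻¹ = z * b := by
  rcases hQ.comm a ha b hb with h | h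
  · have hc : Commute a b := mul_inv_eq_iff_eq_mul.1 (mul_inv_eq_one.1 h)
    rw [(Bf_cls hQ ha hb).2 hc, hc.eq, mul_inv_cancel_right]
    exact iff_of_false zero_ne_one fun e => hQ.ne_one (left_eq_mul₀' e)
  · refine iff_of_true ((bit _).resolve_left fun h0 => ?_) (mul_inv_eq_iff_eq_mul.1 h)
    have hc := (Bf_cls hQ ha hb).1 h0
    rw [hc.eq, mul_inv_cancel_right, mul_inv_cancel] at h
    exact hQ.ne_one h.symm
where
  left_eq_mul₀' {b : G} (e : b = z * b) : z = 1 := by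
    have := congrArg (· * b⁻¹) e
    simpa using this.symm

theorem Bf_symm (v w : Bar hQ) : Bf hQ v w = Bf hQ w v := by
  classical
  unfold Bf
  simp only [Commute.symm_iff (a := rep hQ v)]

theorem Bf_self (v : Bar hQ) : Bf hQ v v = 0 := by
  classical
  unfold Bf
  simp

theorem Bf_add_left (u v w : Bar hQ) : Bf hQ (u + v) w = Bf hQ u w + Bf hQ v w := by
  obtain ⟨a, ha, rfl⟩ := cls_surj hQ u
  obtain ⟨b, hb, rfl⟩ := cls_surj hQ v
  obtain ⟨c, hc, rfl⟩ := cls_surj hQ w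
  rw [← cls_mul hQ ha hb]
  have hz : ∀ x ∈ Q, a * (z * x) * a⁻¹ = z * (a * x * a⁻¹) := fun x _ => by
    rw [← mul_assoc a z x, ← (hQ.central a ha).eq]; group
  have e : a * b * c * (a * b)⁻¹ = a * (b * c * b⁻¹) * a⁻¹ := by group
  have val : ∀ x ∈ Q, (Bf hQ (cls hQ x) (cls hQ c) = 0 ∧ x * c * x⁻¹ = c) ∨
      (Bf hQ (cls hQ x) (cls hQ c) = 1 ∧ x * c * x⁻¹ = z * c) := fun x hx => by
    rcases bit (Bf hQ (cls hQ x) (cls hQ c)) with h | h
    · exact Or.inl ⟨h, by rw [((Bf_cls hQ hx hc).1 h).eq, mul_inv_cancel_right]⟩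
    · exact Or.inr ⟨h, (Bf_cls_one hQ hx hc).1 h⟩
  have hne : z * c ≠ c := fun e' => hQ.ne_one (mul_eq_right.1 e')
  rcases val a ha with ⟨h1, k1⟩ | ⟨h1, k1⟩ <;> rcases val b hb with ⟨h2, k2⟩ | ⟨h2, k2⟩ <;>
    rcases val _ (mul_mem ha hb) with ⟨h3, k3⟩ | ⟨h3, k3⟩ <;> rw [h1, h2, h3] <;>
    simp only [e, k2, hz c hc, k1, ← mul_assoc z z, hQ.sq_z, one_mul] at k3 <;>
    first | rfl | exact absurd k3 hne | exact absurd k3.symm hne

theorem Bf_add_right (u v w : Bar hQ) : Bf hQ u (v + w) = Bf hQ u v + Bf hQ u w := by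
  rw [Bf_symm hQ u, Bf_add_left hQ, Bf_symm hQ v, Bf_symm hQ w]

theorem Bf_zero_left (w : Bar hQ) : Bf hQ 0 w = 0 := by
  have h := Bf_add_left hQ 0 0 w
  rw [add_zero] at h
  exact left_eq_add.1 h

/-- The commutator form as a bilinear form. -/
noncomputable def B : LinearMap.BilinForm (ZMod 2) (Bar hQ) :=
  LinearMap.mk₂ (ZMod 2) (Bf hQ) (Bf_add_left hQ)
    (fun c v w => by
      rcases bit c with rfl | rfl
      · rw [zero_smul, zero_smul, Bf_zero_left]
      · rw [one_smul, one_smul])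
    (Bf_add_right hQ)
    (fun c v w => by
      rcases bit c with rfl | rfl
      · rw [zero_smul, zero_smul, Bf_symm, Bf_zero_left]
      · rw [one_smul, one_smul])

theorem B_apply (v w : Bar hQ) : B hQ v w = Bf hQ v w := rfl

theorem B_cls {a b : G} (ha : a ∈ Q) (hb : b ∈ Q) : B hQ (cls hQ a) (cls hQ b) = 0 ↔ Commute a b :=
  Bf_cls hQ ha hb

theorem B_symm (v w : Bar hQ) : B hQ v w = B hQ w v := Bf_symm hQ v w

theorem B_self (v : Bar hQ) : B hQ v v = 0 := Bf_self hQ v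

theorem B_isRefl : (B hQ).IsRefl := fun v w h => by rw [B_symm]; exact h

theorem B_nondegenerate : (B hQ).Nondegenerate := by
  have key : ∀ v : Bar hQ, (∀ w, B hQ v w = 0) → v = 0 := fun v hv => by
    obtain ⟨a, ha, rfl⟩ := cls_surj hQ v
    exact (cls_eq_zero hQ ha).2 (hQ.cent a fun b hb => (B_cls hQ ha hb).1 (hv _))
  exact ⟨key, fun v hv => key v fun w => by rw [B_symm]; exact hv w⟩

/-- The squaring form. -/
noncomputable def qf (v : Bar hQ) : ZMod 2 := by
  classical exact if rep hQ v * rep hQ v = 1 then 0 else 1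

theorem qf_cls {a : G} (ha : a ∈ Q) : qf hQ (cls hQ a) = 0 ↔ a * a = 1 := by
  classical
  have hz : z * rep hQ (cls hQ a) * (z * rep hQ (cls hQ a)) = rep hQ (cls hQ a) * rep hQ (cls hQ a) := by
    calc z * rep hQ (cls hQ a) * (z * rep hQ (cls hQ a))
        = z * (rep hQ (cls hQ a) * z) * rep hQ (cls hQ a) := by group
      _ = z * z * rep hQ (cls hQ a) * rep hQ (cls hQ a) := by
        rw [← (hQ.central _ (rep_mem hQ _)).eq]; group
      _ = _ := by rw [hQ.sq_z, one_mul]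
  have e : a * a = rep hQ (cls hQ a) * rep hQ (cls hQ a) := by
    rcases eq_rep hQ ha with e | e
    · rw [← e]
    · conv_lhs => rw [e]
      exact hz
  unfold qf
  rw [e]
  by_cases h : rep hQ (cls hQ a) * rep hQ (cls hQ a) = 1 <;> simp [h]

theorem qf_add (v w : Bar hQ) : qf hQ (v + w) = qf hQ v + qf hQ w + B hQ v w := by
  obtain ⟨a, ha, rfl⟩ := cls_surj hQ v
  obtain ⟨b, hb, rfl⟩ := cls_surj hQ w
  rw [← cls_mul hQ ha hb]
  have val : ∀ x ∈ Q, (qf hQ (cls hQ x) = 0 ∧ x * x = 1) ∨ (qf hQ (cls hQ x) = 1 ∧ x * x = z) := fun x hx => by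
    rcases bit (qf hQ (cls hQ x)) with h | h
    · exact Or.inl ⟨h, (qf_cls hQ hx).1 h⟩
    · refine Or.inr ⟨h, (hQ.sq x hx).resolve_left fun h' => ?_⟩
      rw [(qf_cls hQ hx).2 h'] at h
      exact zero_ne_one h
  have vB : (B hQ (cls hQ a) (cls hQ b) = 0 ∧ b * a = a * b) ∨
      (B hQ (cls hQ a) (cls hQ b) = 1 ∧ b * a = z * (a * b)) := by
    rcases bit (B hQ (cls hQ a) (cls hQ b)) with h | h
    · exact Or.inl ⟨h, ((B_cls hQ ha hb).1 h).eq.symm⟩
    · refine Or.inr ⟨h, ?_⟩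
      have h1 := mul_inv_eq_iff_eq_mul.1 ((Bf_cls_one hQ ha hb).1 h)
      rw [h1, ← mul_assoc, ← mul_assoc, hQ.sq_z, one_mul]
  have hne : z ≠ 1 := hQ.ne_one
  have hza : a * z = z * a := (hQ.central a ha).eq.symm
  have e : a * b * (a * b) = a * (b * a) * b := by group
  rcases val a ha with ⟨h1, k1⟩ | ⟨h1, k1⟩ <;> rcases val b hb with ⟨h2, k2⟩ | ⟨h2, k2⟩ <;>
    rcases vB with ⟨h3, k3⟩ | ⟨h3, k3⟩ <;>
    rcases val _ (mul_mem ha hb) with ⟨h4, k4⟩ | ⟨h4, k4⟩ <;> rw [h1, h2, h3, h4] <;>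
    simp only [e, k3, mul_assoc] at k4 <;>
    simp only [← mul_assoc a z, hza, mul_assoc, k2, mul_one, k1, one_mul, hQ.sq_z,
      ← mul_assoc z z] at k4 <;>
    first | rfl | exact absurd k4 hne | exact absurd k4.symm hne

theorem qf_zero : qf hQ 0 = 0 := by
  rw [← cls_one hQ, qf_cls hQ (one_mem _), one_mul]

theorem conj_mem {c a : G} (hc : Commute c z) (ha : a ∈ Q) : c * a * c⁻¹ ∈ Q :=
  (Subgroup.mem_normalizer_iff.1 (hQ.norm c hc) a).1 ha

theorem conj_cls {c a b : G} (hc : Commute c z) (ha : a ∈ Q) (hb : b ∈ Q) (h : cls hQ a = cls hQ b) :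
    cls hQ (c * a * c⁻¹) = cls hQ (c * b * c⁻¹) := by
  rw [cls_eq_iff hQ (conj_mem hQ hc ha) (conj_mem hQ hc hb)]
  rcases (cls_eq_iff hQ ha hb).1 h with e | e <;> subst e
  · exact Or.inl rfl
  · right
    rw [← mul_assoc c z b, hc.eq]; group

/-- Conjugation by an element centralizing `z`, as a linear map. -/
noncomputable def actHom {c : G} (h : Commute c z) : Bar hQ →ₗ[ZMod 2] Bar hQ :=
  AddMonoidHom.toZModLinearMap 2
    (AddMonoidHom.mk' (fun v => cls hQ (c * rep hQ v * c⁻¹)) fun v w => by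
      rw [conj_cls hQ h (rep_mem hQ _) (mul_mem (rep_mem hQ v) (rep_mem hQ w))
        (by rw [cls_rep, cls_mul hQ (rep_mem hQ v) (rep_mem hQ w), cls_rep, cls_rep]),
        ← cls_mul hQ (conj_mem hQ h (rep_mem hQ v)) (conj_mem hQ h (rep_mem hQ w))]
      exact congrArg (cls hQ) (by group))

/-- The action of an element centralizing `z`. -/
noncomputable def act (c : G) : Bar hQ →ₗ[ZMod 2] Bar hQ := by
  classical
  exact if h : Commute c z then actHom hQ h else LinearMap.id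

theorem act_cls {c a : G} (hc : Commute c z) (ha : a ∈ Q) : act hQ c (cls hQ a) = cls hQ (c * a * c⁻¹) := by
  unfold act
  rw [dif_pos hc]
  show cls hQ (c * rep hQ (cls hQ a) * c⁻¹) = _
  exact conj_cls hQ hc (rep_mem hQ _) ha (cls_rep hQ _)

theorem act_mul {c d : G} (hc : Commute c z) (hd : Commute d z) (v : Bar hQ) :
    act hQ (c * d) v = act hQ c (act hQ d v) := by
  obtain ⟨a, ha, rfl⟩ := cls_surj hQ v
  rw [act_cls hQ hd ha, act_cls hQ hc (conj_mem hQ hd ha), act_cls hQ (hc.mul_left hd) ha]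
  exact congrArg (cls hQ) (by group)

theorem act_one (v : Bar hQ) : act hQ (1 : G) v = v := by
  obtain ⟨a, ha, rfl⟩ := cls_surj hQ v
  rw [act_cls hQ (Commute.one_left z) ha]
  simp

theorem act_of_mem {c : G} (hc : c ∈ Q) (v : Bar hQ) : act hQ c v = v := by
  obtain ⟨a, ha, rfl⟩ := cls_surj hQ v
  rw [act_cls hQ (hQ.central c hc).symm ha, cls_eq_iff hQ (conj_mem hQ (hQ.central c hc).symm ha) ha]
  exact (hQ.comm c hc a ha).imp mul_inv_eq_one.1 mul_inv_eq_iff_eq_mul.1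

theorem act_inv_act {c : G} (hc : Commute c z) (v : Bar hQ) : act hQ c⁻¹ (act hQ c v) = v := by
  rw [← act_mul hQ hc.inv_left hc, inv_mul_cancel, act_one]

theorem act_injective {c : G} (hc : Commute c z) : Function.Injective (act hQ c) :=
  Function.LeftInverse.injective (act_inv_act hQ hc)

theorem B_act {c : G} (hc : Commute c z) (v w : Bar hQ) : B hQ (act hQ c v) (act hQ c w) = B hQ v w := by
  obtain ⟨a, ha, rfl⟩ := cls_surj hQ v
  obtain ⟨b, hb, rfl⟩ := cls_surj hQ w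
  rw [act_cls hQ hc ha, act_cls hQ hc hb]
  have h1 := B_cls hQ (conj_mem hQ hc ha) (conj_mem hQ hc hb)
  have h2 := B_cls hQ ha hb
  have h3 : Commute (c * a * c⁻¹) (c * b * c⁻¹) ↔ Commute a b := Commute.conj_iff c
  rcases bit (B hQ (cls hQ a) (cls hQ b)) with e | e
  · rw [e, h1.2 (h3.2 (h2.1 e))]
  · rw [e]
    refine (bit _).resolve_left fun h0 => ?_
    rw [h2.2 (h3.1 (h1.1 h0))] at e
    exact zero_ne_one e

theorem qf_act {c : G} (hc : Commute c z) (v : Bar hQ) : qf hQ (act hQ c v) = qf hQ v := by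
  obtain ⟨a, ha, rfl⟩ := cls_surj hQ v
  rw [act_cls hQ hc ha]
  have h1 := qf_cls hQ (conj_mem hQ hc ha)
  have h2 := qf_cls hQ ha
  have h3 : c * a * c⁻¹ * (c * a * c⁻¹) = 1 ↔ a * a = 1 := by
    rw [show c * a * c⁻¹ * (c * a * c⁻¹) = c * (a * a) * c⁻¹ by group, conj_eq_one_iff]
  rcases bit (qf hQ (cls hQ a)) with e | e
  · rw [e, h1.2 (h3.2 (h2.1 e))]
  · rw [e]
    refine (bit _).resolve_left fun h0 => ?_
    rw [h2.2 (h3.1 (h1.1 h0))] at e
    exact zero_ne_one e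

end Cfsg.Lib.JankoFour

namespace Cfsg.Lib.JankoFour

open Cfsg Cfsg.Lib.Extra

variable {G : Type*} [Group G] [Finite G] {Q : Subgroup G} {z : G} (hQ : Ctx Q z)

include hQ

/-- Only the elements of `Q` act trivially. -/
theorem act_eq_one_iff {c : G} (hc : Commute c z) : (∀ v, act hQ c v = v) ↔ c ∈ Q := by
  refine ⟨fun h => ?_, fun h v => act_of_mem hQ h v⟩
  classical
  have hsh : ∀ a ∈ Q, c * a * c⁻¹ = a ∨ c * a * c⁻¹ = z * a := fun a ha =>
    (cls_eq_iff hQ (conj_mem hQ hc ha) ha).1 (by rw [← act_cls hQ hc ha, h])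
  have hne : ∀ a : G, z * a ≠ a := fun a e => hQ.ne_one (mul_eq_right.1 e)
  let φ : Bar hQ → ZMod 2 := fun v => if c * rep hQ v * c⁻¹ = rep hQ v then 0 else 1
  have hφ : ∀ a ∈ Q, (φ (cls hQ a) = 0 ∧ c * a * c⁻¹ = a) ∨ (φ (cls hQ a) = 1 ∧ c * a * c⁻¹ = z * a) := by
    intro a ha
    have key : c * rep hQ (cls hQ a) * c⁻¹ = rep hQ (cls hQ a) ↔ c * a * c⁻¹ = a := by
      rcases eq_rep hQ ha with e | e
      · rw [← e]
      · conv_rhs => rw [e, show c * (z * rep hQ (cls hQ a)) * c⁻¹ =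
          c * z * c⁻¹ * (c * rep hQ (cls hQ a) * c⁻¹) by group, hc.eq, mul_inv_cancel_right]
        exact mul_left_cancel_iff.symm
    rcases hsh a ha with e | e
    · exact Or.inl ⟨if_pos (key.2 e), e⟩
    · exact Or.inr ⟨if_neg fun h' => hne a (e.symm.trans (key.1 h')), e⟩
  have hadd : ∀ v w, φ (v + w) = φ v + φ w := by
    intro v w
    obtain ⟨a, ha, rfl⟩ := cls_surj hQ v
    obtain ⟨b, hb, rfl⟩ := cls_surj hQ w
    rw [← cls_mul hQ ha hb]
    have e : c * (a * b) * c⁻¹ = (c * a * c⁻¹) * (c * b * c⁻¹) := by group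
    have hzb : a * (z * b) = z * (a * b) := by
      rw [← mul_assoc, ← (hQ.central a ha).eq, mul_assoc]
    rcases hφ a ha with ⟨h1, k1⟩ | ⟨h1, k1⟩ <;> rcases hφ b hb with ⟨h2, k2⟩ | ⟨h2, k2⟩ <;>
      rcases hφ _ (mul_mem ha hb) with ⟨h3, k3⟩ | ⟨h3, k3⟩ <;> rw [h1, h2, h3] <;>
      simp only [e, k1, k2, mul_assoc z a, hzb, ← mul_assoc z z, hQ.sq_z, one_mul] at k3 <;>
      first | rfl | exact absurd k3 (hne _) | exact absurd k3.symm (hne _)
  let Φ : Bar hQ →ₗ[ZMod 2] ZMod 2 := AddMonoidHom.toZModLinearMap 2 (AddMonoidHom.mk' φ hadd)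
  haveI : FiniteDimensional (ZMod 2) (Bar hQ) := Module.Finite.of_finite
  obtain ⟨w, hw⟩ := (LinearMap.BilinForm.toDual (B hQ) (B_nondegenerate hQ)).surjective Φ
  have hwv : ∀ v, B hQ w v = φ v := fun v => LinearMap.congr_fun hw v
  obtain ⟨d, hd, rfl⟩ := cls_surj hQ w
  have hcd : ∀ a ∈ Q, Commute (d⁻¹ * c) a := by
    intro a ha
    have key : c * a * c⁻¹ = d * a * d⁻¹ := by
      rcases hφ a ha with ⟨h1, k1⟩ | ⟨h1, k1⟩
      · rw [k1, ((B_cls hQ hd ha).1 ((hwv _).trans h1)).eq, mul_inv_cancel_right]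
      · rw [k1, (Bf_cls_one hQ hd ha).1 ((hwv _).trans h1)]
    refine mul_inv_eq_iff_eq_mul.1 ?_
    calc d⁻¹ * c * a * (d⁻¹ * c)⁻¹ = d⁻¹ * (c * a * c⁻¹) * d := by group
      _ = a := by rw [key]; group
  have hm : d⁻¹ * c ∈ Q := by
    rcases hQ.cent _ hcd with e | e <;> rw [e]
    exacts [one_mem _, hQ.mem]
  have := mul_mem hd hm
  rwa [mul_inv_cancel_left] at this

end Cfsg.Lib.JankoFour
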