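import Cfsg.Agent.Lib.JankoFour.Gauss
import Mathlib.GroupTheory.Perm.Cycle.Type

/-!
# The displacement of a linear involution

A linear involution of `C(z)` outside the kernel moves a subspace of dimension four of `E/⟨z⟩`.
-/

set_option autoImplicit false
set_option linter.style.haveILetI false
set_option linter.unusedSectionVars false

namespace Cfsg.Lib.JankoFour

open Cfsg Cfsg.Lib.Extra Module

namespace Frame

variable {G : Type*} [Group G] [Finite G] {A : Type} [Group A] {I : Subgroup A} (F : Frame G A I)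

/-- The displacement of an element. -/
noncomputable def disp (c : G) : F.V →ₗ[ZMod 2] F.V := F.act c + LinearMap.id

theorem disp_apply (c : G) (v : F.V) : F.disp c v = F.act c v + v := rfl

theorem mem_ker_disp {c : G} {v : F.V} : v ∈ LinearMap.ker (F.disp c) ↔ F.act c v = v := by
  rw [LinearMap.mem_ker, disp_apply, add_eq_zero_iff_eq' F.ctx]

theorem act_pow_fix {c : G} (hc : Commute c F.z) {v : F.V} (h : F.act c v = v) (n : ℕ) :
    F.act (c ^ n) v = v := by
  induction n with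
  | zero => rw [pow_zero, act_one]
  | succ n ih => rw [pow_succ, act_mul F.ctx (hc.pow_left n) hc, h, ih]

/-- An invariant subspace has even dimension. -/
theorem even_finrank (W : Submodule (ZMod 2) F.V) (hW : ∀ w ∈ W, F.act F.p w ∈ W) :
    Even (finrank (ZMod 2) ↥W) := by
  classical
  haveI : FiniteDimensional (ZMod 2) F.V := Module.Finite.of_finite
  haveI : Fact (Nat.Prime 3) := ⟨Nat.prime_three⟩
  letI : Fintype ↥W := Fintype.ofFinite _
  let f : ↥W → ↥W := fun w => ⟨F.act F.p w, hW w w.2⟩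
  have hf : Function.Bijective f :=
    (Finite.injective_iff_bijective).1 fun a b h =>
      Subtype.ext (act_injective F.ctx F.p_comm (congrArg Subtype.val h))
  set σ : Equiv.Perm ↥W := Equiv.ofBijective f hf with hσdef
  have hσ : σ ^ 3 ^ 1 = 1 := by
    refine Equiv.ext fun w => ?_
    rw [pow_one, pow_succ, pow_two, Equiv.Perm.mul_apply, Equiv.Perm.mul_apply, Equiv.Perm.one_apply]
    exact Subtype.ext (F.act_p_three w)
  have hfix : σ.supportᶜ = {0} := by
    ext w
    rw [Finset.mem_compl, Equiv.Perm.notMem_support, Finset.mem_singleton]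
    refine ⟨fun h => Subtype.ext (F.act_p_eq (congrArg Subtype.val h)), fun h => ?_⟩
    subst h
    exact Subtype.ext (map_zero _)
  have h := Equiv.Perm.card_compl_support_modEq (p := 3) (n := 1) hσ
  rw [hfix, Finset.card_singleton, ← Nat.card_eq_fintype_card, F.card_sub] at h
  by_contra hodd
  obtain ⟨k, hk⟩ := Nat.not_even_iff_odd.1 hodd
  rw [hk, Nat.ModEq, pow_succ, pow_mul, Nat.mul_mod, Nat.pow_mod] at h
  norm_num at h

/-- A fixed-point-free element of order five commuting with the scalar gives orbits of length fifteen. -/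
theorem fifteen_dvd [Fintype F.V] {x : G} (hx : Commute x F.z) (hxp : Commute x F.p) (h5 : x ^ 5 = 1)
    (W : Submodule (ZMod 2) F.V) [Fintype {v : F.V // v ∈ W ∧ v ≠ 0}] (hW : ∀ w ∈ W, F.act x w ∈ W)
    (hWp : ∀ w ∈ W, F.act F.p w ∈ W) (hfix : ∀ w ∈ W, F.act x w = w → w = 0) (f : F.V → ℤ)
    (hf : ∀ v, f (F.act x v) = f v) (hfp : ∀ v, f (F.act F.p v) = f v) :
    (15 : ℤ) ∣ ∑ v : {v : F.V // v ∈ W ∧ v ≠ 0}, f v := by
  classical
  have hxp' : Commute (x * F.p) F.z := hx.mul_left F.p_comm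
  let u : {v : F.V // v ∈ W ∧ v ≠ 0} → {v : F.V // v ∈ W ∧ v ≠ 0} := fun v =>
    ⟨F.act (x * F.p) v, by
      rw [act_mul F.ctx hx F.p_comm]; exact hW _ (hWp _ v.2.1),
      fun h => v.2.2 (act_injective F.ctx hxp' (by rw [map_zero]; exact h))⟩
  have hu : Function.Bijective u :=
    (Finite.injective_iff_bijective).1 fun a b h =>
      Subtype.ext (act_injective F.ctx hxp' (congrArg Subtype.val h))
  set σ : Equiv.Perm {v : F.V // v ∈ W ∧ v ≠ 0} := Equiv.ofBijective u hu with hσdef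
  have hpow : ∀ (n : ℕ) (v : {v : F.V // v ∈ W ∧ v ≠ 0}),
      (((σ ^ n) v : {v : F.V // v ∈ W ∧ v ≠ 0}) : F.V) = F.act ((x * F.p) ^ n) v := by
    intro n
    induction n with
    | zero => intro v; rw [pow_zero, pow_zero, act_one]; rfl
    | succ n ih =>
      intro v
      rw [pow_succ', Equiv.Perm.mul_apply, pow_succ', act_mul F.ctx hxp' (hxp'.pow_left n), ← ih]
      rfl
  refine fifteen_dvd_sum σ (fun v => f v) (fun v => ?_) ?_ (fun v h => ?_) (fun v h => ?_)
  · show f (F.act (x * F.p) v) = f v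
    rw [act_mul F.ctx hx F.p_comm, hf, hfp]
  · refine Equiv.ext fun v => Subtype.ext ?_
    rw [hpow, hxp.mul_pow, show x ^ 15 = (x ^ 5) ^ 3 from pow_mul x 5 3,
      show F.p ^ 15 = (F.p ^ 3) ^ 5 from pow_mul F.p 3 5, h5, F.p_cube, one_pow, one_pow, one_mul, act_one]
    rfl
  · have h' := hpow 3 v
    rw [h, hxp.mul_pow, F.p_cube, mul_one] at h'
    refine v.2.2 (hfix v v.2.1 ?_)
    have h2 := F.act_pow_fix (hx.pow_left 3) h'.symm 2
    rwa [← pow_mul, show x ^ (3 * 2) = x by rw [show 3 * 2 = 5 + 1 from rfl, pow_succ, h5, one_mul]] at h2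
  · have h' := hpow 5 v
    rw [h, hxp.mul_pow, h5, one_mul, show F.p ^ 5 = F.p ^ 2 by
      rw [show 5 = 3 + 2 from rfl, pow_add, F.p_cube, one_mul]] at h'
    refine v.2.2 (F.act_p_eq ?_)
    have h2 := F.act_pow_fix (F.p_comm.pow_left 2) h'.symm 2
    rwa [← pow_mul, show F.p ^ (2 * 2) = F.p by rw [show 2 * 2 = 3 + 1 from rfl, pow_succ, F.p_cube, one_mul]] at h2

/-- Over a linear involution there are an element of order five and a square root inverting twice. -/
theorem exists_five {c : G} (hc : c ∈ F.C) (hne : F.img c ≠ 1) (h2 : c * c = 1 ∨ c * c = F.z) :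
    ∃ x ∈ F.C, ∃ s ∈ F.C, x ^ 5 = 1 ∧ x ∉ F.E ∧ s * x * s⁻¹ = x ^ 2 ∧ ∀ v, F.act (s * s) v = F.act c v := by
  have hc' := F.mem_C.1 hc
  have hk : ∀ {k : G}, k ∈ F.C → F.img k = 1 → ∃ i : ℕ, k = F.p ^ i ∨ k = F.z * F.p ^ i := fun hk h =>
    F.ker_commute (F.mem_C.1 hk).1 h (Or.inl (F.mem_C.1 hk).2)
  have hsix : ∀ {k : G}, k ∈ F.C → F.img k = 1 → k ^ 6 = 1 := by
    intro k hkC h
    obtain ⟨i, e | e⟩ := hk hkC h <;> rw [e]
    · rw [← pow_mul, mul_comm, pow_mul, show F.p ^ 6 = (F.p ^ 3) ^ 2 from pow_mul F.p 3 2, F.p_cube, one_pow,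
        one_pow]
    · rw [(F.p_comm.symm.pow_right i).mul_pow, ← pow_mul F.p, mul_comm i, pow_mul, show F.p ^ 6 = (F.p ^ 3) ^ 2
        from pow_mul F.p 3 2, F.p_cube, one_pow, one_pow, mul_one, show F.z ^ 6 = (F.z * F.z) ^ 3 by
        rw [← pow_two, ← pow_mul], F.ctx.sq_z, one_pow]
  have ht : orderOf (F.img c) = 2 := by
    refine orderOf_eq_prime ?_ hne
    rw [pow_two, ← F.img_mul _ _ hc'.1 hc'.1]
    rcases h2 with h | h <;> rw [h]
    exacts [F.img_one, F.img_mem F.ctx.mem]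
  obtain ⟨a, ha, b, hb, ha5, hbb, hab⟩ := F.facts.invol_five _ (F.mem_I_iff.2 ⟨c, hc, rfl⟩) ht
  obtain ⟨x0, hx0, hx0a⟩ := F.mem_I_iff.1 ha
  obtain ⟨s0, hs0, hs0b⟩ := F.mem_I_iff.1 hb
  have ha5' : a ^ 5 = 1 := ha5 ▸ pow_orderOf_eq_one a
  have hpow : ∀ {g : G}, Commute g F.z → ∀ n : ℕ, F.img (g ^ n) = F.img g ^ n := by
    intro g hg n
    induction n with
    | zero => rw [pow_zero, pow_zero, F.img_one]
    | succ n ih => rw [pow_succ, F.img_mul _ _ (hg.pow_left n) hg, ih, pow_succ]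
  have hx0' := F.mem_C.1 hx0
  have hs0' := F.mem_C.1 hs0
  -- the element of order five
  set x := x0 ^ 6 with hxdef
  have hxC : x ∈ F.C := pow_mem hx0 6
  have hxi : F.img x = a := by
    rw [hxdef, hpow hx0'.1, hx0a, show a ^ 6 = a ^ 5 * a from pow_succ a 5, ha5', one_mul]
  have hx5 : x ^ 5 = 1 := by
    rw [hxdef, ← pow_mul, mul_comm, pow_mul]
    exact hsix (pow_mem hx0 5) (by rw [hpow hx0'.1, hx0a, ha5'])
  have hxE : x ∉ F.E := by
    intro h
    rw [F.img_mem h] at hxi
    rw [← hxi, orderOf_one] at ha5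
    omega
  -- the square root
  obtain ⟨i, hi⟩ : ∃ i : ℕ, c⁻¹ * (s0 * s0) = F.p ^ i ∨ c⁻¹ * (s0 * s0) = F.z * F.p ^ i :=
    hk (mul_mem (inv_mem hc) (mul_mem hs0 hs0)) (by
      rw [F.img_mul _ _ hc'.1.inv_left (hs0'.1.mul_left hs0'.1), F.img_inv hc'.1,
        F.img_mul _ _ hs0'.1 hs0'.1, hs0b, hbb, inv_mul_cancel])
  set s := s0 * F.p ^ i with hsdef
  have hpC : F.p ∈ F.C := F.mem_C.2 ⟨F.p_comm, Commute.refl _⟩
  have hsC : s ∈ F.C := mul_mem hs0 (pow_mem hpC i)
  have hss : s * s = (s0 * s0) * (F.p ^ i * F.p ^ i) := by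
    rw [hsdef, mul_assoc, ← mul_assoc (F.p ^ i) s0, ((hs0'.2.symm).pow_left i).eq]
    simp only [mul_assoc]
  have hsquare : s * s = c ∨ s * s = c * F.z := by
    have h3 : F.p ^ i * (F.p ^ i * F.p ^ i) = 1 := by
      rw [← pow_add, ← pow_add, show i + (i + i) = 3 * i by ring, pow_mul, F.p_cube, one_pow]
    rw [hss]
    rcases hi with h | h
    · left; rw [inv_mul_eq_iff_eq_mul.1 h, mul_assoc, h3, mul_one]
    · right; rw [inv_mul_eq_iff_eq_mul.1 h, mul_assoc, mul_assoc, h3, mul_one]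
  have hs' := F.mem_C.1 hsC
  refine ⟨x, hxC, s, hsC, hx5, hxE, ?_, fun v => ?_⟩
  · set k := s * x * s⁻¹ * (x ^ 2)⁻¹ with hkdef
    have hkC : k ∈ F.C := mul_mem (mul_mem (mul_mem hsC hxC) (inv_mem hsC)) (inv_mem (pow_mem hxC 2))
    have hx' := F.mem_C.1 hxC
    have hsb : F.img s = b := by
      rw [hsdef, F.img_mul _ _ hs0'.1 (F.p_comm.pow_left i), F.img_p_pow, mul_one, hs0b]
    have hki : F.img k = 1 := by
      rw [hkdef, F.img_mul _ _ ((hs'.1.mul_left hx'.1).mul_left hs'.1.inv_left) (hx'.1.pow_left 2).inv_left,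
        F.img_conj hs'.1 hx'.1, F.img_inv (hx'.1.pow_left 2), hpow hx'.1, hsb, hxi, hab, mul_inv_cancel]
    have hkx : Commute k (x ^ 2) := by
      obtain ⟨j, e | e⟩ := hk hkC hki <;> rw [e]
      · exact (hx'.2.symm.pow_left j).pow_right 2
      · exact ((hx'.1.symm.pow_right 2)).mul_left ((hx'.2.symm.pow_left j).pow_right 2)
    have e1 : s * x * s⁻¹ = k * x ^ 2 := by rw [hkdef, inv_mul_cancel_right]
    have e5 : k ^ 5 = 1 := by
      have h := congrArg (· ^ 5) e1
      simp only [conj_pow, hx5, mul_one, mul_inv_cancel, hkx.mul_pow, ← pow_mul] at h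
      rw [show 2 * 5 = 5 * 2 from rfl, pow_mul, hx5, one_pow, mul_one] at h
      exact h.symm
    have e6 := hsix hkC hki
    rw [pow_succ, e5, one_mul] at e6
    rw [e1, e6, one_mul]
  · rcases hsquare with h | h <;> rw [h]
    rw [act_mul F.ctx hc'.1 (Commute.refl F.z), act_of_mem F.ctx F.ctx.mem]

/-- The displacement of a lifted linear involution has rank four. -/
theorem finrank_range_disp {c : G} (hc : c ∈ F.C) (hne : F.img c ≠ 1) (h2 : c * c = 1 ∨ c * c = F.z) :
    finrank (ZMod 2) ↥(LinearMap.range (F.disp c)) = 4 := by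
  classical
  haveI : FiniteDimensional (ZMod 2) F.V := Module.Finite.of_finite
  letI : Fintype F.V := Fintype.ofFinite _
  obtain ⟨x, hxC, s, hsC, hx5, hxE, hconj, hT⟩ := F.exists_five hc hne h2
  have hc' := F.mem_C.1 hc
  have hx' := F.mem_C.1 hxC
  have hs' := F.mem_C.1 hsC
  set Fx := LinearMap.ker (F.disp x) with hFx
  set M := LinearMap.range (F.disp x) with hM
  have hmemF : ∀ {v}, v ∈ Fx ↔ F.act x v = v := F.mem_ker_disp
  have hdisj : Disjoint Fx M := by
    rw [Submodule.disjoint_def]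
    rintro v hv ⟨w, rfl⟩
    have hv' := hmemF.1 hv
    have hind : ∀ n : ℕ, F.act (x ^ n) w = w + (n : ℕ) • F.disp x w := by
      intro n
      induction n with
      | zero => rw [pow_zero, act_one, zero_smul, add_zero]
      | succ n ih =>
        rw [pow_succ', act_mul F.ctx hx'.1 (hx'.1.pow_left n), ih, map_add, map_nsmul, hv', succ_nsmul]
        have e : F.act x w = F.disp x w + w := by rw [disp_apply, add_assoc, bar_self, add_zero]
        rw [e]; abel
    have h5 := hind 5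
    rw [hx5, act_one, show (5 : ℕ) = 2 + 2 + 1 from rfl, add_nsmul, add_nsmul, two_nsmul, bar_self] at h5
    simp only [zero_add, one_nsmul] at h5
    exact left_eq_add.1 h5
  have hdim : finrank (ZMod 2) ↥Fx + finrank (ZMod 2) ↥M = 12 := by
    rw [add_comm, hFx, hM, LinearMap.finrank_range_add_finrank_ker, F.finrank_V]
  have hsup : Fx ⊔ M = ⊤ := by
    refine Submodule.eq_top_of_finrank_eq ?_
    have := Submodule.finrank_sup_add_finrank_inf_eq Fx M
    rw [hdisj.eq_bot, finrank_bot, add_zero, hdim] at this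
    rw [this, F.finrank_V]
  have hcp : ∀ v, F.act x (F.act F.p v) = F.act F.p (F.act x v) := fun v => by
    rw [← act_mul F.ctx hx'.1 F.p_comm, hx'.2.eq, act_mul F.ctx F.p_comm hx'.1]
  have hFp : ∀ v ∈ Fx, F.act F.p v ∈ Fx := fun v hv => hmemF.2 (by rw [hcp, hmemF.1 hv])
  have hMp : ∀ v ∈ M, F.act F.p v ∈ M := by
    rintro _ ⟨w, rfl⟩
    exact ⟨F.act F.p w, by rw [disp_apply, disp_apply, map_add, hcp]⟩
  have hMx : ∀ v ∈ M, F.act x v ∈ M := by
    rintro _ ⟨w, rfl⟩
    exact ⟨F.act x w, by rw [disp_apply, disp_apply, map_add]⟩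
  have hMfix : ∀ v ∈ M, F.act x v = v → v = 0 := fun v hv h =>
    Submodule.disjoint_def.1 hdisj v (hmemF.2 h) hv
  have hsplit : ∀ v, ∃ a ∈ Fx, ∃ b ∈ M, a + b = v := fun v =>
    Submodule.mem_sup.1 (hsup ▸ Submodule.mem_top)
  have hqf : ∀ v, sg (JankoFour.qf F.ctx (F.act x v)) = sg (JankoFour.qf F.ctx v) := fun v => by
    rw [qf_act F.ctx hx'.1]
  have hqfp : ∀ v, sg (JankoFour.qf F.ctx (F.act F.p v)) = sg (JankoFour.qf F.ctx v) := fun v => by
    rw [qf_act F.ctx F.p_comm]
  -- the moved space has dimension eight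
  have h15 := F.fifteen_dvd hx'.1 hx'.2 hx5 M hMx hMp hMfix (fun _ => 1) (fun _ => rfl) (fun _ => rfl)
  have h15q := F.fifteen_dvd hx'.1 hx'.2 hx5 M hMx hMp hMfix (fun v => sg (JankoFour.qf F.ctx v)) hqf hqfp
  have hcardM : Fintype.card {v : F.V // v ∈ M ∧ v ≠ 0} + 1 = 2 ^ finrank (ZMod 2) ↥M := by
    rw [← F.card_sub M, Nat.card_eq_fintype_card, Fintype.card_subtype, Fintype.card_subtype,
      show (Finset.univ.filter fun v : F.V => v ∈ M ∧ v ≠ 0) = (Finset.univ.filter fun v : F.V => v ∈ M).erase 0 by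
        ext v; simp [and_comm],
      Finset.card_erase_add_one]
    simp
  have hM8 : finrank (ZMod 2) ↥M = 8 := by
    have hM15 : 15 ∣ Fintype.card {v : F.V // v ∈ M ∧ v ≠ 0} := by
      rw [Finset.sum_const, Finset.card_univ, nsmul_eq_mul, mul_one] at h15
      exact_mod_cast h15
    have hle := F.finrank_sub_le M
    rcases (show finrank (ZMod 2) ↥M = 0 ∨ finrank (ZMod 2) ↥M = 4 ∨ finrank (ZMod 2) ↥M = 8 ∨
        finrank (ZMod 2) ↥M = 12 by
      generalize finrank (ZMod 2) ↥M = d at hcardM hle ⊢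
      interval_cases d <;> omega)
      with e | e | e | e
    · exfalso
      refine hxE (F.mem_E_of_act hx'.1 fun v => ?_)
      have hm : F.disp x v ∈ (⊥ : Submodule (ZMod 2) F.V) := by
        rw [← Submodule.finrank_eq_zero.1 e]; exact LinearMap.mem_range_self _ v
      exact (add_eq_zero_iff_eq' F.ctx).1 ((Submodule.mem_bot (ZMod 2)).1 hm)
    · exfalso
      have hperp : ∀ u ∈ Fx, ∀ m ∈ M, JankoFour.B F.ctx u m = 0 := by
        rintro u hu _ ⟨w, rfl⟩
        rw [disp_apply, map_add]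
        nth_rewrite 1 [← hmemF.1 hu]
        rw [B_act F.ctx hx'.1]
        exact bit_self _
      set S := ∑ v : {v : F.V // v ∈ M ∧ v ≠ 0}, sg (JankoFour.qf F.ctx v) with hS
      have hcard : Fintype.card {v : F.V // v ∈ M ∧ v ≠ 0} = 15 := by rw [e] at hcardM; omega
      have hsg : ∀ a, sg a = 1 ∨ sg a = -1 := by decide
      have hconst : (∀ v ∈ M, v ≠ 0 → JankoFour.qf F.ctx v = 0) ∨ (∀ v ∈ M, v ≠ 0 → JankoFour.qf F.ctx v = 1) := by
        by_contra hcon
        push Not at hcon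
        obtain ⟨⟨v1, h1, h1n, h1q⟩, v2, h2, h2n, h2q⟩ := hcon
        have hlo : -15 < S := by
          calc (-15 : ℤ) = ∑ _v : {v : F.V // v ∈ M ∧ v ≠ 0}, (-1 : ℤ) := by
                rw [Finset.sum_const, Finset.card_univ, hcard]; norm_num
            _ < S := by
              refine Finset.sum_lt_sum (fun v _ => by rcases hsg (JankoFour.qf F.ctx v) with h | h <;> rw [h] <;> norm_num) ?_
              refine ⟨⟨v2, h2, h2n⟩, Finset.mem_univ _, ?_⟩
              show (-1 : ℤ) < sg (JankoFour.qf F.ctx v2)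
              rw [(bit _).resolve_right h2q, sg_zero]; norm_num
        have hhi : S < 15 := by
          calc S < ∑ _v : {v : F.V // v ∈ M ∧ v ≠ 0}, (1 : ℤ) := by
                refine Finset.sum_lt_sum (fun v _ => by rcases hsg (JankoFour.qf F.ctx v) with h | h <;> rw [h] <;> norm_num) ?_
                refine ⟨⟨v1, h1, h1n⟩, Finset.mem_univ _, ?_⟩
                show sg (JankoFour.qf F.ctx v1) < (1 : ℤ)
                rw [(bit _).resolve_left h1q]; decide
            _ = 15 := by rw [Finset.sum_const, Finset.card_univ, hcard]; norm_num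
        obtain ⟨k, hk⟩ : (15 : ℤ) ∣ S := h15q
        have : (2 : ℤ) ∣ S + 15 := by
          rw [hS, show (15 : ℤ) = ∑ _v : {v : F.V // v ∈ M ∧ v ≠ 0}, (1 : ℤ) by
            rw [Finset.sum_const, Finset.card_univ, hcard]; norm_num, ← Finset.sum_add_distrib]
          refine Finset.dvd_sum fun v _ => ?_
          rcases hsg (JankoFour.qf F.ctx v) with h | h <;> rw [h] <;> norm_num
        omega
      have hex : ∀ a ∈ M, ∀ b ∈ M, a ≠ 0 → b ≠ 0 → a ≠ b → JankoFour.B F.ctx a b =
          JankoFour.qf F.ctx (a + b) + JankoFour.qf F.ctx a + JankoFour.qf F.ctx b := by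
        intro a _ b _ _ _ _
        rw [qf_add]
        generalize JankoFour.qf F.ctx a = u, JankoFour.qf F.ctx b = w, JankoFour.B F.ctx a b = r
        revert u w r; decide
      obtain ⟨a, haM, ha0⟩ := (Submodule.ne_bot_iff _).1 (fun h0 => by rw [h0, finrank_bot] at e; omega : M ≠ ⊥)
      rcases hconst with hq | hq
      · refine ha0 ((B_nondegenerate F.ctx).1 a fun w => ?_)
        obtain ⟨u, hu, b, hb, rfl⟩ := hsplit w
        rw [map_add, B_symm F.ctx a u, hperp u hu a haM, zero_add]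
        by_cases hb0 : b = 0
        · rw [hb0, map_zero]
        by_cases hab : a = b
        · rw [hab, B_self]
        rw [hex a haM b hb ha0 hb0 hab, hq a haM ha0, hq b hb hb0,
          hq _ (M.add_mem haM hb) (fun h => hab ((add_eq_zero_iff_eq' F.ctx).1 h))]
        rfl
      · set b := F.act F.p a with hbdef
        have hbM : b ∈ M := hMp a haM
        have hb0 : b ≠ 0 := fun h => ha0 (act_injective F.ctx F.p_comm (h.trans (map_zero _).symm))
        have hab : a ≠ b := fun h => ha0 (F.act_p_eq h.symm)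
        have hne' : a + b ≠ 0 := fun h => hab ((add_eq_zero_iff_eq' F.ctx).1 h)
        have hne'' : ¬ M ≤ Submodule.span (ZMod 2) {a, b} := by
          intro hle'
          have h1 : finrank (ZMod 2) ↥(Submodule.span (ZMod 2) ({a, b} : Set F.V)) ≤ 2 := by
            refine (finrank_span_le_card _).trans ?_
            rw [Set.toFinset_card, ← Nat.card_eq_fintype_card, Nat.card_coe_set_eq]
            exact Set.ncard_insert_le _ _ |>.trans (by simp)
          have h2 := Submodule.finrank_mono hle'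
          omega
        obtain ⟨d, hdM, hd⟩ := SetLike.not_le_iff_exists.1 hne''
        have hd0 : d ≠ 0 := fun h => hd (h ▸ Submodule.zero_mem _)
        have hda : a ≠ d := fun h => hd (h ▸ Submodule.subset_span (Set.mem_insert _ _))
        have hdb : b ≠ d := fun h => hd (h ▸ Submodule.subset_span (Set.mem_insert_of_mem _ rfl))
        have hbd : b + d ≠ 0 := fun h => hdb ((add_eq_zero_iff_eq' F.ctx).1 h)
        have habd : a ≠ b + d := fun h => hd (by
          have e' : d = a + b := by rw [h, add_comm b d, add_assoc, bar_self, add_zero]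
          rw [e']
          exact Submodule.add_mem _ (Submodule.subset_span (Set.mem_insert _ _))
            (Submodule.subset_span (Set.mem_insert_of_mem _ rfl)))
        have h1 : ∀ u ∈ M, ∀ w ∈ M, u ≠ 0 → w ≠ 0 → u ≠ w → JankoFour.B F.ctx u w = 1 := by
          intro u hu w hw hu0 hw0 huw
          rw [hex u hu w hw hu0 hw0 huw, hq u hu hu0, hq w hw hw0,
            hq _ (M.add_mem hu hw) (fun h => huw ((add_eq_zero_iff_eq' F.ctx).1 h))]
          rfl
        have h := h1 a haM (b + d) (M.add_mem hbM hdM) ha0 hbd habd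
        rw [map_add, h1 a haM b hbM ha0 hb0 hab, h1 a haM d hdM ha0 hd0 hda] at h
        exact absurd h (by decide)
    · exact e
    · exfalso
      have hMtop : M = ⊤ := Submodule.eq_top_of_finrank_eq (by rw [e, F.finrank_V])
      have hS := F.gauss_sq
      set S := ∑ v : F.V, sg (JankoFour.qf F.ctx v) with hSdef
      have hsum : (∑ v : {v : F.V // v ∈ M ∧ v ≠ 0}, sg (JankoFour.qf F.ctx v)) + 1 = S := by
        rw [hSdef, ← Finset.add_sum_erase _ _ (Finset.mem_univ (0 : F.V)), qf_zero, sg_zero, add_comm]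
        congr 1
        exact (Finset.sum_subtype (Finset.univ.erase (0 : F.V)) (by simp [hMtop])
          fun v => sg (JankoFour.qf F.ctx v)).symm
      have h64 : S = 64 ∨ S = -64 := by
        have h : S ^ 2 = (64 : ℤ) ^ 2 := by rw [hS]; norm_num
        exact sq_eq_sq_iff_eq_or_eq_neg.1 h
      obtain ⟨k, hk⟩ := h15q
      omega
  have hF4 : finrank (ZMod 2) ↥Fx = 4 := by omega
  -- the involution preserves the moved space
  set T := F.act c
  have hT2 : ∀ v, T (T v) = v := fun v => by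
    rw [← act_mul F.ctx hc'.1 hc'.1, F.act_z_pow h2]
  have hTs : ∀ v, F.act s (F.act s v) = T v := fun v => by rw [← act_mul F.ctx hs'.1 hs'.1, hT]
  have hsx : ∀ v, F.act s (F.act x v) = F.act x (F.act x (F.act s v)) := fun v => by
    rw [← act_mul F.ctx hs'.1 hx'.1, ← act_mul F.ctx hx'.1 hs'.1, ← act_mul F.ctx hx'.1 (hx'.1.mul_left hs'.1),
      show x * (x * s) = s * x by rw [← mul_assoc, ← pow_two, ← hconj, inv_mul_cancel_right]]
  have hTx : ∀ v, T (F.act x v) = F.act x (F.act x (F.act x (F.act x (T v)))) := fun v => by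
    rw [← hTs, hsx, hsx, hsx, hTs]
  have hTM : ∀ v ∈ M, T v ∈ M := by
    rintro _ ⟨w, rfl⟩
    refine ⟨T w + F.act x (T w) + F.act x (F.act x (T w)) + F.act x (F.act x (F.act x (T w))), ?_⟩
    rw [disp_apply, disp_apply, map_add, map_add, map_add, map_add, hTx]
    generalize F.act x (F.act x (F.act x (F.act x (T w)))) = e4
    generalize F.act x (F.act x (F.act x (T w))) = e3
    generalize F.act x (F.act x (T w)) = e2
    generalize F.act x (T w) = e1
    generalize T w = e0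
    calc e1 + e2 + e3 + e4 + (e0 + e1 + e2 + e3) = (e1 + e1) + (e2 + e2) + (e3 + e3) + (e4 + e0) := by abel
      _ = e4 + e0 := by simp only [bar_self, zero_add]
  set U := M ⊓ LinearMap.ker (F.disp c) with hU
  have hUgU : 2 * finrank (ZMod 2) ↥U ≤ 8 := by
    have hinj := act_injective F.ctx hx'.1
    have hd : Disjoint U (U.map (F.act x)) := by
      rw [Submodule.disjoint_def]
      rintro _ ⟨hvM, hv⟩ ⟨w, ⟨hwM, hw⟩, rfl⟩
      have h1 := F.mem_ker_disp.1 hv
      rw [hTx, show T w = w from F.mem_ker_disp.1 hw] at h1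
      have h3 : F.act (x ^ 3) w = w := by
        rw [pow_succ, pow_two, act_mul F.ctx (hx'.1.mul_left hx'.1) hx'.1, act_mul F.ctx hx'.1 hx'.1]
        exact hinj h1
      have h6 := F.act_pow_fix (hx'.1.pow_left 3) h3 2
      rw [← pow_mul, show 3 * 2 = 5 + 1 from rfl, pow_succ, hx5, one_mul] at h6
      rw [h6]
      exact hMfix w hwM h6
    have hle : U ⊔ U.map (F.act x) ≤ M := sup_le inf_le_left (by
      rintro _ ⟨w, hw, rfl⟩; exact hMx w hw.1)
    have h1 := Submodule.finrank_sup_add_finrank_inf_eq U (U.map (F.act x))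
    rw [hd.eq_bot, finrank_bot, add_zero,
      ← (Submodule.equivMapOfInjective (F.act x) hinj U).finrank_eq] at h1
    have h2 := Submodule.finrank_mono hle
    omega
  have hrk : finrank (ZMod 2) ↥(M.map (F.disp c)) + finrank (ZMod 2) ↥U = 8 := by
    have h := LinearMap.finrank_range_add_finrank_ker ((F.disp c).domRestrict M)
    rw [LinearMap.range_domRestrict, LinearMap.ker_domRestrict, hM8,
      ← Submodule.finrank_map_subtype_eq M, Submodule.map_comap_subtype] at h
    exact h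
  have hle : M.map (F.disp c) ≤ U := by
    rintro _ ⟨w, hw, rfl⟩
    refine ⟨M.add_mem (hTM w hw) hw, F.mem_ker_disp.2 ?_⟩
    show T (T w + w) = T w + w
    rw [map_add, hT2, add_comm]
  have hU4 : finrank (ZMod 2) ↥(M.map (F.disp c)) = 4 := by
    have := Submodule.finrank_mono hle
    omega
  -- the involution fixes the fixed space
  have hFs : ∀ v ∈ Fx, F.act s v ∈ Fx := fun v hv => hmemF.2 (by
    have h := hsx v
    rw [hmemF.1 hv] at h
    have h6 := F.act_pow_fix (hx'.1.pow_left 2) (v := F.act s v)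
      (by rw [pow_two, act_mul F.ctx hx'.1 hx'.1]; exact h.symm) 3
    rwa [← pow_mul, show 2 * 3 = 5 + 1 from rfl, pow_succ, hx5, one_mul] at h6)
  have hTF : ∀ v ∈ Fx, T v = v := by
    intro v0 hv0
    by_contra hne0
    set N := F.disp s with hN
    have hNN : ∀ v, N (N v) = F.disp c v := fun v => by
      rw [hN, disp_apply, disp_apply, disp_apply, map_add, hTs]
      calc T v + F.act s v + (F.act s v + v) = T v + (F.act s v + F.act s v) + v := by abel
        _ = T v + v := by rw [bar_self, add_zero]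
    have hN4 : ∀ v, N (N (N (N v))) = 0 := fun v => by
      rw [hNN, hNN, disp_apply, disp_apply, map_add]
      show T (T v) + T v + (T v + v) = 0
      rw [hT2, show v + T v + (T v + v) = (v + v) + (T v + T v) by abel, bar_self, bar_self, add_zero]
    have hNF : ∀ v ∈ Fx, N v ∈ Fx := fun v hv => Fx.add_mem (hFs v hv) hv
    have hNp : ∀ v, N (F.act F.p v) = F.act F.p (N v) := fun v => by
      rw [hN, disp_apply, disp_apply, map_add, ← act_mul F.ctx hs'.1 F.p_comm, hs'.2.eq,
        act_mul F.ctx F.p_comm hs'.1]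
    obtain ⟨y, hy, hy2, hy3⟩ : ∃ y ∈ Fx, N (N y) ≠ 0 ∧ N (N (N y)) = 0 := by
      have h2' : N (N v0) ≠ 0 := by
        rw [hNN]; exact fun h => hne0 ((add_eq_zero_iff_eq' F.ctx).1 h)
      by_cases h3 : N (N (N v0)) = 0
      · exact ⟨v0, hv0, h2', h3⟩
      · exact ⟨N v0, hNF v0 hv0, h3, hN4 v0⟩
    set K1 := Fx ⊓ LinearMap.ker N
    set K2 := Fx ⊓ LinearMap.ker (N ∘ₗ N)
    set K3 := Fx ⊓ LinearMap.ker (N ∘ₗ N ∘ₗ N)
    have m1 : ∀ {v}, v ∈ K1 ↔ v ∈ Fx ∧ N v = 0 := Iff.rfl
    have m2 : ∀ {v}, v ∈ K2 ↔ v ∈ Fx ∧ N (N v) = 0 := Iff.rfl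
    have m3 : ∀ {v}, v ∈ K3 ↔ v ∈ Fx ∧ N (N (N v)) = 0 := Iff.rfl
    have e1 := F.even_finrank K1 fun v hv => m1.2 ⟨hFp v (m1.1 hv).1, by rw [hNp, (m1.1 hv).2, map_zero]⟩
    have e2 := F.even_finrank K2 fun v hv =>
      m2.2 ⟨hFp v (m2.1 hv).1, by rw [hNp, hNp, (m2.1 hv).2, map_zero]⟩
    have e3 := F.even_finrank K3 fun v hv =>
      m3.2 ⟨hFp v (m3.1 hv).1, by rw [hNp, hNp, hNp, (m3.1 hv).2, map_zero]⟩
    have l1 : K1 ≠ ⊥ := (Submodule.ne_bot_iff _).2 ⟨N (N y), m1.2 ⟨hNF _ (hNF _ hy), hy3⟩, hy2⟩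
    have l2 : K1 < K2 := lt_of_le_of_ne (fun v hv => m2.2 ⟨(m1.1 hv).1, by rw [(m1.1 hv).2, map_zero]⟩)
      fun h => hy2 (m1.1 (h.symm ▸ (m2.2 ⟨hNF _ hy, hy3⟩) : N y ∈ K1)).2
    have l3 : K2 < K3 := lt_of_le_of_ne (fun v hv => m3.2 ⟨(m2.1 hv).1, by rw [(m2.1 hv).2, map_zero]⟩)
      fun h => hy2 (m2.1 (h.symm ▸ (m3.2 ⟨hy, hy3⟩) : y ∈ K2)).2
    have d1 : finrank (ZMod 2) ↥K1 ≠ 0 := fun h => l1 (Submodule.finrank_eq_zero.1 h)
    have d2 := Submodule.finrank_lt_finrank_of_lt l2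
    have d3 := Submodule.finrank_lt_finrank_of_lt l3
    have d4 : finrank (ZMod 2) ↥K3 ≤ finrank (ZMod 2) ↥Fx := Submodule.finrank_mono inf_le_left
    obtain ⟨a1, ha1⟩ := e1
    obtain ⟨a2, ha2⟩ := e2
    obtain ⟨a3, ha3⟩ := e3
    omega
  rw [← hU4]
  suffices h : LinearMap.range (F.disp c) = M.map (F.disp c) by rw [h]
  refine le_antisymm ?_ LinearMap.map_le_range
  rintro _ ⟨v, rfl⟩
  obtain ⟨a, ha, b, hb, rfl⟩ := hsplit v
  exact ⟨b, hb, by rw [map_add, F.disp_apply c a, hTF a ha, bar_self, zero_add]⟩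

/-- The displacement of a linear involution has rank four. -/
theorem finrank_range_disp' {x : G} (hx : Commute x F.z) (hI : F.img x ∈ I) (hne : F.img x ≠ 1)
    (h2 : x * x ∈ F.E) :
    ∃ c ∈ F.C, (c * c = 1 ∨ c * c = F.z) ∧ F.img c = F.img x ∧ (∀ v, F.act c v = F.act x v) ∧
      finrank (ZMod 2) ↥(LinearMap.range (F.disp x)) = 4 := by
  obtain ⟨c, hc, hci, hc2⟩ := F.exists_lift_two hI (by rw [← F.img_mul _ _ hx hx, F.img_mem h2])
  have hact := F.act_eq_lift hx hc hci
    (fun v => by rw [← act_mul F.ctx hx hx, act_of_mem F.ctx h2]) hc2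
  refine ⟨c, hc, hc2, hci, hact, ?_⟩
  have e : F.disp x = F.disp c := LinearMap.ext fun v => by rw [disp_apply, disp_apply, hact]
  rw [e]
  exact F.finrank_range_disp hc (by rwa [hci]) hc2

end Frame

end Cfsg.Lib.JankoFour
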