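import Cfsg.Agent.Lib.JankoFour.Pair

/-!
# The scalar of the second frame on the intersection
-/

set_option autoImplicit false
set_option linter.style.haveILetI false
set_option linter.unusedSectionVars false

namespace Cfsg.Lib.JankoFour

open Cfsg Cfsg.Lib.Extra Module

namespace Frame

variable {G : Type*} [Group G] [Finite G] {A : Type} [Group A] {I : Subgroup A} {F F' : Frame G A I}

namespace Fused

variable (h : Fused F F')
include h

/-- The intersection meets its image under the scalar of the second frame in exactly one line. -/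
theorem scalar_z : F'.p * F.z * F'.p⁻¹ ∈ F.E ⊓ F'.E ∧
    ∀ k ∈ F.E ⊓ F'.E, F'.p * k * F'.p⁻¹ ∈ F.E ⊓ F'.E → F'.cls k ∈ F'.line (F'.cls F.z) := by
  classical
  haveI : FiniteDimensional (ZMod 2) F.V := Module.Finite.of_finite
  haveI : FiniteDimensional (ZMod 2) F'.V := Module.Finite.of_finite
  haveI := F.facts.normal
  set K := F.E ⊓ F'.E with hKdef
  set Kd := K ⊓ K.comap (MulAut.conj F'.p).toMonoidHom with hKd
  have mKd : ∀ {k}, k ∈ Kd ↔ k ∈ K ∧ F'.p * k * F'.p⁻¹ ∈ K := fun {k} => Iff.rfl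
  have hKd' : Kd ≤ F'.E := fun a ha => ha.1.2
  have hKdE : Kd ≤ F.E := fun a ha => ha.1.1
  have hbKd : F'.z ∈ Kd := mKd.2 ⟨h.b_mem, by rw [F'.p_comm.eq, mul_inv_cancel_right]; exact h.b_mem⟩
  set D := F'.clsSub Kd hKd'
  have hcK' : ∀ {a : G}, a ∈ F'.E → (F'.cls a ∈ F'.clsSub K inf_le_right ↔ a ∈ K) := fun ha =>
    F'.cls_mem_clsSub h.b_mem ha
  have hmemD : ∀ {v}, v ∈ D ↔ v ∈ F'.clsSub K inf_le_right ∧ F'.act F'.p v ∈ F'.clsSub K inf_le_right := by
    intro v
    constructor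
    · rintro ⟨a, ha, rfl⟩
      refine ⟨⟨a, ha.1, rfl⟩, ?_⟩
      rw [act_cls F'.ctx F'.p_comm ha.1.2]
      exact ⟨_, ha.2, rfl⟩
    · rintro ⟨⟨a, ha, rfl⟩, h2⟩
      rw [act_cls F'.ctx F'.p_comm ha.2] at h2
      exact ⟨a, mKd.2 ⟨ha, (hcK' (F'.conj_mem F'.p_comm ha.2)).1 h2⟩, rfl⟩
  have hDev : Even (finrank (ZMod 2) ↥D) := F'.even_finrank D fun v hv => by
    obtain ⟨h1, h2⟩ := hmemD.1 hv
    refine hmemD.2 ⟨h2, ?_⟩
    rw [F'.act_p_sq]
    exact add_mem h1 h2
  have hcardKd : Nat.card ↥Kd = 2 ^ (finrank (ZMod 2) ↥D + 1) := by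
    rw [← F'.card_clsSub (S := Kd) hKd' hbKd, F'.card_sub, pow_succ, mul_comm]
  -- the linear half of the centralizer
  set Cb := F.E ⊓ Subgroup.centralizer ({F'.z} : Set G)
  set Lam := (I.comap h.theta).map Cb.subtype
  have mLam : ∀ {e}, e ∈ Lam ↔ e ∈ F.E ∧ Commute e F'.z ∧ F'.img e ∈ I := by
    intro e
    constructor
    · rintro ⟨x, hx, rfl⟩
      exact ⟨x.2.1, Subgroup.mem_centralizer_singleton_iff.1 x.2.2, hx⟩
    · rintro ⟨he, hc, hI⟩
      exact ⟨⟨e, he, Subgroup.mem_centralizer_singleton_iff.2 hc⟩, hI, rfl⟩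
  have hLamE : Lam ≤ F.E := fun e he => (mLam.1 he).1
  have hzLam : F.z ∈ Lam :=
    mLam.2 ⟨F.ctx.mem, F'.comm_of_mem h.mem', by rw [F'.img_mem h.mem']; exact one_mem _⟩
  have hcardLam : Nat.card ↥Lam = 2 ^ 11 := by
    rw [Subgroup.card_map_of_injective Cb.subtype_injective]
    have e := (I.comap h.theta).index_mul_card
    rw [Subgroup.index_comap, h.card_data.2.2.1] at e
    exact Nat.eq_of_mul_eq_mul_left two_pos ((e.trans h.card_centralizer).trans (by norm_num))
  set S := F.perp (F.clsSub Lam hLamE)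
  have hS : finrank (ZMod 2) ↥S = 2 := by
    have e := F.card_clsSub hLamE hzLam
    rw [hcardLam, F.card_sub, show (2 : ℕ) ^ 11 = 2 * 2 ^ 10 by norm_num, Nat.mul_left_cancel_iff two_pos] at e
    rw [F.finrank_perp, Nat.pow_right_injective (le_refl 2) e]
  have hindep : F'.cls F.z ≠ 0 := F'.cls_ne_zero h.mem' F.ctx.ne_one h.ne.symm
  have hKdS : ∀ k ∈ Kd, F.cls k ∈ S := by
    rintro k hk _ ⟨e, he, rfl⟩
    obtain ⟨heE, heb, heI⟩ := mLam.1 he
    have k1 := (mKd.1 hk).1
    have k2 := (mKd.1 hk).2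
    have e1 := h.act_K heE heb k1
    have e2 := h.act_K heE heb k2
    have hc : F'.cls (F'.p * k * F'.p⁻¹) = F'.act F'.p (F'.cls k) := (act_cls F'.ctx F'.p_comm k1.2).symm
    rw [hc, F'.act_p_comm heb heI, e1, map_add, map_smul] at e2
    have e3 := add_left_cancel e2
    refine (bit _).resolve_right fun h1 => ?_
    rw [h1, one_smul] at e3
    rcases bit (JankoFour.B F.ctx (F.cls e) (F.cls (F'.p * k * F'.p⁻¹))) with e4 | e4 <;> rw [e4] at e3
    · rw [zero_smul] at e3
      exact hindep (act_injective F'.ctx F'.p_comm (e3.trans (map_zero _).symm))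
    · rw [one_smul] at e3
      exact hindep (F'.act_p_eq e3)
  -- the subgroup of elements over the orthogonal of the linear half
  set P : Subgroup G :=
    { carrier := {a | a ∈ F.E ∧ F.cls a ∈ S}
      one_mem' := ⟨one_mem _, by
        show JankoFour.cls F.ctx 1 ∈ S
        rw [cls_one]; exact zero_mem _⟩
      mul_mem' := fun {a b} ha hb => ⟨mul_mem ha.1 hb.1, by
        show JankoFour.cls F.ctx (a * b) ∈ S
        rw [cls_mul F.ctx ha.1 hb.1]; exact add_mem ha.2 hb.2⟩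
      inv_mem' := fun {a} ha => ⟨inv_mem ha.1, by
        show JankoFour.cls F.ctx a⁻¹ ∈ S
        rw [cls_inv F.ctx ha.1]; exact ha.2⟩ } with hPdef
  have hPE : P ≤ F.E := fun a ha => ha.1
  have hzP : F.z ∈ P := ⟨F.ctx.mem, by rw [F.cls_z_zero]; exact zero_mem _⟩
  have hP : Nat.card ↥P = 8 := by
    rw [← F.card_clsSub hPE hzP, show F.clsSub P hPE = S from le_antisymm
      (by rintro _ ⟨a, ha, rfl⟩; exact ha.2)
      (fun v hv => by obtain ⟨a, ha, rfl⟩ := cls_surj F.ctx v; exact ⟨a, ⟨ha, hv⟩, rfl⟩), F.card_sub, hS]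
    norm_num
  have hKdP : Kd ≤ P := fun a ha => ⟨hKdE ha, hKdS a ha⟩
  have hle : 2 ^ (finrank (ZMod 2) ↥D + 1) ≤ 2 ^ 3 := by
    rw [← hcardKd]; exact (Subgroup.card_le_of_le hKdP).trans_eq hP
  have hle' := (Nat.pow_le_pow_iff_right (by norm_num : 1 < 2)).1 hle
  -- `z` lies in the part kept by the scalar
  have hzD : F.z ∈ Kd := by
    by_contra hz
    have hlt : Nat.card ↥Kd < 8 := by
      refine hP ▸ lt_of_le_of_ne (Subgroup.card_le_of_le hKdP) fun e => hz ?_
      rw [Subgroup.eq_of_le_of_card_ge hKdP e.ge]; exact hzP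
    have hD0 : D = ⊥ := by
      refine Submodule.finrank_eq_zero.1 ?_
      obtain ⟨j, hj⟩ := hDev
      rw [hcardKd, show 8 = 2 ^ 3 from rfl] at hlt
      have := (Nat.pow_lt_pow_iff_right (by norm_num : 1 < 2)).1 hlt
      omega
    obtain ⟨e, heE, heb, heI, heE'⟩ := h.exists_linear
    have hesq : e * e ∈ F'.E := by
      rcases F.ctx.sq e heE with e1 | e1 <;> rw [e1]
      exacts [one_mem _, h.mem']
    obtain ⟨-, -, -, -, -, hrk⟩ := F'.finrank_range_disp' heb heI (fun h1 => heE' (h.mem_E'_of_img heE heb h1)) hesq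
    set K' := F'.clsSub K inf_le_right
    have hK' : finrank (ZMod 2) ↥K' = 6 := by
      have e1 := F'.card_clsSub (S := K) inf_le_right h.b_mem
      rw [h.card_K, F'.card_sub, show (2 : ℕ) ^ 7 = 2 * 2 ^ 6 by norm_num, Nat.mul_left_cancel_iff two_pos] at e1
      exact Nat.pow_right_injective (le_refl 2) e1
    have hinj := act_injective F'.ctx F'.p_comm
    have hdis : K' ⊓ K'.map (F'.act F'.p) = ⊥ := by
      refine (Submodule.eq_bot_iff _).2 ?_
      rintro _ ⟨h1, v, hv, rfl⟩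
      have : v ∈ D := hmemD.2 ⟨hv, h1⟩
      rw [hD0, Submodule.mem_bot] at this
      rw [this, map_zero]
    have htop : K' ⊔ K'.map (F'.act F'.p) = ⊤ := by
      refine Submodule.eq_top_of_finrank_eq ?_
      have e1 := Submodule.finrank_sup_add_finrank_inf_eq K' (K'.map (F'.act F'.p))
      rw [hdis, finrank_bot, add_zero, ← (Submodule.equivMapOfInjective (F'.act F'.p) hinj K').finrank_eq, hK'] at e1
      rw [e1, F'.finrank_V]
    have hrange : LinearMap.range (F'.disp e) ≤ F'.line (F'.cls F.z) := by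
      rintro _ ⟨v, rfl⟩
      obtain ⟨a, ha, b, ⟨b', hb', rfl⟩, rfl⟩ := Submodule.mem_sup.1 (htop ▸ Submodule.mem_top : v ∈ _ ⊔ _)
      obtain ⟨k, hk, rfl⟩ := ha
      obtain ⟨k', hk', rfl⟩ := hb'
      rw [map_add]
      refine add_mem ?_ ?_
      · rw [disp_apply, h.act_K heE heb hk, add_comm, ← add_assoc, bar_self, zero_add]
        exact Submodule.smul_mem _ _ (F'.self_mem_line _)
      · rw [disp_apply, F'.act_p_comm heb heI, ← map_add, h.act_K heE heb hk', add_comm, ← add_assoc, bar_self,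
          zero_add]
        exact F'.line_invariant (Submodule.smul_mem _ _ (F'.self_mem_line _))
    have := Submodule.finrank_mono hrange
    rw [hrk, F'.finrank_line hindep] at this
    omega
  refine ⟨(mKd.1 hzD).2, fun k hk hk2 => ?_⟩
  have hkD : F'.cls k ∈ D := ⟨k, mKd.2 ⟨hk, hk2⟩, rfl⟩
  have hDline : F'.line (F'.cls F.z) = D := by
    refine Submodule.eq_of_le_of_finrank_le (F'.line_le ⟨_, hzD, rfl⟩ fun v hv => ?_) ?_
    · obtain ⟨h1, h2⟩ := hmemD.1 hv
      refine hmemD.2 ⟨h2, ?_⟩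
      rw [F'.act_p_sq]
      exact add_mem h1 h2
    · rw [F'.finrank_line hindep]; omega
  rw [hDline]
  exact hkD

/-- The scalar of the first frame on the intersection. -/
theorem scalar_b : F.p * F'.z * F.p⁻¹ ∈ F.E ⊓ F'.E ∧
    ∀ k ∈ F.E ⊓ F'.E, F.p * k * F.p⁻¹ ∈ F.E ⊓ F'.E → F.cls k ∈ F.line (F.cls F'.z) := by
  rw [inf_comm]
  exact h.symm.scalar_z

/-- The linear elements centralize the image of `z` under the scalar. -/
theorem linear_iff {e : G} (he : e ∈ F.E) (heb : Commute e F'.z) :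
    F'.img e ∈ I ↔ Commute e (F'.p * F.z * F'.p⁻¹) := by
  set w := F'.p * F.z * F'.p⁻¹ with hwdef
  have hw := h.scalar_z.1
  have hcw : F'.cls w = F'.act F'.p (F'.cls F.z) := (act_cls F'.ctx F'.p_comm h.mem').symm
  have hzf : F'.act e (F'.cls F.z) = F'.cls F.z := by
    rw [act_cls F'.ctx heb h.mem', (F.ctx.central e he).symm.eq, mul_inv_cancel_right]
  have hindep : F'.cls F.z ≠ 0 := F'.cls_ne_zero h.mem' F.ctx.ne_one h.ne.symm
  constructor
  · intro hI
    rw [← B_cls F.ctx he hw.1]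
    refine (bit _).resolve_right fun h1 => hindep ?_
    have e1 := h.act_K he heb hw
    rw [hcw, F'.act_p_comm heb hI, hzf, h1, one_smul] at e1
    exact left_eq_add.1 e1
  · intro hc
    by_contra hI
    have e1 : F'.act e (F'.cls w) = F'.cls w := by rw [act_cls F'.ctx heb hw.2, hc.eq, mul_inv_cancel_right]
    rw [hcw, F'.act_p_inv heb hI, hzf] at e1
    exact hindep (F'.act_p_eq (act_injective F'.ctx F'.p_comm e1))

end Fused

end Frame

end Cfsg.Lib.JankoFour
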