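import Cfsg.Agent.Lib.JankoFour.Centralizer
import Cfsg.Agent.Lib.JankoFour.Results
import Cfsg.Agent.Lib.JankoFour.FromHyp
import Cfsg.Agent.Lib.JankoFour.AutM22.HexData

/-!
# The setting of a simple group of Janko-four type
-/

set_option autoImplicit false
set_option linter.style.haveILetI false

namespace Cfsg.Lib.JankoFour

open Cfsg

variable {G : Type*} [Group G] [Finite G]

theorem isBig_of_elementary {V : Subgroup G} (hV : Cfsg.IsElementaryAbelian 2 V) (hc : Nat.card ↥V = 2 ^ 11) :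
    IsBig V :=
  ⟨fun x hx => by rw [← pow_two]; exact hV.2 x hx, hc⟩

/-- A frame with the standard group and coordinates, at the given involution. -/
theorem exists_setting [IsSimpleGroup G] (hG : ¬ IsMulCommutative G) {z : G} (hJ : Cfsg.IsOfJankoFourTypeAt z) :
    ∃ (F : Frame G AutM22.A22 AutM22.inner) (S : Std F AutM22.hexData), F.z = z ∧ Nonempty (Adapted S) := by
  obtain ⟨P, hP⟩ := hJ
  obtain ⟨F, hFz, -⟩ := exists_frame hP AutM22.facts
  obtain ⟨S⟩ := exists_std F AutM22.hexData AutM22.sixteen (pResidual_two_of_simple hG)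
  exact ⟨F, S, hFz, exists_adapted S⟩

namespace Std

variable {A : Type} [Group A] {I : Subgroup A} {F : Frame G A I} {D : HexData A I} (S : Std F D)

theorem isElementary : Cfsg.IsElementaryAbelian 2 S.Vb :=
  ⟨⟨⟨fun a b => Subtype.ext (S.Vb_comm a.2 b.2).eq⟩⟩, fun x hx => by rw [pow_two]; exact S.Vb_sq hx⟩

theorem map_normalizer {V : Subgroup G} {g : G} (hg : V.map (MulAut.conj g).toMonoidHom = S.Vb) {x : G} :
    x ∈ Subgroup.normalizer (V : Set G) ↔ g * x * g⁻¹ ∈ S.NV := by
  have key : ∀ y, y ∈ V ↔ g * y * g⁻¹ ∈ S.Vb := fun y => by rw [← hg, mem_map_conj]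
  rw [Subgroup.mem_normalizer_iff]
  constructor
  · intro h
    refine Subgroup.mem_normalizer_iff.2 fun y => ?_
    have e := h (g⁻¹ * y * g)
    rw [key, key, show g * (g⁻¹ * y * g) * g⁻¹ = y by group] at e
    rwa [show g * x * g⁻¹ * y * (g * x * g⁻¹)⁻¹ = g * (x * (g⁻¹ * y * g) * x⁻¹) * g⁻¹ by group]
  · intro h y
    rw [key, key, show g * (x * y * x⁻¹) * g⁻¹ = g * x * g⁻¹ * (g * y * g⁻¹) * (g * x * g⁻¹)⁻¹ by group]
    exact Subgroup.mem_normalizer_iff.1 h _

end Std

end Cfsg.Lib.JankoFour
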