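import Cfsg.Agent.Lib.JankoFour.Code

/-!
# The lifts that are not conjugate to `z`, on codes
-/

set_option autoImplicit false
set_option linter.style.haveILetI false
set_option linter.unusedSectionVars false

namespace Cfsg.Lib.JankoFour

open Cfsg Cfsg.Lib.Extra Module BitModel

variable {G : Type*} [Group G] [Finite G] {A : Type} [Group A] {I : Subgroup A}

theorem pickB_conj {H : Type*} [Group H] (g x : H) (b : Bool) :
    g * pickB b x * g⁻¹ = pickB b (g * x * g⁻¹) := by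
  cases b <;> simp [pickB]

namespace Adapted

variable {F : Frame G A I} {D : HexData A I} {S : Std F D} (C : Adapted S)

theorem exists_sign {u : ℕ} (hu : u < 16) : ∃ b : Bool, C.nz u = pickB b F.z * C.cL u := by
  obtain ⟨hn, hnf, -, -⟩ := C.nz_spec hu
  rcases C.form_eq (C.cL_mem u) hn (C.cL_form hu) hnf with h | h
  · exact ⟨false, by rw [pickB_false, one_mul, h]⟩
  · exact ⟨true, by rw [pickB_true, h]⟩

/-- The sign of the lift that is not conjugate to `z`. -/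
noncomputable def sig (u : ℕ) : Bool := if hu : u < 16 then (C.exists_sign hu).choose else false

theorem nz_eq {u : ℕ} (hu : u < 16) : C.nz u = pickB (C.sig u) F.z * C.cL u := by
  rw [sig, dif_pos hu]
  exact (C.exists_sign hu).choose_spec

theorem sig_unit {u : ℕ} (h : u = 1 ∨ u = 2 ∨ u = 4 ∨ u = 8) : C.sig u = false := by
  have hu : u < 16 := by omega
  have e := C.nz_eq hu
  have hL : C.cL u = C.nz u := by rcases h with rfl | rfl | rfl | rfl <;> simp [cL, pickB, Nat.testBit, Nat.shiftRight_eq_div_pow]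
  rw [hL, right_eq_mul] at e
  exact pickB_inj F.ctx.ne_one (e.trans (pickB_false _).symm)

theorem conj_nz {x : G} {u u' : ℕ} (hx : x ∈ F.C) (hn : ∀ a ∈ D.T, F.img x * a * (F.img x)⁻¹ ∈ D.T)
    (hu : u < 16) (hu0 : u ≠ 0) (hu' : u' < 16) (hu'0 : u' ≠ 0)
    (hf : C.Form (x * C.nz u * x⁻¹) u') : x * C.nz u * x⁻¹ = C.nz u' := by
  obtain ⟨hm, -, -, hz⟩ := C.nz_spec hu
  refine C.eq_nz hu' hu'0 (C.conj_mem_X hx hn hm) hf fun h => hz hu0 ?_
  have h2 := h.trans (isConj_iff.2 ⟨x⁻¹, rfl⟩)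
  rwa [show x⁻¹ * (x * C.nz u * x⁻¹) * x⁻¹⁻¹ = C.nz u by group] at h2

theorem d_nz {u : ℕ} (hu : u < 16) (hu0 : u ≠ 0) : C.d * C.nz u * C.d⁻¹ = C.nz (su u) := by
  have h := show ∀ u < 16, su u < 16 ∧ (u ≠ 0 → su u ≠ 0) by decide +kernel
  exact C.conj_nz C.d_mem (fun _ => C.d_T) hu hu0 (h u hu).1 ((h u hu).2 hu0)
    (C.form_d hu (C.nz_spec hu).1 (C.nz_spec hu).2.1)

theorem Y_nz {u : ℕ} (hu : u < 16) (hu0 : u ≠ 0) : C.Y * C.nz u * C.Y⁻¹ = C.nz (yu u) := by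
  have h := show ∀ u < 16, yu u < 16 ∧ (u ≠ 0 → yu u ≠ 0) by decide +kernel
  exact C.conj_nz C.Y_mem (fun _ => C.Y_T) hu hu0 (h u hu).1 ((h u hu).2 hu0)
    (C.form_Y hu (C.nz_spec hu).1 (C.nz_spec hu).2.1)

theorem d_cL {u : ℕ} (hu : u < 16) :
    C.d * C.cL u * C.d⁻¹ = pickB (C.sig 3 && u.testBit 0) F.z * C.cL (su u) := by
  have hb := show ∀ u < 16, (su u).testBit 0 = (u.testBit 0 ^^ u.testBit 1) ∧ (su u).testBit 1 = u.testBit 0 ∧
      (su u).testBit 2 = u.testBit 2 ∧ (su u).testBit 3 = u.testBit 3 by decide +kernel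
  obtain ⟨b0, b1, b2, b3⟩ := hb u hu
  have e1 : C.d * C.nz 1 * C.d⁻¹ = pickB (C.sig 3) F.z * (C.nz 1 * C.nz 2) := by
    rw [C.d_nz (by norm_num) (by norm_num), show su 1 = 3 from rfl, C.nz_eq (u := 3) (by norm_num)]
    simp [cL, pickB, Nat.testBit, Nat.shiftRight_eq_div_pow]
  have e2 : C.d * C.nz 2 * C.d⁻¹ = C.nz 1 := C.d_nz (by norm_num) (by norm_num)
  have e4 : C.d * C.nz 4 * C.d⁻¹ = C.nz 4 := C.d_nz (by norm_num) (by norm_num)
  have e8 : C.d * C.nz 8 * C.d⁻¹ = C.nz 8 := C.d_nz (by norm_num) (by norm_num)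
  have n1 := (C.nz_spec (show 1 < 16 by norm_num)).1
  have n2 := (C.nz_spec (show 2 < 16 by norm_num)).1
  rw [cL, cL, b0, b1, b2, b3, show ∀ a b c e : G, C.d * (a * b * (c * e)) * C.d⁻¹ =
    C.d * a * C.d⁻¹ * (C.d * b * C.d⁻¹) * (C.d * c * C.d⁻¹ * (C.d * e * C.d⁻¹)) from fun a b c e => by group,
    pickB_conj, pickB_conj, pickB_conj, pickB_conj, e1, e2, e4, e8]
  have s1 := S.X_sq n1
  have c12 : C.nz 2 * C.nz 1 = C.nz 1 * C.nz 2 := (S.Vb_comm (S.X_le n2) (S.X_le n1)).eq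
  cases u.testBit 0 <;> cases u.testBit 1 <;> simp only [pickB, Bool.and_true, Bool.and_false, Bool.xor_true,
    Bool.xor_false, Bool.not_true, Bool.not_false, if_true, Bool.false_eq_true, if_false, one_mul, mul_one,
    mul_assoc] <;> simp only [← mul_assoc]
  rw [mul_assoc _ (C.nz 2) (C.nz 1), c12, ← mul_assoc, mul_assoc _ (C.nz 1) (C.nz 1), s1, mul_one]

theorem Y_cL {u : ℕ} (hu : u < 16) :
    C.Y * C.cL u * C.Y⁻¹ = pickB (C.sig 12 && u.testBit 2) F.z * C.cL (yu u) := by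
  have hb := show ∀ u < 16, (yu u).testBit 0 = u.testBit 0 ∧ (yu u).testBit 1 = u.testBit 1 ∧
      (yu u).testBit 2 = (u.testBit 2 ^^ u.testBit 3) ∧ (yu u).testBit 3 = u.testBit 2 by decide +kernel
  obtain ⟨b0, b1, b2, b3⟩ := hb u hu
  have e4 : C.Y * C.nz 4 * C.Y⁻¹ = pickB (C.sig 12) F.z * (C.nz 4 * C.nz 8) := by
    rw [C.Y_nz (by norm_num) (by norm_num), show yu 4 = 12 from rfl, C.nz_eq (u := 12) (by norm_num)]
    simp [cL, pickB, Nat.testBit, Nat.shiftRight_eq_div_pow]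
  have e1 : C.Y * C.nz 1 * C.Y⁻¹ = C.nz 1 := C.Y_nz (by norm_num) (by norm_num)
  have e2 : C.Y * C.nz 2 * C.Y⁻¹ = C.nz 2 := C.Y_nz (by norm_num) (by norm_num)
  have e8 : C.Y * C.nz 8 * C.Y⁻¹ = C.nz 4 := C.Y_nz (by norm_num) (by norm_num)
  have n4 := (C.nz_spec (show 4 < 16 by norm_num)).1
  have n8 := (C.nz_spec (show 8 < 16 by norm_num)).1
  have hz : ∀ b, ∀ y ∈ S.Vb, y * pickB b F.z = pickB b F.z * y := fun b y hy =>
    (S.Vb_comm hy (pickB_mem S.z_mem b)).eq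
  have hv : pickB (u.testBit 0) (C.nz 1) * pickB (u.testBit 1) (C.nz 2) ∈ S.Vb :=
    mul_mem (pickB_mem (S.X_le (C.nz_spec (by norm_num)).1) _) (pickB_mem (S.X_le (C.nz_spec (by norm_num)).1) _)
  rw [cL, cL, b0, b1, b2, b3, show ∀ a b c e : G, C.Y * (a * b * (c * e)) * C.Y⁻¹ =
    C.Y * a * C.Y⁻¹ * (C.Y * b * C.Y⁻¹) * (C.Y * c * C.Y⁻¹ * (C.Y * e * C.Y⁻¹)) from fun a b c e => by group,
    pickB_conj, pickB_conj, pickB_conj, pickB_conj, e1, e2, e4, e8]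
  generalize hH : pickB (u.testBit 0) (C.nz 1) * pickB (u.testBit 1) (C.nz 2) = H at hv ⊢
  have s4 := S.X_sq n4
  have c48 : C.nz 8 * C.nz 4 = C.nz 4 * C.nz 8 := (S.Vb_comm (S.X_le n8) (S.X_le n4)).eq
  have hzH := hz (C.sig 12) H hv
  cases u.testBit 2 <;> cases u.testBit 3 <;> simp only [pickB, Bool.and_true, Bool.and_false, Bool.xor_true,
    Bool.xor_false, Bool.not_true, Bool.not_false, if_true, Bool.false_eq_true, if_false, one_mul, mul_one] at hzH ⊢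
  · simp only [← mul_assoc]
    rw [hzH]
  · simp only [← mul_assoc]
    rw [hzH, mul_assoc _ (C.nz 8) (C.nz 4), c48, ← mul_assoc, mul_assoc _ (C.nz 4) (C.nz 4), s4, mul_one]

theorem sig_su {u : ℕ} (hu : u < 16) (hu0 : u ≠ 0) : C.sig (su u) = (C.sig u ^^ (C.sig 3 && u.testBit 0)) := by
  have hlt : su u < 16 := (show ∀ u < 16, su u < 16 by decide +kernel) u hu
  have h := C.d_nz hu hu0
  rw [C.nz_eq hu, C.nz_eq hlt, show C.d * (pickB (C.sig u) F.z * C.cL u) * C.d⁻¹ =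
    C.d * pickB (C.sig u) F.z * C.d⁻¹ * (C.d * C.cL u * C.d⁻¹) by group, pickB_conj, C.d_z.eq,
    mul_inv_cancel_right, C.d_cL hu, ← mul_assoc, ← pickB_xor F.ctx.sq_z] at h
  exact (pickB_inj F.ctx.ne_one (mul_right_cancel h)).symm

theorem sig_yu {u : ℕ} (hu : u < 16) (hu0 : u ≠ 0) : C.sig (yu u) = (C.sig u ^^ (C.sig 12 && u.testBit 2)) := by
  have hlt : yu u < 16 := (show ∀ u < 16, yu u < 16 by decide +kernel) u hu
  have h := C.Y_nz hu hu0
  rw [C.nz_eq hu, C.nz_eq hlt, show C.Y * (pickB (C.sig u) F.z * C.cL u) * C.Y⁻¹ =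
    C.Y * pickB (C.sig u) F.z * C.Y⁻¹ * (C.Y * C.cL u * C.Y⁻¹) by group, pickB_conj, C.Y_z.eq,
    mul_inv_cancel_right, C.Y_cL hu, ← mul_assoc, ← pickB_xor F.ctx.sq_z] at h
  exact (pickB_inj F.ctx.ne_one (mul_right_cancel h)).symm

/-- The signs follow the rule. -/
theorem sig_rule {u : ℕ} (hu : u < 16) (hu0 : u ≠ 0) :
    C.sig u = sgn (C.sig 3) (C.sig 12) (C.sig 5) u := by
  have d : ∀ u < 16, u ≠ 0 → C.sig (su u) = (C.sig u ^^ (C.sig 3 && u.testBit 0)) := fun u h h0 => C.sig_su h h0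
  have y : ∀ u < 16, u ≠ 0 → C.sig (yu u) = (C.sig u ^^ (C.sig 12 && u.testBit 2)) := fun u h h0 => C.sig_yu h h0
  have v1 := C.sig_unit (u := 1) (by norm_num)
  have v2 := C.sig_unit (u := 2) (by norm_num)
  have v4 := C.sig_unit (u := 4) (by norm_num)
  have v8 := C.sig_unit (u := 8) (by norm_num)
  have s7 := d 5 (by norm_num) (by norm_num)
  have s6 := d 7 (by norm_num) (by norm_num)
  have s13 := y 5 (by norm_num) (by norm_num)
  have s9 := y 13 (by norm_num) (by norm_num)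
  have s15 := y 7 (by norm_num) (by norm_num)
  have s11 := y 15 (by norm_num) (by norm_num)
  have s14 := y 6 (by norm_num) (by norm_num)
  have s10 := y 14 (by norm_num) (by norm_num)
  rw [show su 5 = 7 from rfl] at s7
  rw [show su 7 = 6 from rfl, s7] at s6
  rw [show yu 5 = 13 from rfl] at s13
  rw [show yu 13 = 9 from rfl, s13] at s9
  rw [show yu 7 = 15 from rfl, s7] at s15
  rw [show yu 15 = 11 from rfl, s15] at s11
  rw [show yu 6 = 14 from rfl, s6] at s14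
  rw [show yu 14 = 10 from rfl, s14] at s10
  obtain rfl | rfl | rfl | rfl | rfl | rfl | rfl | rfl | rfl | rfl | rfl | rfl | rfl | rfl | rfl :
      u = 1 ∨ u = 2 ∨ u = 3 ∨ u = 4 ∨ u = 5 ∨ u = 6 ∨ u = 7 ∨ u = 8 ∨ u = 9 ∨ u = 10 ∨ u = 11 ∨ u = 12 ∨
        u = 13 ∨ u = 14 ∨ u = 15 := by omega
  all_goals try simp only [v1, v2, v4, v8, s7, s6, s13, s9, s15, s11, s14, s10]
  all_goals generalize C.sig 3 = a, C.sig 12 = b, C.sig 5 = c
  all_goals revert a b c; decide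

end Adapted

end Cfsg.Lib.JankoFour
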