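import Cfsg.Agent.Lib.JankoFour.Orbits

/-!
# The orbits of the centralizer of `z` on the involutions of `E`

At most 4158 involutions besides `z`; each orbit has a number of members divisible by nine.
-/

set_option autoImplicit false
set_option linter.style.haveILetI false
set_option linter.unusedSectionVars false

namespace Cfsg.Lib.JankoFour

open Cfsg Cfsg.Lib.Extra Module BitModel

variable {G : Type*} [Group G] [Finite G] {A : Type} [Group A] {I : Subgroup A}

namespace Std

variable {F : Frame G A I} {D : HexData A I} (S : Std F D)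

include S in
/-- An orbit on the involutions of `E` has a number of members divisible by nine. -/
theorem nine_dvd {a : G} (ha : a ∈ F.E) (ha1 : a ≠ 1) (haz : a ≠ F.z) : 9 ∣ (F.zOrb a).ncard := by
  haveI : Fact (Nat.Prime 3) := ⟨Nat.prime_three⟩
  set H := Subgroup.centralizer ({F.z} : Set G)
  set M := H ⊓ Subgroup.centralizer ({a} : Set G)
  have hcard : (F.zOrb a).ncard * Nat.card ↥M = 2 ^ 13 * 3 * 887040 := F.card_zOrb a
  by_contra h9
  have hM : 3 ^ 2 ∣ Nat.card ↥M := by
    have h27 : 3 ^ 2 * 3 ∣ (F.zOrb a).ncard * Nat.card ↥M := by rw [hcard]; norm_num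
    by_cases h3 : 3 ∣ (F.zOrb a).ncard
    · obtain ⟨o, ho⟩ := h3
      have ho3 : ¬ 3 ∣ o := fun ⟨k, hk⟩ => h9 ⟨k, by rw [ho, hk]; ring⟩
      rw [ho, mul_comm (3 ^ 2) 3, mul_assoc] at h27
      exact ((Nat.prime_three.coprime_iff_not_dvd.2 ho3).pow_left 2).dvd_of_dvd_mul_left
        (Nat.dvd_of_mul_dvd_mul_left (by norm_num) h27)
    · exact ((Nat.prime_three.coprime_iff_not_dvd.2 h3).pow_left 2).dvd_of_dvd_mul_left
        ((dvd_mul_right _ 3).trans h27)
  obtain ⟨Q, hQ⟩ := Sylow.exists_subgroup_card_pow_prime 3 hM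
  let f : ↥M →* ↥H := Subgroup.inclusion inf_le_left
  have hQp : IsPGroup 3 ↥Q := IsPGroup.of_card hQ
  obtain ⟨P, hP⟩ := (hQp.map f).exists_le_sylow
  obtain ⟨S3, hS3⟩ := F.exists_sylow_G S.hres S.R'
  have hSH : (S3 : Subgroup G) ≤ H := by
    rw [hS3]
    rintro _ ⟨r, -, rfl⟩
    exact F.centralizer_z_iff.2 (F.mem_C.1 r.2).1
  obtain ⟨g, hg⟩ := MulAction.exists_smul_eq ↥H P (S3.subtype hSH)
  -- the group of order nine inside the Sylow subgroup
  let j : ↥M →* G := (MulAut.conj (g : G)).toMonoidHom.comp M.subtype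
  have hj : Function.Injective j := (MulAut.conj (g : G)).injective.comp M.subtype_injective
  set Q' := Q.map j
  have hQc : Nat.card ↥Q' = 3 ^ 2 := by rw [Subgroup.card_map_of_injective hj, hQ]
  have hgz := F.centralizer_z_iff.1 g.2
  set b := (g : G) * a * (g : G)⁻¹
  have hb : b ∈ F.E := F.conj_mem hgz ha
  have hQb : ∀ q ∈ Q', Commute q b := by
    rintro _ ⟨q, -, rfl⟩
    exact (show Commute (q : G) a from Subgroup.mem_centralizer_singleton_iff.1 q.2.2).map
      (MulAut.conj (g : G)).toMonoidHom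
  have hQR : Q' ≤ F.sub S.R' := by
    rintro _ ⟨q, hq, rfl⟩
    have h : (g * f q * g⁻¹ : ↥H) ∈ (S3.subtype hSH : Subgroup ↥H) := by
      rw [← hg]
      exact ⟨f q, hP ⟨q, hq, rfl⟩, rfl⟩
    rw [← hS3]
    exact h
  have hpR : F.p ∈ F.sub S.R' := ⟨⟨F.p, F.p_mem_C⟩, F.p_mem_sylow S.R', rfl⟩
  by_cases hpQ : F.p ∈ Q'
  · rcases F.fixed b hb (hQb _ hpQ).symm with e | e
    · exact ha1 (conj_eq_one_iff.1 e)
    · exact haz (by
        calc a = (g : G)⁻¹ * b * g := by show a = (g : G)⁻¹ * ((g : G) * a * (g : G)⁻¹) * g; group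
          _ = F.z := by rw [e, hgz.inv_left.eq, inv_mul_cancel_right])
  · refine F.sylow_not_comm S.R' fun x hx y hy => ?_
    have htop : Q' ⊔ Subgroup.zpowers F.p = F.sub S.R' := by
      refine Subgroup.eq_of_le_of_card_ge (sup_le hQR (Subgroup.zpowers_le.2 hpR)) ?_
      rw [F.card_sub_sylow]
      have hd : Nat.card ↥(Q' ⊔ Subgroup.zpowers F.p) ∣ 3 ^ 3 := by
        rw [show (3 : ℕ) ^ 3 = Nat.card ↥(F.sub S.R') by rw [F.card_sub_sylow]; norm_num]
        exact Subgroup.card_dvd_of_le (sup_le hQR (Subgroup.zpowers_le.2 hpR))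
      have hlt : 9 < Nat.card ↥(Q' ⊔ Subgroup.zpowers F.p) := by
        by_contra hle
        refine hpQ ?_
        rw [Subgroup.eq_of_le_of_card_ge (le_sup_left : Q' ≤ Q' ⊔ Subgroup.zpowers F.p) (by rw [hQc]; omega)]
        exact Subgroup.mem_sup_right (Subgroup.mem_zpowers _)
      obtain ⟨i, hi, he⟩ := (Nat.dvd_prime_pow Nat.prime_three).1 hd
      rw [he] at hlt ⊢
      interval_cases i <;> omega
    have hcomm := IsPGroup.isMulCommutative_of_card_eq_prime_sq hQc
    have hp' : ∀ q ∈ F.sub S.R', Commute q F.p := by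
      rintro _ ⟨r, -, rfl⟩
      exact (F.mem_C.1 r.2).2
    have hle : Q' ⊔ Subgroup.zpowers F.p ≤ Subgroup.centralizer ((Q' ⊔ Subgroup.zpowers F.p : Subgroup G) : Set G) := by
      rw [Subgroup.le_centralizer_iff]
      refine sup_le (fun q hq => ?_) (Subgroup.zpowers_le.2 ?_)
      · refine Subgroup.le_centralizer_iff.1 ?_ hq
        refine sup_le (fun q' hq' => Subgroup.mem_centralizer_iff.2 fun u hu => ?_)
          (Subgroup.zpowers_le.2 (Subgroup.mem_centralizer_iff.2 fun u hu => hp' u (hQR hu)))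
        exact congrArg Subtype.val (hcomm.is_comm.comm (⟨u, hu⟩ : ↥Q') ⟨q', hq'⟩)
      · exact Subgroup.mem_centralizer_iff.2 fun u hu => hp' u (htop ▸ hu)
    have hx' : (x : G) ∈ Q' ⊔ Subgroup.zpowers F.p := htop.symm ▸ ⟨x, hx, rfl⟩
    have hy' : (y : G) ∈ Q' ⊔ Subgroup.zpowers F.p := htop.symm ▸ ⟨y, hy, rfl⟩
    exact Subtype.ext (Subgroup.mem_centralizer_iff.1 (hle hy') _ hx')

end Std

/-- The singular pairs. -/
def sPairs (n : ℕ) (q : ℕ → Bool) : Finset (ℕ × ℕ) :=
  (Finset.range n ×ˢ Finset.range n).filter fun t => par (t.1 &&& t.2) == q t.2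

theorem mem_sPairs {n : ℕ} {q : ℕ → Bool} {x c : ℕ} (hx : x < n) (hc : c < n) (h : par (x &&& c) = q c) :
    (x, c) ∈ sPairs n q :=
  Finset.mem_filter.2 ⟨Finset.mem_product.2 ⟨Finset.mem_range.2 hx, Finset.mem_range.2 hc⟩, beq_iff_eq.2 h⟩

theorem card_sPairs (q : ℕ → Bool) : (sPairs 64 q).card ≤ 2080 := by
  rw [sPairs, Finset.card_filter, Finset.sum_product_right]
  have h : ∀ c ∈ Finset.range 64, (∑ x ∈ Finset.range 64, if (par (x &&& c) == q c) = true then 1 else 0) ≤
      if c = 0 then 64 else 32 := by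
    intro c hc
    rw [← Finset.card_filter]
    split
    · exact (Finset.card_filter_le _ _).trans (le_of_eq (Finset.card_range 64))
    · next hc0 =>
      have hh := allLt_spec half_count (Finset.mem_range.1 hc)
      rw [Bool.or_eq_true] at hh
      have h1 := List.all_eq_true.1 (hh.resolve_left fun e => hc0 (Nat.eq_of_beq_eq_true e)) (q c)
        (by cases q c <;> simp)
      rw [← List.toFinset_range, ← List.toFinset_filter,
        List.toFinset_card_of_nodup (List.nodup_range.filter _)]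
      exact le_of_eq (Nat.eq_of_beq_eq_true h1)
  refine (Finset.sum_le_sum h).trans (le_of_eq ?_)
  rw [← Finset.add_sum_erase _ _ (show 0 ∈ Finset.range 64 by simp), if_pos rfl,
    Finset.sum_congr rfl (g := fun _ => 32) fun c hc => if_neg (Finset.mem_erase.1 hc).1, Finset.sum_const,
    Finset.card_erase_of_mem (Finset.mem_range.2 (by norm_num)), Finset.card_range]
  rfl

attribute [local irreducible] sPairs

namespace Adapted

variable {F : Frame G A I} {D : HexData A I} {S : Std F D} (C : Adapted S)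

include C in
/-- At most 4158 involutions lie in `E` besides `z`. -/
theorem ncard_invol : {a | a ∈ F.E ∧ a * a = 1 ∧ a ≠ 1 ∧ a ≠ F.z}.ncard ≤ 4158 := by
  classical
  choose r hr using fun c (hc : c < 64) => C.exists_chi hc
  let r' : ℕ → F.V := fun c => if h : c < 64 ∧ c ≠ 0 then r c h.1 else 0
  have hr' : ∀ c < 64, C.chi (r' c) = c := by
    intro c hc
    by_cases h : c = 0
    · simp only [r', dif_neg (fun k : c < 64 ∧ c ≠ 0 => k.2 h), h]
      exact C.chi_eq_zero.2 (zero_mem _)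
    · simp only [r', dif_pos (And.intro hc h), hr]
  have hr0 : r' 0 = 0 := dif_neg fun k => k.2 rfl
  let q : ℕ → Bool := fun c => decide (JankoFour.qf F.ctx (r' c) = 1)
  have hdec : ∀ v : F.V, ∃ x < 64, v = C.cw x + r' (C.chi v) := by
    intro v
    have h : r' (C.chi v) + v ∈ S.W := C.chi_eq_iff.1 (hr' _ (C.chi_lt v))
    obtain ⟨x, hx, e⟩ := C.exists_cw h
    refine ⟨x, hx, ?_⟩
    rw [e, add_comm (r' _) v, add_assoc, bar_self, add_zero]
  choose xc hxc using hdec
  have h00 : (0, 0) ∈ sPairs 64 q := by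
    refine mem_sPairs (Nat.zero_lt_succ _) (Nat.zero_lt_succ _) ?_
    simp only [q, hr0, qf_zero]
    decide
  have hT : ((sPairs 64 q).erase (0, 0)).card ≤ 2079 := by
    rw [Finset.card_erase_of_mem h00]
    have := card_sPairs q
    omega
  refine le_trans (Set.ncard_le_ncard_of_injOn (fun a : G =>
      ((xc (F.cls a), C.chi (F.cls a)), decide (a = rep F.ctx (F.cls a))))
    (t := ↑((sPairs 64 q).erase (0, 0) ×ˢ (Finset.univ : Finset Bool))) ?_ ?_
    (Finset.finite_toSet _)) (by rw [Set.ncard_coe_finset, Finset.card_product, Finset.card_univ, Fintype.card_bool]; omega)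
  · rintro a ⟨ha, ha2, ha1, haz⟩
    obtain ⟨hx, he⟩ := hxc (F.cls a)
    refine Finset.mem_coe.2 (Finset.mem_product.2 ⟨Finset.mem_erase.2 ⟨fun e => ?_, ?_⟩, Finset.mem_univ _⟩)
    · obtain ⟨e1, e2⟩ := Prod.mk.injEq .. ▸ e
      rw [e1, e2, C.cw_zero, hr0, add_zero] at he
      rcases (cls_eq_zero F.ctx ha).1 he with h | h
      exacts [ha1 h, haz h]
    · refine mem_sPairs hx (C.chi_lt _) ?_
      have hq := (qf_cls F.ctx ha).2 ha2
      rw [show JankoFour.cls F.ctx a = F.cls a from rfl, he, qf_add, S.qf_W _ (C.cw_mem _), zero_add, C.B_cw,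
        hr' _ (C.chi_lt _)] at hq
      simp only [q]
      revert hq
      cases par (xc (F.cls a) &&& C.chi (F.cls a)) <;>
        rcases bit (JankoFour.qf F.ctx (r' (C.chi (F.cls a)))) with h | h <;> simp [h, zb]
  · rintro a ⟨ha, -⟩ b ⟨hb, -⟩ e
    simp only [Prod.mk.injEq] at e
    obtain ⟨⟨e1, e2⟩, e3⟩ := e
    have hab : F.cls a = F.cls b := by rw [(hxc (F.cls a)).2, (hxc (F.cls b)).2, e1, e2]
    rw [hab, decide_eq_decide] at e3
    rcases eq_rep F.ctx ha with h | h <;> rcases eq_rep F.ctx hb with h' | h' <;>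
      rw [show JankoFour.cls F.ctx a = F.cls b from hab] at h
    · exact h.trans h'.symm
    · exact (h.trans (e3.1 h).symm)
    · exact ((e3.2 h').trans h'.symm)
    · exact h.trans h'.symm

end Adapted

end Cfsg.Lib.JankoFour
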