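import Cfsg.Agent.Lib.JankoFour.Frame
import Mathlib.FieldTheory.Finiteness

/-!
# Linear algebra on `E/⟨z⟩`

Dimensions, orthogonal spaces, linear and semilinear elements of `C(z)`, and lifts to `C(z) ∩ C(p)`.
-/

set_option autoImplicit false
set_option linter.style.haveILetI false
set_option linter.unusedSectionVars false

namespace Cfsg.Lib.JankoFour

open Cfsg Cfsg.Lib.Extra Module

namespace Frame

variable {G : Type*} [Group G] [Finite G] {A : Type} [Group A] {I : Subgroup A} (F : Frame G A I)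

theorem card_V : Nat.card F.V = 2 ^ 12 := by
  have h : 2 * Nat.card F.V = _ := JankoFour.card_bar F.ctx F.card_center
  rw [F.card_E, show (2 : ℕ) ^ 13 = 2 * 2 ^ 12 by norm_num] at h
  omega

theorem card_sub (W : Submodule (ZMod 2) F.V) : Nat.card ↥W = 2 ^ finrank (ZMod 2) ↥W := by
  haveI : FiniteDimensional (ZMod 2) F.V := Module.Finite.of_finite
  rw [Module.natCard_eq_pow_finrank (K := ZMod 2), Nat.card_zmod]

theorem finrank_V : finrank (ZMod 2) F.V = 12 := by
  haveI : FiniteDimensional (ZMod 2) F.V := Module.Finite.of_finite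
  have h := F.card_V
  rw [Module.natCard_eq_pow_finrank (K := ZMod 2) (V := F.V), Nat.card_zmod] at h
  exact Nat.pow_right_injective (by norm_num) h

/-- The orthogonal space. -/
noncomputable abbrev perp (W : Submodule (ZMod 2) F.V) : Submodule (ZMod 2) F.V :=
  LinearMap.BilinForm.orthogonal (JankoFour.B F.ctx) W

theorem mem_perp {W : Submodule (ZMod 2) F.V} {v : F.V} :
    v ∈ F.perp W ↔ ∀ w ∈ W, JankoFour.B F.ctx w v = 0 := Iff.rfl

theorem finrank_perp (W : Submodule (ZMod 2) F.V) :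
    finrank (ZMod 2) ↥(F.perp W) = 12 - finrank (ZMod 2) ↥W := by
  haveI : FiniteDimensional (ZMod 2) F.V := Module.Finite.of_finite
  rw [LinearMap.BilinForm.finrank_orthogonal (B_nondegenerate F.ctx), F.finrank_V]

theorem perp_perp (W : Submodule (ZMod 2) F.V) : F.perp (F.perp W) = W := by
  haveI : FiniteDimensional (ZMod 2) F.V := Module.Finite.of_finite
  exact LinearMap.BilinForm.orthogonal_orthogonal (B_nondegenerate F.ctx) (B_isRefl F.ctx) W

theorem finrank_sub_le (W : Submodule (ZMod 2) F.V) : finrank (ZMod 2) ↥W ≤ 12 := by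
  haveI : FiniteDimensional (ZMod 2) F.V := Module.Finite.of_finite
  exact F.finrank_V ▸ Submodule.finrank_le W

/-- The subspace of classes of the elements of a subgroup. -/
noncomputable def clsSub (S : Subgroup G) (hS : S ≤ F.E) : Submodule (ZMod 2) F.V where
  carrier := {v | ∃ a ∈ S, JankoFour.cls F.ctx a = v}
  zero_mem' := ⟨1, one_mem _, cls_one F.ctx⟩
  add_mem' := by
    rintro _ _ ⟨a, ha, rfl⟩ ⟨b, hb, rfl⟩
    exact ⟨a * b, mul_mem ha hb, cls_mul F.ctx (hS ha) (hS hb)⟩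
  smul_mem' := by
    rintro c _ ⟨a, ha, rfl⟩
    rcases bit c with rfl | rfl
    · exact ⟨1, one_mem _, by rw [zero_smul]; exact cls_one F.ctx⟩
    · exact ⟨a, ha, (one_smul _ _).symm⟩

theorem mem_clsSub {S : Subgroup G} {hS : S ≤ F.E} {v : F.V} :
    v ∈ F.clsSub S hS ↔ ∃ a ∈ S, JankoFour.cls F.ctx a = v := Iff.rfl

theorem cls_mem_clsSub {S : Subgroup G} {hS : S ≤ F.E} (hz : F.z ∈ S) {a : G} (ha : a ∈ F.E) :
    JankoFour.cls F.ctx a ∈ F.clsSub S hS ↔ a ∈ S := by
  refine ⟨?_, fun h => ⟨a, h, rfl⟩⟩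
  rintro ⟨b, hb, e⟩
  rcases (cls_eq_iff F.ctx ha (hS hb)).1 e.symm with rfl | rfl
  exacts [hb, mul_mem hz hb]

theorem card_clsSub {S : Subgroup G} (hS : S ≤ F.E) (hz : F.z ∈ S) :
    2 * Nat.card ↥(F.clsSub S hS) = Nat.card ↥S := by
  have hi : ∀ a : ↥S, JankoFour.cls F.ctx (a : G) ∈ F.clsSub S hS := fun a => ⟨a, a.2, rfl⟩
  let f : ↥S →* Multiplicative ↥(F.clsSub S hS) :=
    { toFun := fun a => Multiplicative.ofAdd ⟨_, hi a⟩
      map_one' := congrArg Multiplicative.ofAdd (Subtype.ext (cls_one F.ctx))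
      map_mul' := fun a b => congrArg Multiplicative.ofAdd (Subtype.ext (cls_mul F.ctx (hS a.2) (hS b.2))) }
  have hsurj : Function.Surjective f := fun v => by
    obtain ⟨a, ha, e⟩ := (Multiplicative.toAdd v).2
    exact ⟨⟨a, ha⟩, congrArg Multiplicative.ofAdd (Subtype.ext e)⟩
  have hker : f.ker = (Subgroup.zpowers F.z).subgroupOf S := by
    ext a
    rw [MonoidHom.mem_ker, Subgroup.mem_subgroupOf]
    have e1 : f a = 1 ↔ JankoFour.cls F.ctx (a : G) = 0 :=
      ⟨fun h => congrArg (fun v => ((Multiplicative.toAdd v : ↥(F.clsSub S hS)) : F.V)) h,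
        fun h => congrArg Multiplicative.ofAdd (Subtype.ext h)⟩
    rw [e1, cls_eq_zero F.ctx (hS a.2)]
    refine ⟨?_, fun h => ?_⟩
    · rintro (h | h) <;> rw [h]
      exacts [one_mem _, Subgroup.mem_zpowers _]
    · obtain ⟨k, hk⟩ := Subgroup.mem_zpowers_iff.1 h
      rw [← hk, ← zpow_mod_orderOf, orderOf_eq_prime (p := 2) (by rw [pow_two, F.ctx.sq_z]) F.ctx.ne_one]
      rcases Int.emod_two_eq k with h2 | h2 <;> norm_num [h2]
  rw [Subgroup.card_eq_card_quotient_mul_card_subgroup f.ker,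
    Nat.card_congr (QuotientGroup.quotientKerEquivOfSurjective f hsurj).toEquiv, hker,
    Nat.card_congr (Subgroup.subgroupOfEquivOfLe (Subgroup.zpowers_le.2 hz)).toEquiv, Nat.card_zpowers,
    orderOf_eq_prime (p := 2) (by rw [pow_two, F.ctx.sq_z]) F.ctx.ne_one, mul_comm]
  rfl

theorem mem_I_iff {a : A} : a ∈ I ↔ ∃ c ∈ F.C, F.img c = a := by
  refine Iff.trans (SetLike.ext_iff.1 F.imgC_range a).symm ?_
  exact ⟨fun ⟨⟨c, hc⟩, e⟩ => ⟨c, hc, e⟩, fun ⟨c, hc, e⟩ => ⟨⟨c, hc⟩, e⟩⟩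

/-- Linear elements commute with the scalar. -/
theorem act_p_comm {x : G} (hx : Commute x F.z) (hI : F.img x ∈ I) (v : F.V) :
    F.act x (F.act F.p v) = F.act F.p (F.act x v) := by
  obtain ⟨c, hc, hcx'⟩ := F.mem_I_iff.1 hI
  have hc' := F.mem_C.1 hc
  obtain ⟨e, he, i, h⟩ := (F.img_ker (c⁻¹ * x) (hc'.1.inv_left.mul_left hx)).1
    (by rw [F.img_mul _ _ hc'.1.inv_left hx, F.img_inv hc'.1, hcx', inv_mul_cancel])
  have hx' : x = c * (e * F.p ^ i) := by rw [← h, mul_inv_cancel_left]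
  have hez := F.comm_of_mem he
  have hpi := F.p_comm.pow_left i
  have key : ∀ w, F.act x w = F.act c (F.act (F.p ^ i) w) := fun w => by
    rw [hx', act_mul F.ctx hc'.1 (hez.mul_left hpi), act_mul F.ctx hez hpi, act_of_mem F.ctx he]
  rw [key, key, ← act_mul F.ctx hpi F.p_comm, ← pow_succ, pow_succ', act_mul F.ctx F.p_comm hpi,
    ← act_mul F.ctx hc'.1 F.p_comm, hc'.2.eq, act_mul F.ctx F.p_comm hc'.1]

/-- Semilinear elements invert the scalar. -/
theorem act_p_inv {x : G} (hx : Commute x F.z) (hI : F.img x ∉ I) (v : F.V) :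
    F.act x (F.act F.p v) = F.act F.p (F.act F.p (F.act x v)) := by
  obtain ⟨e, he, h⟩ := F.exists_normalizing hx
  have hez := F.comm_of_mem he
  rcases h with h | h
  · exfalso
    refine hI ?_
    have hm : F.img (e * x) ∈ I := F.mem_I_iff.2 ⟨e * x, F.mem_C.2 ⟨hez.mul_left hx, h⟩, rfl⟩
    rwa [F.img_mul _ _ hez hx, F.img_mem he, one_mul] at hm
  · have key : ∀ w, F.act (e * x) w = F.act x w := fun w => by
      rw [act_mul F.ctx hez hx, act_of_mem F.ctx he]
    have h' : e * x * F.p = F.p * F.p * (e * x) := by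
      rw [← pow_two, ← F.p_inv, ← h, inv_mul_cancel_right]
    rw [← key, ← key, ← act_mul F.ctx (hez.mul_left hx) F.p_comm, h',
      act_mul F.ctx (F.p_comm.mul_left F.p_comm) (hez.mul_left hx), act_mul F.ctx F.p_comm F.p_comm]

/-- Elements over an element of order dividing two of `I` can be chosen in `C` with square in `⟨z⟩`. -/
theorem exists_lift_two {a : A} (ha : a ∈ I) (h2 : a * a = 1) :
    ∃ c ∈ F.C, F.img c = a ∧ (c * c = 1 ∨ c * c = F.z) := by
  obtain ⟨c, hc, rfl⟩ := F.mem_I_iff.1 ha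
  have hc' := F.mem_C.1 hc
  rw [← F.img_mul _ _ hc'.1 hc'.1] at h2
  obtain ⟨i, hi⟩ := F.ker_commute (hc'.1.mul_left hc'.1) h2 (Or.inl (hc'.2.mul_left hc'.2))
  refine ⟨c * (c * c), mul_mem hc (mul_mem hc hc), ?_, ?_⟩
  · show F.img (c * (c * c)) = F.img c
    rw [F.img_mul _ _ hc'.1 (hc'.1.mul_left hc'.1), h2, mul_one]
  · have e : c * (c * c) * (c * (c * c)) = (c * c) ^ 3 := by
      simp only [pow_succ, pow_zero, one_mul, mul_assoc]
    rw [e]
    rcases hi with h | h <;> rw [h]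
    · left; rw [← pow_mul, mul_comm, pow_mul, F.p_cube, one_pow]
    · right
      rw [(F.p_comm.symm.pow_right i).mul_pow, ← pow_mul F.p, mul_comm i, pow_mul, F.p_cube, one_pow, mul_one,
        pow_succ, pow_two, F.ctx.sq_z, one_mul]

/-- Only elements of `E` act trivially. -/
theorem mem_E_of_act {x : G} (hx : Commute x F.z) (h : ∀ v, F.act x v = v) : x ∈ F.E :=
  (act_eq_one_iff F.ctx hx).1 h

theorem act_z_pow {c : G} (h : c = 1 ∨ c = F.z) (v : F.V) : F.act c v = v :=
  act_of_mem F.ctx (by rcases h with rfl | rfl; exacts [one_mem _, F.ctx.mem]) v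

/-- A linear involution acts as its lift in `C`. -/
theorem act_eq_lift {x c : G} (hx : Commute x F.z) (hc : c ∈ F.C) (himg : F.img c = F.img x)
    (hx2 : ∀ v, F.act x (F.act x v) = v) (hc2 : c * c = 1 ∨ c * c = F.z) :
    ∀ v, F.act c v = F.act x v := by
  have hc' := F.mem_C.1 hc
  obtain ⟨e, he, i, h⟩ := (F.img_ker (c⁻¹ * x) (hc'.1.inv_left.mul_left hx)).1
    (by rw [F.img_mul _ _ hc'.1.inv_left hx, F.img_inv hc'.1, himg, inv_mul_cancel])
  have hx' : x = c * (e * F.p ^ i) := by rw [← h, mul_inv_cancel_left]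
  have hez := F.comm_of_mem he
  have key : ∀ j : ℕ, ∀ w, F.act (c * (e * F.p ^ j)) w = F.act c (F.act (F.p ^ j) w) := fun j w => by
    rw [act_mul F.ctx hc'.1 (hez.mul_left (F.p_comm.pow_left j)), act_mul F.ctx hez (F.p_comm.pow_left j),
      act_of_mem F.ctx he]
  have hmod : F.p ^ i = F.p ^ (i % 3) := by rw [← F.p_ord, pow_mod_orderOf]
  have hsq : ∀ j, F.act (F.p ^ j) = F.act (F.p ^ j) → ∀ w,
      F.act c (F.act (F.p ^ j) (F.act c (F.act (F.p ^ j) w))) = F.act (F.p ^ (j + j)) w := fun j _ w => by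
    have hp := F.p_comm.pow_left j
    rw [← act_mul F.ctx hp hc'.1, ((hc'.2.symm).pow_left j).eq, act_mul F.ctx hc'.1 hp,
      ← act_mul F.ctx hc'.1 hc'.1, F.act_z_pow hc2, ← act_mul F.ctx hp hp, pow_add]
  have hi : i % 3 = 0 := by
    by_contra hne
    obtain ⟨w, hw⟩ : ∃ w : F.V, w ≠ 0 := by
      haveI : Nontrivial F.V := Finite.one_lt_card_iff_nontrivial.1 (by rw [F.card_V]; norm_num)
      exact exists_ne 0
    have h2 := hx2 w
    rw [hx', hmod, key, key, hsq _ rfl] at h2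
    have hnd : ¬ 3 ∣ i % 3 + i % 3 := by omega
    obtain ⟨v, hv⟩ := F.act_pow_bij _ hnd w
    refine hw ?_
    have hcomm : F.act (F.p ^ (i % 3 + i % 3)) v + v = w := by rw [add_comm]; exact hv
    have hinj : ∀ u : F.V, F.act (F.p ^ (i % 3 + i % 3)) u = u → u = 0 := by
      intro u hu
      rcases (show i % 3 = 1 ∨ i % 3 = 2 by omega) with e1 | e1 <;> rw [e1] at hu
      · refine F.act_p_eq ?_
        rw [show F.p ^ (1 + 1) = F.p * F.p by rw [pow_two], act_mul F.ctx F.p_comm F.p_comm] at hu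
        have := congrArg (F.act F.p) hu
        rw [F.act_p_three] at this
        exact this.symm
      · refine F.act_p_eq ?_
        rwa [show F.p ^ (2 + 2) = F.p by rw [pow_succ, F.p_cube, one_mul]] at hu
    exact hinj w h2
  intro v
  rw [hx', hmod, hi, key, pow_zero, act_one]

end Frame

end Cfsg.Lib.JankoFour
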