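import Cfsg.Agent.Lib.JankoFour.Eleven
import Cfsg.Agent.Lib.JankoFour.HexData

/-!
# The standard elementary abelian subgroup of order `2¹¹`

It is built from a lift of the hexad group and the space it fixes; it contains its centralizer and
controls the fusion of its elements.
-/

set_option autoImplicit false
set_option linter.style.haveILetI false
set_option linter.unusedSectionVars false

namespace Cfsg.Lib.JankoFour

open Cfsg Cfsg.Lib.Extra Module

variable {G : Type*} [Group G] [Finite G] {A : Type} [Group A] {I : Subgroup A}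

/-- The lift of the hexad group, its fixed space and a Sylow 3-subgroup over the group of order nine. -/
structure Std (F : Frame G A I) (D : HexData A I) where
  /-- The involutions over the hexad group. -/
  X : Subgroup G
  /-- Their fixed space. -/
  W : Submodule (ZMod 2) F.V
  /-- A Sylow 3-subgroup. -/
  R' : Sylow 3 ↥F.C
  hres : Cfsg.pResidual 2 G = ⊤
  six : Sixteen A I
  R'_img : ∀ r ∈ R', F.img (r : G) ∈ D.R
  mem_X : ∀ c, c ∈ X ↔ c ∈ F.C ∧ F.img c ∈ D.T ∧ c * c = 1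
  finrank_W : finrank (ZMod 2) ↥W = 6
  perp_W : F.perp W = W
  qf_W : ∀ w ∈ W, JankoFour.qf F.ctx w = 0
  mem_W : ∀ v, v ∈ W ↔ ∀ c ∈ X, F.act c v = v

theorem exists_std (F : Frame G A I) (D : HexData A I) (h6 : Sixteen A I) (hres : Cfsg.pResidual 2 G = ⊤) :
    Nonempty (Std F D) := by
  obtain ⟨X, W, R', h0, h1, h2, h3, h4, h5⟩ := F.hexad_of hres D.T_le D.R_le D.card_T D.T_sq D.card_R D.R_T
  exact ⟨⟨X, W, R', hres, h6, h0, h1, h2, h3, h4, h5⟩⟩

/-- Subgroups with trivial squares are commutative. -/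
theorem commute_of_sq {H : Type*} [Group H] {S : Subgroup H} (h : ∀ x ∈ S, x * x = 1) {x y : H} (hx : x ∈ S)
    (hy : y ∈ S) : Commute x y := by
  show x * y = y * x
  rw [← inv_eq_of_mul_eq_one_right (h _ (S.mul_mem hx hy)), mul_inv_rev, inv_eq_of_mul_eq_one_right (h x hx),
    inv_eq_of_mul_eq_one_right (h y hy)]

namespace Std

variable {F : Frame G A I} {D : HexData A I} (S : Std F D)

theorem X_C {c : G} (hc : c ∈ S.X) : c ∈ F.C := ((S.mem_X c).1 hc).1

theorem X_z {c : G} (hc : c ∈ S.X) : Commute c F.z := (F.mem_C.1 (S.X_C hc)).1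

theorem X_p {c : G} (hc : c ∈ S.X) : Commute c F.p := (F.mem_C.1 (S.X_C hc)).2

theorem X_sq {c : G} (hc : c ∈ S.X) : c * c = 1 := ((S.mem_X c).1 hc).2.2

theorem X_img {c : G} (hc : c ∈ S.X) : F.img c ∈ D.T := ((S.mem_X c).1 hc).2.1

theorem z_mem_X : F.z ∈ S.X :=
  (S.mem_X _).2 ⟨F.z_mem_C, by rw [F.img_mem F.ctx.mem]; exact one_mem _, F.ctx.sq_z⟩

theorem lift {a : A} (ha : a ∈ D.T) : ∃ c ∈ S.X, F.img c = a := by
  obtain ⟨c, hc, hci, hc2⟩ := F.exists_lift_two (D.T_le ha) (D.T_sq a ha)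
  exact ⟨c, (S.mem_X c).2 ⟨hc, hci.symm ▸ ha, F.sq_one S.hres hc hc2⟩, hci⟩

theorem lift_unique {c c' : G} (hc : c ∈ S.X) (hc' : c' ∈ S.X) (h : F.img c = F.img c') :
    c' = c ∨ c' = F.z * c := by
  have hcz := S.X_z hc
  have hki : F.img (c' * c⁻¹) = 1 := by
    rw [F.img_mul _ _ (S.X_z hc') hcz.inv_left, F.img_inv hcz, h, mul_inv_cancel]
  rcases F.ker_C_sq (F.C.mul_mem (S.X_C hc') (F.C.inv_mem (S.X_C hc))) hki
    (Or.inl (S.X_sq (S.X.mul_mem hc' (S.X.inv_mem hc)))) with e | e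
  · exact Or.inl (mul_inv_eq_one.1 e)
  · exact Or.inr (mul_inv_eq_iff_eq_mul.1 e)

/-- The elements of `E` over the fixed space. -/
noncomputable def K : Subgroup G := F.clsPre S.W

theorem mem_K {a : G} : a ∈ S.K ↔ a ∈ F.E ∧ F.cls a ∈ S.W := Iff.rfl

theorem z_mem_K : F.z ∈ S.K := ⟨F.ctx.mem, by rw [F.cls_z_zero]; exact zero_mem _⟩

theorem K_sq {a : G} (ha : a ∈ S.K) : a * a = 1 := (qf_cls F.ctx ha.1).1 (S.qf_W _ ha.2)

theorem K_comm_X {a c : G} (ha : a ∈ S.K) (hc : c ∈ S.X) : Commute c a :=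
  F.commute_of_fixed (S.X_C hc) ha.1 ((S.mem_W _).1 ha.2 c hc)

theorem card_K : Nat.card ↥S.K = 2 ^ 7 := by
  rw [show S.K = F.clsPre S.W from rfl, F.card_clsPre, S.finrank_W]

/-- The group of order `2¹¹`. -/
noncomputable def Vb : Subgroup G where
  carrier := {x | ∃ a ∈ S.K, ∃ c ∈ S.X, x = a * c}
  one_mem' := ⟨1, one_mem _, 1, one_mem _, (one_mul _).symm⟩
  mul_mem' := by
    rintro _ _ ⟨a, ha, c, hc, rfl⟩ ⟨b, hb, d, hd, rfl⟩
    exact ⟨a * b, mul_mem ha hb, c * d, mul_mem hc hd, by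
      rw [mul_assoc a c, ← mul_assoc c b, (S.K_comm_X hb hc).eq]; group⟩
  inv_mem' := by
    rintro _ ⟨a, ha, c, hc, rfl⟩
    exact ⟨a⁻¹, inv_mem ha, c⁻¹, inv_mem hc, by rw [mul_inv_rev, ((S.K_comm_X ha hc).inv_inv).eq]⟩

theorem mem_Vb {x : G} : x ∈ S.Vb ↔ ∃ a ∈ S.K, ∃ c ∈ S.X, x = a * c := Iff.rfl

theorem K_le : S.K ≤ S.Vb := fun a ha => ⟨a, ha, 1, one_mem _, (mul_one a).symm⟩

theorem X_le : S.X ≤ S.Vb := fun c hc => ⟨1, one_mem _, c, hc, (one_mul c).symm⟩

theorem z_mem : F.z ∈ S.Vb := S.K_le S.z_mem_K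

theorem Vb_z {x : G} (hx : x ∈ S.Vb) : Commute x F.z := by
  obtain ⟨a, ha, c, hc, rfl⟩ := hx
  exact (F.comm_of_mem ha.1).mul_left (S.X_z hc)

theorem Vb_sq {x : G} (hx : x ∈ S.Vb) : x * x = 1 := by
  obtain ⟨a, ha, c, hc, rfl⟩ := hx
  rw [mul_assoc, ← mul_assoc c a c, (S.K_comm_X ha hc).eq, mul_assoc a c c, S.X_sq hc, mul_one, S.K_sq ha]

theorem Vb_comm {x y : G} (hx : x ∈ S.Vb) (hy : y ∈ S.Vb) : Commute x y :=
  commute_of_sq (fun _ h => S.Vb_sq h) hx hy

theorem Vb_img {x : G} (hx : x ∈ S.Vb) : F.img x ∈ D.T := by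
  obtain ⟨a, ha, c, hc, rfl⟩ := hx
  rw [F.img_mul _ _ (F.comm_of_mem ha.1) (S.X_z hc), F.img_mem ha.1, one_mul]
  exact S.X_img hc

theorem Vb_inf_E : S.Vb ⊓ F.E = S.K := by
  refine le_antisymm ?_ fun a ha => ⟨S.K_le ha, ha.1⟩
  rintro _ ⟨⟨a, ha, c, hc, rfl⟩, hE⟩
  refine mul_mem ha ?_
  have hcE : c ∈ F.E := by
    have := F.E.mul_mem (F.E.inv_mem ha.1) hE
    rwa [inv_mul_cancel_left] at this
  rcases F.fixed c hcE (S.X_p hc) with rfl | rfl
  exacts [one_mem _, S.z_mem_K]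

theorem card_Vb : Nat.card ↥S.Vb = 2 ^ 11 := by
  let θ : ↥S.Vb →* A := MonoidHom.mk' (fun x => F.img x) fun x y => F.img_mul _ _ (S.Vb_z x.2) (S.Vb_z y.2)
  have hrange : θ.range = D.T := by
    refine le_antisymm ?_ fun a ha => ?_
    · rintro _ ⟨x, rfl⟩
      exact S.Vb_img x.2
    · obtain ⟨c, hc, hci⟩ := S.lift ha
      exact ⟨⟨c, S.X_le hc⟩, hci⟩
  have hker : θ.ker = S.K.subgroupOf S.Vb := by
    ext x
    show F.img (x : G) = 1 ↔ (x : G) ∈ S.K
    refine ⟨fun e => ?_, fun h => F.img_mem h.1⟩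
    rw [← S.Vb_inf_E]
    exact ⟨x.2, F.mem_E_of_two (S.Vb_z x.2) e (n := 1) (by rw [pow_one, pow_two, S.Vb_sq x.2])⟩
  rw [← θ.ker.index_mul_card, Subgroup.index_ker, hrange, D.card_T, hker,
    Nat.card_congr (Subgroup.subgroupOfEquivOfLe S.K_le).toEquiv, S.card_K]
  norm_num

theorem isEleven : F.IsEleven S.Vb := ⟨fun _ h => S.Vb_z h, fun _ h => S.Vb_sq h, S.card_Vb⟩

/-- Elements over the hexad group fix the space. -/
theorem fixes : F.Fixes D.T S.W := by
  intro x hx hxT hx2 w hw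
  obtain ⟨c, hc, hci⟩ := S.lift hxT
  rw [F.act_eq_of_img hx (S.X_z hc) (D.T_le hxT) hci.symm hx2 (by rw [S.X_sq hc]; exact one_mem _)]
  exact (S.mem_W w).1 hw c hc

/-- A group of order `2¹¹` over the hexad group is the standard one. -/
theorem eq_of_img {V : Subgroup G} (hV : F.IsEleven V) (hVT : ∀ x ∈ V, F.img x ∈ D.T) : V = S.Vb := by
  haveI : FiniteDimensional (ZMod 2) F.V := Module.Finite.of_finite
  haveI := F.finite_A
  obtain ⟨hVz, hV2, hVc⟩ := hV
  obtain ⟨T1, U, -, hT1c, -, hT1, hU6, -, hUfix, hVE⟩ := F.eleven_data hVz hV2 hVc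
  have hTT : T1 = D.T := Subgroup.eq_of_le_of_card_ge (fun a ha => by
    obtain ⟨x, hx, rfl⟩ := (hT1 a).1 ha
    exact hVT x hx) (by rw [hT1c, D.card_T])
  subst hTT
  have hUW : U = S.W := Submodule.eq_of_le_of_finrank_le (fun u hu => (S.mem_W u).2 fun c hc =>
    hUfix c (S.X_z hc) (S.X_img hc) (by rw [S.X_sq hc]; exact one_mem _) u hu)
    (by rw [hU6, S.finrank_W])
  subst hUW
  refine Subgroup.eq_of_le_of_card_ge (fun x hx => ?_) (by rw [S.card_Vb, hVc])
  obtain ⟨c, hc, hci⟩ := S.lift (hVT x hx)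
  have hxz := hVz x hx
  have hcz := S.X_z hc
  set e := c⁻¹ * x with he
  have heE : e ∈ F.E := F.mem_E_of_act (hcz.inv_left.mul_left hxz) fun v => by
    rw [act_mul F.ctx hcz.inv_left hxz, F.act_eq_of_img hxz hcz (D.T_le (hVT x hx)) hci.symm
      (by rw [hV2 x hx]; exact one_mem _) (by rw [S.X_sq hc]; exact one_mem _), act_inv_act F.ctx hcz]
  have heK : e ∈ S.K := by
    refine ⟨heE, ?_⟩
    rw [← S.perp_W]
    intro v hv
    obtain ⟨a, ha, rfl⟩ := cls_surj F.ctx v
    have haV : a ∈ V ⊓ F.E := hVE.ge ⟨ha, hv⟩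
    exact (B_cls F.ctx ha heE).2 ((S.K_comm_X ⟨ha, hv⟩ hc).inv_left.mul_left (commute_of_sq hV2 hx haV.1)).symm
  exact ⟨e, heK, c, hc, by rw [← (S.K_comm_X heK hc).eq, he, mul_inv_cancel_left]⟩

/-- Elements normalizing the hexad group normalize the standard subgroup. -/
theorem normalizes {x : G} (hx : Commute x F.z) (hn : ∀ a ∈ D.T, F.img x * a * (F.img x)⁻¹ ∈ D.T) :
    x ∈ Subgroup.normalizer (S.Vb : Set G) := by
  have e : S.Vb.map (MulAut.conj x).toMonoidHom = S.Vb := S.eq_of_img (F.isEleven_conj hx S.isEleven) (by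
    rintro _ ⟨y, hy, rfl⟩
    show F.img (x * y * x⁻¹) ∈ D.T
    rw [F.img_conj hx (S.Vb_z hy)]
    exact hn _ (S.Vb_img hy))
  refine Subgroup.mem_normalizer_iff.2 fun y => ⟨fun hy => e.le ⟨y, hy, rfl⟩, fun hy => ?_⟩
  obtain ⟨w, hw, hwy⟩ := e.ge hy
  rwa [← (MulAut.conj x).injective hwy]

theorem normalizer_img {x : G} (hx : Commute x F.z) (hn : x ∈ Subgroup.normalizer (S.Vb : Set G)) :
    ∀ a ∈ D.T, F.img x * a * (F.img x)⁻¹ ∈ D.T := by
  intro a ha
  obtain ⟨c, hc, rfl⟩ := S.lift ha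
  rw [← F.img_conj hx (S.X_z hc)]
  exact S.Vb_img ((Subgroup.mem_normalizer_iff.1 hn c).1 (S.X_le hc))

theorem E_normalizes {e : G} (he : e ∈ F.E) : e ∈ Subgroup.normalizer (S.Vb : Set G) :=
  S.normalizes (F.comm_of_mem he) fun a ha => by
    rw [F.img_mem he, one_mul, inv_one, mul_one]
    exact ha

theorem p_normalizes : F.p ∈ Subgroup.normalizer (S.Vb : Set G) :=
  S.normalizes F.p_comm fun a ha => by
    rw [F.img_p, one_mul, inv_one, mul_one]
    exact ha

/-- The space is invariant under the elements normalizing the hexad group. -/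
theorem W_invariant {x : G} (hx : Commute x F.z) (hn : ∀ a ∈ D.T, F.img x * a * (F.img x)⁻¹ ∈ D.T) {w : F.V}
    (hw : w ∈ S.W) : F.act x w ∈ S.W := by
  obtain ⟨a, ha, rfl⟩ := cls_surj F.ctx w
  have hmem : x * a * x⁻¹ ∈ S.Vb :=
    (Subgroup.mem_normalizer_iff.1 (S.normalizes hx hn) a).1 (S.K_le ⟨ha, hw⟩)
  have hK : x * a * x⁻¹ ∈ S.K := by
    rw [← S.Vb_inf_E]
    exact ⟨hmem, F.conj_mem hx ha⟩
  rw [act_cls F.ctx hx ha]
  exact hK.2

theorem p_W {w : F.V} (hw : w ∈ S.W) : F.act F.p w ∈ S.W := S.W_invariant F.p_comm (fun a ha => by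
  rw [F.img_p, one_mul, inv_one, mul_one]; exact ha) hw

theorem W_ne_bot : ∃ w ∈ S.W, w ≠ 0 := (Submodule.ne_bot_iff S.W).1 fun e => by
  have := S.finrank_W
  rw [e, finrank_bot] at this
  omega

theorem sq_fix {x : G} (hx : Commute x F.z) (hfix : ∀ w ∈ S.W, F.act x w = w) (v : F.V) :
    F.act x (F.act x v) = v := by
  have hd : F.act x v + v ∈ S.W := by
    rw [← S.perp_W]
    intro w hw
    show JankoFour.B F.ctx w (F.act x v + v) = 0
    rw [map_add]
    nth_rewrite 1 [← hfix w hw]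
    rw [B_act F.ctx hx, bit_self]
  have h := hfix _ hd
  rw [map_add] at h
  exact add_right_cancel (h.trans (add_comm _ _)) |>.trans rfl

/-- The standard subgroup contains its centralizer. -/
theorem centralizer_le : Subgroup.centralizer (S.Vb : Set G) ≤ S.Vb := by
  haveI : FiniteDimensional (ZMod 2) F.V := Module.Finite.of_finite
  haveI := F.finite_A
  intro x hx
  have hxc : ∀ y ∈ S.Vb, Commute x y := fun y hy => (Subgroup.mem_centralizer_iff.1 hx y hy).symm
  have hxz := hxc _ S.z_mem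
  have hfix : ∀ w ∈ S.W, F.act x w = w := fun w hw => by
    obtain ⟨a, ha, rfl⟩ := cls_surj F.ctx w
    exact F.act_fix hxz ha (hxc a (S.K_le ⟨ha, hw⟩))
  have hI : F.img x ∈ I := by
    by_contra hI
    obtain ⟨w, hw, hw0⟩ := S.W_ne_bot
    refine hw0 (act_injective F.ctx F.p_comm ?_)
    have h := F.act_p_inv hxz hI w
    rw [hfix _ (S.p_W hw), hfix w hw] at h
    rw [map_zero]
    exact F.act_p_eq h.symm
  have hsq : x * x ∈ F.E := F.mem_E_of_act (hxz.mul_left hxz) fun v => by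
    rw [act_mul F.ctx hxz hxz]; exact S.sq_fix hxz hfix v
  set a := F.img x
  have ha2 : a * a = 1 := by rw [← F.img_mul _ _ hxz hxz, F.img_mem hsq]
  have hac : ∀ t ∈ D.T, Commute a t := fun t ht => by
    obtain ⟨c, hc, rfl⟩ := S.lift ht
    show F.img x * F.img c = F.img c * F.img x
    rw [← F.img_mul _ _ hxz (S.X_z hc), (hxc c (S.X_le hc)).eq, F.img_mul _ _ (S.X_z hc) hxz]
  have hTc : ∀ t ∈ D.T, ∀ u ∈ D.T, Commute t u := fun t ht u hu => commute_of_sq D.T_sq ht hu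
  have haT : a ∈ D.T := by
    let T2 : Subgroup A :=
      { carrier := {b | b ∈ D.T ∨ a * b ∈ D.T}
        one_mem' := Or.inl (one_mem _)
        mul_mem' := by
          rintro b c (hb | hb) (hc | hc)
          · exact Or.inl (mul_mem hb hc)
          · exact Or.inr (by rw [← mul_assoc, (hac b hb).eq, mul_assoc]; exact mul_mem hb hc)
          · exact Or.inr (by rw [← mul_assoc]; exact mul_mem hb hc)
          · refine Or.inl ?_
            have e : a * b * (a * c) = b * c := by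
              have hba : Commute a b := by
                have h := (Commute.refl a).mul_right (hac _ hb)
                rwa [← mul_assoc, ha2, one_mul] at h
              rw [hba.eq, mul_assoc, ← mul_assoc a a, ha2, one_mul]
            rw [← e]
            exact mul_mem hb hc
        inv_mem' := by
          rintro b (hb | hb)
          · exact Or.inl (inv_mem hb)
          · refine Or.inr ?_
            have hba : Commute a b := by
              have h := (Commute.refl a).mul_right (hac _ hb)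
              rwa [← mul_assoc, ha2, one_mul] at h
            have h := inv_mem hb
            rwa [mul_inv_rev, inv_eq_of_mul_eq_one_right ha2, ← hba.inv_right.eq] at h }
    have hT2c : ∀ b ∈ T2, Commute a b := by
      rintro b (hb | hb)
      · exact hac b hb
      · have h := (Commute.refl a).mul_right (hac _ hb)
        rwa [← mul_assoc, ha2, one_mul] at h
    have hT2s : ∀ b ∈ T2, b * b = 1 := by
      rintro b (hb | hb)
      · exact D.T_sq b hb
      · have h := D.T_sq _ hb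
        rw [mul_assoc, ← mul_assoc b a b, ← (hT2c b (Or.inr hb)).eq, mul_assoc a b b, ← mul_assoc, ha2,
          one_mul] at h
        exact h
    have hle : T2 ≤ I := by
      rintro b (hb | hb)
      · exact D.T_le hb
      · have := mul_mem (inv_mem hI) (D.T_le hb)
        rwa [inv_mul_cancel_left] at this
    have h16 := F.facts.elem T2 hle hT2s fun b hb c hc => commute_of_sq hT2s hb hc
    have e : D.T = T2 := Subgroup.eq_of_le_of_card_ge (fun b hb => Or.inl hb) (by rw [D.card_T]; exact h16)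
    rw [e]
    exact Or.inr (by rw [ha2]; exact one_mem _)
  obtain ⟨c, hc, hci⟩ := S.lift haT
  have hcz := S.X_z hc
  set e := c⁻¹ * x with he
  have heE : e ∈ F.E := F.mem_E_of_act (hcz.inv_left.mul_left hxz) fun v => by
    rw [act_mul F.ctx hcz.inv_left hxz, F.act_eq_of_img hxz hcz (D.T_le haT) hci.symm hsq
      (by rw [S.X_sq hc]; exact one_mem _), act_inv_act F.ctx hcz]
  have heK : e ∈ S.K := by
    refine ⟨heE, ?_⟩
    rw [← S.perp_W]
    intro v hv
    obtain ⟨b, hb, rfl⟩ := cls_surj F.ctx v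
    exact (B_cls F.ctx hb heE).2 ((S.K_comm_X ⟨hb, hv⟩ hc).inv_left.mul_left (hxc b (S.K_le ⟨hb, hv⟩))).symm
  exact ⟨e, heK, c, hc, by rw [← (S.K_comm_X heK hc).eq, he, mul_inv_cancel_left]⟩

end Std

end Cfsg.Lib.JankoFour
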