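import Cfsg.Agent.Lib.JankoFour.Perfect
import Cfsg.Agent.Lib.FusionSys.PlaneAction
import Cfsg.Agent.Lib.PGroup.Basic

/-!
# The Sylow 3-subgroups, their normalizers, and the class of elements of order three
-/

set_option autoImplicit false
set_option linter.style.haveILetI false
set_option linter.unusedSectionVars false

namespace Cfsg.Lib.JankoFour

open Cfsg Cfsg.Lib.Extra Module

section

open Subgroup
open scoped commutatorElement

/-- A nonabelian group of order `p ^ 3` is extraspecial. -/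
theorem isExtraspecial_of_cube {W : Type*} [Group W] [Finite W] {p : ℕ} [hp : Fact p.Prime]
    (hc : Nat.card W = p ^ 3) (hna : ¬ IsMulCommutative W) : Cfsg.IsExtraspecial p W := by
  classical
  obtain ⟨hZ, hQ, hcomm⟩ := Cfsg.Lib.FusionSys.Plane.cube_center hc hna
  have hG : IsPGroup p W := IsPGroup.of_card hc
  obtain ⟨a, b, hab⟩ : ∃ a b : W, a * b ≠ b * a := by
    by_contra h
    push Not at h
    exact hna ⟨⟨h⟩⟩
  have hcm : commutator W = center W := by
    refine le_antisymm ?_ ?_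
    · rw [commutator_def, commutator_le]
      exact fun u _ v _ => hcomm u v
    · have h1 : ⁅a, b⁆ ∈ commutator W := commutator_mem_commutator (mem_top a) (mem_top b)
      have hz : zpowers ⁅a, b⁆ = center W := by
        refine eq_of_le_of_card_ge (zpowers_le.2 (hcomm a b)) ?_
        rw [hZ, Nat.card_zpowers]
        have hd : orderOf ⁅a, b⁆ ∣ p := by
          rw [← hZ, ← Subgroup.orderOf_mk _ (hcomm a b)]; exact orderOf_dvd_natCard _
        rcases (Nat.dvd_prime hp.out).1 hd with e | e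
        · exact absurd (commutatorElement_eq_one_iff_mul_comm.1 (orderOf_eq_one_iff.1 e)) hab
        · exact e.ge
      rw [← hz]; exact zpowers_le.2 h1
  refine ⟨⟨hG, ?_, hcm⟩, hZ⟩
  rw [Cfsg.Lib.PGroup.frattini_eq_sup hG, ← hcm, sup_eq_left, closure_le, hcm]
  rintro _ ⟨g, rfl⟩
  show g ^ p ∈ center W
  by_contra hgp
  -- otherwise the central quotient would be cyclic
  let q := QuotientGroup.mk' (center W) g
  have hd : orderOf q ∣ p ^ 2 := hQ ▸ orderOf_dvd_natCard q
  obtain ⟨i, hi, hi'⟩ := (Nat.dvd_prime_pow hp.out).1 hd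
  have hi2 : i = 2 := by
    by_contra h2
    refine hgp ((QuotientGroup.eq_one_iff (g ^ p)).1 ?_)
    show QuotientGroup.mk' (center W) (g ^ p) = 1
    rw [map_pow, ← orderOf_dvd_iff_pow_eq_one, hi']
    calc p ^ i ∣ p ^ 1 := pow_dvd_pow p (by omega)
      _ = p := pow_one p
  have htop : zpowers q = ⊤ := eq_top_of_le_card _ (by rw [Nat.card_zpowers, hi', hi2, hQ])
  have hgC : ∀ w : W, Commute w g := fun w => by
    obtain ⟨j, hj⟩ := mem_zpowers_iff.1 (htop ▸ mem_top (QuotientGroup.mk' (center W) w) : _ ∈ zpowers q)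
    have h1 : (g ^ j)⁻¹ * w ∈ center W := (QuotientGroup.eq).1 (by
      show QuotientGroup.mk' (center W) (g ^ j) = QuotientGroup.mk' (center W) w
      rw [map_zpow]; exact hj)
    have h2 : Commute ((g ^ j)⁻¹ * w) g := (mem_center_iff.1 h1 g).symm
    have := ((Commute.refl g).zpow_left j).mul_left h2
    rwa [mul_inv_cancel_left] at this
  exact hgp (pow_mem (mem_center_iff.2 fun w => (hgC w).eq) p)

end

namespace Frame

variable {G : Type*} [Group G] [Finite G] {A : Type} [Group A] {I : Subgroup A} (F : Frame G A I)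

/-- The normalizer of `⟨p⟩` centralizes `z`. -/
theorem commute_z_of_normalize (hres : Cfsg.pResidual 2 G = ⊤) {k : G}
    (hk : k * F.p * k⁻¹ = F.p ∨ k * F.p * k⁻¹ = F.p⁻¹) : Commute k F.z := by
  have hc : Commute (k * F.z * k⁻¹) F.p := by
    have h1 : Commute (k * F.z * k⁻¹) (k * F.p * k⁻¹) := (F.p_comm.symm.map (MulAut.conj k).toMonoidHom :)
    rcases hk with h | h <;> rw [h] at h1
    exacts [h1, inv_inv F.p ▸ h1.inv_right]
  exact mul_inv_eq_iff_eq_mul.1 (F.eq_of_normalize hk (F.commute_z_of_commute_p hres hc))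

theorem pow_eq_or {x : G} (h : x ∈ Subgroup.zpowers F.p) (h1 : x ≠ 1) : x = F.p ∨ x = F.p⁻¹ := by
  obtain ⟨i, rfl⟩ := F.zpowers_eq_pow h
  have hmod : F.p ^ i = F.p ^ (i % 3) := by rw [← F.p_ord, pow_mod_orderOf]
  rw [hmod] at h1 ⊢
  rcases (show i % 3 = 0 ∨ i % 3 = 1 ∨ i % 3 = 2 by omega) with e | e | e <;> rw [e] at h1 ⊢
  · exact absurd (pow_zero _) h1
  · exact Or.inl (pow_one _)
  · exact Or.inr F.p_inv.symm

theorem sylow_cube (R : Sylow 3 ↥F.C) {r : ↥F.C} (hr : r ∈ R) : (r : G) ^ 3 = 1 := by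
  haveI := F.finite_A
  have hi : F.img (r : G) ^ 3 = 1 :=
    (F.facts.sylow_three _ (F.card_sylow_map R)).2.1 (F.imgC r) ⟨r, hr, rfl⟩
  have h27 : (r : G) ^ 27 = 1 := by
    have h := pow_card_eq_one' (x := (⟨r, hr⟩ : ↥(R : Subgroup ↥F.C)))
    rw [show Nat.card ↥(R : Subgroup ↥F.C) = 27 from F.card_sylow R] at h
    exact congrArg (fun a : ↥(R : Subgroup ↥F.C) => ((a : ↥F.C) : G)) h
  have hrz := (F.mem_C.1 r.2).1
  obtain ⟨i, e | e⟩ := F.ker_C (F.C.pow_mem r.2 3) (by rw [F.img_pow hrz, hi])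
  · by_cases hne : F.img (r : G) = 1
    · obtain ⟨j, e' | e'⟩ := F.ker_C r.2 hne
      · rw [e', F.p_pow_six]
      · exfalso
        rw [e', (F.p_comm.symm.pow_right j).mul_pow, ← pow_mul F.p, show j * 27 = 3 * (j * 9) by ring,
          pow_mul F.p, F.p_cube, one_pow, mul_one, show F.z ^ 27 = (F.z * F.z) ^ 13 * F.z by
          rw [← pow_two, ← pow_mul, ← pow_succ], F.ctx.sq_z, one_pow, one_mul] at h27
        exact F.ctx.ne_one h27
    · exact F.cube_eq_one r.2 hne e
  · exfalso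
    rw [show (27 : ℕ) = 3 * 9 from rfl, pow_mul, e, (F.p_comm.symm.pow_right i).mul_pow, ← pow_mul F.p,
      show i * 9 = 3 * (i * 3) by ring, pow_mul F.p, F.p_cube, one_pow, mul_one, show F.z ^ 9 = (F.z * F.z) ^ 4 * F.z by
      rw [← pow_two, ← pow_mul, ← pow_succ], F.ctx.sq_z, one_pow, one_mul] at h27
    exact F.ctx.ne_one h27

/-- The Sylow 3-subgroup as a subgroup of `G`. -/
noncomputable def sub (R : Sylow 3 ↥F.C) : Subgroup G := (R : Subgroup ↥F.C).map F.C.subtype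

theorem card_sub_sylow (R : Sylow 3 ↥F.C) : Nat.card ↥(F.sub R) = 27 := by
  rw [sub, Subgroup.card_map_of_injective F.C.subtype_injective]
  exact F.card_sylow R

theorem normalizer_sub (hres : Cfsg.pResidual 2 G = ⊤) (R : Sylow 3 ↥F.C) {k : G}
    (hk : k ∈ Subgroup.normalizer (F.sub R : Set G)) :
    (k * F.p * k⁻¹ = F.p ∨ k * F.p * k⁻¹ = F.p⁻¹) ∧ Commute k F.z := by
  have hpS : F.p ∈ F.sub R := ⟨⟨F.p, F.p_mem_C⟩, F.p_mem_sylow R, rfl⟩
  obtain ⟨y, hy, hye⟩ := (Subgroup.mem_normalizer_iff.1 hk F.p).1 hpS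
  have hye' : (y : G) = k * F.p * k⁻¹ := hye
  have hcen : ∀ r ∈ R, Commute r y := fun r hr => by
    obtain ⟨r', hr', e⟩ : ∃ r' ∈ (R : Subgroup ↥F.C), (r' : G) = k⁻¹ * r * k := by
      have := (Subgroup.mem_normalizer_iff.1 (inv_mem hk) r).1 ⟨r, hr, rfl⟩
      rw [inv_inv] at this
      exact this
    refine Subtype.ext ?_
    show (r : G) * (y : G) = (y : G) * (r : G)
    rw [hye', show (r : G) = k * (k⁻¹ * r * k) * k⁻¹ by group, ← e]
    exact ((F.mem_C.1 r'.2).2.map (MulAut.conj k).toMonoidHom).eq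
  have hyi : F.img (y : G) = 1 := by
    by_contra hne
    obtain ⟨r, hr, h⟩ := F.exists_not_commute R hy hne
    exact h (hcen r hr)
  obtain ⟨i, hi⟩ := F.ker_C_cube y.2 hyi (F.sylow_cube R hy)
  have h := F.pow_eq_or (x := k * F.p * k⁻¹) (by rw [← hye', hi]; exact pow_mem (Subgroup.mem_zpowers _) i)
    (fun h1 => F.not_mem_p (by rw [conj_eq_one_iff.1 h1]; exact one_mem _))
  exact ⟨h, F.commute_z_of_normalize hres h⟩

theorem card_normalizer_sub (hres : Cfsg.pResidual 2 G = ⊤) (R : Sylow 3 ↥F.C) :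
    Nat.card ↥(Subgroup.normalizer (F.sub R : Set G)) = 864 := by
  haveI := F.finite_A
  haveI : Fact (Nat.Prime 3) := ⟨Nat.prime_three⟩
  set N := Subgroup.normalizer (F.sub R : Set G)
  set Rb := (R : Subgroup ↥F.C).map F.imgC with hRb
  have hNz : ∀ {k}, k ∈ N → Commute k F.z := fun hk => (F.normalizer_sub hres R hk).2
  let θ : ↥N →* A :=
    { toFun := fun g => F.img g
      map_one' := F.img_one
      map_mul' := fun a b => F.img_mul _ _ (hNz a.2) (hNz b.2) }
  have hCS : ∀ {s}, s ∈ F.sub R → s ∈ F.C := fun {s} hs => Subgroup.map_subtype_le _ hs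
  have hker : θ.ker.map N.subtype = F.imgC.ker.map F.C.subtype := by
    refine le_antisymm ?_ ?_
    · rintro _ ⟨g, hg, rfl⟩
      have hgi : F.img (g : G) = 1 := hg
      obtain ⟨hn, hgz⟩ := F.normalizer_sub hres R g.2
      have hgp : Commute (g : G) F.p := F.commute_p_of_mem_I hgz (by rw [hgi]; exact one_mem _)
        (hn.imp (fun h => mul_inv_eq_iff_eq_mul.1 h) id)
      exact ⟨⟨g, F.mem_C.2 ⟨hgz, hgp⟩⟩, hgi, rfl⟩
    · rintro _ ⟨c, hc, rfl⟩
      have hcN : (c : G) ∈ N := Subgroup.centralizer_le_normalizer _ (Subgroup.mem_centralizer_iff.2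
        fun s hs => (F.ker_C_comm c.2 hc (hCS hs)).eq.symm)
      exact ⟨⟨c, hcN⟩, hc, rfl⟩
  have hrange : θ.range = Subgroup.normalizer (Rb : Set A) := by
    refine le_antisymm ?_ fun a ha => ?_
    · rintro _ ⟨g, rfl⟩
      refine Subgroup.mem_normalizer_iff.2 fun a => ?_
      have key : ∀ g ∈ N, ∀ a ∈ Rb, F.img g * a * (F.img g)⁻¹ ∈ Rb := by
        rintro g hg _ ⟨r, hr, rfl⟩
        obtain ⟨r', hr', e⟩ := (Subgroup.mem_normalizer_iff.1 hg r).1 ⟨r, hr, rfl⟩
        refine ⟨r', hr', ?_⟩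
        show F.img (r' : G) = F.img g * F.img r * (F.img g)⁻¹
        rw [← F.img_conj (hNz hg) (F.mem_C.1 r.2).1]
        exact congrArg F.img e
      refine ⟨key g g.2 a, fun h => ?_⟩
      have := key (g : G)⁻¹ (inv_mem g.2) _ h
      rwa [F.img_inv (hNz g.2), show (F.img (g : G))⁻¹ * (θ g * a * (θ g)⁻¹) * ((F.img (g : G))⁻¹)⁻¹ = a by
        show (F.img (g : G))⁻¹ * (F.img (g : G) * a * (F.img (g : G))⁻¹) * ((F.img (g : G))⁻¹)⁻¹ = a
        group] at this
    · obtain ⟨g0, hg0, rfl⟩ := F.img_surj a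
      obtain ⟨e, he, hn⟩ := F.exists_normalizing hg0
      set g := e * g0
      have hgz : Commute g F.z := (F.comm_of_mem he).mul_left hg0
      have hgi : F.img g = F.img g0 := by rw [F.img_mul _ _ (F.comm_of_mem he) hg0, F.img_mem he, one_mul]
      have hgC : ∀ c ∈ F.C, g * c * g⁻¹ ∈ F.C := fun c hc => by
        obtain ⟨hcz, hcp⟩ := F.mem_C.1 hc
        refine F.mem_C.2 ⟨(hgz.mul_left hcz).mul_left hgz.inv_left, ?_⟩
        rcases hn with h | h
        · exact (h.mul_left hcp).mul_left h.inv_left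
        · have h1 : Commute (g * c * g⁻¹) (g * F.p * g⁻¹) := (hcp.map (MulAut.conj g).toMonoidHom :)
          rw [h] at h1
          exact inv_inv F.p ▸ h1.inv_right
      have hle : (F.sub R).map (MulAut.conj g).toMonoidHom ≤ F.sub R := by
        rintro _ ⟨_, ⟨r, hr, rfl⟩, rfl⟩
        show g * (r : G) * g⁻¹ ∈ F.sub R
        have hgr := hgC r r.2
        obtain ⟨r', hr', hre⟩ := (Subgroup.mem_normalizer_iff.1 ha (F.img (r : G))).1 ⟨r, hr, rfl⟩
        have hre' : F.img (r' : G) = F.img g0 * F.img (r : G) * (F.img g0)⁻¹ := hre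
        set k := (r' : G)⁻¹ * (g * r * g⁻¹) with hk
        have hkC : k ∈ F.C := F.C.mul_mem (F.C.inv_mem r'.2) hgr
        have hki : F.img k = 1 := by
          rw [hk, F.img_mul _ _ (F.mem_C.1 r'.2).1.inv_left (F.mem_C.1 hgr).1, F.img_inv (F.mem_C.1 r'.2).1,
            F.img_conj hgz (F.mem_C.1 r.2).1, hgi, hre', inv_mul_cancel]
        have e1 : g * r * g⁻¹ = (r' : G) * k := by rw [hk, mul_inv_cancel_left]
        have hk3 : k ^ 3 = 1 := by
          have e2 := congrArg (· ^ 3) e1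
          simp only [conj_pow, F.sylow_cube R hr, mul_one, mul_inv_cancel,
            (F.ker_C_comm hkC hki r'.2).symm.mul_pow, F.sylow_cube R hr', one_mul] at e2
          exact e2.symm
        obtain ⟨i, hi⟩ := F.ker_C_cube hkC hki hk3
        rw [e1, hi]
        exact (F.sub R).mul_mem ⟨r', hr', rfl⟩ ((F.sub R).pow_mem ⟨⟨F.p, F.p_mem_C⟩, F.p_mem_sylow R, rfl⟩ i)
      have heq := Subgroup.eq_of_le_of_card_ge hle
        (by rw [Subgroup.card_map_of_injective (MulAut.conj g).injective])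
      refine ⟨⟨g, Subgroup.mem_normalizer_iff.2 fun s => ?_⟩, hgi⟩
      constructor
      · exact fun hs => hle ⟨s, hs, rfl⟩
      · intro hs
        rw [← heq] at hs
        obtain ⟨s', hs', e'⟩ := hs
        rwa [← (MulAut.conj g).injective e']
  have h := θ.ker.index_mul_card
  rw [Subgroup.index_ker, hrange, (F.facts.sylow_three _ (F.card_sylow_map R)).2.2,
    ← Subgroup.card_map_of_injective N.subtype_injective, hker,
    Subgroup.card_map_of_injective F.C.subtype_injective, F.card_ker_imgC] at h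
  exact h.symm

theorem exists_sylow_G (hres : Cfsg.pResidual 2 G = ⊤) (R : Sylow 3 ↥F.C) :
    ∃ S : Sylow 3 G, (S : Subgroup G) = F.sub R := by
  haveI : Fact (Nat.Prime 3) := ⟨Nat.prime_three⟩
  have hcard : Nat.card ↥(F.sub R) = 3 ^ 3 := by rw [F.card_sub_sylow]; norm_num
  obtain ⟨S, hS⟩ := (IsPGroup.of_card hcard).exists_le_sylow
  refine ⟨S, (Subgroup.eq_of_le_of_card_ge hS ?_).symm⟩
  obtain ⟨n, hn⟩ := IsPGroup.iff_card.1 S.isPGroup'
  have hn' : Nat.card ↥(S : Subgroup G) = 3 ^ n := hn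
  rw [hcard, hn']
  refine Nat.pow_le_pow_right (by norm_num) ?_
  by_contra h
  have hd : 3 ^ (3 + 1) ∣ Nat.card G :=
    ((pow_dvd_pow 3 (by omega : 3 + 1 ≤ n)).trans (hn' ▸ dvd_rfl)).trans (S : Subgroup G).card_subgroup_dvd_card
  obtain ⟨K, hK, hle⟩ := Sylow.exists_subgroup_card_pow_succ hd hcard
  have hKp : IsPGroup 3 ↥K := IsPGroup.of_card hK
  haveI : Group.IsNilpotent ↥K := hKp.isNilpotent
  have hlt : (F.sub R).subgroupOf K < ⊤ := by
    refine lt_top_iff_ne_top.2 fun e => ?_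
    have := Subgroup.card_le_of_le (Subgroup.subgroupOf_eq_top.1 e)
    rw [hK, hcard] at this
    norm_num at this
  have hnc := Group.normalizerCondition_of_isNilpotent (G := ↥K) _ hlt
  set W := Subgroup.normalizer ((F.sub R).subgroupOf K : Set ↥K)
  have hW : W.map K.subtype ≤ Subgroup.normalizer (F.sub R : Set G) := by
    rintro _ ⟨w, hw, rfl⟩
    refine Subgroup.mem_normalizer_iff.2 fun s => ?_
    constructor
    · intro hs
      exact (Subgroup.mem_normalizer_iff.1 hw ⟨s, hle hs⟩).1 hs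
    · intro hs
      have hsK : s ∈ K := by
        have h1 : (w : G)⁻¹ * ((w : G) * s * (w : G)⁻¹) * w ∈ K := K.mul_mem (K.mul_mem (K.inv_mem w.2) (hle hs)) w.2
        rwa [show (w : G)⁻¹ * ((w : G) * s * (w : G)⁻¹) * w = s by group] at h1
      exact (Subgroup.mem_normalizer_iff.1 hw ⟨s, hsK⟩).2 hs
  have h1 := Subgroup.card_dvd_of_le hW
  rw [F.card_normalizer_sub hres R, Subgroup.card_map_of_injective K.subtype_injective] at h1
  obtain ⟨m, hm, he⟩ := (Nat.dvd_prime_pow Nat.prime_three).1 (hK ▸ W.card_subgroup_dvd_card)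
  have h27 : Nat.card ↥((F.sub R).subgroupOf K) = 27 := by
    rw [Nat.card_congr (Subgroup.subgroupOfEquivOfLe hle).toEquiv, F.card_sub_sylow]
  have hlt' : 27 < Nat.card ↥W := by
    by_contra h2
    exact hnc.ne (Subgroup.eq_of_le_of_card_ge hnc.le (by omega))
  rw [he] at h1 hlt'
  interval_cases m <;> omega

/-- All elements of order three are conjugate to `p`. -/
theorem isConj_p (hres : Cfsg.pResidual 2 G = ⊤) {y : G} (hy : orderOf y = 3) : IsConj F.p y := by
  haveI : Fact (Nat.Prime 3) := ⟨Nat.prime_three⟩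
  haveI := F.finite_A
  obtain ⟨R⟩ := (inferInstance : Nonempty (Sylow 3 ↥F.C))
  obtain ⟨S, hS⟩ := F.exists_sylow_G hres R
  obtain ⟨t, ht, hne, m, hm⟩ := F.exists_conj_C hres
  obtain ⟨k, hk, hXC, hX1⟩ := F.exists_other ht hne hm
  set X := k⁻¹ * F.p * k with hXdef
  have hXp : IsConj F.p X := isConj_iff.2 ⟨k⁻¹, by rw [inv_inv]⟩
  have hXC' : X ∈ F.C := F.mem_C.2
    ⟨commute_conj.2 ((F.conj k).mem_C.1 hXC).1, commute_conj.2 ((F.conj k).mem_C.1 hXC).2⟩
  have hXne : F.img X ≠ 1 := hX1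
  have hX3 : X ^ 3 = 1 := by
    rw [hXdef, show k⁻¹ * F.p * k = k⁻¹ * F.p * (k⁻¹)⁻¹ by rw [inv_inv], conj_pow, F.p_cube]; simp
  obtain ⟨s, hs⟩ := (IsPGroup.of_card (n := 1) (by rw [Nat.card_zpowers, hy, pow_one]) :
    IsPGroup 3 ↥(Subgroup.zpowers y)).exists_le_sylow
  obtain ⟨g, hg⟩ := MulAction.exists_smul_eq G s S
  have hyS : g * y * g⁻¹ ∈ F.sub R := by
    rw [← hS, ← hg, Sylow.coe_subgroup_smul]
    exact Subgroup.mem_pointwise_smul_iff_inv_smul_mem.2 (by
      show (MulAut.conj g)⁻¹ • (g * y * g⁻¹) ∈ (s : Subgroup G)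
      rw [MulAut.smul_def, ← map_inv, MulAut.conj_apply,
        show g⁻¹ * (g * y * g⁻¹) * g⁻¹⁻¹ = y by group]
      exact hs (Subgroup.mem_zpowers y))
  have hy' : IsConj y (g * y * g⁻¹) := isConj_iff.2 ⟨g, rfl⟩
  refine IsConj.trans ?_ hy'.symm
  obtain ⟨r, hr, hre⟩ := hyS
  have hr3 := F.sylow_cube R hr
  have hre' : (r : G) = g * y * g⁻¹ := hre
  rw [← hre']
  by_cases hri : F.img (r : G) = 1
  · obtain ⟨i, hi⟩ := F.ker_C_cube r.2 hri hr3
    have hr1 : (r : G) ≠ 1 := fun h => by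
      rw [hre', conj_eq_one_iff] at h
      rw [h, orderOf_one] at hy
      omega
    rcases F.pow_eq_or (x := (r : G)) (hi ▸ pow_mem (Subgroup.mem_zpowers _) i) hr1 with e | e <;> rw [e]
    obtain ⟨s', -, hs'⟩ := F.inverter
    exact isConj_iff.2 ⟨s', hs'⟩
  · refine hXp.trans ?_
    have hrz := (F.mem_C.1 r.2).1
    have hXz := (F.mem_C.1 hXC').1
    have o1 : orderOf (F.img X) = 3 := orderOf_eq_prime (by rw [← F.img_pow hXz, hX3, F.img_one]) hXne
    have o2 : orderOf (F.img (r : G)) = 3 := orderOf_eq_prime (by rw [← F.img_pow hrz, hr3, F.img_one]) hri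
    obtain ⟨a, ha, hae⟩ := F.facts.three_conj _ _ o1 o2
    obtain ⟨c, hc, rfl⟩ := F.mem_I_iff.1 ha
    have hcz := (F.mem_C.1 hc).1
    set q := (r : G)⁻¹ * (c * X * c⁻¹) with hq
    have hcX : c * X * c⁻¹ ∈ F.C := F.C.mul_mem (F.C.mul_mem hc hXC') (F.C.inv_mem hc)
    have hqC : q ∈ F.C := F.C.mul_mem (F.C.inv_mem r.2) hcX
    have hqi : F.img q = 1 := by
      rw [hq, F.img_mul _ _ hrz.inv_left (F.mem_C.1 hcX).1, F.img_inv hrz, F.img_conj hcz hXz, hae, inv_mul_cancel]
    have e1 : c * X * c⁻¹ = (r : G) * q := by rw [hq, mul_inv_cancel_left]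
    obtain ⟨i, hi⟩ := F.ker_C_cube hqC hqi (by
      have e2 := congrArg (· ^ 3) e1
      simp only [conj_pow, hX3, mul_one, mul_inv_cancel, (F.ker_C_comm hqC hqi r.2).symm.mul_pow, hr3, one_mul] at e2
      exact e2.symm)
    obtain ⟨d, hd, hdr⟩ := F.exists_shift r.2 hr3 hri
    have hdp := (F.mem_C.1 hd).2
    have hshift : ∀ n : ℕ, IsConj (r : G) ((r : G) * F.p ^ n) := by
      intro n
      induction n with
      | zero => rw [pow_zero, mul_one]
      | succ n ih =>
        refine ih.trans (isConj_iff.2 ⟨d, ?_⟩)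
        rw [show d * ((r : G) * F.p ^ n) * d⁻¹ = d * (r : G) * d⁻¹ * (d * F.p ^ n * d⁻¹) by group, hdr,
          (hdp.pow_right n).eq, mul_inv_cancel_right, mul_assoc, ← pow_succ']
    refine IsConj.trans (isConj_iff.2 ⟨c, e1⟩) ?_
    rw [hi]
    exact (hshift i).symm

end Frame

end Cfsg.Lib.JankoFour
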