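import Cfsg.Agent.Lib.JankoFour.Rank
import Mathlib.GroupTheory.Transfer
import Mathlib.GroupTheory.SpecificGroups.Cyclic

/-!
# Elements of order three in `C(z) ∩ C(p)`
-/

set_option autoImplicit false
set_option linter.style.haveILetI false
set_option linter.unusedSectionVars false

namespace Cfsg.Lib.JankoFour

open Cfsg Cfsg.Lib.Extra Module

namespace Frame

variable {G : Type*} [Group G] [Finite G] {A : Type} [Group A] {I : Subgroup A} (F : Frame G A I)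

theorem img_pow {g : G} (hg : Commute g F.z) (n : ℕ) : F.img (g ^ n) = F.img g ^ n := by
  induction n with
  | zero => rw [pow_zero, pow_zero, F.img_one]
  | succ n ih => rw [pow_succ, F.img_mul _ _ (hg.pow_left n) hg, ih, pow_succ]

theorem p_mem_C : F.p ∈ F.C := F.mem_C.2 ⟨F.p_comm, Commute.refl _⟩

theorem z_mem_C : F.z ∈ F.C := F.mem_C.2 ⟨Commute.refl _, F.p_comm.symm⟩

theorem ker_C {k : G} (hk : k ∈ F.C) (h : F.img k = 1) : ∃ i : ℕ, k = F.p ^ i ∨ k = F.z * F.p ^ i :=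
  F.ker_commute (F.mem_C.1 hk).1 h (Or.inl (F.mem_C.1 hk).2)

theorem ker_C_comm {k c : G} (hk : k ∈ F.C) (h : F.img k = 1) (hc : c ∈ F.C) : Commute k c := by
  have hc' := F.mem_C.1 hc
  obtain ⟨i, e | e⟩ := F.ker_C hk h <;> rw [e]
  exacts [hc'.2.symm.pow_left i, hc'.1.symm.mul_left (hc'.2.symm.pow_left i)]

theorem p_pow_six (i : ℕ) : (F.p ^ i) ^ 3 = 1 := by rw [← pow_mul, mul_comm, pow_mul, F.p_cube, one_pow]

theorem p_pow_eq_one {i : ℕ} : F.p ^ i = 1 ↔ 3 ∣ i := by rw [← F.p_ord, orderOf_dvd_iff_pow_eq_one]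

theorem z_cube : F.z ^ 3 = F.z := by rw [pow_succ, pow_two, F.ctx.sq_z, one_mul]

theorem z_ne_p_pow (i : ℕ) : F.z ≠ F.p ^ i := by
  intro h
  have h3 := F.p_pow_six i
  rw [← h, F.z_cube] at h3
  exact F.ctx.ne_one h3

/-- A kernel element of `C` with trivial cube is a power of `p`. -/
theorem ker_C_cube {k : G} (hk : k ∈ F.C) (h : F.img k = 1) (h3 : k ^ 3 = 1) : ∃ i : ℕ, k = F.p ^ i := by
  obtain ⟨i, e | e⟩ := F.ker_C hk h
  · exact ⟨i, e⟩
  · rw [e, (F.p_comm.symm.pow_right i).mul_pow, F.p_pow_six, mul_one, F.z_cube] at h3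
    exact absurd h3 F.ctx.ne_one

/-- Over elements of order three lie only elements of order three. -/
theorem cube_eq_one {X : G} (hX : X ∈ F.C) (hne : F.img X ≠ 1) {i : ℕ} (h3 : X ^ 3 = F.p ^ i) : X ^ 3 = 1 := by
  have hX' := F.mem_C.1 hX
  have ho : orderOf (F.img X) = 3 := by
    haveI : Fact (Nat.Prime 3) := ⟨Nat.prime_three⟩
    exact orderOf_eq_prime (by rw [← F.img_pow hX'.1, h3, F.img_p_pow]) hne
  obtain ⟨g, hg, hgx⟩ := F.facts.three_conj _ _ ho ((orderOf_inv _).trans ho)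
  obtain ⟨U, hU, rfl⟩ := F.mem_I_iff.1 hg
  have hU' := F.mem_C.1 hU
  set k := U * X * U⁻¹ * X with hk
  have hkC : k ∈ F.C := mul_mem (mul_mem (mul_mem hU hX) (inv_mem hU)) hX
  have hki : F.img k = 1 := by
    rw [hk, F.img_mul _ _ ((hU'.1.mul_left hX'.1).mul_left hU'.1.inv_left) hX'.1, F.img_conj hU'.1 hX'.1, hgx,
      inv_mul_cancel]
  have e1 : U * X * U⁻¹ = k * X⁻¹ := by rw [hk, mul_inv_cancel_right]
  have e3 := congrArg (· ^ 3) e1
  simp only [conj_pow, h3, (F.ker_C_comm hkC hki hX).inv_right.mul_pow, inv_pow] at e3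
  rw [(hU'.2.pow_right i).eq, mul_inv_cancel_right] at e3
  have e4 : k ^ 3 = F.p ^ (i + i) := by rw [pow_add]; exact (eq_mul_inv_iff_mul_eq.1 e3).symm
  rw [h3, F.p_pow_eq_one]
  obtain ⟨j, e | e⟩ := F.ker_C hkC hki
  · rw [e, F.p_pow_six, eq_comm, F.p_pow_eq_one] at e4
    omega
  · rw [e, (F.p_comm.symm.pow_right j).mul_pow, F.p_pow_six, mul_one, F.z_cube] at e4
    exact absurd e4 (F.z_ne_p_pow _)

/-- Lifts of order three. -/
theorem exists_lift_three {a : A} (ha : a ∈ I) (h3 : orderOf a = 3) :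
    ∃ X ∈ F.C, F.img X = a ∧ X ^ 3 = 1 := by
  obtain ⟨X0, hX0, rfl⟩ := F.mem_I_iff.1 ha
  have h0 := (F.mem_C.1 hX0).1
  have hcube : F.img X0 ^ 3 = 1 := h3 ▸ pow_orderOf_eq_one _
  have himg : F.img (X0 ^ 4) = F.img X0 := by rw [F.img_pow h0, pow_succ, hcube, one_mul]
  obtain ⟨i, hi⟩ := F.ker_C (pow_mem hX0 3) (by rw [F.img_pow h0, hcube])
  refine ⟨X0 ^ 4, pow_mem hX0 4, himg, F.cube_eq_one (i := i * 4) (pow_mem hX0 4) ?_ ?_⟩
  · rw [himg]; intro h; rw [h, orderOf_one] at h3; omega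
  · rw [← pow_mul, mul_comm 4, pow_mul]
    rcases hi with h | h <;> rw [h]
    · rw [← pow_mul]
    · rw [(F.p_comm.symm.pow_right i).mul_pow, ← pow_mul F.p, show F.z ^ 4 = (F.z * F.z) ^ 2 by
        rw [← pow_two, ← pow_mul], F.ctx.sq_z, one_pow, one_mul]

theorem p_mem_commutator : (⟨F.p, F.p_mem_C⟩ : ↥F.C) ∈ commutator ↥F.C := by
  have h : F.p ∈ ⁅F.C, F.C⁆ := F.perfect
  rw [← Subgroup.map_subtype_commutator] at h
  obtain ⟨a, ha, e⟩ := h
  rwa [← show a = ⟨F.p, F.p_mem_C⟩ from Subtype.ext e]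

theorem ker_imgC : F.imgC.ker = Subgroup.zpowers (⟨F.z * F.p, mul_mem F.z_mem_C F.p_mem_C⟩ : ↥F.C) := by
  refine le_antisymm (fun k hk => ?_) (Subgroup.zpowers_le.2 ?_)
  · obtain ⟨i, h⟩ := F.ker_C k.2 hk
    have hc : Commute F.z F.p := F.p_comm.symm
    have e4 : (F.z * F.p) ^ 4 = F.p := by
      rw [hc.mul_pow, pow_succ F.p, F.p_cube, one_mul, show F.z ^ 4 = (F.z * F.z) ^ 2 by
        rw [← pow_two, ← pow_mul], F.ctx.sq_z, one_pow, one_mul]
    have e3 : (F.z * F.p) ^ 3 = F.z := by rw [hc.mul_pow, F.p_cube, mul_one, F.z_cube]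
    rcases h with h | h
    · exact ⟨(4 * i : ℕ), Subtype.ext (by simp only [zpow_natCast, SubmonoidClass.coe_pow]; rw [pow_mul, e4, h])⟩
    · exact ⟨(3 + 4 * i : ℕ), Subtype.ext (by
        simp only [zpow_natCast, SubmonoidClass.coe_pow]; rw [pow_add, pow_mul, e4, e3, h])⟩
  · show F.img (F.z * F.p) = 1
    rw [F.img_mul _ _ (Commute.refl F.z) F.p_comm, F.img_p, mul_one, F.img_mem F.ctx.mem]

theorem card_ker_imgC : Nat.card ↥F.imgC.ker = 6 := by
  haveI : Fact (Nat.Prime 2) := ⟨Nat.prime_two⟩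
  rw [F.ker_imgC, Nat.card_zpowers, Subgroup.orderOf_mk,
    (F.p_comm.symm).orderOf_mul_eq_mul_orderOf_of_coprime
      (by rw [orderOf_eq_prime (p := 2) (by rw [pow_two, F.ctx.sq_z]) F.ctx.ne_one, F.p_ord]; decide),
    orderOf_eq_prime (p := 2) (by rw [pow_two, F.ctx.sq_z]) F.ctx.ne_one, F.p_ord]

theorem card_C : Nat.card ↥F.C = 6 * 443520 := by
  rw [F.imgC.ker.card_eq_card_quotient_mul_card_subgroup,
    Nat.card_congr (QuotientGroup.quotientKerEquivRange F.imgC).toEquiv, F.imgC_range, F.facts.card_I,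
    F.card_ker_imgC, mul_comm]

theorem card_sylow (R : Sylow 3 ↥F.C) : Nat.card ↥R = 27 := by
  haveI : Fact (Nat.Prime 3) := ⟨Nat.prime_three⟩
  have h := Sylow.card_eq_multiplicity R
  rw [F.card_C] at h
  have hv : (6 * 443520 : ℕ).factorization 3 = 3 := by
    rw [Nat.factorization_def _ Nat.prime_three, show (6 * 443520 : ℕ) = 3 ^ 3 * 98560 by norm_num,
      padicValNat.mul (by norm_num) (by norm_num), padicValNat.prime_pow,
      padicValNat.eq_zero_of_not_dvd (by norm_num)]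
  rw [hv] at h
  exact h

theorem p_mem_sylow (R : Sylow 3 ↥F.C) : (⟨F.p, F.p_mem_C⟩ : ↥F.C) ∈ R := by
  haveI : Fact (Nat.Prime 3) := ⟨Nat.prime_three⟩
  set p' : ↥F.C := ⟨F.p, F.p_mem_C⟩
  haveI : (Subgroup.zpowers p').Normal := ⟨fun n hn g => by
    obtain ⟨k, rfl⟩ := Subgroup.mem_zpowers_iff.1 hn
    have hc : Commute g p' := Subtype.ext (F.mem_C.1 g.2).2.eq
    rw [(hc.zpow_right k).eq, mul_inv_cancel_right]
    exact Subgroup.mem_zpowers_iff.2 ⟨k, rfl⟩⟩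
  have hP : IsPGroup 3 ↥(Subgroup.zpowers p') :=
    IsPGroup.of_card (n := 1) (by rw [Nat.card_zpowers, pow_one, Subgroup.orderOf_mk, F.p_ord])
  have h := R.is_maximal' (IsPGroup.to_sup_of_normal_right R.isPGroup' hP) le_sup_left
  exact h.le (Subgroup.mem_sup_right (Subgroup.mem_zpowers p'))

/-- The Sylow 3-subgroups of `C` are not abelian. -/
theorem sylow_not_comm (R : Sylow 3 ↥F.C) : ¬ ∀ a ∈ R, ∀ b ∈ R, Commute a b := by
  intro hR
  haveI : Fact (Nat.Prime 3) := ⟨Nat.prime_three⟩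
  letI : CommGroup ↥(R : Subgroup ↥F.C) :=
    { (inferInstance : Group ↥(R : Subgroup ↥F.C)) with
      mul_comm := fun a b => Subtype.ext (hR a a.2 b b.2).eq }
  set p' : ↥F.C := ⟨F.p, F.p_mem_C⟩
  have hcen : ∀ (k : ℕ) (g : ↥F.C), g⁻¹ * p' ^ k * g = p' ^ k := fun k g => by
    have hc0 : Commute p' g := Subtype.ext (F.mem_C.1 g.2).2.symm.eq
    have hc : Commute (p' ^ k) g := hc0.pow_left k
    rw [mul_assoc, hc.eq, inv_mul_cancel_left]
  have h1 : MonoidHom.transfer (MonoidHom.id ↥(R : Subgroup ↥F.C)) p' = 1 :=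
    MonoidHom.mem_ker.1 (Abelianization.commutator_subset_ker _ F.p_mem_commutator)
  rw [MonoidHom.transfer_eq_pow (MonoidHom.id ↥(R : Subgroup ↥F.C)) p' fun k g₀ _ => hcen k g₀] at h1
  have h2 : F.p ^ (R : Subgroup ↥F.C).index = 1 :=
    congrArg (fun a : ↥(R : Subgroup ↥F.C) => ((a : ↥F.C) : G)) h1
  exact R.not_dvd_index (F.p_pow_eq_one.1 h2)

/-- The image of a Sylow 3-subgroup of `C`. -/
theorem card_sylow_map (R : Sylow 3 ↥F.C) : Nat.card ↥((R : Subgroup ↥F.C).map F.imgC) = 9 := by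
  haveI : Fact (Nat.Prime 3) := ⟨Nat.prime_three⟩
  have hR := F.card_sylow R
  have h3 : Nat.card ↥((R : Subgroup ↥F.C) ⊓ F.imgC.ker) = 3 := by
    have d1 := Subgroup.card_dvd_of_le (inf_le_left : (R : Subgroup ↥F.C) ⊓ F.imgC.ker ≤ R)
    have d2 := Subgroup.card_dvd_of_le (inf_le_right : (R : Subgroup ↥F.C) ⊓ F.imgC.ker ≤ F.imgC.ker)
    rw [F.card_ker_imgC] at d2
    have h27 : Nat.card ↥(R : Subgroup ↥F.C) = 27 := hR
    rw [h27] at d1
    have d3 : 3 ∣ Nat.card ↥((R : Subgroup ↥F.C) ⊓ F.imgC.ker) := by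
      have h := Subgroup.orderOf_dvd_natCard (s := (R : Subgroup ↥F.C) ⊓ F.imgC.ker) (x := ⟨F.p, F.p_mem_C⟩)
        ⟨F.p_mem_sylow R, show F.img F.p = 1 from F.img_p⟩
      rwa [Subgroup.orderOf_mk, F.p_ord] at h
    exact Nat.dvd_antisymm ((Nat.dvd_gcd d1 d2).trans (by decide)) d3
  have h := (F.imgC.domRestrict (R : Subgroup ↥F.C)).ker.index_mul_card
  rw [Subgroup.index_ker, MonoidHom.domRestrict_range, MonoidHom.ker_domRestrict, ← Subgroup.inf_subgroupOf_left,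
    Nat.card_congr (Subgroup.subgroupOfEquivOfLe inf_le_left).toEquiv, h3] at h
  have h27 : Nat.card ↥(R : Subgroup ↥F.C) = 27 := hR
  omega

/-- A Sylow 3-subgroup has no more centre than `⟨p⟩`. -/
theorem exists_not_commute (R : Sylow 3 ↥F.C) {X : ↥F.C} (hX : X ∈ R) (hne : F.img X ≠ 1) :
    ∃ r ∈ R, ¬ Commute r X := by
  by_contra hcon
  push Not at hcon
  haveI : Fact (Nat.Prime 3) := ⟨Nat.prime_three⟩
  refine F.sylow_not_comm R ?_
  set W := Subgroup.closure ({(⟨X, hX⟩ : ↥(R : Subgroup ↥F.C)), ⟨⟨F.p, F.p_mem_C⟩, F.p_mem_sylow R⟩} :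
    Set ↥(R : Subgroup ↥F.C)) with hW
  have hWc : W ≤ Subgroup.center ↥(R : Subgroup ↥F.C) := by
    rw [hW, Subgroup.closure_le]
    rintro _ (rfl | rfl) <;> refine Subgroup.mem_center_iff.2 fun r => Subtype.ext ?_
    · exact (hcon r r.2).eq
    · exact Subtype.ext (F.mem_C.1 r.1.2).2.eq
  set Z := Subgroup.center ↥(R : Subgroup ↥F.C)
  have hR : Nat.card ↥(R : Subgroup ↥F.C) = 27 := F.card_sylow R
  have h9 : 9 ∣ Nat.card ↥Z := by
    obtain ⟨n, hn⟩ := (IsPGroup.iff_card.1 ((R.isPGroup').to_subgroup Z))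
    have hn2 : 3 < 3 ^ n := by
      rw [← hn]
      by_contra h
      have hp : (⟨⟨F.p, F.p_mem_C⟩, F.p_mem_sylow R⟩ : ↥(R : Subgroup ↥F.C)) ∈ Z :=
        hWc (Subgroup.subset_closure (Set.mem_insert_of_mem _ rfl))
      have hXZ : (⟨X, hX⟩ : ↥(R : Subgroup ↥F.C)) ∈ Z := hWc (Subgroup.subset_closure (Set.mem_insert _ _))
      have he : Subgroup.zpowers (⟨⟨F.p, F.p_mem_C⟩, F.p_mem_sylow R⟩ : ↥(R : Subgroup ↥F.C)) = Z := by
        refine Subgroup.eq_of_le_of_card_ge (Subgroup.zpowers_le.2 hp) ?_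
        rw [Nat.card_zpowers, Subgroup.orderOf_mk, Subgroup.orderOf_mk, F.p_ord]
        omega
      rw [← he] at hXZ
      obtain ⟨k, hk⟩ := Subgroup.mem_zpowers_iff.1 hXZ
      refine hne ?_
      have hk' : (⟨F.p, F.p_mem_C⟩ : ↥F.C) ^ k = X := congrArg Subtype.val hk
      show F.imgC X = 1
      rw [← hk', map_zpow, show F.imgC ⟨F.p, F.p_mem_C⟩ = 1 from F.img_p, one_zpow]
    rw [hn]
    have hn3 : 2 ≤ n := by
      by_contra h
      interval_cases n <;> norm_num at hn2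
    exact (pow_dvd_pow 3 hn3)
  have hq : Nat.card (↥(R : Subgroup ↥F.C) ⧸ Z) ∣ 3 := by
    obtain ⟨m, hm⟩ := h9
    refine ⟨m, ?_⟩
    have h := Z.card_eq_card_quotient_mul_card_subgroup
    rw [hR, hm] at h
    have e : Nat.card (↥(R : Subgroup ↥F.C) ⧸ Z) * (9 * m) = 9 * (Nat.card (↥(R : Subgroup ↥F.C) ⧸ Z) * m) := by ring
    omega
  haveI : IsCyclic (↥(R : Subgroup ↥F.C) ⧸ Z) := by
    rcases (Nat.dvd_prime Nat.prime_three).1 hq with h | h
    · haveI := (Nat.card_eq_one_iff_unique.1 h).1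
      exact isCyclic_of_subsingleton
    · exact isCyclic_of_prime_card h
  intro a ha b hb
  haveI := MonoidHom.isMulCommutative_of_isCyclic_of_ker_le_center (QuotientGroup.mk' Z)
    (QuotientGroup.ker_mk' Z).le
  exact congrArg Subtype.val (mul_comm' (⟨a, ha⟩ : ↥(R : Subgroup ↥F.C)) ⟨b, hb⟩)

/-- The shift of an element of order three of `C`. -/
theorem exists_shift {X : G} (hX : X ∈ F.C) (h3 : X ^ 3 = 1) (hne : F.img X ≠ 1) :
    ∃ d ∈ F.C, d * X * d⁻¹ = X * F.p := by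
  haveI : Fact (Nat.Prime 3) := ⟨Nat.prime_three⟩
  haveI : Finite A := Nat.finite_of_card_ne_zero (by rw [F.facts.card_A]; omega)
  have hX' := F.mem_C.1 hX
  set X' : ↥F.C := ⟨X, hX⟩
  have hXo : orderOf X' = 3 := by
    rw [Subgroup.orderOf_mk]
    exact orderOf_eq_prime h3 fun h => hne (by rw [h, F.img_one])
  obtain ⟨R, hR⟩ := (IsPGroup.of_card (n := 1) (by rw [Nat.card_zpowers, hXo, pow_one]) :
    IsPGroup 3 ↥(Subgroup.zpowers X')).exists_le_sylow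
  have hXR : X' ∈ R := hR (Subgroup.mem_zpowers X')
  obtain ⟨r, hrR, hr⟩ := F.exists_not_commute R hXR hne
  have hab := (F.facts.sylow_three _ (F.card_sylow_map R)).1 (F.imgC r) ⟨r, hrR, rfl⟩ (F.imgC X') ⟨X', hXR, rfl⟩
  have hrX := F.mem_C.1 r.2
  set k := (r : G) * X * (r : G)⁻¹ * X⁻¹ with hk
  have hkC : k ∈ F.C := mul_mem (mul_mem (mul_mem r.2 hX) (inv_mem r.2)) (inv_mem hX)
  have hki : F.img k = 1 := by
    rw [hk, F.img_mul _ _ ((hrX.1.mul_left hX'.1).mul_left hrX.1.inv_left) hX'.1.inv_left,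
      F.img_conj hrX.1 hX'.1, F.img_inv hX'.1]
    have e : F.img r * F.img X = F.img X * F.img r := hab.eq
    rw [e, mul_inv_cancel_right, mul_inv_cancel]
  have e1 : (r : G) * X * (r : G)⁻¹ = X * k := by
    rw [← (F.ker_C_comm hkC hki hX).eq, hk, inv_mul_cancel_right]
  obtain ⟨i, hi⟩ := F.ker_C_cube hkC hki (by
    have h := congrArg (· ^ 3) e1
    simp only [conj_pow, h3, mul_one, mul_inv_cancel, (F.ker_C_comm hkC hki hX).symm.mul_pow, one_mul] at h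
    exact h.symm)
  rw [hi] at e1
  have hi3 : ¬ 3 ∣ i := by
    intro h
    rw [F.p_pow_eq_one.2 h, mul_one] at e1
    exact hr (Subtype.ext (mul_inv_eq_iff_eq_mul.1 e1))
  have hmod : F.p ^ i = F.p ^ (i % 3) := by rw [← F.p_ord, pow_mod_orderOf]
  rw [hmod] at e1
  rcases (show i % 3 = 1 ∨ i % 3 = 2 by omega) with e | e <;> rw [e] at e1
  · exact ⟨r, r.2, by rw [e1, pow_one]⟩
  · refine ⟨(r : G)⁻¹, inv_mem r.2, ?_⟩
    rw [inv_inv]
    calc (r : G)⁻¹ * X * r = (r : G)⁻¹ * (X * F.p ^ 2 * F.p) * r := by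
          rw [mul_assoc X, ← pow_succ, F.p_cube, mul_one]
      _ = (r : G)⁻¹ * ((r : G) * X * (r : G)⁻¹ * F.p) * r := by rw [e1]
      _ = X * ((r : G)⁻¹ * F.p * r) := by group
      _ = X * F.p := by rw [mul_assoc (r : G)⁻¹, ← hrX.2.eq, inv_mul_cancel_left]

end Frame

end Cfsg.Lib.JankoFour
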